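import Mathlib
import Groth.Prelude.Def_EssEt

/-!
Henselian lifting: an `A`-algebra map from an étale `A`-algebra `C` to the residue field of a
henselian local `A`-algebra `B` lifts to an algebra map `C_q → B`.
Also basic facts on essentially étale local algebras.
-/

set_option autoImplicit false
universe u

namespace Groth.Agent.Lib.Helper5

open Polynomial IsLocalRing

/-- Henselian root lifting for a standard étale presentation. -/
theorem exists_algHom_of_standardEtalePresentation {A S B : Type*} [CommRing A] [CommRing S]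
    [Algebra A S] [CommRing B] [HenselianLocalRing B] [Algebra A B]
    (P : StandardEtalePresentation A S) (χ : S →ₐ[A] ResidueField B) :
    ∃ φ : S →ₐ[A] B, (IsScalarTower.toAlgHom A B (ResidueField B)).comp φ = χ := by
  have hx₀ : P.HasMap (χ P.x) := P.hasMap.map χ
  have hmonic : (P.f.map (algebraMap A B)).Monic := P.monic_f.map _
  have h1 : aeval (χ P.x) (P.f.map (algebraMap A B)) = 0 := by
    rw [aeval_map_algebraMap]; exact hx₀.1
  have h2 : aeval (χ P.x) (derivative (P.f.map (algebraMap A B))) ≠ 0 := by
    rw [derivative_map, aeval_map_algebraMap]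
    exact hx₀.isUnit_derivative_f.ne_zero
  have key : ∀ f : B[X], f.Monic → ∀ a₀ : ResidueField B, aeval a₀ f = 0 →
      aeval a₀ (derivative f) ≠ 0 → ∃ a : B, f.IsRoot a ∧ residue B a = a₀ :=
    ((HenselianLocalRing.TFAE B).out 0 1).mp ‹HenselianLocalRing B›
  obtain ⟨a, ha, hra⟩ := key (P.f.map (algebraMap A B)) hmonic (χ P.x) h1 h2
  have hres : ∀ p : A[X], residue B (aeval a p) = aeval (χ P.x) p := by
    intro p
    have := aeval_algHom_apply (IsScalarTower.toAlgHom A B (ResidueField B)) a p
    simp only [IsScalarTower.coe_toAlgHom', ResidueField.algebraMap_eq] at this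
    rw [← this, hra]
  have hmap : P.HasMap a := by
    refine ⟨?_, ?_⟩
    · rw [← eval_map_algebraMap]; exact ha
    · rw [← residue_ne_zero_iff_isUnit, hres]
      exact hx₀.2.ne_zero
  refine ⟨(P.lift a hmap).comp P.equivRing.toAlgHom, ?_⟩
  apply P.hom_ext
  have h3 : (P.equivRing.toAlgHom : S →ₐ[A] P.Ring) P.x = P.X := P.equivRing_x
  simp only [AlgHom.comp_apply, IsScalarTower.coe_toAlgHom', ResidueField.algebraMap_eq]
  rw [h3, StandardEtalePair.lift_X]
  exact hra

/-- Henselian lifting for the localisation of an étale algebra at a prime. -/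
theorem exists_algHom_localization_of_etale {A C B : Type u} [CommRing A] [CommRing C]
    [Algebra A C] [Algebra.Etale A C] (q : Ideal C) [q.IsPrime] [CommRing B]
    [HenselianLocalRing B] [Algebra A B] (χ : C →ₐ[A] ResidueField B)
    (hχ : ∀ c, c ∉ q → χ c ≠ 0) :
    ∃ φ : Localization.AtPrime q →ₐ[A] B,
      ∀ c : C, residue B (φ (algebraMap C (Localization.AtPrime q) c)) = χ c := by
  haveI : Algebra.IsEtaleAt A q := Algebra.FormallyEtale.comp A C (Localization.AtPrime q)
  obtain ⟨f, hf, hstd⟩ := Algebra.IsEtaleAt.exists_isStandardEtale (R := A) q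
  let P := hstd.nonempty_standardEtalePresentation.some
  have hunit : ∀ y : Submonoid.powers f, IsUnit (χ y) := by
    rintro ⟨_, n, rfl⟩
    rw [map_pow]
    exact (IsUnit.mk0 _ (hχ f hf)).pow n
  let χf : Localization.Away f →ₐ[A] ResidueField B :=
    IsLocalization.liftAlgHom (M := Submonoid.powers f) (f := χ) hunit
  have hχf : ∀ c : C, χf (algebraMap C (Localization.Away f) c) = χ c := fun c => by
    simp [χf, IsLocalization.lift_eq]
  obtain ⟨φf, hφf⟩ := exists_algHom_of_standardEtalePresentation P χf
  let φ₀ : C →ₐ[A] B := φf.comp (IsScalarTower.toAlgHom A C (Localization.Away f))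
  have hφ₀ : ∀ c : C, residue B (φ₀ c) = χ c := by
    intro c
    have := congrArg (fun g => g (algebraMap C (Localization.Away f) c)) hφf
    simp only [AlgHom.comp_apply, IsScalarTower.coe_toAlgHom', ResidueField.algebraMap_eq] at this
    rw [← hχf c, ← this]
    rfl
  have hunit₀ : ∀ y : q.primeCompl, IsUnit (φ₀ y) := by
    intro y
    rw [← residue_ne_zero_iff_isUnit, hφ₀]
    exact hχ y y.2
  refine ⟨IsLocalization.liftAlgHom (M := q.primeCompl) (f := φ₀) hunit₀, ?_⟩
  intro c
  rw [IsLocalization.liftAlgHom_apply, IsLocalization.lift_eq]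
  exact hφ₀ c

section EssEtale

variable (A A' : Type u) [CommRing A] [IsLocalRing A] [CommRing A'] [Algebra A A']

theorem formallyUnramified_of_isEssentiallyEtale (h : EGA4loc.IsEssentiallyEtale A A') :
    Algebra.FormallyUnramified A A' := by
  obtain ⟨C, _, _, q, _, hC, hq, ⟨e⟩⟩ := h
  have : Algebra.FormallyUnramified A (Localization.AtPrime q) :=
    Algebra.FormallyUnramified.comp A C (Localization.AtPrime q)
  exact Algebra.FormallyUnramified.of_equiv e.symm

theorem essFiniteType_of_isEssentiallyEtale (h : EGA4loc.IsEssentiallyEtale A A') :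
    Algebra.EssFiniteType A A' := by
  obtain ⟨C, _, _, q, _, hC, hq, ⟨e⟩⟩ := h
  have : Algebra.EssFiniteType A (Localization.AtPrime q) :=
    Algebra.EssFiniteType.comp A C (Localization.AtPrime q)
  exact Algebra.EssFiniteType.of_surjective e.symm.toAlgHom e.symm.surjective

theorem formallyEtale_of_isEssentiallyEtale (h : EGA4loc.IsEssentiallyEtale A A') :
    Algebra.FormallyEtale A A' := by
  obtain ⟨C, _, _, q, _, hC, hq, ⟨e⟩⟩ := h
  have : Algebra.FormallyEtale A (Localization.AtPrime q) :=
    Algebra.FormallyEtale.comp A C (Localization.AtPrime q)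
  exact Algebra.FormallyEtale.of_equiv e.symm

variable [IsLocalRing A'] [IsLocalHom (algebraMap A A')]

theorem map_maximalIdeal_of_isEssentiallyEtale (h : EGA4loc.IsEssentiallyEtale A A') :
    (maximalIdeal A).map (algebraMap A A') = maximalIdeal A' := by
  have := formallyUnramified_of_isEssentiallyEtale A A' h
  have := essFiniteType_of_isEssentiallyEtale A A' h
  exact Algebra.FormallyUnramified.map_maximalIdeal

/-- Any `A`-algebra map from an essentially étale local `A`-algebra to a local `A`-algebra with
local structure map sends the maximal ideal into the maximal ideal. -/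
theorem algHom_mem_maximalIdeal_of_isEssentiallyEtale (h : EGA4loc.IsEssentiallyEtale A A')
    {B : Type*} [CommRing B] [IsLocalRing B] [Algebra A B] [IsLocalHom (algebraMap A B)]
    (ψ : A' →ₐ[A] B) (x : A') (hx : x ∈ maximalIdeal A') : ψ x ∈ maximalIdeal B := by
  rw [← map_maximalIdeal_of_isEssentiallyEtale A A' h] at hx
  have h1 : ψ x ∈ ((maximalIdeal A).map (algebraMap A A')).map ψ.toRingHom :=
    Ideal.mem_map_of_mem _ hx
  rw [Ideal.map_map, AlgHom.toRingHom_eq_coe, AlgHom.comp_algebraMap] at h1
  have h2 : (maximalIdeal A).map (algebraMap A B) ≤ maximalIdeal B :=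
    ((local_hom_TFAE (algebraMap A B)).out 0 2 rfl rfl).mp inferInstance
  exact h2 h1

theorem isLocalHom_algHom_of_isEssentiallyEtale (h : EGA4loc.IsEssentiallyEtale A A')
    {B : Type*} [CommRing B] [IsLocalRing B] [Algebra A B] [IsLocalHom (algebraMap A B)]
    (ψ : A' →ₐ[A] B) : IsLocalHom ψ.toRingHom := by
  constructor
  intro x hx
  by_contra hn
  have := algHom_mem_maximalIdeal_of_isEssentiallyEtale A A' h ψ x ((mem_maximalIdeal _).2 hn)
  exact (mem_maximalIdeal _).1 this hx

end EssEtale

end Groth.Agent.Lib.Helper5
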