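import Groth.Agent.Lib.Helper5.Hartogs
import Groth.Agent.Lib.Helper28.Reflexive

/-!
# Helper5: Hartogs extension for the structure sheaf of a locally Noetherian scheme

If `depth O_{X,z} ≥ 2` at all points `z ∉ U`, then `Γ(V) → Γ(V ⊓ U)` is bijective for all opens `V`.
-/

set_option autoImplicit false
universe u

open CategoryTheory AlgebraicGeometry TopologicalSpace Opposite RingTheory.Sequence

namespace Groth.Agent.Lib.Helper5.Hartogs

section RingEquiv

variable {R R' : Type u} [CommRing R] [IsLocalRing R] [CommRing R'] [IsLocalRing R']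

theorem depth_le_of_ringEquiv (e : R ≃+* R') : LocCoh.depth R R ≤ LocCoh.depth R' R' := by
  letI : Algebra R R' := e.toRingHom.toAlgebra
  let el : R ≃ₗ[R] R' :=
    { e with
      map_smul' := fun r x => by
        change e (r * x) = e r * e x
        exact map_mul e r x }
  haveI : Module.Flat R R' := Module.Flat.of_linearEquiv el.symm
  have hne : IsLocalRing.maximalIdeal R • (⊤ : Submodule R R) ≠ ⊤ := by
    rw [Ideal.smul_top_eq_map, Algebra.algebraMap_self, Ideal.map_id]
    intro h
    exact (IsLocalRing.maximalIdeal.isMaximal R).ne_top (by simpa using h)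
  unfold LocCoh.depth
  rw [Groth.Agent.Lib.Helper4.idealDepth_of_smul_top_ne _ hne]
  refine iSup₂_le fun rs hrs => ?_
  have hreg : IsWeaklyRegular R' (rs.map (algebraMap R R')) := hrs.1.of_flat
  have hmem : ∀ r ∈ rs.map (algebraMap R R'), r ∈ IsLocalRing.maximalIdeal R' := by
    intro r hr
    obtain ⟨r₀, hr₀, rfl⟩ := List.mem_map.mp hr
    have h0 := hrs.2 r₀ hr₀
    rw [IsLocalRing.mem_maximalIdeal, mem_nonunits_iff] at h0 ⊢
    intro hu
    apply h0
    have : IsUnit (e.symm (e r₀)) := hu.map e.symm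
    rwa [RingEquiv.symm_apply_apply] at this
  have := Groth.Agent.Lib.Helper4.length_le_idealDepth (IsLocalRing.maximalIdeal R')
    (rs.map (algebraMap R R')) hreg hmem
  rwa [List.length_map] at this

end RingEquiv

section Main

variable {X : Scheme.{u}} [IsLocallyNoetherian X]

/-- The ideal of sections over `V` whose nonvanishing locus lies in `U`. -/
noncomputable def idealOf (V U : X.Opens) : Ideal Γ(X, V) where
  carrier := {f | X.basicOpen f ≤ U}
  add_mem' := by
    intro f g hf hg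
    exact (X.basicOpen_add_le f g).trans (sup_le hf hg)
  zero_mem' := by
    change X.basicOpen (0 : Γ(X, V)) ≤ U
    rw [Scheme.basicOpen_zero]; exact bot_le
  smul_mem' := by
    intro c f hf
    change X.basicOpen (c • f) ≤ U
    rw [smul_eq_mul, Scheme.basicOpen_mul]
    exact inf_le_right.trans hf

theorem mem_idealOf {V U : X.Opens} (f : Γ(X, V)) : f ∈ idealOf V U ↔ X.basicOpen f ≤ U :=
  Iff.rfl

theorem bijective_of_depth_of_isAffineOpen (U : X.Opens) {V : X.Opens} (hV : IsAffineOpen V)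
    (hdepth : ∀ z : X, z ∈ V → z ∉ U →
      2 ≤ LocCoh.depth (X.presheaf.stalk z) (X.presheaf.stalk z)) :
    Function.Bijective (rs (inf_le_left : V ⊓ U ≤ V)) := by
  haveI : IsNoetherianRing Γ(X, V) := IsLocallyNoetherian.component_noetherian ⟨V, hV⟩
  have hI : ((2 : ℕ) : ℕ∞) ≤ LocCoh.idealDepth (idealOf V U) Γ(X, V) := by
    apply Groth.Agent.Lib.Helper28.le_idealDepth_of_forall_localization
    intro p hp hIp _
    have hzV : hV.fromSpec ⟨p, hp⟩ ∈ V := by
      have : hV.fromSpec ⟨p, hp⟩ ∈ Set.range hV.fromSpec := Set.mem_range_self _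
      rwa [hV.range_fromSpec] at this
    have hzU : hV.fromSpec ⟨p, hp⟩ ∉ U := by
      intro hzU
      obtain ⟨f, hfle, hzf⟩ := hV.exists_basicOpen_le (V := V ⊓ U) ⟨_, ⟨hzV, hzU⟩⟩ hzV
      have hfp : f ∈ p := hIp (hfle.trans inf_le_right)
      have h1 : (⟨p, hp⟩ : PrimeSpectrum Γ(X, V)) ∈ hV.fromSpec ⁻¹ᵁ X.basicOpen f := hzf
      rw [hV.fromSpec_preimage_basicOpen] at h1
      exact h1 hfp
    have hd := hdepth _ hzV hzU
    letI alg := X.presheaf.algebra_section_stalk ⟨hV.fromSpec ⟨p, hp⟩, hzV⟩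
    have loc : IsLocalization.AtPrime (X.presheaf.stalk (hV.fromSpec ⟨p, hp⟩)) p :=
      hV.isLocalization_stalk' ⟨p, hp⟩ hzV
    let e : X.presheaf.stalk (hV.fromSpec ⟨p, hp⟩) ≃+* Localization.AtPrime p :=
      (IsLocalization.algEquiv p.primeCompl (X.presheaf.stalk (hV.fromSpec ⟨p, hp⟩))
        (Localization.AtPrime p)).toRingEquiv
    have h1 := hd.trans (depth_le_of_ringEquiv e)
    unfold LocCoh.depth at h1 ⊢
    rw [Groth.Agent.Lib.Helper28.idealDepth_congr
      (Groth.Agent.Lib.Helper28.localizedSelfEquiv p.primeCompl)]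
    exact_mod_cast h1
  by_cases hIM : idealOf V U • (⊤ : Submodule Γ(X, V) Γ(X, V)) = ⊤
  · -- `V ≤ U`
    have h1 : (1 : Γ(X, V)) ∈ idealOf V U := by
      rw [Ideal.smul_top_eq_map, Algebra.algebraMap_self, Ideal.map_id] at hIM
      have : idealOf V U = ⊤ := by simpa using hIM
      rw [this]; trivial
    have hVU : X.basicOpen (1 : Γ(X, V)) ≤ U := h1
    exact bijective_of_regular hV (a := 1) (b := 1) (fun z hz => by simpa using hz)
      (fun z _ => one_dvd z) hVU hVU
  · obtain ⟨l, hlen, hmem, hreg⟩ :=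
      Groth.Agent.Lib.Helper4.exists_isWeaklyRegular_of_le_idealDepth (idealOf V U) hIM 2 hI
    obtain ⟨a, b, rfl⟩ : ∃ a b, l = [a, b] := by
      match l, hlen with
      | [a, b], _ => exact ⟨a, b, rfl⟩
    rw [isWeaklyRegular_cons_iff, isWeaklyRegular_cons_iff] at hreg
    obtain ⟨hrega, hregb, -⟩ := hreg
    have ha : ∀ z : Γ(X, V), a * z = 0 → z = 0 := by
      intro z hz
      apply hrega
      simpa using hz
    have hb : ∀ z : Γ(X, V), a ∣ b * z → a ∣ z := by
      intro z ⟨w, hw⟩
      have h0 : b • (Submodule.Quotient.mk z : QuotSMulTop a Γ(X, V)) = b • 0 := by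
        rw [smul_zero, ← Submodule.Quotient.mk_smul, Submodule.Quotient.mk_eq_zero, smul_eq_mul,
          hw, Submodule.mem_smul_pointwise_iff_exists]
        exact ⟨w, trivial, rfl⟩
      have h1 := hregb h0
      rw [Submodule.Quotient.mk_eq_zero, Submodule.mem_smul_pointwise_iff_exists] at h1
      obtain ⟨v, -, hv⟩ := h1
      exact ⟨v, hv.symm⟩
    exact bijective_of_regular hV ha hb (hmem a (by simp)) (hmem b (by simp))

/-- **Hartogs.** On a locally Noetherian scheme, if the local rings have depth at least two at all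
points of `V` outside the open `U`, then every section of the structure sheaf over `V ⊓ U` extends
uniquely to `V`. -/
theorem bijective_of_depth_of_mem (U V : X.Opens)
    (hdepth : ∀ z : X, z ∈ V → z ∉ U →
      2 ≤ LocCoh.depth (X.presheaf.stalk z) (X.presheaf.stalk z)) :
    Function.Bijective (rs (inf_le_left : V ⊓ U ≤ V)) := by
  have hinj : ∀ V' : X.Opens, V' ≤ V → Function.Injective (rs (inf_le_left : V' ⊓ U ≤ V')) := by
    intro V' hV'
    have hcov : ∀ x : V', ∃ W : X.Opens, IsAffineOpen W ∧ (x : X) ∈ W ∧ W ≤ V' := by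
      intro x
      obtain ⟨_, ⟨W, hW, rfl⟩, hxW, hWV⟩ :=
        X.isBasis_affineOpens.exists_subset_of_mem_open x.2 V'.isOpen
      exact ⟨W, hW, hxW, hWV⟩
    choose W hWaff hxW hWV using hcov
    exact injective_res_of_cover X.sheaf U W V' hWV
      (fun x hx => Opens.mem_iSup.mpr ⟨⟨x, hx⟩, hxW ⟨x, hx⟩⟩)
      (fun x => (bijective_of_depth_of_isAffineOpen U (hWaff x)
        (fun z hz => hdepth z (hV' (hWV x hz)))).1)
  have hcov : ∀ x : V, ∃ W : X.Opens, IsAffineOpen W ∧ (x : X) ∈ W ∧ W ≤ V := by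
    intro x
    obtain ⟨_, ⟨W, hW, rfl⟩, hxW, hWV⟩ :=
      X.isBasis_affineOpens.exists_subset_of_mem_open x.2 V.isOpen
    exact ⟨W, hW, hxW, hWV⟩
  choose W hWaff hxW hWV using hcov
  exact bijective_res_of_cover X.sheaf U W V hWV
    (fun x hx => Opens.mem_iSup.mpr ⟨⟨x, hx⟩, hxW ⟨x, hx⟩⟩)
    (fun x => bijective_of_depth_of_isAffineOpen U (hWaff x) (fun z hz => hdepth z (hWV x hz)))
    (fun x y => hinj _ (inf_le_left.trans (hWV x)))

theorem bijective_of_depth (U : X.Opens)
    (hdepth : ∀ z : X, z ∉ U → 2 ≤ LocCoh.depth (X.presheaf.stalk z) (X.presheaf.stalk z))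
    (V : X.Opens) : Function.Bijective (rs (inf_le_left : V ⊓ U ≤ V)) :=
  bijective_of_depth_of_mem U V (fun z _ hz => hdepth z hz)

end Main

end Groth.Agent.Lib.Helper5.Hartogs
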