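import Mathlib

/-!
# Helper5: kernels of stalk maps of closed immersions; stalks at generizations; stalks at maximal
points.
-/

set_option autoImplicit false
universe u

open CategoryTheory AlgebraicGeometry TopologicalSpace

namespace Groth.Agent.Lib.Helper5.StalkKer

variable {X Y : Scheme.{u}}

/-- The kernel of the stalk map of a closed immersion is generated by the germs of the kernel
ideal on any affine chart. -/
theorem ker_stalkMap_eq_map_ker (i : Y ⟶ X) [IsClosedImmersion i] {U : X.Opens}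
    (hU : IsAffineOpen U) (y : Y) (hy : i y ∈ U) :
    RingHom.ker (i.stalkMap y).hom =
      (RingHom.ker (i.app U).hom).map (X.presheaf.germ U (i y) hy).hom := by
  have hV : IsAffineOpen (i ⁻¹ᵁ U) := hU.preimage i
  have hyV : y ∈ i ⁻¹ᵁ U := hy
  letI algX := X.presheaf.algebra_section_stalk ⟨i y, hy⟩
  letI algY := Y.presheaf.algebra_section_stalk ⟨y, hyV⟩
  have locX := hU.isLocalization_stalk ⟨i y, hy⟩
  have locY := hV.isLocalization_stalk ⟨y, hyV⟩
  have hsq : ∀ s : Γ(X, U), (i.stalkMap y).hom (X.presheaf.germ U (i y) hy s) =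
      Y.presheaf.germ (i ⁻¹ᵁ U) y hyV ((i.app U).hom s) := by
    intro s
    have := Scheme.Hom.germ_stalkMap i U y hy
    exact congr($this s)
  apply le_antisymm
  · intro a ha
    rw [RingHom.mem_ker] at ha
    obtain ⟨⟨s, u⟩, rfl⟩ := IsLocalization.mk'_surjective
      (hU.primeIdealOf ⟨i y, hy⟩).asIdeal.primeCompl a
    dsimp only at ha ⊢
    have h1 : (i.stalkMap y).hom (algebraMap Γ(X, U) (X.presheaf.stalk (i y)) s) = 0 := by
      rw [← IsLocalization.mk'_spec (M := (hU.primeIdealOf ⟨i y, hy⟩).asIdeal.primeCompl)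
        (X.presheaf.stalk (i y)) s u, map_mul, ha, zero_mul]
    change (i.stalkMap y).hom (X.presheaf.germ U (i y) hy s) = 0 at h1
    rw [hsq] at h1
    obtain ⟨v', hv'⟩ := (IsLocalization.map_eq_zero_iff
      (hV.primeIdealOf ⟨y, hyV⟩).asIdeal.primeCompl (Y.presheaf.stalk y) ((i.app U).hom s)).mp h1
    obtain ⟨v, hv⟩ := i.app_surjective U hU (v' : Γ(Y, i ⁻¹ᵁ U))
    have hcomap := IsAffineOpen.comap_primeIdealOf_appLE (f := i) U hU (i ⁻¹ᵁ U) hV le_rfl hyV
    rw [← Scheme.Hom.app_eq_appLE] at hcomap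
    have hvP : v ∈ (hU.primeIdealOf ⟨i y, hy⟩).asIdeal.primeCompl := by
      intro hmem
      apply v'.2
      rw [← hcomap] at hmem
      have hmem' : (i.app U).hom v ∈ (hV.primeIdealOf ⟨y, hyV⟩).asIdeal := hmem
      have hv2 : (i.app U).hom v = (v' : Γ(Y, i ⁻¹ᵁ U)) := hv
      rwa [hv2] at hmem'
    change IsLocalization.mk' _ s u ∈ Ideal.map (algebraMap Γ(X, U) (X.presheaf.stalk (i y))) _
    rw [IsLocalization.mk'_mem_map_algebraMap_iff
      (hU.primeIdealOf ⟨i y, hy⟩).asIdeal.primeCompl]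
    refine ⟨v, hvP, ?_⟩
    rw [RingHom.mem_ker, map_mul]
    have hv2 : (i.app U).hom v = (v' : Γ(Y, i ⁻¹ᵁ U)) := hv
    rw [hv2, hv']
  · rw [Ideal.map_le_iff_le_comap]
    intro s hs
    rw [RingHom.mem_ker] at hs
    rw [Ideal.mem_comap, RingHom.mem_ker, hsq, hs, map_zero]

theorem primeIdealOf_le_of_specializes {U : X.Opens} (hU : IsAffineOpen U) {x x' : X} (hx : x ∈ U)
    (hx' : x' ∈ U) (h : x' ⤳ x) :
    (hU.primeIdealOf ⟨x', hx'⟩).asIdeal ≤ (hU.primeIdealOf ⟨x, hx⟩).asIdeal := by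
  have h1 : (⟨x', hx'⟩ : U) ⤳ ⟨x, hx⟩ := (subtype_specializes_iff _ _).mpr h
  have h2 : hU.primeIdealOf ⟨x', hx'⟩ ⤳ hU.primeIdealOf ⟨x, hx⟩ :=
    h1.map hU.isoSpec.hom.continuous
  exact (PrimeSpectrum.le_iff_specializes _ _).mpr h2

/-- The generization map on stalks is flat (it is a localization). -/
theorem flat_stalkSpecializes {x x' : X} (h : x' ⤳ x) :
    (X.presheaf.stalkSpecializes h).hom.Flat := by
  obtain ⟨_, ⟨U, hU0, rfl⟩, hxU, -⟩ :=
    X.isBasis_affineOpens.exists_subset_of_mem_open (Set.mem_univ x) isOpen_univ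
  have hU : IsAffineOpen U := hU0
  have hx'U : x' ∈ U := h.mem_open U.isOpen hxU
  letI algX := X.presheaf.algebra_section_stalk ⟨x, hxU⟩
  letI algX' := X.presheaf.algebra_section_stalk ⟨x', hx'U⟩
  have locX := hU.isLocalization_stalk ⟨x, hxU⟩
  have locX' := hU.isLocalization_stalk ⟨x', hx'U⟩
  letI : Algebra (X.presheaf.stalk x) (X.presheaf.stalk x') :=
    (X.presheaf.stalkSpecializes h).hom.toAlgebra
  haveI : IsScalarTower Γ(X, U) (X.presheaf.stalk x) (X.presheaf.stalk x') :=
    IsScalarTower.of_algebraMap_eq' (by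
      ext s
      exact (congr($(X.presheaf.germ_stalkSpecializes hxU h) s)).symm)
  have hle : (hU.primeIdealOf ⟨x, hxU⟩).asIdeal.primeCompl ≤
      (hU.primeIdealOf ⟨x', hx'U⟩).asIdeal.primeCompl := by
    intro a ha hmem
    exact ha (primeIdealOf_le_of_specializes hU hxU hx'U h hmem)
  have := IsLocalization.isLocalization_of_submonoid_le (X.presheaf.stalk x)
    (X.presheaf.stalk x') _ _ hle
  exact IsLocalization.flat (X.presheaf.stalk x')
    ((hU.primeIdealOf ⟨x', hx'U⟩).asIdeal.primeCompl.map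
      (algebraMap Γ(X, U) (X.presheaf.stalk x)))

/-- The kernel of the stalk map of a closed immersion at a generization `z` of `y` is generated by
the image of the kernel at `y`. -/
theorem ker_stalkMap_specializes (i : Y ⟶ X) [IsClosedImmersion i] {y z : Y} (h : z ⤳ y) :
    RingHom.ker (i.stalkMap z).hom = (RingHom.ker (i.stalkMap y).hom).map
      (X.presheaf.stalkSpecializes (h.map i.continuous)).hom := by
  obtain ⟨_, ⟨U, hU0, rfl⟩, hyU, -⟩ :=
    X.isBasis_affineOpens.exists_subset_of_mem_open (Set.mem_univ (i y)) isOpen_univ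
  have hU : IsAffineOpen U := hU0
  have hzU : i z ∈ U := (h.map i.continuous).mem_open U.isOpen hyU
  rw [ker_stalkMap_eq_map_ker i hU y hyU, ker_stalkMap_eq_map_ker i hU z hzU, Ideal.map_map,
    ← CommRingCat.hom_comp, X.presheaf.germ_stalkSpecializes]

/-- The local ring at a maximal point (a point without proper generizations) has dimension `0`. -/
theorem ringKrullDim_stalk_eq_zero (z : Y) (hmax : ∀ z' : Y, z' ⤳ z → z' = z) :
    ringKrullDim (Y.presheaf.stalk z) = 0 := by
  rw [← ringKrullDimZero_iff_ringKrullDim_eq_zero, Ring.krullDimLE_zero_iff]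
  intro I hI
  have hmem : (Y.fromSpecStalk z) ⟨I, hI⟩ ∈ Set.range (Y.fromSpecStalk z) := ⟨_, rfl⟩
  rw [Scheme.range_fromSpecStalk] at hmem
  have heq := hmax _ hmem
  have hcl : (Y.fromSpecStalk z) (IsLocalRing.closedPoint _) = z := Scheme.fromSpecStalk_closedPoint
  have h1 : (⟨I, hI⟩ : PrimeSpectrum _) = IsLocalRing.closedPoint _ :=
    (Y.fromSpecStalk z).isEmbedding.injective (heq.trans hcl.symm)
  have h2 : I = IsLocalRing.maximalIdeal _ := congrArg PrimeSpectrum.asIdeal h1
  rw [h2]; infer_instance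

end Groth.Agent.Lib.Helper5.StalkKer
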