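import Mathlib

/-!
# Helper5: regular sequences, elementary form, and spreading out from a local ring

* `isWeaklyRegular_iff_forall_mem`: `rs` is weakly regular on the ring `R` iff
  `rs[i] * z ∈ (rs[0], …, rs[i-1]) → z ∈ (rs[0], …, rs[i-1])` for all `i`, `z`.
* `exists_notMem_forall_mul_mem`: a finitely generated ideal whose localization at `p` is contained
  in that of `J` is multiplied into `J` by some `h ∉ p`.
* `isWeaklyRegular_map_of_away`, `exists_spread`: a sequence of `A` which becomes weakly regular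
  in `A_p` is weakly regular in `A_h` for some `h ∉ p` (`A` Noetherian).
-/

set_option autoImplicit false

open RingTheory.Sequence Ideal

namespace Groth.Agent.Lib.Helper5.RegSeq

section Elem

variable {R : Type*} [CommRing R]

theorem isWeaklyRegular_iff_forall_mem (rs : List R) :
    IsWeaklyRegular R rs ↔ ∀ (i : ℕ) (h : i < rs.length), ∀ z : R,
      rs[i] * z ∈ Ideal.ofList (rs.take i) → z ∈ Ideal.ofList (rs.take i) := by
  rw [isWeaklyRegular_iff]
  refine forall₂_congr fun i h => ?_
  rw [isSMulRegular_quotient_iff_mem_of_smul_mem]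
  have : (Ideal.ofList (rs.take i) • ⊤ : Submodule R R) = Ideal.ofList (rs.take i) := by
    rw [smul_eq_mul, Ideal.mul_top]
  rw [this]
  rfl

end Elem

section Spread

variable {A : Type*} [CommRing A]

/-- A finitely generated ideal `I` whose extension to `A_p` lies in that of `J` satisfies
`h • I ≤ J` for some `h ∉ p`. -/
theorem exists_notMem_forall_mul_mem {S : Type*} [CommRing S] [Algebra A S] (p : Ideal A)
    [p.IsPrime] [IsLocalization.AtPrime S p] (I J : Ideal A) (hI : I.FG)
    (h : ∀ z ∈ I, algebraMap A S z ∈ J.map (algebraMap A S)) :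
    ∃ u : A, u ∉ p ∧ ∀ z ∈ I, u * z ∈ J := by
  classical
  obtain ⟨G, hG⟩ := hI
  have hkey : ∀ c : A, ∃ u : A, u ∉ p ∧ (c ∈ I → u * c ∈ J) := by
    intro c
    by_cases hc : c ∈ I
    · obtain ⟨m, hm, hmc⟩ :=
        (IsLocalization.algebraMap_mem_map_algebraMap_iff p.primeCompl S J c).mp (h c hc)
      exact ⟨m, hm, fun _ => hmc⟩
    · exact ⟨1, (Ideal.ne_top_iff_one p).mp (Ideal.IsPrime.ne_top inferInstance),
        fun h' => absurd h' hc⟩
  choose ufun hup hu using hkey
  refine ⟨∏ c ∈ G, ufun c, ?_, ?_⟩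
  · intro hmem
    rw [(inferInstance : p.IsPrime).prod_mem_iff] at hmem
    obtain ⟨c, _, hc⟩ := hmem
    exact hup c hc
  · intro z hz
    rw [← hG] at hz
    refine Submodule.span_induction ?_ ?_ ?_ ?_ hz
    · intro c hcG
      have hcI : c ∈ I := hG ▸ Ideal.subset_span hcG
      obtain ⟨w, hw⟩ := Finset.dvd_prod_of_mem ufun hcG
      rw [hw, mul_right_comm]
      exact J.mul_mem_right _ (hu c hcI)
    · rw [mul_zero]; exact zero_mem _
    · intro a b _ _ ha hb; rw [mul_add]; exact add_mem ha hb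
    · intro a b _ hb; rw [smul_eq_mul, mul_left_comm]; exact J.mul_mem_left _ hb

/-- In `B = A_h`, `g z ∈ J B` as soon as `h * z ∈ J`. -/
theorem algebraMap_mem_map_of_mul_mem {B : Type*} [CommRing B] [Algebra A B] (h : A)
    [IsLocalization.Away h B] (J : Ideal A) (z : A) (hz : h * z ∈ J) :
    algebraMap A B z ∈ J.map (algebraMap A B) := by
  have hu : IsUnit (algebraMap A B h) := IsLocalization.Away.algebraMap_isUnit h
  have h1 : algebraMap A B h * algebraMap A B z ∈ J.map (algebraMap A B) := by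
    rw [← map_mul]; exact Ideal.mem_map_of_mem _ hz
  exact (Ideal.unit_mul_mem_iff_mem _ hu).mp h1

/-- If `h` multiplies the colon ideals `((rs[0..i-1]) : rs[i])` into `(rs[0..i-1])`, then `rs` is
weakly regular on `A_h`. -/
theorem isWeaklyRegular_map_of_away {B : Type*} [CommRing B] [Algebra A B] (h : A)
    [IsLocalization.Away h B] (rs : List A)
    (hcol : ∀ (i : ℕ) (hi : i < rs.length), ∀ z : A,
      rs[i] * z ∈ Ideal.ofList (rs.take i) → h * z ∈ Ideal.ofList (rs.take i)) :
    IsWeaklyRegular B (rs.map (algebraMap A B)) := by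
  rw [isWeaklyRegular_iff_forall_mem]
  intro i hi z' hz'
  have hi' : i < rs.length := by simpa using hi
  rw [List.getElem_map, ← List.map_take, ← Ideal.map_ofList] at hz'
  rw [← List.map_take, ← Ideal.map_ofList]
  obtain ⟨⟨b, ⟨_, k, rfl⟩⟩, hb⟩ := IsLocalization.surj (Submonoid.powers h) z'
  have hb' : z' * algebraMap A B (h ^ k) = algebraMap A B b := hb
  have hu : IsUnit (algebraMap A B (h ^ k)) := by
    rw [map_pow]; exact (IsLocalization.Away.algebraMap_isUnit h).pow k
  have h1 : algebraMap A B (rs[i] * b) ∈ (Ideal.ofList (rs.take i)).map (algebraMap A B) := by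
    rw [map_mul, ← hb', ← mul_assoc]
    exact Ideal.mul_mem_right _ _ hz'
  obtain ⟨_, ⟨l, rfl⟩, hl⟩ :=
    (IsLocalization.algebraMap_mem_map_algebraMap_iff (Submonoid.powers h) B
      (Ideal.ofList (rs.take i)) (rs[i] * b)).mp h1
  have h2 : rs[i] * (h ^ l * b) ∈ Ideal.ofList (rs.take i) := by
    have : rs[i] * (h ^ l * b) = h ^ l * (rs[i] * b) := by ring
    rw [this]; exact hl
  have h3 := hcol i hi' _ h2
  have h4 : algebraMap A B b ∈ (Ideal.ofList (rs.take i)).map (algebraMap A B) := by
    have hu' : IsUnit (algebraMap A B (h ^ (l + 1))) := by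
      rw [map_pow]; exact (IsLocalization.Away.algebraMap_isUnit h).pow _
    have h5 : algebraMap A B (h ^ (l + 1)) * algebraMap A B b ∈
        (Ideal.ofList (rs.take i)).map (algebraMap A B) := by
      rw [← map_mul]
      apply Ideal.mem_map_of_mem
      have : h ^ (l + 1) * b = h * (h ^ l * b) := by ring
      rw [this]; exact h3
    exact (Ideal.unit_mul_mem_iff_mem _ hu').mp h5
  rw [← hb'] at h4
  exact (Ideal.mul_unit_mem_iff_mem _ hu).mp h4

variable [IsNoetherianRing A]

/-- **Spreading out a regular sequence.** If `rs` becomes weakly regular in `A_p`, there is `h ∉ p`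
such that every multiple `h'` of `h` satisfies the colon condition, hence `rs` is weakly regular
in `A_{h'}`. -/
theorem exists_notMem_forall_colon {S : Type*} [CommRing S] [Algebra A S] (p : Ideal A)
    [p.IsPrime] [IsLocalization.AtPrime S p] (rs : List A)
    (hreg : IsWeaklyRegular S (rs.map (algebraMap A S))) :
    ∃ h : A, h ∉ p ∧ ∀ (i : ℕ) (hi : i < rs.length), ∀ z : A,
      rs[i] * z ∈ Ideal.ofList (rs.take i) → h * z ∈ Ideal.ofList (rs.take i) := by
  classical
  rw [isWeaklyRegular_iff_forall_mem] at hreg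
  have hkey : ∀ i : Fin rs.length, ∃ u : A, u ∉ p ∧ ∀ z : A,
      rs[i] * z ∈ Ideal.ofList (rs.take i) → u * z ∈ Ideal.ofList (rs.take i) := by
    intro i
    let C : Ideal A := Submodule.comap (LinearMap.mulLeft A rs[i]) (Ideal.ofList (rs.take i))
    have hC : ∀ z, z ∈ C ↔ rs[i] * z ∈ Ideal.ofList (rs.take i) := fun z => Iff.rfl
    obtain ⟨u, hup, hu⟩ := exists_notMem_forall_mul_mem (S := S) p C (Ideal.ofList (rs.take i))
      (IsNoetherian.noetherian C) (by
        intro z hz
        have hi' : (i : ℕ) < (rs.map (algebraMap A S)).length := by simp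
        have := hreg i hi' (algebraMap A S z)
        rw [List.getElem_map, ← List.map_take, ← Ideal.map_ofList, ← map_mul] at this
        exact this (Ideal.mem_map_of_mem _ ((hC z).mp hz)))
    exact ⟨u, hup, fun z hz => hu z ((hC z).mpr hz)⟩
  choose ufun hup hu using hkey
  refine ⟨∏ i : Fin rs.length, ufun i, ?_, ?_⟩
  · intro hmem
    rw [(inferInstance : p.IsPrime).prod_mem_iff] at hmem
    obtain ⟨c, _, hc⟩ := hmem
    exact hup c hc
  · intro i hi z hz
    obtain ⟨w, hw⟩ := Finset.dvd_prod_of_mem ufun (Finset.mem_univ (⟨i, hi⟩ : Fin rs.length))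
    rw [hw, mul_right_comm]
    exact Ideal.mul_mem_right _ _ (hu ⟨i, hi⟩ z hz)

end Spread

section UnitMul

variable {S : Type*} [CommRing S]

theorem ofList_map_unit (l : List S) (φ : S → S) (hφ : ∀ s ∈ l, ∃ u : Sˣ, φ s = s * u) :
    Ideal.ofList (l.map φ) = Ideal.ofList l := by
  apply le_antisymm
  · rw [Ideal.ofList, Ideal.span_le]
    intro s' hs'
    obtain ⟨s, hs, rfl⟩ := List.mem_map.mp hs'
    obtain ⟨u, hu⟩ := hφ s hs
    rw [hu]
    exact Ideal.mul_mem_right _ _ (Ideal.subset_span hs)
  · rw [Ideal.ofList, Ideal.span_le]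
    intro s hs
    obtain ⟨u, hu⟩ := hφ s hs
    have h1 : φ s ∈ Ideal.ofList (l.map φ) := Ideal.subset_span (List.mem_map.mpr ⟨s, hs, rfl⟩)
    have h2 : s = φ s * ((u⁻¹ : Sˣ) : S) := by
      rw [hu, mul_assoc, Units.mul_inv, mul_one]
    rw [SetLike.mem_coe, h2]
    exact Ideal.mul_mem_right _ _ h1

theorem isWeaklyRegular_map_unit (l : List S) (φ : S → S)
    (hφ : ∀ s ∈ l, ∃ u : Sˣ, φ s = s * u) (h : IsWeaklyRegular S l) :
    IsWeaklyRegular S (l.map φ) := by
  rw [isWeaklyRegular_iff_forall_mem] at h ⊢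
  intro i hi z hz
  have hi' : i < l.length := by simpa using hi
  rw [List.getElem_map, ← List.map_take,
    ofList_map_unit (l.take i) φ (fun s hs => hφ s (List.mem_of_mem_take hs))] at hz
  rw [← List.map_take,
    ofList_map_unit (l.take i) φ (fun s hs => hφ s (List.mem_of_mem_take hs))]
  obtain ⟨u, hu⟩ := hφ l[i] (List.getElem_mem hi')
  rw [hu, mul_assoc] at hz
  exact (Ideal.unit_mul_mem_iff_mem _ u.isUnit).mp (h i hi' _ hz)

end UnitMul

end Groth.Agent.Lib.Helper5.RegSeq
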