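import Groth.Prelude.Def_ParaF
import Mathlib

/-!
# Helper5: basic API for `PicF.IsInvertible` and `ParaF.InvRestrictEquiv`

* `restrictCompIso`, `restrictCongrIso`: component isomorphisms of `restrictFunctorComp/Congr`.
* `isInvertible_of_iso`, `isInvertible_structureModule`, `isInvertible_restrict`.
* `bijective_map_of_natIso`: bijectivity on Hom-sets transfers along natural isomorphisms.
* `InvRestrictEquiv.of_isIso`, `.comp`, `.of_comp_left`, `.of_eq`.
-/

set_option autoImplicit false
universe u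

open CategoryTheory AlgebraicGeometry TopologicalSpace

namespace Groth.Agent.Lib.Helper5

section Basic

variable {X Y Z : Scheme.{u}}

/-- Restriction along a composite of open immersions. -/
noncomputable def restrictCompIso (M : Z.Modules) (f : X ⟶ Y) (g : Y ⟶ Z)
    [IsOpenImmersion f] [IsOpenImmersion g] :
    M.restrict (f ≫ g) ≅ (M.restrict g).restrict f :=
  (Scheme.Modules.restrictFunctorComp f g).app M

/-- Restriction along equal open immersions. -/
noncomputable def restrictCongrIso (M : Y.Modules) {f g : X ⟶ Y} (h : f = g)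
    [IsOpenImmersion f] [IsOpenImmersion g] : M.restrict f ≅ M.restrict g :=
  (Scheme.Modules.restrictFunctorCongr h).app M

theorem isInvertible_of_iso {L L' : Y.Modules} (e : L ≅ L') (h : PicF.IsInvertible L) :
    PicF.IsInvertible L' := by
  intro y
  obtain ⟨U, hy, ⟨i⟩⟩ := h y
  exact ⟨U, hy, ⟨(Scheme.Modules.restrictFunctor U.ι).mapIso e.symm ≪≫ i⟩⟩

theorem isInvertible_structureModule (Y : Scheme.{u}) :
    PicF.IsInvertible (Coh.structureModule Y) :=
  fun _ => ⟨⊤, trivial, ⟨Scheme.Modules.restrictUnitIso _⟩⟩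

theorem isInvertible_restrict {L : Y.Modules} (h : PicF.IsInvertible L) (f : X ⟶ Y)
    [IsOpenImmersion f] : PicF.IsInvertible (L.restrict f) := by
  intro x
  obtain ⟨W, hx, ⟨e⟩⟩ := h (f x)
  refine ⟨f ⁻¹ᵁ W, hx, ⟨?_⟩⟩
  exact (restrictCompIso L (f ⁻¹ᵁ W).ι f).symm ≪≫
    restrictCongrIso L (morphismRestrict_ι f W).symm ≪≫
    restrictCompIso L (f ∣_ W) W.ι ≪≫
    (Scheme.Modules.restrictFunctor (f ∣_ W)).mapIso e ≪≫ Scheme.Modules.restrictUnitIso _

end Basic

section Cat

variable {C D : Type*} [Category C] [Category D]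

/-- Bijectivity of a functor on a Hom-set transfers along a natural isomorphism. -/
theorem bijective_map_of_natIso {F G : C ⥤ D} (α : F ≅ G) {A B : C}
    (h : Function.Bijective (fun φ : A ⟶ B => F.map φ)) :
    Function.Bijective (fun φ : A ⟶ B => G.map φ) := by
  have : (fun φ : A ⟶ B => G.map φ) =
      (Iso.homCongr (α.app A) (α.app B)) ∘ (fun φ : A ⟶ B => F.map φ) := by
    funext φ
    simp [Iso.homCongr]
  rw [this]
  exact (Equiv.bijective _).comp h

end Cat

section InvRestrict

open ParaF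

variable {U W V : Scheme.{u}}

/-- Restriction along an isomorphism is an equivalence of categories. -/
noncomputable def restrictEquivOfIsIso (j : U ⟶ V) [IsIso j] : V.Modules ≌ U.Modules :=
  CategoryTheory.Equivalence.mk (Scheme.Modules.restrictFunctor j) (Scheme.Modules.restrictFunctor (inv j))
    ((Scheme.Modules.restrictFunctorId).symm ≪≫
      Scheme.Modules.restrictFunctorCongr (by simp) ≪≫
      Scheme.Modules.restrictFunctorComp (inv j) j)
    ((Scheme.Modules.restrictFunctorComp j (inv j)).symm ≪≫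
      Scheme.Modules.restrictFunctorCongr (by simp) ≪≫
      Scheme.Modules.restrictFunctorId)

theorem InvRestrictEquiv.of_eq {j j' : U ⟶ V} [IsOpenImmersion j] [IsOpenImmersion j']
    (h : j = j') (hj : InvRestrictEquiv j) : InvRestrictEquiv j' := by
  subst h; exact hj

theorem InvRestrictEquiv.homOfLE_congr {X : Scheme.{u}} {A A' B : X.Opens} (h : A = A')
    (hA : A ≤ B) (hj : InvRestrictEquiv (X.homOfLE hA)) :
    InvRestrictEquiv (X.homOfLE (h ▸ hA : A' ≤ B)) := by
  subst h; exact hj

theorem InvRestrictEquiv.of_isIso (j : U ⟶ V) [IsIso j] : InvRestrictEquiv j := by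
  refine ⟨fun L L' _ _ => ?_, fun L₀ h₀ => ?_⟩
  · exact (restrictEquivOfIsIso j).fullyFaithfulFunctor.map_bijective L L'
  · exact ⟨L₀.restrict (inv j), isInvertible_restrict h₀ _,
      ⟨(restrictEquivOfIsIso j).counitIso.app L₀⟩⟩

theorem InvRestrictEquiv.comp (i : U ⟶ W) (k : W ⟶ V) [IsOpenImmersion i] [IsOpenImmersion k]
    (hi : InvRestrictEquiv i) (hk : InvRestrictEquiv k) : InvRestrictEquiv (i ≫ k) := by
  refine ⟨fun L L' hL hL' => ?_, fun L₀ h₀ => ?_⟩
  · apply bijective_map_of_natIso (Scheme.Modules.restrictFunctorComp i k).symm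
    exact (hi.1 _ _ (isInvertible_restrict hL k) (isInvertible_restrict hL' k)).comp
      (hk.1 L L' hL hL')
  · obtain ⟨M, hM, ⟨e⟩⟩ := hi.2 L₀ h₀
    obtain ⟨L, hL, ⟨e'⟩⟩ := hk.2 M hM
    exact ⟨L, hL, ⟨restrictCompIso L i k ≪≫ (Scheme.Modules.restrictFunctor i).mapIso e' ≪≫ e⟩⟩

/-- A functor which is bijective on morphisms between invertible modules reflects
isomorphism classes of invertible modules. -/
theorem nonempty_iso_of_bijective {i : U ⟶ W} [IsOpenImmersion i]
    (hff : ∀ L L' : W.Modules, PicF.IsInvertible L → PicF.IsInvertible L' →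
      Function.Bijective (fun φ : L ⟶ L' => (Scheme.Modules.restrictFunctor i).map φ))
    {M M' : W.Modules} (hM : PicF.IsInvertible M) (hM' : PicF.IsInvertible M')
    (e : M.restrict i ≅ M'.restrict i) : Nonempty (M ≅ M') := by
  obtain ⟨φ, hφ⟩ := (hff M M' hM hM').2 e.hom
  obtain ⟨ψ, hψ⟩ := (hff M' M hM' hM).2 e.inv
  dsimp only at hφ hψ
  refine ⟨⟨φ, ψ, ?_, ?_⟩⟩
  · apply (hff M M hM hM).1
    dsimp only
    rw [CategoryTheory.Functor.map_comp, hφ, hψ, CategoryTheory.Functor.map_id, Iso.hom_inv_id]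
  · apply (hff M' M' hM' hM').1
    dsimp only
    rw [CategoryTheory.Functor.map_comp, hψ, hφ, CategoryTheory.Functor.map_id, Iso.inv_hom_id]

theorem InvRestrictEquiv.of_comp_left (i : U ⟶ W) (k : W ⟶ V) [IsOpenImmersion i]
    [IsOpenImmersion k] (hik : InvRestrictEquiv (i ≫ k)) (hi : InvRestrictEquiv i) :
    InvRestrictEquiv k := by
  have hff : ∀ L L' : V.Modules, PicF.IsInvertible L → PicF.IsInvertible L' →
      Function.Bijective (fun φ : L ⟶ L' => (Scheme.Modules.restrictFunctor k).map φ) := by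
    intro L L' hL hL'
    have h1 := bijective_map_of_natIso (Scheme.Modules.restrictFunctorComp i k)
      (hik.1 L L' hL hL')
    have h2 := hi.1 _ _ (isInvertible_restrict hL k) (isInvertible_restrict hL' k)
    exact (Function.Bijective.of_comp_iff' h2 _).mp h1
  refine ⟨hff, fun L₀ h₀ => ?_⟩
  obtain ⟨L, hL, ⟨e⟩⟩ := hik.2 (L₀.restrict i) (isInvertible_restrict h₀ i)
  exact ⟨L, hL, nonempty_iso_of_bijective hi.1 (isInvertible_restrict hL k) h₀
    ((restrictCompIso L i k).symm ≪≫ e)⟩

end InvRestrict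

end Groth.Agent.Lib.Helper5
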