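import Groth.Agent.Lib.Helper9.RegLocal
import Groth.Agent.Lib.Helper5.RegSeqSpread

/-!
# Helper5: regular quotients of regular local rings are cut out by regular sequences
-/

set_option autoImplicit false
universe u

open IsLocalRing RingTheory.Sequence

namespace Groth.Agent.Lib.Helper5.RegQuot

open Groth.Agent.Lib.Helper9.RegLocal

/-- Weak regularity of `t :: rs'` from that of the image of `rs'` modulo `t`. -/
theorem isWeaklyRegular_cons_of_quotient {R : Type*} [CommRing R] (t : R) (rs' : List R)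
    (ht : ∀ z : R, t * z = 0 → z = 0)
    (h : IsWeaklyRegular (R ⧸ Ideal.span {t}) (rs'.map (Ideal.Quotient.mk (Ideal.span {t})))) :
    IsWeaklyRegular R (t :: rs') := by
  rw [RegSeq.isWeaklyRegular_iff_forall_mem] at h ⊢
  intro i hi z hz
  rcases i with _ | i
  · simp only [List.take_zero, Ideal.ofList_nil, List.getElem_cons_zero, Ideal.mem_bot] at hz ⊢
    exact ht z hz
  · have hi' : i < rs'.length := by simpa using hi
    simp only [List.take_succ_cons, Ideal.ofList_cons, List.getElem_cons_succ] at hz ⊢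
    have hi'' : i < (rs'.map (Ideal.Quotient.mk (Ideal.span {t}))).length := by simpa using hi'
    have h1 := h i hi'' (Ideal.Quotient.mk (Ideal.span {t}) z)
    rw [List.getElem_map, ← List.map_take, ← Ideal.map_ofList, ← map_mul] at h1
    have hmap : ∀ w : R, w ∈ Ideal.span {t} ⊔ Ideal.ofList (rs'.take i) ↔
        Ideal.Quotient.mk (Ideal.span {t}) w ∈
          (Ideal.ofList (rs'.take i)).map (Ideal.Quotient.mk (Ideal.span {t})) := by
      intro w
      rw [← Ideal.mem_comap, Ideal.comap_map_of_surjective _ Ideal.Quotient.mk_surjective,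
        ← RingHom.ker_eq_comap_bot, Ideal.mk_ker, sup_comm]
    rw [hmap] at hz ⊢
    exact h1 hz

/-- A nonzero proper ideal with regular quotient in a regular local ring contains an element
outside the square of the maximal ideal. -/
theorem exists_mem_notMem_sq (R : Type u) [CommRing R] [IsRegularLocalRing R] (J : Ideal R)
    (hJ0 : J ≠ ⊥) (hJ : J ≠ ⊤) (hreg : IsRegularLocalRing (R ⧸ J)) :
    ∃ t ∈ J, t ∉ maximalIdeal R ^ 2 := by
  haveI hdom : IsDomain R := isDomain_of_isRegularLocalRing R
  have hJm : J ≤ maximalIdeal R := le_maximalIdeal hJ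
  set N := (maximalIdeal R).spanFinrank with hN
  have hdimR : ringKrullDim R = ((N : ℕ) : WithBot ℕ∞) := by
    rw [← IsRegularLocalRing.spanFinrank_maximalIdeal]
  by_contra hcon
  push Not at hcon
  have hJ2 : J ≤ maximalIdeal R ^ 2 := hcon
  set e := (maximalIdeal (R ⧸ J)).spanFinrank with hedef
  have he : (e : WithBot ℕ∞) = ringKrullDim (R ⧸ J) := hreg.spanFinrank_maximalIdeal
  obtain ⟨s, hscard, hsspan⟩ := Submodule.FG.exists_span_finset_card_eq_spanFinrank
    ((maximalIdeal (R ⧸ J)).fg_of_isNoetherianRing)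
  let eq := Finset.equivFinOfCardEq hscard
  have hlift : ∀ j : Fin e, ∃ a : R, Ideal.Quotient.mk J a = ((eq.symm j : s) : R ⧸ J) :=
    fun j => Ideal.Quotient.mk_surjective _
  choose y' hy' using hlift
  have hrange : (Set.range fun j => Ideal.Quotient.mk J (y' j)) = (s : Set (R ⧸ J)) := by
    ext w
    constructor
    · rintro ⟨j, rfl⟩
      show Ideal.Quotient.mk J (y' j) ∈ (s : Set (R ⧸ J))
      rw [hy']; exact (eq.symm j).2
    · intro hw
      refine ⟨eq ⟨w, hw⟩, ?_⟩
      show Ideal.Quotient.mk J (y' (eq ⟨w, hw⟩)) = w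
      rw [hy', Equiv.symm_apply_apply]
  have hmbar : maximalIdeal (R ⧸ J) =
      Ideal.span (Set.range fun j => Ideal.Quotient.mk J (y' j)) := by
    rw [hrange]; exact hsspan.symm
  have hm := sup_span_eq_maximalIdeal_of_quotient J y' hmbar
  -- Nakayama: `m = (y')`
  have hle : maximalIdeal R ≤ Ideal.span (Set.range y') := by
    apply Submodule.le_of_le_smul_of_le_jacobson_bot (I := maximalIdeal R)
      (maximalIdeal R).fg_of_isNoetherianRing
      (jacobson_eq_maximalIdeal ⊥ bot_ne_top).ge
    rw [smul_eq_mul, ← pow_two]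
    calc maximalIdeal R = J ⊔ Ideal.span (Set.range y') := hm.symm
      _ ≤ Ideal.span (Set.range y') ⊔ maximalIdeal R ^ 2 := by
        rw [sup_comm]; exact sup_le_sup_left hJ2 _
  have hmeq : maximalIdeal R = Ideal.span (Set.range y') :=
    le_antisymm hle (by rw [← hm]; exact le_sup_right)
  have h1 : N ≤ e := by
    rw [hN, hmeq]; exact spanFinrank_span_range_le _
  -- dimension count
  obtain ⟨b, hbJ, hb0⟩ := Submodule.exists_mem_ne_zero_of_ne_bot hJ0
  have hd1 := ringKrullDim_quotient_succ_le_of_nonZeroDivisor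
    (mem_nonZeroDivisors_of_ne_zero hb0)
  have hd2 : ringKrullDim (R ⧸ J) ≤ ringKrullDim (R ⧸ Ideal.span {b}) :=
    ringKrullDim_le_of_surjective
      (Ideal.Quotient.factor ((Ideal.span_singleton_le_iff_mem J).mpr hbJ))
      (Ideal.Quotient.factor_surjective _)
  rw [← he] at hd2
  have hd3 : ((e + 1 : ℕ) : WithBot ℕ∞) ≤ ((N : ℕ) : WithBot ℕ∞) := by
    rw [← hdimR]
    refine le_trans ?_ hd1
    push_cast
    exact add_le_add_left hd2 1
  have hd4 : e + 1 ≤ N := by exact_mod_cast hd3
  omega

/-- The quotient of a regular local ring by an element of `m ∖ m²` is regular, of embedding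
dimension one less. -/
theorem quotient_singleton (R : Type u) [CommRing R] [IsRegularLocalRing R] (t : R)
    (htm : t ∈ maximalIdeal R) (ht2 : t ∉ maximalIdeal R ^ 2) :
    ∃ _ : IsRegularLocalRing (R ⧸ Ideal.span {t}),
      (maximalIdeal (R ⧸ Ideal.span {t})).spanFinrank + 1 = (maximalIdeal R).spanFinrank := by
  let x : Fin 1 → maximalIdeal R := fun _ => ⟨t, htm⟩
  have hx : LinearIndependent (ResidueField R)
      (fun i => (maximalIdeal R).toCotangent (x i)) := by
    rw [linearIndependent_unique_iff]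
    show (maximalIdeal R).toCotangent ⟨t, htm⟩ ≠ 0
    rw [Ne, Ideal.toCotangent_eq_zero]
    exact ht2
  obtain ⟨hq1, hq2⟩ := quotient_regular R 1 x hx
  have hJt : Ideal.span (Set.range fun i => (x i : R)) = Ideal.span {t} := by
    congr 1
    ext a
    simp [x]
  rw [hJt] at hq1 hq2
  haveI := hq2
  refine ⟨hq2, ?_⟩
  have h5 : ((maximalIdeal (R ⧸ Ideal.span {t})).spanFinrank : WithBot ℕ∞) +
      ((1 : ℕ) : WithBot ℕ∞) = (((maximalIdeal R).spanFinrank : ℕ) : WithBot ℕ∞) := by
    rw [IsRegularLocalRing.spanFinrank_maximalIdeal, hq1,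
      IsRegularLocalRing.spanFinrank_maximalIdeal]
  exact_mod_cast h5

/-- Auxiliary form of `exists_isRegular_of_quotient_regular`, by induction on the embedding
dimension. -/
theorem exists_isRegular_of_quotient_regular_aux : ∀ (n : ℕ) (R : Type u) [CommRing R]
    [IsRegularLocalRing R] (J : Ideal R), (maximalIdeal R).spanFinrank = n → J ≠ ⊤ →
    IsRegularLocalRing (R ⧸ J) → ∃ rs : List R, IsRegular R rs ∧ J = Ideal.ofList rs := by
  intro n
  induction n with
  | zero =>
    intro R _ _ J h0 hJ _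
    rw [Submodule.spanFinrank_eq_zero_iff_eq_bot (maximalIdeal R).fg_of_isNoetherianRing] at h0
    have hJ0 : J = ⊥ := le_bot_iff.mp (h0 ▸ le_maximalIdeal hJ)
    exact ⟨[], IsRegular.nil R R, by rw [hJ0, Ideal.ofList_nil]⟩
  | succ n ih =>
    intro R _ _ J hn hJ hreg
    by_cases hJ0 : J = ⊥
    · exact ⟨[], IsRegular.nil R R, by rw [hJ0, Ideal.ofList_nil]⟩
    haveI hdom : IsDomain R := isDomain_of_isRegularLocalRing R
    have hJm : J ≤ maximalIdeal R := le_maximalIdeal hJ
    obtain ⟨t, htJ, ht2⟩ := exists_mem_notMem_sq R J hJ0 hJ hreg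
    have htm : t ∈ maximalIdeal R := hJm htJ
    have ht0 : t ≠ 0 := fun h => ht2 (h ▸ zero_mem _)
    obtain ⟨hq2, hnq'⟩ := quotient_singleton R t htm ht2
    haveI := hq2
    have hnq : (maximalIdeal (R ⧸ Ideal.span {t})).spanFinrank = n := by omega
    -- the image of `J`
    have htJ' : Ideal.span {t} ≤ J := (Ideal.span_singleton_le_iff_mem J).mpr htJ
    set J₁ := J.map (Ideal.Quotient.mk (Ideal.span {t})) with hJ₁
    have hcomap : J₁.comap (Ideal.Quotient.mk (Ideal.span {t})) = J := by
      rw [hJ₁, Ideal.comap_map_of_surjective _ Ideal.Quotient.mk_surjective,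
        ← RingHom.ker_eq_comap_bot, Ideal.mk_ker, sup_eq_left.mpr htJ']
    have hJ₁top : J₁ ≠ ⊤ := by
      intro h
      apply hJ
      rw [← hcomap, h, Ideal.comap_top]
    have hreg₁ : IsRegularLocalRing ((R ⧸ Ideal.span {t}) ⧸ J₁) :=
      IsRegularLocalRing.of_ringEquiv (DoubleQuot.quotQuotEquivQuotOfLE htJ').symm
    obtain ⟨rs₁, hrs₁, hJrs₁⟩ := ih (R ⧸ Ideal.span {t}) J₁ hnq hJ₁top hreg₁
    obtain ⟨rs', hrs'⟩ := (List.map_surjective_iff.mpr
      (Ideal.Quotient.mk_surjective (I := Ideal.span {t}))) rs₁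
    refine ⟨t :: rs', ?_, ?_⟩
    · have hw : IsWeaklyRegular R (t :: rs') :=
        isWeaklyRegular_cons_of_quotient t rs'
          (fun z hz => (mul_eq_zero.mp hz).resolve_left ht0) (hrs' ▸ hrs₁.toIsWeaklyRegular)
      have hJeq : J = Ideal.ofList (t :: rs') := by
        rw [Ideal.ofList_cons, ← hcomap, hJrs₁, ← hrs', ← Ideal.map_ofList,
          Ideal.comap_map_of_surjective _ Ideal.Quotient.mk_surjective,
          ← RingHom.ker_eq_comap_bot, Ideal.mk_ker, sup_comm]
      refine (IsLocalRing.isRegular_iff_isWeaklyRegular_of_subset_maximalIdeal ?_).mpr hw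
      intro r hr
      apply hJm
      rw [hJeq]
      exact Ideal.subset_span hr
    · rw [Ideal.ofList_cons, ← hcomap, hJrs₁, ← hrs', ← Ideal.map_ofList,
        Ideal.comap_map_of_surjective _ Ideal.Quotient.mk_surjective,
        ← RingHom.ker_eq_comap_bot, Ideal.mk_ker, sup_comm]

/-- If `R` and `R ⧸ J` are regular local rings, `J` is generated by a regular sequence. -/
theorem exists_isRegular_of_quotient_regular (R : Type u) [CommRing R] [IsRegularLocalRing R]
    (J : Ideal R) (hJ : J ≠ ⊤) [IsRegularLocalRing (R ⧸ J)] :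
    ∃ rs : List R, IsRegular R rs ∧ J = Ideal.ofList rs :=
  exists_isRegular_of_quotient_regular_aux _ R J rfl hJ inferInstance

/-- If `R ⧸ (rs)` is regular for a regular sequence `rs` of the Noetherian local ring `R`, then
`R` is regular. -/
theorem isRegularLocalRing_of_quotient (R : Type u) [CommRing R] [IsLocalRing R]
    [IsNoetherianRing R] (rs : List R) (hrs : IsRegular R rs)
    (hq : IsRegularLocalRing (R ⧸ Ideal.ofList rs)) : IsRegularLocalRing R := by
  have hmem : ∀ i : Fin rs.length, rs[i] ∈ maximalIdeal R := by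
    intro i
    have hne : Ideal.ofList rs ≠ ⊤ := by
      intro h
      apply hrs.top_ne_smul
      rw [h, smul_eq_mul, Ideal.mul_top]
    exact le_maximalIdeal hne (Ideal.subset_span (List.getElem_mem _))
  let x : Fin rs.length → maximalIdeal R := fun i => ⟨rs[i], hmem i⟩
  have hJ : Ideal.span (Set.range fun i => (x i : R)) = Ideal.ofList rs := by
    rw [Ideal.ofList]
    congr 1
    ext a
    simp only [Set.mem_range, Set.mem_ofPred_eq, x]
    constructor
    · rintro ⟨i, rfl⟩; exact List.getElem_mem _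
    · intro ha
      obtain ⟨i, hi, rfl⟩ := List.getElem_of_mem ha
      exact ⟨⟨i, hi⟩, rfl⟩
  have hdim := ringKrullDim_add_length_eq_ringKrullDim_of_isRegular rs hrs
  rw [← hJ] at hdim hq
  haveI := hq
  exact (regular_of_quotient_regular R rs.length x hdim).1

end Groth.Agent.Lib.Helper5.RegQuot
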