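import Mathlib
open CategoryTheory Limits AlgebraicTopology Opposite Simplicial

set_option linter.unusedSectionVars false

namespace Groth.Agent.Lib.Helper5.CechRes

universe v u

section General

variable {A : Type*} [Category A] [Abelian A]
variable {B : Type*} [Category B] [Abelian B] (F : A ⥤ B) [F.Additive]

/-- iso between alternating face map complex of whiskered object and mapped complex -/
noncomputable def altIso (Y : SimplicialObject A) :
    (alternatingFaceMapComplex B).obj (((SimplicialObject.whiskering A B).obj F).obj Y) ≅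
      (F.mapHomologicalComplex _).obj ((alternatingFaceMapComplex A).obj Y) :=
  HomologicalComplex.Hom.isoOfComponents (fun n => Iso.refl _) (by
    rintro i j (rfl : j + 1 = i)
    simp only [Iso.refl_hom]
    erw [Category.id_comp, Category.comp_id]
    rw [Functor.mapHomologicalComplex_obj_d, alternatingFaceMapComplex_obj_d, alternatingFaceMapComplex_obj_d]
    simp only [AlternatingFaceMapComplex.objD, Functor.map_sum, Functor.map_zsmul]
    rfl)

@[simp] lemma altIso_hom_f (Y : SimplicialObject A) (n : ℕ) : (altIso F Y).hom.f n = 𝟙 _ := rfl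
@[simp] lemma altIso_inv_f (Y : SimplicialObject A) (n : ℕ) : (altIso F Y).inv.f n = 𝟙 _ := rfl

lemma ε_whiskering_comm (Y : SimplicialObject.Augmented A) :
    (altIso F Y.left).hom ≫ (F.mapHomologicalComplex _).map (AlternatingFaceMapComplex.ε.app Y) ≫
      (HomologicalComplex.singleMapHomologicalComplex F (ComplexShape.down ℕ) 0).hom.app Y.right =
    AlternatingFaceMapComplex.ε.app
      (((SimplicialObject.Augmented.whiskering A B).obj F).obj Y) := by
  apply HomologicalComplex.to_single_hom_ext
  simp [SimplicialObject.Augmented.whiskering, SimplicialObject.Augmented.whiskeringObj]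
  try erw [Category.id_comp]
  first | rfl | exact Category.comp_id _

lemma quasiIso_ε_whiskering_iff (Y : SimplicialObject.Augmented A) :
    QuasiIso (AlternatingFaceMapComplex.ε.app
      (((SimplicialObject.Augmented.whiskering A B).obj F).obj Y)) ↔
    QuasiIso ((F.mapHomologicalComplex _).map (AlternatingFaceMapComplex.ε.app Y)) := by
  constructor
  · intro h
    have h' : QuasiIso ((altIso F Y.left).hom ≫
        (F.mapHomologicalComplex _).map (AlternatingFaceMapComplex.ε.app Y) ≫
      (HomologicalComplex.singleMapHomologicalComplex F (ComplexShape.down ℕ) 0).hom.app Y.right) := by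
      rw [ε_whiskering_comm]; exact h
    have h2 := quasiIso_of_comp_left _ _ (hφφ' := h')
    exact quasiIso_of_comp_right _ _ (hφφ' := h2)
  · intro h
    rw [← ε_whiskering_comm]
    have : QuasiIso ((F.mapHomologicalComplex _).map (AlternatingFaceMapComplex.ε.app Y) ≫
      (HomologicalComplex.singleMapHomologicalComplex F (ComplexShape.down ℕ) 0).hom.app Y.right) :=
      quasiIso_comp _ _
    have h3 : QuasiIso (altIso F Y.left).hom := quasiIso_of_isIso _
    exact quasiIso_comp _ _ (hφ := h3) (hφ' := this)

end General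

lemma quasiIso_ε_of_extraDegeneracy {A : Type*} [Category A] [Abelian A]
    {X : SimplicialObject.Augmented A} (ed : X.ExtraDegeneracy) :
    QuasiIso (AlternatingFaceMapComplex.ε.app X) :=
  (ed.homotopyEquiv).quasiIso_hom

lemma quasiIso_ε_of_iso {A : Type*} [Category A] [Abelian A]
    {X Y : SimplicialObject.Augmented A} (i : X ≅ Y)
    (h : QuasiIso (AlternatingFaceMapComplex.ε.app X)) :
    QuasiIso (AlternatingFaceMapComplex.ε.app Y) :=
  (quasiIso_iff_of_arrow_mk_iso _ _
    (Arrow.isoMk ((SimplicialObject.Augmented.drop ⋙ alternatingFaceMapComplex A).mapIso i)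
      ((SimplicialObject.Augmented.point ⋙ ChainComplex.single₀ A).mapIso i)
      (AlternatingFaceMapComplex.ε.naturality i.hom))).1 h

section ED
open WidePullbackShape

variable {D : Type*} [Category D] {E : Type*} [Category E] (f : Arrow D)
  [∀ n : ℕ, HasWidePullback f.right (fun _ : Fin (n + 1) => f.left) fun _ => f.hom]
  (G : D ⥤ E)

section lift

variable [∀ n : ℕ, PreservesLimit (wideCospan f.right (fun _ : Fin (n + 1) => f.left) fun _ => f.hom) G]

/-- lift into the image under `G` of the wide pullback -/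
noncomputable def liftG (n : ℕ) {T : E} (β : T ⟶ G.obj f.right) (α : Fin (n + 1) → (T ⟶ G.obj f.left))
    (h : ∀ i, α i ≫ G.map f.hom = β) :
    T ⟶ G.obj (widePullback f.right (fun _ : Fin (n + 1) => f.left) fun _ => f.hom) :=
  (isLimitOfPreserves G (limit.isLimit
    (wideCospan f.right (fun _ : Fin (n + 1) => f.left) fun _ => f.hom))).lift
    (mkCone (F := wideCospan f.right (fun _ : Fin (n + 1) => f.left) (fun _ => f.hom) ⋙ G) β α h)

@[reassoc (attr := simp)]
lemma liftG_π (n : ℕ) {T : E} (β : T ⟶ G.obj f.right) (α : Fin (n + 1) → (T ⟶ G.obj f.left))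
    (h : ∀ i, α i ≫ G.map f.hom = β) (i : Fin (n + 1)) :
    liftG f G n β α h ≫ G.map (WidePullback.π (fun _ : Fin (n + 1) => f.hom) i) = α i :=
  (isLimitOfPreserves G (limit.isLimit
    (wideCospan f.right (fun _ : Fin (n + 1) => f.left) fun _ => f.hom))).fac
    (mkCone (F := wideCospan f.right (fun _ : Fin (n + 1) => f.left) (fun _ => f.hom) ⋙ G) β α h) (some i)

@[reassoc (attr := simp)]
lemma liftG_base (n : ℕ) {T : E} (β : T ⟶ G.obj f.right) (α : Fin (n + 1) → (T ⟶ G.obj f.left))
    (h : ∀ i, α i ≫ G.map f.hom = β) :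
    liftG f G n β α h ≫ G.map (WidePullback.base (fun _ : Fin (n + 1) => f.hom)) = β :=
  (isLimitOfPreserves G (limit.isLimit
    (wideCospan f.right (fun _ : Fin (n + 1) => f.left) fun _ => f.hom))).fac
    (mkCone (F := wideCospan f.right (fun _ : Fin (n + 1) => f.left) (fun _ => f.hom) ⋙ G) β α h) none

lemma homG_ext (n : ℕ) {T : E}
    (g1 g2 : T ⟶ G.obj (widePullback f.right (fun _ : Fin (n + 1) => f.left) fun _ => f.hom))
    (h : ∀ i, g1 ≫ G.map (WidePullback.π (fun _ : Fin (n + 1) => f.hom) i) =
      g2 ≫ G.map (WidePullback.π (fun _ : Fin (n + 1) => f.hom) i)) : g1 = g2 := by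
  apply (isLimitOfPreserves G (limit.isLimit
    (wideCospan f.right (fun _ : Fin (n + 1) => f.left) fun _ => f.hom))).hom_ext
  rintro (_ | i)
  · have := h 0
    have hb : WidePullback.base (fun _ : Fin (n + 1) => f.hom) =
      WidePullback.π (fun _ : Fin (n + 1) => f.hom) 0 ≫ f.hom := by simp
    change g1 ≫ G.map (WidePullback.base (fun _ : Fin (n + 1) => f.hom)) =
      g2 ≫ G.map (WidePullback.base (fun _ : Fin (n + 1) => f.hom))
    rw [hb, G.map_comp, reassoc_of% this]
  · exact h i

end lift

variable {I : E} (m : I ⟶ G.obj f.right) [Mono m] (e : G.obj f.left ⟶ I)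
  (hem : e ≫ m = G.map f.hom)

include hem in
lemma π_e_m (n : ℕ) (i : Fin (n + 1)) :
    (G.map (WidePullback.π (fun _ : Fin (n + 1) => f.hom) i) ≫ e) ≫ m =
      G.map (WidePullback.base (fun _ : Fin (n + 1) => f.hom)) := by
  rw [Category.assoc, hem, ← G.map_comp, WidePullback.π_arrow]

include hem in
lemma π_e_eq (n : ℕ) (i j : Fin (n + 1)) :
    G.map (WidePullback.π (fun _ : Fin (n + 1) => f.hom) i) ≫ e =
    G.map (WidePullback.π (fun _ : Fin (n + 1) => f.hom) j) ≫ e := by
  rw [← cancel_mono m, π_e_m f G m e hem, π_e_m f G m e hem]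

/-- The Čech nerve of `f` mapped by `G`, augmented towards the "image" `I` of `G f`. -/
@[simps]
noncomputable def augImage : SimplicialObject.Augmented E where
  left := f.cechNerve ⋙ G
  right := I
  hom :=
    { app := fun n => G.map (WidePullback.π (fun _ : Fin (n.unop.len + 1) => f.hom) 0) ≫ e
      naturality := fun n n' g => by
        dsimp
        rw [Category.comp_id, ← G.map_comp_assoc]
        simp only [WidePullback.lift_π]
        exact π_e_eq f G m e hem _ _ _ }

variable [∀ n : ℕ, PreservesLimit (wideCospan f.right (fun _ : Fin (n + 1) => f.left) fun _ => f.hom) G]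
  (σ : I ⟶ G.obj f.left) (hσ : σ ≫ e = 𝟙 I)

/-- the extra degeneracy maps -/
noncomputable def edS (n : ℕ) :
    G.obj (widePullback f.right (fun _ : Fin (n + 1) => f.left) fun _ => f.hom) ⟶
    G.obj (widePullback f.right (fun _ : Fin (n + 1 + 1) => f.left) fun _ => f.hom) :=
  liftG f G (n + 1) (G.map (WidePullback.base (fun _ : Fin (n + 1) => f.hom)))
    (Fin.cases ((G.map (WidePullback.π (fun _ : Fin (n + 1) => f.hom) 0) ≫ e) ≫ σ)
      (fun i => G.map (WidePullback.π (fun _ : Fin (n + 1) => f.hom) i)))
    (fun i => by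
      cases i using Fin.cases with
      | zero =>
        simp only [Fin.cases_zero, Category.assoc]
        rw [← hem, reassoc_of% hσ, hem, ← G.map_comp, WidePullback.π_arrow]
      | succ i =>
        simp only [Fin.cases_succ]
        rw [← G.map_comp, WidePullback.π_arrow])

include hσ in
@[reassoc (attr := simp)]
lemma edS_π_zero (n : ℕ) :
    edS f G m e hem σ hσ n ≫ G.map (WidePullback.π (fun _ : Fin (n + 1 + 1) => f.hom) 0) =
      (G.map (WidePullback.π (fun _ : Fin (n + 1) => f.hom) 0) ≫ e) ≫ σ := by
  simp [edS]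

include hσ in
@[reassoc (attr := simp)]
lemma edS_π_succ (n : ℕ) (i : Fin (n + 1)) :
    edS f G m e hem σ hσ n ≫ G.map (WidePullback.π (fun _ : Fin (n + 1 + 1) => f.hom) i.succ) =
      G.map (WidePullback.π (fun _ : Fin (n + 1) => f.hom) i) := by
  simp [edS]

include hem hσ in
lemma σ_comp_map : σ ≫ G.map f.hom = m := by rw [← hem, reassoc_of% hσ]

omit [Mono m] [∀ n : ℕ, PreservesLimit (wideCospan f.right (fun _ : Fin (n + 1) => f.left) fun _ => f.hom) G] in
lemma cech_map_π {n n' : ℕ} (g : ⦋n'⦌ ⟶ ⦋n⦌) (j : Fin (n' + 1)) :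
    f.cechNerve.map g.op ≫ WidePullback.π (fun _ : Fin (n' + 1) => f.hom) j =
      WidePullback.π (fun _ : Fin (n + 1) => f.hom) (g.toOrderHom j) :=
  WidePullback.lift_π ..

include hσ in
lemma ed_L1 :
    liftG f G 0 m (fun _ => σ) (fun _ => σ_comp_map f G m e hem σ hσ) ≫
      (G.map (WidePullback.π (fun _ : Fin (0 + 1) => f.hom) 0) ≫ e) = 𝟙 I := by
  rw [liftG_π_assoc, hσ]

include hσ in
lemma ed_L2 :
    edS f G m e hem σ hσ 0 ≫ G.map (f.cechNerve.δ 1) =
      (G.map (WidePullback.π (fun _ : Fin (0 + 1) => f.hom) 0) ≫ e) ≫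
      liftG f G 0 m (fun _ => σ) (fun _ => σ_comp_map f G m e hem σ hσ) := by
  apply homG_ext
  intro j
  fin_cases j
  rw [Category.assoc, Category.assoc, liftG_π, ← G.map_comp]
  erw [cech_map_π f (SimplexCategory.δ 1) 0]
  exact edS_π_zero f G m e hem σ hσ 0

include hσ in
lemma ed_L3 (n : ℕ) :
    edS f G m e hem σ hσ n ≫ G.map (f.cechNerve.δ 0) = 𝟙 _ := by
  apply homG_ext
  intro j
  rw [Category.assoc, Category.id_comp, ← G.map_comp]
  erw [cech_map_π f (SimplexCategory.δ 0) j]
  exact edS_π_succ f G m e hem σ hσ n j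

include hσ in
lemma ed_L4 (n : ℕ) (i : Fin (n + 2)) :
    edS f G m e hem σ hσ (n + 1) ≫ G.map (f.cechNerve.δ i.succ) =
      G.map (f.cechNerve.δ i) ≫ edS f G m e hem σ hσ n := by
  apply homG_ext
  intro j
  rw [Category.assoc, Category.assoc, ← G.map_comp]
  erw [cech_map_π f (SimplexCategory.δ i.succ) j]
  cases j using Fin.cases with
  | zero =>
    have : (SimplexCategory.δ i.succ).toOrderHom (0 : Fin (n + 1 + 1)) = 0 := by
      simp [SimplexCategory.δ]
    erw [this, edS_π_zero f G m e hem σ hσ (n + 1), edS_π_zero f G m e hem σ hσ n]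
    rw [← Category.assoc, ← Category.assoc]
    congr 1
    rw [Category.assoc, ← G.map_comp_assoc]
    erw [cech_map_π f (SimplexCategory.δ i) 0]
    exact π_e_eq f G m e hem _ _ _
  | succ j =>
    have : (SimplexCategory.δ i.succ).toOrderHom j.succ = ((SimplexCategory.δ i).toOrderHom j).succ := by
      simp [SimplexCategory.δ]
    erw [this, edS_π_succ f G m e hem σ hσ (n + 1), edS_π_succ f G m e hem σ hσ n, ← G.map_comp]
    erw [cech_map_π f (SimplexCategory.δ i) j]

include hσ in
lemma ed_L5 (n : ℕ) (i : Fin (n + 1)) :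
    edS f G m e hem σ hσ n ≫ G.map (f.cechNerve.σ i.succ) =
      G.map (f.cechNerve.σ i) ≫ edS f G m e hem σ hσ (n + 1) := by
  apply homG_ext
  intro j
  rw [Category.assoc, Category.assoc, ← G.map_comp]
  erw [cech_map_π f (SimplexCategory.σ i.succ) j]
  cases j using Fin.cases with
  | zero =>
    have : (SimplexCategory.σ i.succ).toOrderHom (0 : Fin (n + 1 + 1 + 1)) = 0 := by
      simp [SimplexCategory.σ]
    erw [this, edS_π_zero f G m e hem σ hσ n, edS_π_zero f G m e hem σ hσ (n + 1)]
    rw [← Category.assoc, ← Category.assoc]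
    congr 1
    rw [Category.assoc, ← G.map_comp_assoc]
    erw [cech_map_π f (SimplexCategory.σ i) 0]
    exact π_e_eq f G m e hem _ _ _
  | succ j =>
    have : (SimplexCategory.σ i.succ).toOrderHom j.succ = ((SimplexCategory.σ i).toOrderHom j).succ := by
      simp [SimplexCategory.σ]
    erw [this, edS_π_succ f G m e hem σ hσ n, edS_π_succ f G m e hem σ hσ (n + 1), ← G.map_comp]
    erw [cech_map_π f (SimplexCategory.σ i) j]

/-- extra degeneracy for `augImage` -/
noncomputable def augImageED :
    SimplicialObject.Augmented.ExtraDegeneracy (augImage f G m e hem) where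
  s' := liftG f G 0 m (fun _ => σ) (fun _ => σ_comp_map f G m e hem σ hσ)
  s n := edS f G m e hem σ hσ n
  s'_comp_ε := ed_L1 f G m e hem σ hσ
  s₀_comp_δ₁ := ed_L2 f G m e hem σ hσ
  s_comp_δ₀ n := ed_L3 f G m e hem σ hσ n
  s_comp_δ n i := ed_L4 f G m e hem σ hσ n i
  s_comp_σ n i := ed_L5 f G m e hem σ hσ n i

end ED



section CechNerveMap
open WidePullbackShape

variable {D : Type*} [Category D] {E : Type*} [Category E] (f : Arrow D)
  [∀ n : ℕ, HasWidePullback f.right (fun _ : Fin (n + 1) => f.left) fun _ => f.hom]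
  (G : D ⥤ E)
  [∀ n : ℕ, PreservesLimit (wideCospan f.right (fun _ : Fin (n + 1) => f.left) fun _ => f.hom) G]
  [hG : ∀ n : ℕ, HasWidePullback (Arrow.mk (G.map f.hom)).right
    (fun _ : Fin (n + 1) => (Arrow.mk (G.map f.hom)).left) fun _ => (Arrow.mk (G.map f.hom)).hom]

include hG in
lemma hasWidePullback_aux (n : ℕ) : HasWidePullback (G.obj f.right)
    (fun _ : Fin (n + 1) => G.obj f.left) fun _ => G.map f.hom := hG n

attribute [local instance] hasWidePullback_aux

/-- components of `cechNerveMapIso` -/
noncomputable def cechNerveMapIsoApp (n : ℕ) :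
    G.obj (widePullback f.right (fun _ : Fin (n + 1) => f.left) fun _ => f.hom) ≅
    widePullback (G.obj f.right)
      (fun _ : Fin (n + 1) => G.obj f.left) fun _ => G.map f.hom where
  hom := WidePullback.lift (G.map (WidePullback.base _)) (fun i => G.map (WidePullback.π _ i))
    (fun i => by
      rw [← G.map_comp, WidePullback.π_arrow])
  inv := liftG f G n (WidePullback.base _) (fun i => WidePullback.π _ i)
    (fun i => WidePullback.π_arrow _ i)
  hom_inv_id := by
    apply homG_ext
    intro i
    rw [Category.assoc, liftG_π, WidePullback.lift_π, Category.id_comp]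
  inv_hom_id := by
    apply WidePullback.hom_ext
    · intro i
      rw [Category.assoc, WidePullback.lift_π, liftG_π, Category.id_comp]
    · rw [Category.assoc, WidePullback.lift_base, liftG_base, Category.id_comp]

@[reassoc (attr := simp)]
lemma cechNerveMapIsoApp_hom_π (n : ℕ) (i : Fin (n + 1)) :
    (cechNerveMapIsoApp f G n).hom ≫ WidePullback.π _ i = G.map (WidePullback.π _ i) :=
  WidePullback.lift_π ..

@[reassoc (attr := simp)]
lemma cechNerveMapIsoApp_hom_base (n : ℕ) :
    (cechNerveMapIsoApp f G n).hom ≫ WidePullback.base _ = G.map (WidePullback.base _) :=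
  WidePullback.lift_base ..

/-- A functor preserving the relevant wide pullbacks commutes with Čech nerves. -/
noncomputable def cechNerveMapIso :
    f.cechNerve ⋙ G ≅ (Arrow.mk (G.map f.hom)).cechNerve :=
  NatIso.ofComponents (fun n => cechNerveMapIsoApp f G n.unop.len) (fun {n n'} g => by
    apply WidePullback.hom_ext
    · intro i
      dsimp
      rw [Category.assoc, Category.assoc, cechNerveMapIsoApp_hom_π, WidePullback.lift_π,
        cechNerveMapIsoApp_hom_π, ← G.map_comp, WidePullback.lift_π]
    · dsimp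
      rw [Category.assoc, Category.assoc, cechNerveMapIsoApp_hom_base, WidePullback.lift_base,
        cechNerveMapIsoApp_hom_base, ← G.map_comp, WidePullback.lift_base])

@[reassoc]
lemma cechNerveMapIso_hom_app_base (n : SimplexCategoryᵒᵖ) :
    (cechNerveMapIso f G).hom.app n ≫ WidePullback.base _ = G.map (WidePullback.base _) :=
  cechNerveMapIsoApp_hom_base f G n.unop.len

end CechNerveMap

section Sheaf

variable {C : Type u} [SmallCategory C] (J : GrothendieckTopology C) {K' K : Sheaf J (Type u)}
  (f : K' ⟶ K)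

/-- the presheaf-level augmented Čech nerve, augmented to the presheaf image -/
noncomputable def augP : SimplicialObject.Augmented (Cᵒᵖ ⥤ Type u) :=
  augImage (Arrow.mk f) (sheafToPresheaf J (Type u))
    (Subfunctor.range ((sheafToPresheaf J (Type u)).map f)).ι
    (Subfunctor.toRange ((sheafToPresheaf J (Type u)).map f))
    (Subfunctor.toRange_ι _)

/-- evaluated version -/
noncomputable def augU (U : Cᵒᵖ) : SimplicialObject.Augmented (Type u) :=
  augImage (Arrow.mk f) (sheafToPresheaf J (Type u) ⋙ (evaluation Cᵒᵖ (Type u)).obj U)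
    ((Subfunctor.range ((sheafToPresheaf J (Type u)).map f)).ι.app U)
    ((Subfunctor.toRange ((sheafToPresheaf J (Type u)).map f)).app U)
    (by rw [← NatTrans.comp_app, Subfunctor.toRange_ι]; rfl)

lemma exists_section_toRange (U : Cᵒᵖ) :
    ∃ σ : (Subfunctor.range ((sheafToPresheaf J (Type u)).map f)).toFunctor.obj U ⟶
        ((sheafToPresheaf J (Type u)).obj K').obj U,
      σ ≫ (Subfunctor.toRange ((sheafToPresheaf J (Type u)).map f)).app U = 𝟙 _ := by
  have h : ∀ x : (Subfunctor.range ((sheafToPresheaf J (Type u)).map f)).toFunctor.obj U,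
      ∃ y : ((sheafToPresheaf J (Type u)).obj K').obj U,
        (Subfunctor.toRange ((sheafToPresheaf J (Type u)).map f)).app U y = x := by
    intro x
    obtain ⟨y, hy⟩ := x.2
    exact ⟨y, Subtype.ext hy⟩
  choose s hs using h
  refine ⟨TypeCat.ofHom s, ?_⟩
  ext x
  exact hs x

/-- extra degeneracy of the evaluated augmented object -/
noncomputable def augUED (U : Cᵒᵖ) : SimplicialObject.Augmented.ExtraDegeneracy (augU J f U) :=
  augImageED (Arrow.mk f) (sheafToPresheaf J (Type u) ⋙ (evaluation Cᵒᵖ (Type u)).obj U)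
    ((Subfunctor.range ((sheafToPresheaf J (Type u)).map f)).ι.app U)
    ((Subfunctor.toRange ((sheafToPresheaf J (Type u)).map f)).app U)
    (by rw [← NatTrans.comp_app, Subfunctor.toRange_ι]; rfl)
    (exists_section_toRange J f U).choose (exists_section_toRange J f U).choose_spec

/-- the free abelian presheaf version -/
noncomputable def augPfree : SimplicialObject.Augmented (Cᵒᵖ ⥤ AddCommGrpCat.{u}) :=
  ((SimplicialObject.Augmented.whiskering _ _).obj
    ((Functor.whiskeringRight Cᵒᵖ (Type u) AddCommGrpCat.{u}).obj AddCommGrpCat.free)).obj (augP J f)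

noncomputable def augPfreeEvalIso (U : Cᵒᵖ) :
    ((SimplicialObject.Augmented.whiskering _ _).obj AddCommGrpCat.free.{u}).obj (augU J f U) ≅
    ((SimplicialObject.Augmented.whiskering _ _).obj ((evaluation Cᵒᵖ AddCommGrpCat.{u}).obj U)).obj
      (augPfree J f) :=
  Iso.refl _

lemma quasiIso_ε_augPfree : QuasiIso (AlternatingFaceMapComplex.ε.app (augPfree J f)) := by
  rw [HomologicalComplex.quasiIso_iff_evaluation]
  intro U
  rw [← quasiIso_ε_whiskering_iff]
  exact quasiIso_ε_of_extraDegeneracy
    (SimplicialObject.Augmented.ExtraDegeneracy.ofIso (augPfreeEvalIso J f U)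
      ((augUED J f U).map AddCommGrpCat.free))

lemma quasiIso_ε_sheafify_augPfree :
    QuasiIso (AlternatingFaceMapComplex.ε.app
      (((SimplicialObject.Augmented.whiskering _ _).obj (presheafToSheaf J AddCommGrpCat.{u})).obj
        (augPfree J f))) := by
  rw [quasiIso_ε_whiskering_iff]
  have := quasiIso_ε_augPfree J f
  infer_instance

lemma isIso_sheafify_free_range_ι [Epi f] :
    IsIso ((presheafToSheaf J AddCommGrpCat.{u}).map
      (((Functor.whiskeringRight Cᵒᵖ (Type u) AddCommGrpCat.{u}).obj AddCommGrpCat.free).map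
        (Subfunctor.range ((sheafToPresheaf J (Type u)).map f)).ι)) := by
  have h1 : Sheaf.IsLocallySurjective f := (Sheaf.isLocallySurjective_iff_epi f).2 inferInstance
  have h2 : Presheaf.IsLocallySurjective J ((sheafToPresheaf J (Type u)).map f) := h1
  have h3 : Presheaf.IsLocallySurjective J (Subfunctor.range ((sheafToPresheaf J (Type u)).map f)).ι :=
    Presheaf.isLocallySurjective_of_isLocallySurjective_fac J
      (Subfunctor.toRange_ι ((sheafToPresheaf J (Type u)).map f))
  have h4 : Presheaf.IsLocallyInjective J (Subfunctor.range ((sheafToPresheaf J (Type u)).map f)).ι :=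
    Presheaf.isLocallyInjective_of_injective J _ (fun X => by
      intro a b hab
      exact Subtype.ext hab)
  have h5 : J.W (Subfunctor.range ((sheafToPresheaf J (Type u)).map f)).ι :=
    J.W_of_isLocallyBijective _
  have h6 := J.W_of_preservesSheafification AddCommGrpCat.free.{u} _ h5
  rw [J.W_iff] at h6
  exact h6

/-- the augmentation map of `augP`, with clean types -/
noncomputable def bP (n : SimplexCategoryᵒᵖ) :
    (sheafToPresheaf J (Type u)).obj ((Arrow.mk f).cechNerve.obj n) ⟶
      (Subfunctor.range ((sheafToPresheaf J (Type u)).map f)).toFunctor :=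
  (augP J f).hom.app n

lemma bP_ι (n : SimplexCategoryᵒᵖ) :
    bP J f n ≫ (Subfunctor.range ((sheafToPresheaf J (Type u)).map f)).ι =
      (sheafToPresheaf J (Type u)).map ((Arrow.mk f).augmentedCechNerve.hom.app n) :=
  π_e_m (Arrow.mk f) (sheafToPresheaf J (Type u)) _ _ (Subfunctor.toRange_ι _) _ 0

lemma compare_w (n : SimplexCategoryᵒᵖ) :
    (Sheaf.composeAndSheafify J AddCommGrpCat.free.{u}).map
      ((Arrow.mk f).augmentedCechNerve.hom.app n) =
    (presheafToSheaf J AddCommGrpCat.{u}).map
      (Functor.whiskerRight (bP J f n) AddCommGrpCat.free) ≫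
     (presheafToSheaf J AddCommGrpCat.{u}).map
      (Functor.whiskerRight (Subfunctor.range ((sheafToPresheaf J (Type u)).map f)).ι
        AddCommGrpCat.free) := by
  rw [← Functor.map_comp, ← Functor.whiskerRight_comp, bP_ι]
  rfl

/-- comparison iso with the sheaf-level augmented Čech nerve -/
noncomputable def augCompareIso [Epi f] :
    ((SimplicialObject.Augmented.whiskering _ _).obj (presheafToSheaf J AddCommGrpCat.{u})).obj
        (augPfree J f) ≅
    ((SimplicialObject.Augmented.whiskering _ _).obj
        (Sheaf.composeAndSheafify J AddCommGrpCat.free.{u})).obj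
        (Arrow.mk f).augmentedCechNerve :=
  Comma.isoMk (Iso.refl _)
    (@asIso _ _ _ _ ((presheafToSheaf J AddCommGrpCat.{u}).map
      (((Functor.whiskeringRight Cᵒᵖ (Type u) AddCommGrpCat.{u}).obj AddCommGrpCat.free).map
        (Subfunctor.range ((sheafToPresheaf J (Type u)).map f)).ι)) (isIso_sheafify_free_range_ι J f))
    (by
      apply NatTrans.ext
      funext n
      refine (Category.id_comp _).trans ?_
      refine (Category.comp_id _).trans ?_
      refine (compare_w J f n).trans ?_
      refine congrArg (· ≫ _) ?_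
      exact ((Category.comp_id _).trans (congrArg _ (Category.comp_id _))).symm)

theorem quasiIso_free_cechNerve [Epi f] :
    QuasiIso ((AlgebraicTopology.AlternatingFaceMapComplex.ε (C := Sheaf J AddCommGrpCat.{u})).app
      (((SimplicialObject.Augmented.whiskering _ _).obj
        (Sheaf.composeAndSheafify J AddCommGrpCat.free.{u})).obj
        (Arrow.mk f).augmentedCechNerve)) :=
  quasiIso_ε_of_iso (augCompareIso J f) (quasiIso_ε_sheafify_augPfree J f)

end Sheaf

end Groth.Agent.Lib.Helper5.CechRes
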