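import Mathlib.CategoryTheory.Monoidal.Cartesian.Grp
import Mathlib.CategoryTheory.Monoidal.Grp
import Mathlib.CategoryTheory.EquivalenceRelation
import Mathlib.CategoryTheory.Limits.Shapes.KernelPair
import Mathlib.CategoryTheory.Limits.Shapes.Equalizers
import Mathlib.CategoryTheory.EffectiveEpi.Basic
import Mathlib.Tactic.Group

/-!
# Quotient of a group object by a subgroup object: generalities in a cartesian monoidal category
-/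

set_option autoImplicit false
open CategoryTheory Limits MonoidalCategory CartesianMonoidalCategory MonObj
  SemiCartesianMonoidalCategory

namespace Groth.Agent.Lib.Helper5.GrpQuot

universe v u
variable {𝒮 : Type u} [Category.{v} 𝒮] [CartesianMonoidalCategory 𝒮]

section Whisker

lemma isPullback_whiskerLeft (X : 𝒮) {A B : 𝒮} (f : A ⟶ B) :
    IsPullback (X ◁ f) (snd X A) (snd X B) f := by
  refine ⟨⟨by simp⟩, ⟨PullbackCone.IsLimit.mk _ (fun s => lift (s.fst ≫ fst _ _) s.snd) ?_ ?_ ?_⟩⟩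
  · intro s
    apply CartesianMonoidalCategory.hom_ext
    · simp
    · simp [s.condition]
  · intro s
    simp
  · intro s m h1 h2
    apply CartesianMonoidalCategory.hom_ext
    · simp [← h1]
    · simp [← h2]

lemma isPullback_whiskerRight {A B : 𝒮} (f : A ⟶ B) (X : 𝒮) :
    IsPullback (f ▷ X) (fst A X) (fst B X) f := by
  refine ⟨⟨by simp⟩, ⟨PullbackCone.IsLimit.mk _ (fun s => lift s.snd (s.fst ≫ snd _ _)) ?_ ?_ ?_⟩⟩
  · intro s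
    apply CartesianMonoidalCategory.hom_ext
    · simp [s.condition]
    · simp
  · intro s
    simp
  · intro s m h1 h2
    apply CartesianMonoidalCategory.hom_ext
    · simp [← h2]
    · simp [← h1]

end Whisker

section P2
variable {G H : 𝒮} [MonObj G] (u : H ⟶ G)

/-- second projection of the relation `G ⊗ H ⇉ G` defined by right multiplication. -/
def p₂ : G ⊗ H ⟶ G := (G ◁ u) ≫ μ

lemma p₂_eq : p₂ u = fst G H * (snd G H ≫ u) := by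
  rw [p₂, Hom.mul_def]
  congr 1
  apply CartesianMonoidalCategory.hom_ext <;> simp

lemma comp_p₂ {Y : 𝒮} (f : Y ⟶ G ⊗ H) : f ≫ p₂ u = (f ≫ fst _ _) * (f ≫ snd _ _ ≫ u) := by
  rw [p₂_eq, MonObj.comp_mul]

lemma lift_p₂ {Y : 𝒮} (g : Y ⟶ G) (h : Y ⟶ H) : lift g h ≫ p₂ u = g * (h ≫ u) := by
  rw [comp_p₂]; simp

end P2

section Rel
variable {G H : 𝒮} [GrpObj G] [GrpObj H] (u : H ⟶ G)

variable [Mono u] [IsMonHom u]

lemma jointlyMono : JointlyMono₂ (fst G H) (p₂ u) where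
  right_cancellation Y f g h₁ h₂ := by
    rw [comp_p₂, comp_p₂, h₁] at h₂
    have h3 : f ≫ snd _ _ ≫ u = g ≫ snd _ _ ≫ u := mul_left_cancel h₂
    apply CartesianMonoidalCategory.hom_ext _ _ h₁
    rw [← cancel_mono u]
    simpa using h3

variable [HasPullback (p₂ u) (fst G H)]

/-- The relation `(fst, p₂)` is an equivalence relation. -/
noncomputable def eqRel : EquivalenceRelation (fst G H) (p₂ u) where
  toJointlyMono₂ := jointlyMono u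
  r := lift (𝟙 G) 1
  reflexivity₁ := by simp
  reflexivity₂ := by
    rw [lift_p₂, MonObj.one_comp, _root_.mul_one]
  s := lift (p₂ u) (snd G H)⁻¹
  symmetry₁ := by simp
  symmetry₂ := by
    rw [lift_p₂, p₂_eq, GrpObj.inv_comp, _root_.mul_assoc, mul_inv_cancel, _root_.mul_one]
  c := pullback.cone (p₂ u) (fst G H)
  isLimit := pullback.isLimit (p₂ u) (fst G H)
  t := lift (pullback.fst (p₂ u) (fst G H) ≫ fst _ _)
    ((pullback.fst (p₂ u) (fst G H) ≫ snd _ _) * (pullback.snd (p₂ u) (fst G H) ≫ snd _ _))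
  transitivity₁ := by simp
  transitivity₂ := by
    have hc : pullback.fst (p₂ u) (fst G H) ≫ p₂ u = pullback.snd (p₂ u) (fst G H) ≫ fst G H :=
      pullback.condition
    rw [comp_p₂] at hc
    change _ = pullback.snd (p₂ u) (fst G H) ≫ p₂ u
    rw [lift_p₂, comp_p₂, MonObj.mul_comp, ← _root_.mul_assoc]
    simp only [Category.assoc] at hc ⊢
    rw [hc]

end Rel

/-- Exactness properties of the ambient category used for quotients of group objects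
(they hold in any topos, in particular for sheaves of types). -/
structure Exact (𝒮 : Type u) [Category.{v} 𝒮] : Prop where
  kp : ∀ {R X : 𝒮} {p₁ p₂ : R ⟶ X} (_ : EquivalenceRelation p₁ p₂) [HasCoequalizer p₁ p₂],
    IsKernelPair (coequalizer.π p₁ p₂) p₁ p₂
  epi_pullback : ∀ {X Y X' Y' : 𝒮} {f : X ⟶ Y} {f' : X' ⟶ Y'} {i₁ : X' ⟶ X} {i₂ : Y' ⟶ Y},
    IsPullback f' i₁ i₂ f → Epi f → Epi f'
  eff : ∀ {X Y : 𝒮} (f : X ⟶ Y), Epi f → EffectiveEpi f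

section Epi
variable (hE : Exact 𝒮)
include hE

lemma epi_whiskerLeft (X : 𝒮) {A B : 𝒮} (f : A ⟶ B) [Epi f] : Epi (X ◁ f) :=
  hE.epi_pullback (isPullback_whiskerLeft X f) inferInstance

lemma epi_whiskerRight {A B : 𝒮} (f : A ⟶ B) [Epi f] (X : 𝒮) : Epi (f ▷ X) :=
  hE.epi_pullback (isPullback_whiskerRight f X) inferInstance

lemma epi_tensorHom {A B A' B' : 𝒮} (f : A ⟶ B) (g : A' ⟶ B') [Epi f] [Epi g] :
    Epi (f ⊗ₘ g) := by
  rw [tensorHom_def]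
  haveI := epi_whiskerRight hE f A'
  haveI := epi_whiskerLeft hE B g
  infer_instance

end Epi

section Quot
variable (hE : Exact 𝒮) {G H : 𝒮} [GrpObj G] [GrpObj H] (u : H ⟶ G) [Mono u] [IsMonHom u]
  [HasPullback (p₂ u) (fst G H)] [HasCoequalizer (fst G H) ((G ◁ u) ≫ μ)]

include hE in
lemma kp : IsKernelPair (coequalizer.π (fst G H) ((G ◁ u) ≫ μ)) (fst G H) ((G ◁ u) ≫ μ) :=
  hE.kp (p₂ := (G ◁ u) ≫ μ) (eqRel u)

omit [Mono u] [IsMonHom u] [HasPullback (p₂ u) (fst G H)] in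
lemma π_eq_of_eq_mul {Y : 𝒮} (a : Y ⟶ G) (h : Y ⟶ H) :
    (a * (h ≫ u)) ≫ coequalizer.π (fst G H) ((G ◁ u) ≫ μ) =
      a ≫ coequalizer.π (fst G H) ((G ◁ u) ≫ μ) := by
  have h1 : lift a h ≫ ((G ◁ u) ≫ μ) = a * (h ≫ u) := lift_p₂ u a h
  rw [← h1, Category.assoc, ← coequalizer.condition, lift_fst_assoc]

include hE in
lemma π_eq_iff {Y : 𝒮} (a b : Y ⟶ G) :
    a ≫ coequalizer.π (fst G H) ((G ◁ u) ≫ μ) = b ≫ coequalizer.π (fst G H) ((G ◁ u) ≫ μ) ↔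
      ∃ h : Y ⟶ H, b = a * (h ≫ u) := by
  constructor
  · intro hab
    refine ⟨(kp hE u).lift a b hab ≫ snd _ _, ?_⟩
    have h1 : (kp hE u).lift a b hab ≫ fst G H = a := (kp hE u).lift_fst _ _ _
    have h2 : (kp hE u).lift a b hab ≫ p₂ u = b := (kp hE u).lift_snd _ _ _
    rw [comp_p₂, h1] at h2
    rw [Category.assoc]
    exact h2.symm
  · rintro ⟨h, rfl⟩
    exact (π_eq_of_eq_mul u a h).symm

end Quot

section SecondIso
variable (hE : Exact 𝒮) {H L G : 𝒮} [GrpObj H] [GrpObj L] [GrpObj G] (u : H ⟶ G) (l : L ⟶ G)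
  [Mono u] [Mono l] [IsMonHom u] [IsMonHom l] [HasPullback u l]
  [HasPullback (p₂ u) (fst G H)] [HasCoequalizer (fst G H) ((G ◁ u) ≫ μ)]

include hE in
theorem secondIso :
    IsKernelPair (l ≫ coequalizer.π (fst G H) ((G ◁ u) ≫ μ))
      (fst L (pullback u l)) ((L ◁ pullback.snd u l) ≫ μ) := by
  have hw : fst L (pullback u l) ≫ l ≫ coequalizer.π (fst G H) ((G ◁ u) ≫ μ) =
      ((L ◁ pullback.snd u l) ≫ μ) ≫ l ≫ coequalizer.π (fst G H) ((G ◁ u) ≫ μ) := by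
    have h1 : ((L ◁ pullback.snd u l) ≫ μ) ≫ l =
        (fst L (pullback u l) ≫ l) * ((snd L (pullback u l) ≫ pullback.fst u l) ≫ u) := by
      change p₂ (pullback.snd u l) ≫ l = _
      rw [p₂_eq, MonObj.mul_comp, Category.assoc, Category.assoc, pullback.condition]
    calc fst L (pullback u l) ≫ l ≫ coequalizer.π (fst G H) ((G ◁ u) ≫ μ)
        = (fst L (pullback u l) ≫ l) ≫ coequalizer.π (fst G H) ((G ◁ u) ≫ μ) :=
          (Category.assoc _ _ _).symm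
      _ = ((fst L (pullback u l) ≫ l) * ((snd L (pullback u l) ≫ pullback.fst u l) ≫ u)) ≫
          coequalizer.π (fst G H) ((G ◁ u) ≫ μ) := (π_eq_of_eq_mul u _ _).symm
      _ = (((L ◁ pullback.snd u l) ≫ μ) ≫ l) ≫ coequalizer.π (fst G H) ((G ◁ u) ≫ μ) := by
          rw [h1]
      _ = _ := Category.assoc _ _ _
  have key : ∀ {Y : 𝒮} (a b : Y ⟶ L)
      (hab : a ≫ l ≫ coequalizer.π (fst G H) ((G ◁ u) ≫ μ) =
        b ≫ l ≫ coequalizer.π (fst G H) ((G ◁ u) ≫ μ)),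
      ((kp hE u).lift (a ≫ l) (b ≫ l) (by simpa using hab) ≫ snd G H) ≫ u = (a⁻¹ * b) ≫ l := by
    intro Y a b hab
    have h1 : (kp hE u).lift (a ≫ l) (b ≫ l) (by simpa using hab) ≫ fst G H = a ≫ l :=
      (kp hE u).lift_fst _ _ _
    have h2 : (kp hE u).lift (a ≫ l) (b ≫ l) (by simpa using hab) ≫ p₂ u = b ≫ l :=
      (kp hE u).lift_snd _ _ _
    rw [comp_p₂, h1] at h2
    rw [MonObj.mul_comp, GrpObj.inv_comp, Category.assoc]
    exact eq_inv_mul_of_mul_eq h2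
  refine ⟨⟨hw⟩, ⟨PullbackCone.IsLimit.mk _
    (fun s => lift s.fst (pullback.lift
      ((kp hE u).lift (s.fst ≫ l) (s.snd ≫ l) (by simpa using s.condition) ≫ snd G H)
      (s.fst⁻¹ * s.snd) (key s.fst s.snd (by simpa using s.condition)))) ?_ ?_ ?_⟩⟩
  · intro s
    simp
  · intro s
    change _ ≫ p₂ (pullback.snd u l) = _
    rw [lift_p₂, pullback.lift_snd, mul_inv_cancel_left]
  · intro s m h1 h2
    change m ≫ p₂ (pullback.snd u l) = _ at h2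
    rw [comp_p₂, h1] at h2
    apply CartesianMonoidalCategory.hom_ext
    · simpa using h1
    · rw [lift_snd, ← cancel_mono (pullback.snd u l), pullback.lift_snd, Category.assoc]
      rw [← h2, inv_mul_cancel_left]

end SecondIso

section DescGrp

/-- A group structure descends along an epimorphism all of whose tensor powers are epi. -/
@[reducible] def descGrp {G Q : 𝒮} [GrpObj G] (π : G ⟶ Q) [Epi π]
    (_ : Epi ((π ⊗ₘ π) ⊗ₘ π)) (_ : Epi (𝟙_ 𝒮 ◁ π)) (_ : Epi (π ▷ 𝟙_ 𝒮))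
    (m' : Q ⊗ Q ⟶ Q) (hm : (π ⊗ₘ π) ≫ m' = μ ≫ π) (i' : Q ⟶ Q) (hi : π ≫ i' = ι ≫ π) :
    GrpObj Q where
  one := η ≫ π
  mul := m'
  one_mul := by
    rw [← cancel_epi (𝟙_ 𝒮 ◁ π), leftUnitor_naturality, comp_whiskerRight, Category.assoc,
      whisker_exchange_assoc, ← tensorHom_def'_assoc, hm, MonObj.one_mul_assoc]
  mul_one := by
    rw [← cancel_epi (π ▷ 𝟙_ 𝒮), rightUnitor_naturality, MonoidalCategory.whiskerLeft_comp,
      Category.assoc, ← whisker_exchange_assoc, ← tensorHom_def_assoc, hm, MonObj.mul_one_assoc]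
  mul_assoc := by
    rw [← cancel_epi ((π ⊗ₘ π) ⊗ₘ π)]
    have e1 : ((π ⊗ₘ π) ⊗ₘ π) ≫ (m' ▷ Q) = (μ ▷ G) ≫ (π ⊗ₘ π) := by
      rw [← tensorHom_id, tensorHom_comp_tensorHom, hm, Category.comp_id, ← tensorHom_id,
        tensorHom_comp_tensorHom, Category.id_comp]
    have e2 : (π ⊗ₘ (π ⊗ₘ π)) ≫ (Q ◁ m') = (G ◁ μ) ≫ (π ⊗ₘ π) := by
      rw [← id_tensorHom, tensorHom_comp_tensorHom, hm, Category.comp_id, ← id_tensorHom,
        tensorHom_comp_tensorHom, Category.id_comp]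
    rw [reassoc_of% e1, hm, associator_naturality_assoc, reassoc_of% e2, hm,
      MonObj.mul_assoc_assoc]
  inv := i'
  left_inv := by
    rw [← cancel_epi π]
    have e1 : π ≫ lift i' (𝟙 Q) = lift ι (𝟙 G) ≫ (π ⊗ₘ π) := by
      apply CartesianMonoidalCategory.hom_ext <;> simp [hi]
    rw [reassoc_of% e1, hm, GrpObj.left_inv_assoc, comp_toUnit_assoc]
  right_inv := by
    rw [← cancel_epi π]
    have e1 : π ≫ lift (𝟙 Q) i' = lift (𝟙 G) ι ≫ (π ⊗ₘ π) := by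
      apply CartesianMonoidalCategory.hom_ext <;> simp [hi]
    rw [reassoc_of% e1, hm, GrpObj.right_inv_assoc, comp_toUnit_assoc]

end DescGrp

section Descend
variable (hE : Exact 𝒮) {G H : 𝒮} [GrpObj G] [GrpObj H] (u : H ⟶ G) [Mono u] [IsMonHom u]
  [HasPullback (p₂ u) (fst G H)] [HasCoequalizer (fst G H) ((G ◁ u) ≫ μ)]

omit [CartesianMonoidalCategory 𝒮] in
lemma comp_mul_eq [CartesianMonoidalCategory 𝒮] {G : 𝒮} [MonObj G] {Y : 𝒮} (g : Y ⟶ G ⊗ G) :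
    g ≫ μ = (g ≫ fst _ _) * (g ≫ snd _ _) := by
  rw [MonObj.mul_eq_mul, MonObj.comp_mul]

include hE in
lemma act_wd {Z : 𝒮} (g₁ g₂ : Z ⟶ G ⊗ G)
    (h : g₁ ≫ (G ◁ coequalizer.π (fst G H) ((G ◁ u) ≫ μ)) =
      g₂ ≫ (G ◁ coequalizer.π (fst G H) ((G ◁ u) ≫ μ))) :
    g₁ ≫ μ ≫ coequalizer.π (fst G H) ((G ◁ u) ≫ μ) =
      g₂ ≫ μ ≫ coequalizer.π (fst G H) ((G ◁ u) ≫ μ) := by
  have h1 : g₁ ≫ fst _ _ = g₂ ≫ fst _ _ := by simpa using congrArg (· ≫ fst _ _) h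
  have h2 : (g₁ ≫ snd _ _) ≫ coequalizer.π (fst G H) ((G ◁ u) ≫ μ) =
      (g₂ ≫ snd _ _) ≫ coequalizer.π (fst G H) ((G ◁ u) ≫ μ) := by
    simpa using congrArg (· ≫ snd _ _) h
  obtain ⟨h', hh'⟩ := (π_eq_iff hE u _ _).1 h2
  have e2 : g₂ ≫ μ = (g₁ ≫ μ) * (h' ≫ u) := by
    rw [comp_mul_eq g₂, comp_mul_eq g₁, hh', ← h1, _root_.mul_assoc]
  rw [← Category.assoc, ← Category.assoc, e2, π_eq_of_eq_mul]

include hE in
theorem existsUnique_act :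
    ∃! act : G ⊗ coequalizer (fst G H) ((G ◁ u) ≫ μ) ⟶ coequalizer (fst G H) ((G ◁ u) ≫ μ),
      (η ▷ coequalizer (fst G H) ((G ◁ u) ≫ μ)) ≫ act =
          (λ_ (coequalizer (fst G H) ((G ◁ u) ≫ μ))).hom ∧
        (μ ▷ coequalizer (fst G H) ((G ◁ u) ≫ μ)) ≫ act =
          (α_ G G (coequalizer (fst G H) ((G ◁ u) ≫ μ))).hom ≫ (G ◁ act) ≫ act ∧
        μ ≫ coequalizer.π (fst G H) ((G ◁ u) ≫ μ) =
          (G ◁ coequalizer.π (fst G H) ((G ◁ u) ≫ μ)) ≫ act := by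
  obtain ⟨π, hπ⟩ : ∃ π, π = coequalizer.π (fst G H) ((G ◁ u) ≫ μ) := ⟨_, rfl⟩
  haveI : Epi π := by rw [hπ]; infer_instance
  haveI e1 := epi_whiskerLeft hE G π
  haveI e2 := epi_whiskerLeft hE (𝟙_ 𝒮) π
  haveI e3 := epi_whiskerLeft hE (G ⊗ G) π
  haveI := hE.eff (G ◁ π) e1
  have hwd : ∀ {Z : 𝒮} (g₁ g₂ : Z ⟶ G ⊗ G), g₁ ≫ (G ◁ π) = g₂ ≫ (G ◁ π) →
      g₁ ≫ μ ≫ π = g₂ ≫ μ ≫ π := by
    subst hπ
    exact fun g₁ g₂ h => act_wd hE u g₁ g₂ h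
  obtain ⟨act, hact⟩ : ∃ act, (G ◁ π) ≫ act = μ ≫ π :=
    ⟨EffectiveEpi.desc (G ◁ π) (μ ≫ π) hwd, EffectiveEpi.fac _ _ _⟩
  rw [← hπ]
  refine ⟨act, ⟨?_, ?_, hact.symm⟩, ?_⟩
  · rw [← cancel_epi (𝟙_ 𝒮 ◁ π), leftUnitor_naturality, whisker_exchange_assoc, hact,
      MonObj.one_mul_assoc]
  · rw [← cancel_epi ((G ⊗ G) ◁ π), whisker_exchange_assoc, hact, associator_naturality_right_assoc,
      ← MonoidalCategory.whiskerLeft_comp_assoc, hact, MonoidalCategory.whiskerLeft_comp_assoc,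
      hact, MonObj.mul_assoc_assoc]
  · rintro act' ⟨-, -, h3⟩
    rw [← cancel_epi (G ◁ π), ← h3, hact]

end Descend

section Normal
variable (hE : Exact 𝒮) {G H : 𝒮} [GrpObj G] [GrpObj H] (u : H ⟶ G) [Mono u] [IsMonHom u]
  [HasPullback (p₂ u) (fst G H)] [HasCoequalizer (fst G H) ((G ◁ u) ≫ μ)]
  (hn : ∀ (Y : 𝒮) (g : Y ⟶ G) (h : Y ⟶ H), ∃ h' : Y ⟶ H, g * (h ≫ u) * g⁻¹ = h' ≫ u)

include hE hn in
lemma mul_wd {Z : 𝒮} (g₁ g₂ : Z ⟶ G ⊗ G)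
    (h : g₁ ≫ (coequalizer.π (fst G H) ((G ◁ u) ≫ μ) ⊗ₘ coequalizer.π (fst G H) ((G ◁ u) ≫ μ)) =
      g₂ ≫ (coequalizer.π (fst G H) ((G ◁ u) ≫ μ) ⊗ₘ coequalizer.π (fst G H) ((G ◁ u) ≫ μ))) :
    g₁ ≫ μ ≫ coequalizer.π (fst G H) ((G ◁ u) ≫ μ) =
      g₂ ≫ μ ≫ coequalizer.π (fst G H) ((G ◁ u) ≫ μ) := by
  have h1 : (g₁ ≫ fst _ _) ≫ coequalizer.π (fst G H) ((G ◁ u) ≫ μ) =
      (g₂ ≫ fst _ _) ≫ coequalizer.π (fst G H) ((G ◁ u) ≫ μ) := by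
    simpa using congrArg (· ≫ fst _ _) h
  have h2 : (g₁ ≫ snd _ _) ≫ coequalizer.π (fst G H) ((G ◁ u) ≫ μ) =
      (g₂ ≫ snd _ _) ≫ coequalizer.π (fst G H) ((G ◁ u) ≫ μ) := by
    simpa using congrArg (· ≫ snd _ _) h
  obtain ⟨k₁, hk₁⟩ := (π_eq_iff hE u _ _).1 h1
  obtain ⟨k₂, hk₂⟩ := (π_eq_iff hE u _ _).1 h2
  obtain ⟨k', hk'⟩ := hn Z (g₁ ≫ snd _ _)⁻¹ k₁
  have e2 : g₂ ≫ μ = (g₁ ≫ μ) * ((k' * k₂) ≫ u) := by
    rw [comp_mul_eq g₂, comp_mul_eq g₁, hk₁, hk₂, MonObj.mul_comp, ← hk']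
    group
  rw [← Category.assoc, ← Category.assoc, e2, π_eq_of_eq_mul]

include hE hn in
lemma inv_wd {Z : 𝒮} (g₁ g₂ : Z ⟶ G)
    (h : g₁ ≫ coequalizer.π (fst G H) ((G ◁ u) ≫ μ) =
      g₂ ≫ coequalizer.π (fst G H) ((G ◁ u) ≫ μ)) :
    g₁ ≫ ι ≫ coequalizer.π (fst G H) ((G ◁ u) ≫ μ) =
      g₂ ≫ ι ≫ coequalizer.π (fst G H) ((G ◁ u) ≫ μ) := by
  obtain ⟨k, hk⟩ := (π_eq_iff hE u _ _).1 h
  obtain ⟨k', hk'⟩ := hn Z g₁ k⁻¹
  have e2 : g₂ ≫ ι = (g₁ ≫ ι) * (k' ≫ u) := by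
    rw [← Hom.inv_def, ← Hom.inv_def, hk, ← hk', GrpObj.inv_comp]
    group
  rw [← Category.assoc, ← Category.assoc, e2, π_eq_of_eq_mul]

include hE hn in
theorem existsUnique_grp :
    ∃! str : GrpObj (coequalizer (fst G H) ((G ◁ u) ≫ μ)),
      @IsMonHom 𝒮 _ _ G (coequalizer (fst G H) ((G ◁ u) ≫ μ)) _ str.toMonObj
        (coequalizer.π (fst G H) ((G ◁ u) ≫ μ)) := by
  obtain ⟨π, hπ⟩ : ∃ π, π = coequalizer.π (fst G H) ((G ◁ u) ≫ μ) := ⟨_, rfl⟩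
  haveI : Epi π := by rw [hπ]; infer_instance
  have e2 : Epi (π ⊗ₘ π) := epi_tensorHom hE π π
  have e3 : Epi ((π ⊗ₘ π) ⊗ₘ π) := @epi_tensorHom _ _ _ hE _ _ _ _ (π ⊗ₘ π) π e2 _
  haveI := hE.eff (π ⊗ₘ π) e2
  haveI := hE.eff π inferInstance
  have hmwd : ∀ {Z : 𝒮} (g₁ g₂ : Z ⟶ G ⊗ G), g₁ ≫ (π ⊗ₘ π) = g₂ ≫ (π ⊗ₘ π) →
      g₁ ≫ μ ≫ π = g₂ ≫ μ ≫ π := by
    subst hπ
    exact fun g₁ g₂ h => mul_wd hE u hn g₁ g₂ h
  have hiwd : ∀ {Z : 𝒮} (g₁ g₂ : Z ⟶ G), g₁ ≫ π = g₂ ≫ π → g₁ ≫ ι ≫ π = g₂ ≫ ι ≫ π := by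
    subst hπ
    exact fun g₁ g₂ h => inv_wd hE u hn g₁ g₂ h
  obtain ⟨m', hm⟩ : ∃ m', (π ⊗ₘ π) ≫ m' = μ ≫ π :=
    ⟨EffectiveEpi.desc (π ⊗ₘ π) (μ ≫ π) hmwd, EffectiveEpi.fac _ _ _⟩
  obtain ⟨i', hi⟩ : ∃ i', π ≫ i' = ι ≫ π :=
    ⟨EffectiveEpi.desc π (ι ≫ π) hiwd, EffectiveEpi.fac _ _ _⟩
  rw [← hπ]
  refine ⟨descGrp π e3 (epi_whiskerLeft hE _ π) (epi_whiskerRight hE π _) m' hm i' hi, ?_, ?_⟩
  · letI := descGrp π e3 (epi_whiskerLeft hE _ π) (epi_whiskerRight hE π _) m' hm i' hi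
    exact { one_hom := rfl, mul_hom := hm.symm }
  · intro str' hstr'
    apply GrpObj.ext
    apply MonObj.ext
    change str'.mul = m'
    rw [← cancel_epi (π ⊗ₘ π), hm]
    exact (hstr'.mul_hom).symm

end Normal

section LocalLift

lemma exists_lift (hE : Exact 𝒮) [HasPullbacks 𝒮] {A B Y : 𝒮} (f : A ⟶ B) (hf : Epi f)
    (x : Y ⟶ B) : ∃ (Y' : 𝒮) (e : Y' ⟶ Y) (_ : Epi e) (x' : Y' ⟶ A), x' ≫ f = e ≫ x :=
  ⟨pullback f x, pullback.snd f x, hE.epi_pullback (IsPullback.of_hasPullback f x).flip hf,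
    pullback.fst f x, pullback.condition⟩

end LocalLift

section ThirdIso
variable (hE : Exact 𝒮) [HasPullbacks 𝒮] [HasCoequalizers 𝒮]
  {H K G : 𝒮} [GrpObj H] [GrpObj K] [GrpObj G] (h : H ⟶ K) (k : K ⟶ G)
  [Mono h] [Mono k] [IsMonHom h] [IsMonHom k]
  (hn : ∀ (Y : 𝒮) (x : Y ⟶ K) (y : Y ⟶ H), ∃ y' : Y ⟶ H, x * (y ≫ h) * x⁻¹ = y' ≫ h)
  (act : coequalizer (fst G H) ((G ◁ (h ≫ k)) ≫ μ) ⊗ coequalizer (fst K H) ((K ◁ h) ≫ μ) ⟶
    coequalizer (fst G H) ((G ◁ (h ≫ k)) ≫ μ))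
  (hact : (coequalizer.π (fst G H) ((G ◁ (h ≫ k)) ≫ μ) ⊗ₘ
      coequalizer.π (fst K H) ((K ◁ h) ≫ μ)) ≫ act =
    (G ◁ k) ≫ μ ≫ coequalizer.π (fst G H) ((G ◁ (h ≫ k)) ≫ μ))
  (qbar : coequalizer (fst G H) ((G ◁ (h ≫ k)) ≫ μ) ⟶ coequalizer (fst G K) ((G ◁ k) ≫ μ))
  (hq : coequalizer.π (fst G H) ((G ◁ (h ≫ k)) ≫ μ) ≫ qbar =
    coequalizer.π (fst G K) ((G ◁ k) ≫ μ))

include hE hn hact in
lemma thirdIso_aux {Y : 𝒮} (g g' : Y ⟶ G ⊗ K)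
    (hgg : (g ≫ (coequalizer.π (fst G H) ((G ◁ (h ≫ k)) ≫ μ) ⊗ₘ
        coequalizer.π (fst K H) ((K ◁ h) ≫ μ))) ≫ lift act (fst _ _) =
      (g' ≫ (coequalizer.π (fst G H) ((G ◁ (h ≫ k)) ≫ μ) ⊗ₘ
        coequalizer.π (fst K H) ((K ◁ h) ≫ μ))) ≫ lift act (fst _ _)) :
    g ≫ (coequalizer.π (fst G H) ((G ◁ (h ≫ k)) ≫ μ) ⊗ₘ
        coequalizer.π (fst K H) ((K ◁ h) ≫ μ)) =
      g' ≫ (coequalizer.π (fst G H) ((G ◁ (h ≫ k)) ≫ μ) ⊗ₘ
        coequalizer.π (fst K H) ((K ◁ h) ≫ μ)) := by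
  have h1 : (g ≫ fst _ _) ≫ coequalizer.π (fst G H) ((G ◁ (h ≫ k)) ≫ μ) =
      (g' ≫ fst _ _) ≫ coequalizer.π (fst G H) ((G ◁ (h ≫ k)) ≫ μ) := by
    simpa using congrArg (· ≫ snd _ _) hgg
  have h2 : ((g ≫ fst _ _) * ((g ≫ snd _ _) ≫ k)) ≫
        coequalizer.π (fst G H) ((G ◁ (h ≫ k)) ≫ μ) =
      ((g' ≫ fst _ _) * ((g' ≫ snd _ _) ≫ k)) ≫
        coequalizer.π (fst G H) ((G ◁ (h ≫ k)) ≫ μ) := by
    have := congrArg (· ≫ fst _ _) hgg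
    simp only [Category.assoc, lift_fst, hact] at this
    have e1 : ∀ g : Y ⟶ G ⊗ K, g ≫ (G ◁ k) ≫ μ = (g ≫ fst _ _) * ((g ≫ snd _ _) ≫ k) := by
      intro g
      have := comp_p₂ k g
      simpa [p₂] using this
    rw [← Category.assoc g, ← Category.assoc g', ← Category.assoc (g ≫ _),
      ← Category.assoc (g' ≫ _), Category.assoc g, Category.assoc g', e1, e1] at this
    exact this
  obtain ⟨c, hc⟩ := (π_eq_iff hE (h ≫ k) _ _).1 h1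
  obtain ⟨d, hd⟩ := (π_eq_iff hE (h ≫ k) _ _).1 h2
  obtain ⟨c', hc'⟩ := hn Y (g ≫ snd _ _)⁻¹ c⁻¹
  have E3 : (c ≫ h) * (g' ≫ snd _ _) = (g ≫ snd _ _) * (d ≫ h) := by
    rw [← cancel_mono k, MonObj.mul_comp, MonObj.mul_comp]
    rw [hc, _root_.mul_assoc, _root_.mul_assoc] at hd
    simpa [Category.assoc] using mul_left_cancel hd
  have E4 : g' ≫ snd _ _ = (g ≫ snd _ _) * ((c' * d) ≫ h) := by
    have : g' ≫ snd _ _ = (c ≫ h)⁻¹ * ((g ≫ snd _ _) * (d ≫ h)) := by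
      rw [← E3]; group
    rw [this, MonObj.mul_comp, ← hc', GrpObj.inv_comp]
    group
  apply CartesianMonoidalCategory.hom_ext
  · simpa using h1
  · simp only [Category.assoc, tensorHom_snd]
    rw [← Category.assoc, ← Category.assoc, E4, π_eq_of_eq_mul]

include hE hn hact hq in
theorem thirdIso :
    Mono (lift act (fst _ _)) ∧
      ∃ wq : fst _ _ ≫ qbar = act ≫ qbar, Nonempty (IsColimit (Cofork.ofπ qbar wq)) := by
  obtain ⟨πH, hπH⟩ : ∃ π, π = coequalizer.π (fst G H) ((G ◁ (h ≫ k)) ≫ μ) := ⟨_, rfl⟩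
  obtain ⟨πKH, hπKH⟩ : ∃ π, π = coequalizer.π (fst K H) ((K ◁ h) ≫ μ) := ⟨_, rfl⟩
  haveI : Epi πH := by rw [hπH]; infer_instance
  haveI : Epi πKH := by rw [hπKH]; infer_instance
  have e2 : Epi (πH ⊗ₘ πKH) := epi_tensorHom hE πH πKH
  have haux : ∀ {Y : 𝒮} (g g' : Y ⟶ G ⊗ K),
      (g ≫ (πH ⊗ₘ πKH)) ≫ lift act (fst _ _) = (g' ≫ (πH ⊗ₘ πKH)) ≫ lift act (fst _ _) →
      g ≫ (πH ⊗ₘ πKH) = g' ≫ (πH ⊗ₘ πKH) := by
    subst hπH hπKH
    exact fun g g' hgg => thirdIso_aux hE h k hn act hact g g' hgg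
  rw [← hπH, ← hπKH] at hact
  rw [← hπH] at hq
  refine ⟨⟨fun {Y} x x' hxx => ?_⟩, ?_⟩
  · obtain ⟨Y₁, e₁, he₁, y, hy⟩ := exists_lift hE (πH ⊗ₘ πKH) e2 x
    obtain ⟨Y₂, e₂, he₂, y', hy'⟩ := exists_lift hE (πH ⊗ₘ πKH) e2 (e₁ ≫ x')
    rw [← cancel_epi e₁, ← cancel_epi e₂, ← hy', ← hy, ← Category.assoc]
    apply haux
    have l1 : (e₂ ≫ y) ≫ (πH ⊗ₘ πKH) = e₂ ≫ e₁ ≫ x := by rw [Category.assoc, hy]
    rw [l1, hy']
    simp only [Category.assoc]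
    rw [hxx]
  · have wq : fst _ _ ≫ qbar = act ≫ qbar := by
      rw [← cancel_epi (πH ⊗ₘ πKH), tensorHom_fst_assoc, hq, reassoc_of% hact, hq]
      have := coequalizer.condition (fst G K) ((G ◁ k) ≫ μ)
      simpa [Category.assoc] using this
    refine ⟨wq, ⟨Cofork.IsColimit.mk _ (fun s => coequalizer.desc (πH ≫ s.π) ?_) ?_ ?_⟩⟩
    · have hs := s.condition
      have e3 : fst G K ≫ πH = (πH ⊗ₘ πKH) ≫ fst _ _ := by simp
      rw [reassoc_of% e3, hs, reassoc_of% hact, Category.assoc]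
    · intro s
      change qbar ≫ _ = _
      rw [← cancel_epi πH, reassoc_of% hq, coequalizer.π_desc]
    · intro s m hm
      change qbar ≫ m = _ at hm
      haveI : Epi qbar := by
        haveI : Epi (πH ≫ qbar) := by rw [hq]; infer_instance
        exact epi_of_epi πH qbar
      rw [← cancel_epi qbar, hm, ← cancel_epi πH, reassoc_of% hq, coequalizer.π_desc]

end ThirdIso

section SubGrp

omit [CartesianMonoidalCategory 𝒮] in
lemma exists_factor_of_epi (hE : Exact 𝒮) {Y' Y K G : 𝒮} (c : Y' ⟶ Y) (hc : Epi c) (a : K ⟶ G)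
    [Mono a] (g : Y ⟶ G) (s : Y' ⟶ K) (hs : s ≫ a = c ≫ g) : ∃ s' : Y ⟶ K, s' ≫ a = g := by
  haveI := hE.eff c hc
  refine ⟨EffectiveEpi.desc c s ?_, ?_⟩
  · intro Z g₁ g₂ h
    rw [← cancel_mono a, Category.assoc, Category.assoc, hs, reassoc_of% h]
  · rw [← cancel_epi c, ← Category.assoc, EffectiveEpi.fac, hs]

/-- A mono into a group object closed under the operations is a subgroup object. -/
@[reducible] def grpOfMono {P G : 𝒮} [GrpObj G] (a : P ⟶ G) [Mono a] (o : 𝟙_ 𝒮 ⟶ P)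
    (ho : o ≫ a = η) (m : P ⊗ P ⟶ P) (hm : m ≫ a = (a ⊗ₘ a) ≫ μ) (i : P ⟶ P)
    (hi : i ≫ a = a ≫ ι) : GrpObj P where
  one := o
  mul := m
  one_mul := by
    rw [← cancel_mono a, Category.assoc, hm, ← tensorHom_id, tensorHom_comp_tensorHom_assoc, ho,
      Category.id_comp, tensorHom_def', Category.assoc, MonObj.one_mul, leftUnitor_naturality]
  mul_one := by
    rw [← cancel_mono a, Category.assoc, hm, ← id_tensorHom, tensorHom_comp_tensorHom_assoc, ho,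
      Category.id_comp, tensorHom_def, Category.assoc, MonObj.mul_one, rightUnitor_naturality]
  mul_assoc := by
    rw [← cancel_mono a]
    simp only [Category.assoc]
    rw [hm, ← tensorHom_id, ← id_tensorHom, tensorHom_comp_tensorHom_assoc,
      tensorHom_comp_tensorHom_assoc, hm]
    simp only [Category.id_comp]
    have e1 : ((a ⊗ₘ a) ≫ μ) ⊗ₘ a = ((a ⊗ₘ a) ⊗ₘ a) ≫ (μ ▷ G) := by
      rw [← tensorHom_id, tensorHom_comp_tensorHom, Category.comp_id]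
    have e2 : a ⊗ₘ ((a ⊗ₘ a) ≫ μ) = (a ⊗ₘ (a ⊗ₘ a)) ≫ (G ◁ μ) := by
      rw [← id_tensorHom, tensorHom_comp_tensorHom, Category.comp_id]
    rw [e1, e2, Category.assoc, Category.assoc, MonObj.mul_assoc, associator_naturality_assoc]
  inv := i
  left_inv := by
    rw [← cancel_mono a, Category.assoc, hm, Category.assoc, ho]
    have e1 : lift i (𝟙 P) ≫ (a ⊗ₘ a) = a ≫ lift ι (𝟙 G) := by
      apply CartesianMonoidalCategory.hom_ext <;> simp [hi]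
    rw [reassoc_of% e1, GrpObj.left_inv, comp_toUnit_assoc]
  right_inv := by
    rw [← cancel_mono a, Category.assoc, hm, Category.assoc, ho]
    have e1 : lift (𝟙 P) i ≫ (a ⊗ₘ a) = a ≫ lift (𝟙 G) ι := by
      apply CartesianMonoidalCategory.hom_ext <;> simp [hi]
    rw [reassoc_of% e1, GrpObj.right_inv, comp_toUnit_assoc]

end SubGrp

end Groth.Agent.Lib.Helper5.GrpQuot
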