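import Groth.Agent.Lib.Helper5.SheafEqRel
import Groth.Agent.Lib.Helper5.GrpQuot
import Mathlib.CategoryTheory.Sites.RegularEpi
import Mathlib.CategoryTheory.Sites.LocallySurjective

/-!
# Sheaves of types satisfy the exactness properties `GrpQuot.Exact`
-/

set_option autoImplicit false
open CategoryTheory Limits
universe w v₁ u₁

namespace Groth.Agent.Lib.Helper5.SheafGrpQuot

open Groth.Agent.Lib.Helper5.GrpQuot Groth.Agent.Lib.Helper5.SheafEqRel

variable {C : Type u₁} [Category.{v₁} C] (J : GrothendieckTopology C) [HasSheafify J (Type w)]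

/-- In sheaves of types, epimorphisms are stable under pullback. -/
lemma epi_of_isPullback {X Y X' Y' : Sheaf J (Type w)} {f : X ⟶ Y} {f' : X' ⟶ Y'}
    {i₁ : X' ⟶ X} {i₂ : Y' ⟶ Y} (H : IsPullback f' i₁ i₂ f) [Epi f] : Epi f' := by
  have hf : Sheaf.IsLocallySurjective f := (Sheaf.isLocallySurjective_iff_epi f).2 inferInstance
  have hf' : Sheaf.IsLocallySurjective f' := by
    constructor
    intro U s
    have h1 := Presheaf.imageSieve_mem J f.hom (U := Opposite.op U) (i₂.hom.app (Opposite.op U) s)
    refine J.superset_covering ?_ h1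
    intro V g hg
    obtain ⟨t, ht⟩ := hg
    have HV := H.map (sheafToPresheaf J (Type w) ⋙ (evaluation _ _).obj (Opposite.op V))
    obtain ⟨x', hx1, hx2⟩ := Types.exists_of_isPullback HV (Y'.obj.map g.op s) t (by
      have := ConcreteCategory.congr_hom (i₂.hom.naturality g.op) s
      rw [ConcreteCategory.comp_apply, ConcreteCategory.comp_apply] at this
      show (i₂.hom.app (Opposite.op V)) (Y'.obj.map g.op s) = f.hom.app (Opposite.op V) t
      rw [ht]
      exact this)
    exact ⟨x', hx1⟩
  exact inferInstance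

lemma effectiveEpi_of_epi {X Y : Sheaf J (Type w)} (f : X ⟶ Y) [Epi f] : EffectiveEpi f :=
  (isRegularEpi_iff_effectiveEpi f).1 (IsRegularEpiCategory.regularEpiOfEpi f)

theorem exact_sheaf : Exact (Sheaf J (Type w)) where
  kp e _ := by
    have := isKernelPair_coequalizer_π J e
    convert this
  epi_pullback H _ := epi_of_isPullback J H
  eff f _ := effectiveEpi_of_epi J f

end Groth.Agent.Lib.Helper5.SheafGrpQuot
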