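import Mathlib
import Groth.Prelude.Def_CohCx
import Groth.Agent.Lib.Helper5.CechRes
import Groth.Agent.Lib.Helper5.SheafGrpQuot
open CategoryTheory Limits HomologicalComplex ChainComplex Abelian AlgebraicTopology Opposite Simplicial

set_option linter.unusedSectionVars false

namespace Groth.Agent.Lib.Helper5.CechFlasque

universe w v u

/-- vanishing of `H^{q+1}` of the cochain complex `Hom(P, G)` -/
def AcyclicAt {A : Type*} [Category A] [Preadditive A] (P : ChainComplex A ℕ) (G : A) (q : ℕ) : Prop :=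
  ∀ φ : P.X (q + 1) ⟶ G, P.d (q + 2) (q + 1) ≫ φ = 0 → ∃ ψ : P.X q ⟶ G, P.d (q + 1) q ≫ ψ = φ

section Abstract
variable {A : Type*} [Category A] [Abelian A]
variable (P : ChainComplex A ℕ) {M : A} (π : P ⟶ (ChainComplex.single₀ A).obj M)

lemma exactAt_succ [QuasiIso π] (n : ℕ) : P.ExactAt (n + 1) := by
  rw [← quasiIsoAt_iff_exactAt' π (n + 1) (exactAt_succ_single_obj _ _)]
  infer_instance

lemma exact_succ [QuasiIso π] (n : ℕ) :
    (ShortComplex.mk _ _ (P.d_comp_d (n + 2) (n + 1) n)).Exact :=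
  ((HomologicalComplex.exactAt_iff' _ (n + 2) (n + 1) n) (by simp only [ChainComplex.prev]; rfl)
    (by simp)).1 (exactAt_succ P π n)

lemma d_comp_π : P.d 1 0 ≫ π.f 0 = 0 := by
  rw [← π.comm 1 0, single_obj_d, comp_zero]

set_option backward.isDefEq.respectTransparency.types false in
set_option backward.defeqAttrib.useBackward true in
/-- `M` is the cokernel of `P₁ ⟶ P₀`. -/
noncomputable def isColimitCokernelCofork [QuasiIso π] :
    IsColimit (CokernelCofork.ofπ (π.f 0) (d_comp_π P π)) := by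
  refine IsColimit.ofIsoColimit (P.opcyclesIsCokernel 1 0 (by simp)) ?_
  refine Cofork.ext (P.isoHomologyι₀.symm ≪≫ isoOfQuasiIsoAt π 0 ≪≫
    singleObjHomologySelfIso _ _ _) ?_
  rw [← cancel_mono (singleObjHomologySelfIso (ComplexShape.down ℕ) 0 _).inv,
    ← cancel_mono (isoHomologyι₀ _).hom]
  dsimp
  simp only [isoHomologyι₀_inv_naturality_assoc, p_opcyclesMap_assoc, ChainComplex.single₀_obj_zero,
    Category.assoc,
    Iso.hom_inv_id, Category.comp_id, isoHomologyι_inv_hom_id, singleObjHomologySelfIso_inv_homologyι,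
    singleObjOpcyclesSelfIso_hom, ChainComplex.single₀ObjXSelf, Iso.refl_inv, Category.id_comp]

/-- `P → M → 0` is a resolution, with augmentation `p`. -/
structure IsRes {M : A} (p : P.X 0 ⟶ M) : Prop where
  w : P.d 1 0 ≫ p = 0
  epi : Epi p
  desc : ∀ {G : A} (φ : P.X 0 ⟶ G), P.d 1 0 ≫ φ = 0 → ∃ ψ : M ⟶ G, p ≫ ψ = φ
  exact : ∀ n : ℕ, (ShortComplex.mk _ _ (P.d_comp_d (n + 2) (n + 1) n)).Exact

lemma isRes_of_quasiIso [QuasiIso π] : IsRes P (show P.X 0 ⟶ M from π.f 0) where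
  w := d_comp_π P π
  epi := epi_of_isColimit_cofork (isColimitCokernelCofork P π)
  desc φ hφ := ⟨(isColimitCokernelCofork P π).desc (CokernelCofork.ofπ φ hφ),
    (isColimitCokernelCofork P π).fac (CokernelCofork.ofπ φ hφ) WalkingParallelPair.one⟩
  exact n := exact_succ P π n

variable {P} {p : P.X 0 ⟶ M} (hp : IsRes P p)

include hp in
lemma acyclicAt_of_injective (G : A) [Injective G] (q : ℕ) : AcyclicAt P G q := by
  intro φ hφ
  exact ⟨(hp.exact q).descToInjective φ hφ, (hp.exact q).comp_descToInjective φ hφ⟩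

variable (S : ShortComplex A) (hS : S.ShortExact)

include hS

lemma acyclicAt_succ_of_quotient (q : ℕ)
    (hsurj : ∀ s : P.X q ⟶ S.X₃, ∃ t : P.X q ⟶ S.X₂, t ≫ S.g = s)
    (hI : AcyclicAt P S.X₂ (q + 1)) (hQ : AcyclicAt P S.X₃ q) : AcyclicAt P S.X₁ (q + 1) := by
  have := hS.mono_f
  intro x hx
  obtain ⟨y, hy⟩ := hI (x ≫ S.f) (by rw [reassoc_of% hx, zero_comp])
  obtain ⟨zb, hzb⟩ := hQ (y ≫ S.g) (by rw [reassoc_of% hy, S.zero, comp_zero])
  obtain ⟨z, hz⟩ := hsurj zb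
  have h0 : (y - P.d (q + 1) q ≫ z) ≫ S.g = 0 := by
    rw [Preadditive.sub_comp, Category.assoc, hz, hzb, sub_self]
  refine ⟨hS.exact.lift _ h0, ?_⟩
  rw [← cancel_mono S.f, Category.assoc, hS.exact.lift_f, Preadditive.comp_sub, hy,
    P.d_comp_d_assoc, zero_comp, sub_zero]

lemma acyclicAt_quotient_of_succ (q : ℕ)
    (hsurj : ∀ s : P.X (q + 1) ⟶ S.X₃, ∃ t : P.X (q + 1) ⟶ S.X₂, t ≫ S.g = s)
    (hI : AcyclicAt P S.X₂ q) (hF : AcyclicAt P S.X₁ (q + 1)) : AcyclicAt P S.X₃ q := by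
  have := hS.mono_f
  intro yb hyb
  obtain ⟨y, hy⟩ := hsurj yb
  have h0 : (P.d (q + 2) (q + 1) ≫ y) ≫ S.g = 0 := by rw [Category.assoc, hy, hyb]
  have hx : P.d (q + 1 + 2) (q + 1 + 1) ≫ hS.exact.lift _ h0 = 0 := by
    rw [← cancel_mono S.f, Category.assoc, hS.exact.lift_f, P.d_comp_d_assoc, zero_comp, zero_comp]
  obtain ⟨w, hw⟩ := hF _ hx
  obtain ⟨z, hz⟩ := hI (y - w ≫ S.f) (by
    rw [Preadditive.comp_sub, reassoc_of% hw, hS.exact.lift_f, sub_self])
  refine ⟨z ≫ S.g, ?_⟩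
  rw [reassoc_of% hz, Preadditive.sub_comp, Category.assoc, S.zero, comp_zero, sub_zero, hy]

include hp

lemma acyclicAt_zero_of_surj
    (hsurj : ∀ s : M ⟶ S.X₃, ∃ t : M ⟶ S.X₂, t ≫ S.g = s)
    (hI : AcyclicAt P S.X₂ 0) : AcyclicAt P S.X₁ 0 := by
  have := hS.mono_f
  intro x hx
  obtain ⟨y, hy⟩ := hI (x ≫ S.f) (by rw [reassoc_of% hx, zero_comp])
  obtain ⟨s, hs⟩ := hp.desc (y ≫ S.g) (by rw [reassoc_of% hy, S.zero, comp_zero])
  obtain ⟨t, ht⟩ := hsurj s
  have h0 : (y - p ≫ t) ≫ S.g = 0 := by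
    rw [Preadditive.sub_comp, Category.assoc, ht, hs, sub_self]
  refine ⟨hS.exact.lift _ h0, ?_⟩
  rw [← cancel_mono S.f, Category.assoc, hS.exact.lift_f, Preadditive.comp_sub, hy,
    reassoc_of% hp.w, zero_comp, sub_zero]

lemma exists_lift_of_acyclicAt_zero (hF : AcyclicAt P S.X₁ 0)
    (s : M ⟶ S.X₃) (y : P.X 0 ⟶ S.X₂) (hy : y ≫ S.g = p ≫ s) :
    ∃ t : M ⟶ S.X₂, t ≫ S.g = s := by
  have := hS.mono_f
  have h0 : (P.d 1 0 ≫ y) ≫ S.g = 0 := by
    rw [Category.assoc, hy, reassoc_of% hp.w, zero_comp]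
  have hx : P.d (0 + 2) (0 + 1) ≫ hS.exact.lift _ h0 = 0 := by
    rw [← cancel_mono S.f, Category.assoc, hS.exact.lift_f, P.d_comp_d_assoc, zero_comp, zero_comp]
  obtain ⟨w, hw⟩ := hF _ hx
  obtain ⟨t, ht⟩ := hp.desc (y - w ≫ S.f) (by
    rw [Preadditive.comp_sub, reassoc_of% hw, hS.exact.lift_f, sub_self])
  refine ⟨t, ?_⟩
  have := hp.epi
  rw [← cancel_epi p, reassoc_of% ht, Preadditive.sub_comp, Category.assoc, S.zero,
    comp_zero, sub_zero, hy]

end Abstract

section ExtLemmas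

variable {A : Type*} [Category A] [Abelian A] [HasExt.{w} A]
  (X : A) {S : ShortComplex A} (hS : S.ShortExact)

include hS

lemma surj_of_ext_one_eq_zero (h : ∀ x : Ext.{w} X S.X₁ 1, x = 0) (s : X ⟶ S.X₃) :
    ∃ t : X ⟶ S.X₂, t ≫ S.g = s := by
  obtain ⟨x₂, hx₂⟩ := Ext.covariant_sequence_exact₃ X hS (Ext.mk₀ s) (n₁ := 1) rfl (h _)
  obtain ⟨t, rfl⟩ := (Ext.mk₀_bijective X S.X₂).surjective x₂
  refine ⟨t, ?_⟩
  apply (Ext.mk₀_bijective X S.X₃).injective
  rw [← hx₂, Ext.mk₀_comp_mk₀]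

lemma ext_one_eq_zero_of_surj [Injective S.X₂]
    (h : ∀ s : X ⟶ S.X₃, ∃ t : X ⟶ S.X₂, t ≫ S.g = s) (x : Ext.{w} X S.X₁ 1) : x = 0 := by
  obtain ⟨x₃, rfl⟩ := Ext.covariant_sequence_exact₁ X hS x (Ext.eq_zero_of_injective _) rfl
  obtain ⟨s, rfl⟩ := (Ext.mk₀_bijective X S.X₃).surjective x₃
  obtain ⟨t, rfl⟩ := h s
  rw [← Ext.mk₀_comp_mk₀, Ext.comp_assoc_of_second_deg_zero, hS.comp_extClass, Ext.comp_zero]

lemma ext_succ_eq_zero_of_quotient [Injective S.X₂] (n : ℕ)
    (h : ∀ x : Ext.{w} X S.X₃ (n + 1), x = 0) (x : Ext.{w} X S.X₁ (n + 2)) : x = 0 := by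
  obtain ⟨x₃, rfl⟩ := Ext.covariant_sequence_exact₁ X hS x (Ext.eq_zero_of_injective _)
    (n₀ := n + 1) rfl
  rw [h x₃, Ext.zero_comp]

lemma ext_quotient_eq_zero_of_succ [Injective S.X₂] (n : ℕ)
    (h : ∀ x : Ext.{w} X S.X₁ (n + 2), x = 0) (x : Ext.{w} X S.X₃ (n + 1)) : x = 0 := by
  obtain ⟨x₂, rfl⟩ := Ext.covariant_sequence_exact₃ X hS x (n₁ := n + 2) rfl (h _)
  rw [Ext.eq_zero_of_injective x₂, Ext.zero_comp]

end ExtLemmas

/-- the canonical short exact sequence `0 → F → I → I/F → 0` with `I` injective -/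
noncomputable def injSC {A : Type*} [Category A] [Abelian A] [EnoughInjectives A] (F : A) :
    ShortComplex A :=
  ShortComplex.mk _ _ (cokernel.condition (Injective.ι F))

lemma injSC_shortExact {A : Type*} [Category A] [Abelian A] [EnoughInjectives A] (F : A) :
    (injSC F).ShortExact :=
  { exact := ShortComplex.exact_of_g_is_cokernel _ (cokernelIsCokernel (injSC F).f)
    mono_f := by dsimp [injSC]; infer_instance
    epi_g := by dsimp [injSC]; infer_instance }

instance {A : Type*} [Category A] [Abelian A] [EnoughInjectives A] (F : A) :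
    Injective (injSC F).X₂ := by dsimp [injSC]; infer_instance


section Bridge

lemma ab_hom_sum {M N : AddCommGrpCat.{v}} {ι : Type} (s : Finset ι) (f : ι → (M ⟶ N)) :
    (∑ i ∈ s, f i).hom = ∑ i ∈ s, (f i).hom :=
  map_sum AddCommGrpCat.homAddEquiv f s

lemma objD_apply (X : CosimplicialObject AddCommGrpCat.{v}) (n : ℕ) (x : X.obj ⦋n⦌) :
    (AlternatingCofaceMapComplex.objD X n).hom x =
      ∑ i : Fin (n + 2), (-1 : ℤ) ^ (i : ℕ) • (X.δ i).hom x := by
  rw [AlternatingCofaceMapComplex.objD, ab_hom_sum, AddMonoidHom.finsetSum_apply]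
  rfl

variable {B : Type*} [Category B] {A : Type u} [Category.{v} A] [Preadditive A]
  (Y : SimplicialObject B) (Ψ : B ⥤ A) (G : A)

/-- the cochain complex `Hom(Ψ Y_•, G)` -/
noncomputable abbrev homCx : CochainComplex AddCommGrpCat.{v} ℕ :=
  (alternatingCofaceMapComplex AddCommGrpCat.{v}).obj (Y.rightOp ⋙ Ψ.op ⋙ preadditiveYoneda.obj G)

lemma homCx_d_apply (n : ℕ) (φ : Ψ.obj (Y _⦋n⦌) ⟶ G) :
    ((homCx Y Ψ G).d n (n + 1)).hom φ =
      ((alternatingFaceMapComplex A).obj (Y ⋙ Ψ)).d (n + 1) n ≫ φ := by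
  rw [alternatingFaceMapComplex_obj_d]
  have h1 : (homCx Y Ψ G).d n (n + 1) =
      AlternatingCofaceMapComplex.objD (Y.rightOp ⋙ Ψ.op ⋙ preadditiveYoneda.obj G) n := by
    dsimp only [homCx, alternatingCofaceMapComplex, AlternatingCofaceMapComplex.obj]
    rw [CochainComplex.of_d]
  rw [h1]
  refine (objD_apply (Y.rightOp ⋙ Ψ.op ⋙ preadditiveYoneda.obj G) n φ).trans ?_
  rw [AlternatingFaceMapComplex.objD, Preadditive.sum_comp]
  refine Finset.sum_congr rfl fun i _ => ?_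
  rw [Preadditive.zsmul_comp]
  rfl

lemma isZero_homology_homCx_iff (q : ℕ) :
    IsZero ((homCx Y Ψ G).homology (q + 1)) ↔
      AcyclicAt ((alternatingFaceMapComplex A).obj (Y ⋙ Ψ)) G q := by
  rw [← HomologicalComplex.exactAt_iff_isZero_homology,
    HomologicalComplex.exactAt_iff' _ q (q + 1) (q + 2) (by simp) (by simp),
    ShortComplex.ab_exact_iff]
  constructor
  · intro h φ hφ
    obtain ⟨ψ, hψ⟩ := h φ (by
      refine (homCx_d_apply Y Ψ G (q + 1) φ).trans hφ)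
    exact ⟨ψ, (homCx_d_apply Y Ψ G q ψ).symm.trans hψ⟩
  · intro h φ hφ
    obtain ⟨ψ, hψ⟩ := h φ ((homCx_d_apply Y Ψ G (q + 1) φ).symm.trans hφ)
    exact ⟨ψ, (homCx_d_apply Y Ψ G q ψ).trans hψ⟩

end Bridge

section Sheaf

variable {C : Type u} [SmallCategory C] (J : GrothendieckTopology C)

/-- the free abelian sheaf functor -/
noncomputable abbrev Φ : Sheaf J (Type u) ⥤ Sheaf J AddCommGrpCat.{u} :=
  Sheaf.composeAndSheafify J AddCommGrpCat.free.{u}

/-- the chain complex `ℤ[K'_•]` of the Čech nerve -/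
noncomputable abbrev cechP {K' K : Sheaf J (Type u)} (f : K' ⟶ K) :
    ChainComplex (Sheaf J AddCommGrpCat.{u}) ℕ :=
  (alternatingFaceMapComplex _).obj ((Arrow.mk f).cechNerve ⋙ Φ J)

lemma isZero_homology_cechNerveCx_iff (F : Sheaf J AddCommGrpCat.{u}) {K' K : Sheaf J (Type u)}
    (f : K' ⟶ K) (q : ℕ) :
    IsZero ((CohCx.cechNerveCx F f).homology (q + 1)) ↔ AcyclicAt (cechP J f) F q :=
  isZero_homology_homCx_iff (Arrow.mk f).cechNerve (Φ J) F q

/-- augmentation of `cechP` -/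
noncomputable abbrev cechAug {K' K : Sheaf J (Type u)} (f : K' ⟶ K) :
    (cechP J f).X 0 ⟶ (Φ J).obj K :=
  (Φ J).map ((Arrow.mk f).augmentedCechNerve.hom.app (op ⦋0⦌))

lemma cech_isRes {K' K : Sheaf J (Type u)} (f : K' ⟶ K) [Epi f] :
    IsRes (cechP J f) (cechAug J f) := by
  have h := CechRes.quasiIso_free_cechNerve J f
  have h2 : IsRes (cechP J f) (M := (Φ J).obj K) _ :=
    @isRes_of_quasiIso _ _ _ (cechP J f) ((Φ J).obj K)
      (AlgebraicTopology.AlternatingFaceMapComplex.ε.app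
      (((SimplicialObject.Augmented.whiskering _ _).obj
        (Sheaf.composeAndSheafify J AddCommGrpCat.free.{u})).obj
        (Arrow.mk f).augmentedCechNerve)) h
  have e : (AlgebraicTopology.AlternatingFaceMapComplex.ε.app
      (((SimplicialObject.Augmented.whiskering _ _).obj
        (Sheaf.composeAndSheafify J AddCommGrpCat.free.{u})).obj
        (Arrow.mk f).augmentedCechNerve)).f 0 = cechAug J f := by
    rw [AlternatingFaceMapComplex.ε_app_f_zero]
    exact Category.comp_id _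
  rw [← e]
  exact h2

/-- forgetful functor to sheaves of sets -/
noncomputable abbrev Uf : Sheaf J AddCommGrpCat.{u} ⥤ Sheaf J (Type u) :=
  sheafCompose J (forget AddCommGrpCat.{u})

/-- free-forget adjunction on sheaves -/
noncomputable abbrev adjΦ : Φ J ⊣ Uf J := Sheaf.adjunction J AddCommGrpCat.adj

lemma epi_Uf_map {I Q : Sheaf J AddCommGrpCat.{u}} (g : I ⟶ Q) [Epi g] : Epi ((Uf J).map g) := by
  have h1 : Sheaf.IsLocallySurjective g := (Sheaf.isLocallySurjective_iff_epi' _ g).2 inferInstance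
  have h2 : Sheaf.IsLocallySurjective ((Uf J).map g) :=
    (Presheaf.isLocallySurjective_iff_whisker_forget J g.hom).1 h1
  exact (Sheaf.isLocallySurjective_iff_epi _).1 h2

lemma exists_epi_lift {I Q : Sheaf J AddCommGrpCat.{u}} (g : I ⟶ Q) [Epi g]
    {K : Sheaf J (Type u)} (s : (Φ J).obj K ⟶ Q) :
    ∃ (K' : Sheaf J (Type u)) (f : K' ⟶ K) (_ : Epi f) (y : (Φ J).obj K' ⟶ I),
      y ≫ g = (Φ J).map f ≫ s := by
  have := epi_Uf_map J g
  let s' : K ⟶ (Uf J).obj Q := (adjΦ J).homEquiv K Q s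
  have hpb := IsPullback.of_hasPullback s' ((Uf J).map g)
  have : Epi (pullback.fst s' ((Uf J).map g)) :=
    SheafGrpQuot.epi_of_isPullback J hpb
  refine ⟨pullback s' ((Uf J).map g), pullback.fst _ _, inferInstance,
    ((adjΦ J).homEquiv _ _).symm (pullback.snd _ _), ?_⟩
  apply ((adjΦ J).homEquiv _ _).injective
  rw [Adjunction.homEquiv_naturality_right, Equiv.apply_symm_apply,
    Adjunction.homEquiv_naturality_left]
  exact hpb.w.symm

lemma hsurj_of_isTotallyAcyclic (F : Sheaf J AddCommGrpCat.{u}) (hF : CohCx.IsTotallyAcyclic F)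
    (K : Sheaf J (Type u)) (s : (Φ J).obj K ⟶ (injSC F).X₃) :
    ∃ t : (Φ J).obj K ⟶ (injSC F).X₂, t ≫ (injSC F).g = s :=
  surj_of_ext_one_eq_zero ((Φ J).obj K) (injSC_shortExact F)
    (fun _ => (hF K 0).elim _ _) s

lemma isTotallyAcyclic_quotient (F : Sheaf J AddCommGrpCat.{u}) (hF : CohCx.IsTotallyAcyclic F) :
    CohCx.IsTotallyAcyclic (injSC F).X₃ := by
  intro K p
  refine ⟨fun x y => ?_⟩
  rw [ext_quotient_eq_zero_of_succ ((Φ J).obj K) (injSC_shortExact F) p
      (fun x => (hF K (p + 1)).elim _ _) x,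
    ext_quotient_eq_zero_of_succ ((Φ J).obj K) (injSC_shortExact F) p
      (fun x => (hF K (p + 1)).elim _ _) y]

/-- Theorem A: totally acyclic sheaves are Čech-acyclic for all epimorphisms. -/
theorem acyclicAt_of_isTotallyAcyclic (q : ℕ) :
    ∀ (F : Sheaf J AddCommGrpCat.{u}), CohCx.IsTotallyAcyclic F →
    ∀ {K' K : Sheaf J (Type u)} (f : K' ⟶ K) [Epi f], AcyclicAt (cechP J f) F q := by
  induction q with
  | zero =>
    intro F hF K' K f _
    exact acyclicAt_zero_of_surj (cech_isRes J f) (injSC F) (injSC_shortExact F)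
      (hsurj_of_isTotallyAcyclic J F hF K)
      (acyclicAt_of_injective (cech_isRes J f) _ 0)
  | succ q ih =>
    intro F hF K' K f _
    exact acyclicAt_succ_of_quotient (injSC F) (injSC_shortExact F) q
      (hsurj_of_isTotallyAcyclic J F hF _)
      (acyclicAt_of_injective (cech_isRes J f) _ (q + 1))
      (ih _ (isTotallyAcyclic_quotient J F hF) f)

/-- Čech-acyclicity for all epimorphisms of sheaves of sets -/
def CechAcyclic (F : Sheaf J AddCommGrpCat.{u}) : Prop :=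
  ∀ {K' K : Sheaf J (Type u)} (f : K' ⟶ K) [Epi f] (q : ℕ), AcyclicAt (cechP J f) F q

lemma hsurj_of_cechAcyclic (F : Sheaf J AddCommGrpCat.{u}) (hF : CechAcyclic J F)
    (K : Sheaf J (Type u)) (s : (Φ J).obj K ⟶ (injSC F).X₃) :
    ∃ t : (Φ J).obj K ⟶ (injSC F).X₂, t ≫ (injSC F).g = s := by
  have := (injSC_shortExact F).epi_g
  obtain ⟨K', f, hf, y, hy⟩ := exists_epi_lift J (injSC F).g s
  refine exists_lift_of_acyclicAt_zero (cech_isRes J f) (injSC F) (injSC_shortExact F)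
    (hF f 0) s ((Φ J).map (WidePullback.π (fun _ : Fin (0 + 1) => (Arrow.mk f).hom) 0) ≫ y) ?_
  rw [Category.assoc, hy, ← Functor.map_comp_assoc]
  congr 2
  exact WidePullback.π_arrow _ _

lemma ext_one_eq_zero_of_cechAcyclic (F : Sheaf J AddCommGrpCat.{u}) (hF : CechAcyclic J F)
    (K : Sheaf J (Type u)) (x : Ext ((Φ J).obj K) F 1) : x = 0 :=
  ext_one_eq_zero_of_surj ((Φ J).obj K) (injSC_shortExact F) (hsurj_of_cechAcyclic J F hF K) x

lemma cechAcyclic_quotient (F : Sheaf J AddCommGrpCat.{u}) (hF : CechAcyclic J F) :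
    CechAcyclic J (injSC F).X₃ := by
  intro K' K f _ q
  exact acyclicAt_quotient_of_succ (injSC F) (injSC_shortExact F) q
    (hsurj_of_cechAcyclic J F hF _) (acyclicAt_of_injective (cech_isRes J f) _ q) (hF f (q + 1))

/-- Theorem B: Čech-acyclic for all epimorphisms implies totally acyclic. -/
theorem ext_eq_zero_of_cechAcyclic (p : ℕ) :
    ∀ (F : Sheaf J AddCommGrpCat.{u}), CechAcyclic J F →
    ∀ (K : Sheaf J (Type u)) (x : Ext ((Φ J).obj K) F (p + 1)), x = 0 := by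
  induction p with
  | zero => exact fun F hF K x => ext_one_eq_zero_of_cechAcyclic J F hF K x
  | succ p ih =>
    intro F hF K x
    exact ext_succ_eq_zero_of_quotient ((Φ J).obj K) (injSC_shortExact F) p
      (ih _ (cechAcyclic_quotient J F hF) K) x

theorem isTotallyAcyclic_of_cechAcyclic (F : Sheaf J AddCommGrpCat.{u}) (hF : CechAcyclic J F) :
    CohCx.IsTotallyAcyclic F := by
  intro K p
  refine ⟨fun x y => ?_⟩
  rw [ext_eq_zero_of_cechAcyclic J p F hF K x, ext_eq_zero_of_cechAcyclic J p F hF K y]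

theorem cechAcyclic_of_isTotallyAcyclic (F : Sheaf J AddCommGrpCat.{u})
    (hF : CohCx.IsTotallyAcyclic F) : CechAcyclic J F :=
  fun f _ q => acyclicAt_of_isTotallyAcyclic J q F hF f

end Sheaf

section Adj

variable {B A : Type*} [Category B] [Category A] [Preadditive B] [Preadditive A]

lemma acyclicAt_of_iso {P P' : ChainComplex A ℕ} (e : P ≅ P') (G : A) (q : ℕ)
    (h : AcyclicAt P G q) : AcyclicAt P' G q := by
  intro φ hφ
  obtain ⟨ψ, hψ⟩ := h (e.hom.f (q + 1) ≫ φ) (by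
    rw [← e.hom.comm_assoc, hφ, comp_zero])
  refine ⟨e.inv.f q ≫ ψ, ?_⟩
  rw [← e.inv.comm_assoc, hψ, ← HomologicalComplex.comp_f_assoc, e.inv_hom_id,
    HomologicalComplex.id_f, Category.id_comp]

lemma acyclicAt_of_adj {L : B ⥤ A} {R : A ⥤ B} (adj : L ⊣ R) [L.Additive]
    (P : ChainComplex B ℕ) (F : A) (q : ℕ)
    (h : AcyclicAt ((L.mapHomologicalComplex _).obj P) F q) : AcyclicAt P (R.obj F) q := by
  intro φ hφ
  obtain ⟨ψ, hψ⟩ := h ((adj.homEquiv _ _).symm φ) (by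
    change L.map (P.d (q + 2) (q + 1)) ≫ _ = 0
    rw [← adj.homEquiv_naturality_left_symm, hφ]
    simp [Adjunction.homEquiv_counit])
  refine ⟨adj.homEquiv _ _ ψ, ?_⟩
  rw [← adj.homEquiv_naturality_left]
  exact (congrArg (adj.homEquiv _ _) hψ).trans (Equiv.apply_symm_apply _ _)

end Adj

section Push

variable {C D : Type u} [SmallCategory C] [SmallCategory D]
  (J : GrothendieckTopology C) (K : GrothendieckTopology D) (u : D ⥤ C) [u.IsContinuous K J]

/-- pullback of abelian sheaves -/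
noncomputable abbrev pullAb : Sheaf K AddCommGrpCat.{u} ⥤ Sheaf J AddCommGrpCat.{u} :=
  u.sheafPullback AddCommGrpCat.{u} K J

/-- pullback of sheaves of sets -/
noncomputable abbrev pullSet : Sheaf K (Type u) ⥤ Sheaf J (Type u) :=
  u.sheafPullback (Type u) K J

noncomputable abbrev adjAb : pullAb J K u ⊣ CohSite.push J K u :=
  u.sheafAdjunctionContinuous AddCommGrpCat.{u} K J

noncomputable abbrev adjSet : pullSet J K u ⊣ u.sheafPushforwardContinuous (Type u) K J :=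
  u.sheafAdjunctionContinuous (Type u) K J

instance : (pullAb J K u).Additive := (adjAb J K u).left_adjoint_additive

/-- `u^* ℤ[K] ≅ ℤ[u^* K]` -/
noncomputable def pullFreeIso : Φ K ⋙ pullAb J K u ≅ pullSet J K u ⋙ Φ J :=
  (conjugateIsoEquiv ((adjSet J K u).comp (adjΦ J)) ((adjΦ K).comp (adjAb J K u))).symm
    (Iso.refl _)

lemma preservesFiniteLimits_pullSet_of_flat [RepresentablyFlat u] :
    PreservesFiniteLimits (u.sheafPullback (Type u) K J) := by
  haveI h1 : ∀ (F : Dᵒᵖ ⥤ Type u), u.op.HasLeftKanExtension F := inferInstance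
  haveI : ReflectsLimits (forget (Type u)) := reflectsLimits_of_reflectsIsomorphisms
  haveI h2 : PreservesFiniteLimits (u.op.lan : (Dᵒᵖ ⥤ Type u) ⥤ (Cᵒᵖ ⥤ Type u)) :=
    lan_preservesFiniteLimits_of_flat (E := Type u) u
  exact Functor.sheafPullbackConstruction.preservesFiniteLimits u (Type u) K J

variable [PreservesFiniteLimits (u.sheafPullback (Type u) K J)]

/-- the simplicial comparison -/
noncomputable def pullCechIso {K' K₀ : Sheaf K (Type u)} (f : K' ⟶ K₀) :
    ((Arrow.mk f).cechNerve ⋙ Φ K) ⋙ pullAb J K u ≅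
      (Arrow.mk ((pullSet J K u).map f)).cechNerve ⋙ Φ J :=
  Functor.isoWhiskerLeft (Arrow.mk f).cechNerve (pullFreeIso J K u) ≪≫
    Functor.isoWhiskerRight (CechRes.cechNerveMapIso (Arrow.mk f) (pullSet J K u)) (Φ J)

/-- the comparison of chain complexes -/
noncomputable def pullCechPIso {K' K₀ : Sheaf K (Type u)} (f : K' ⟶ K₀) :
    ((pullAb J K u).mapHomologicalComplex _).obj (cechP K f) ≅
      cechP J ((pullSet J K u).map f) :=
  (CechRes.altIso (pullAb J K u) _).symm ≪≫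
    (alternatingFaceMapComplex _).mapIso (pullCechIso J K u f)

theorem cechAcyclic_push (F : Sheaf J AddCommGrpCat.{u}) (hF : CechAcyclic J F) :
    CechAcyclic K ((CohSite.push J K u).obj F) := by
  intro K' K₀ f _ q
  apply acyclicAt_of_adj (adjAb J K u)
  apply acyclicAt_of_iso (pullCechPIso J K u f).symm
  have : (pullSet J K u).IsLeftAdjoint := (adjSet J K u).isLeftAdjoint
  exact hF ((pullSet J K u).map f) q

theorem isTotallyAcyclic_push (F : Sheaf J AddCommGrpCat.{u}) (hF : CohCx.IsTotallyAcyclic F) :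
    CohCx.IsTotallyAcyclic ((CohSite.push J K u).obj F) :=
  isTotallyAcyclic_of_cechAcyclic K _
    (cechAcyclic_push J K u F (cechAcyclic_of_isTotallyAcyclic J F hF))

end Push

end Groth.Agent.Lib.Helper5.CechFlasque
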