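import Mathlib
import Groth.Prelude.Def_CohCx
import Groth.Agent.Lib.Helper5.CechFlasque
import Groth.Agent.Lib.Helper13.ModGrothendieck
import Groth.Agent.Lib.Helper13.ModSheafBasic
import Groth.Agent.Lib.Helper2.GSS.CechTransfer

/-!
# Helper5: an injective module over a sheaf of (not necessarily commutative) rings has a totally
acyclic underlying abelian sheaf

Adaptation of helper2's `ModHomAcyclic` (commutative case, with a tensor factor) to a general sheaf
of rings `R : Sheaf J RingCat`, without tensor products.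
-/

set_option autoImplicit false
universe u
open CategoryTheory CategoryTheory.Limits Opposite AlgebraicTopology Simplicial
open Groth.Agent.Lib.Helper5 Groth.Agent.Lib.Helper13.ModShriekGen

noncomputable section

namespace Groth.Agent.Lib.Helper5.ModKFRing

variable {C : Type u} [SmallCategory C] {J : GrothendieckTopology C} (R : Sheaf J RingCat.{u})

/-- free presheaf of modules on a presheaf of sets. -/
abbrev FrP : (Cᵒᵖ ⥤ Type u) ⥤ PresheafOfModules.{u} R.obj := PresheafOfModules.free R.obj

/-- the objectwise functor `S ↦ R(U)[S]`, as abelian group. -/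
abbrev ThetaU (U : Cᵒᵖ) : Type u ⥤ AddCommGrpCat.{u} :=
  ModuleCat.free (R.obj.obj U) ⋙ forget₂ (ModuleCat.{u} (R.obj.obj U)) AddCommGrpCat.{u}

section Res

variable {K' K : Sheaf J (Type u)} (f : K' ⟶ K)

/-- the augmented simplicial presheaf of modules `R[N_•] → R[im]`. -/
def augX : SimplicialObject.Augmented (PresheafOfModules.{u} R.obj) :=
  ((SimplicialObject.Augmented.whiskering _ _).obj (FrP R)).obj (CechRes.augP J f)

def augXEvalIso (U : Cᵒᵖ) :
    ((SimplicialObject.Augmented.whiskering _ _).obj (ThetaU R U)).obj (CechRes.augU J f U) ≅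
    ((SimplicialObject.Augmented.whiskering _ _).obj
      ((evaluation Cᵒᵖ AddCommGrpCat.{u}).obj U)).obj
      (((SimplicialObject.Augmented.whiskering _ _).obj
        (PresheafOfModules.toPresheaf R.obj)).obj (augX R f)) :=
  Iso.refl _

lemma quasiIso_ε_augX : QuasiIso (AlternatingFaceMapComplex.ε.app (augX R f)) := by
  rw [← HomologicalComplex.quasiIso_map_iff_of_preservesHomology _
    (PresheafOfModules.toPresheaf R.obj),
    ← CechRes.quasiIso_ε_whiskering_iff, HomologicalComplex.quasiIso_iff_evaluation]
  intro U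
  rw [← CechRes.quasiIso_ε_whiskering_iff]
  exact CechRes.quasiIso_ε_of_extraDegeneracy
    (SimplicialObject.Augmented.ExtraDegeneracy.ofIso (augXEvalIso R f U)
      ((CechRes.augUED J f U).map (ThetaU R U)))

instance : PreservesFiniteLimits (shfA R) :=
  inferInstanceAs (PreservesFiniteLimits (PresheafOfModules.sheafification.{u} (𝟙 R.obj)))

instance : PreservesFiniteColimits (shfA R) := by
  haveI : PreservesColimitsOfSize.{0, 0} (shfA R) := (shfAdjA R).leftAdjoint_preservesColimits
  exact PreservesColimitsOfSize.preservesFiniteColimits _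

instance : (shfA R).Additive := Functor.additive_of_preserves_binary_products _

lemma quasiIso_ε_shf_augX : QuasiIso (AlternatingFaceMapComplex.ε.app
    (((SimplicialObject.Augmented.whiskering _ _).obj (shfA R)).obj (augX R f))) := by
  rw [CechRes.quasiIso_ε_whiskering_iff]
  have := quasiIso_ε_augX R f
  infer_instance

/-- the Čech chain complex `a(R[N_•])`. -/
abbrev cechX : ChainComplex (SheafOfModules.{u} R) ℕ :=
  (alternatingFaceMapComplex _).obj
    ((((Arrow.mk f).cechNerve ⋙ sheafToPresheaf J (Type u)) ⋙ FrP R) ⋙ shfA R)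

lemma cechX_exact (n : ℕ) :
    (ShortComplex.mk _ _ ((cechX R f).d_comp_d (n + 2) (n + 1) n)).Exact :=
  @CechFlasque.exact_succ _ _ _ (cechX R f) _ (AlternatingFaceMapComplex.ε.app
    (((SimplicialObject.Augmented.whiskering _ _).obj (shfA R)).obj (augX R f)))
    (quasiIso_ε_shf_augX R f) n

lemma acyclicAt_cechX (G : SheafOfModules.{u} R) [Injective G] (q : ℕ) :
    CechFlasque.AcyclicAt (cechX R f) G q := fun φ hφ =>
  ⟨(cechX_exact R f q).descToInjective φ hφ, (cechX_exact R f q).comp_descToInjective φ hφ⟩

end Res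


section Adj

/-- the underlying abelian sheaf functor. -/
abbrev toAbF : SheafOfModules.{u} R ⥤ Sheaf J AddCommGrpCat.{u} := SheafOfModules.toSheaf R

instance : PreservesLimitsOfSize.{u, u} (toAbF R) := by
  constructor
  intro K _
  haveI : PreservesLimitsOfShape K (toAbF R ⋙ sheafToPresheaf J AddCommGrpCat.{u}) :=
    inferInstanceAs (PreservesLimitsOfShape K
      (SheafOfModules.forget R ⋙ PresheafOfModules.toPresheaf _))
  exact preservesLimitsOfShape_of_reflects_of_preserves (toAbF R)
    (sheafToPresheaf J AddCommGrpCat.{u})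

instance : IsGrothendieckAbelian.{u} (SheafOfModules.{u} R) :=
  Groth.Agent.Lib.Helper13.ModGrothendieck.isGrothendieckAbelian R

instance toAbF_isRightAdjoint : (toAbF R).IsRightAdjoint :=
  isRightAdjoint_of_preservesLimits_of_isCoseparating.{u} (isCoseparator_coseparator _) _

/-- extension of scalars `R ⊗_ℤ -`, as the abstract left adjoint of the forgetful functor. -/
def LO : Sheaf J AddCommGrpCat.{u} ⥤ SheafOfModules.{u} R := (toAbF R).leftAdjoint

def adjLO : LO R ⊣ toAbF R := Adjunction.ofIsRightAdjoint _

instance : (LO R).Additive := (adjLO R).left_adjoint_additive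

/-- the free `R`-module on a sheaf of sets. -/
abbrev Psi : Sheaf J (Type u) ⥤ SheafOfModules.{u} R :=
  sheafToPresheaf J (Type u) ⋙ FrP R ⋙ shfA R

/-- the underlying sheaf of sets of a module. -/
abbrev Um : SheafOfModules.{u} R ⥤ Sheaf J (Type u) := toAbF R ⋙ CechFlasque.Uf J

/-- the free-forgetful adjunction between sheaves of sets and `R`-modules. -/
def adjPsi : Psi R ⊣ Um R :=
  ((PresheafOfModules.freeAdjunction R.obj).comp (shfAdjA R)).restrictFullyFaithful
    (fullyFaithfulSheafToPresheaf J (Type u)) (Functor.FullyFaithful.id _)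
    (Iso.refl _) (NatIso.ofComponents (fun _ => Iso.refl _))

/-- `R ⊗_ℤ ℤ[N] ≅ R[N]`. -/
def freeLOIso : CechFlasque.Φ J ⋙ LO R ≅ Psi R :=
  Adjunction.leftAdjointUniq ((CechFlasque.adjΦ J).comp (adjLO R)) (adjPsi R)

end Adj

section Main
open CechFlasque Groth.Agent.Lib.Helper2.CechTransfer

/-- the comparison of chain complexes. -/
def cechXIso {K' K : Sheaf J (Type u)} (f : K' ⟶ K) :
    cechX R f ≅ ((LO R).mapHomologicalComplex _).obj (cechP J f) :=
  (alternatingFaceMapComplex _).mapIso
    (Functor.isoWhiskerLeft (Arrow.mk f).cechNerve (freeLOIso R).symm :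
      (Arrow.mk f).cechNerve ⋙ Psi R ≅ (Arrow.mk f).cechNerve ⋙ (Φ J ⋙ LO R)) ≪≫
    CechRes.altIso (LO R) ((Arrow.mk f).cechNerve ⋙ Φ J)

/-- **An injective module is Čech-acyclic.** -/
theorem cechAcyclic_of_injective (G : SheafOfModules.{u} R) [Injective G] :
    CechAcyclic J ((toAbF R).obj G) := by
  intro K' K f _ q
  refine Groth.Agent.Lib.Helper2.CechTransfer.acyclicAt_of_adj (adjLO R) (cechP J f) G q ?_
  exact Groth.Agent.Lib.Helper2.CechTransfer.acyclicAt_of_iso (cechXIso R f) G q (acyclicAt_cechX R f G q)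

/-- **KF: an injective module is totally acyclic.** -/
theorem isTotallyAcyclic_of_injective (G : SheafOfModules.{u} R) [Injective G] :
    CohCx.IsTotallyAcyclic ((SheafOfModules.toSheaf R).obj G) :=
  isTotallyAcyclic_of_cechAcyclic J _ (cechAcyclic_of_injective R G)

end Main

end Groth.Agent.Lib.Helper5.ModKFRing
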