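import Mathlib
import Groth.Agent.Lib.Helper2.ExtUnitH
import Groth.Agent.Lib.Helper5.ModKFRing

/-!
# Helper5: `Ext^n_R(R, M) ≅ H^n(C, M_ab)` for a sheaf of (not necessarily commutative) rings

Adaptation of helper2's `ExtUnitH` (commutative case) using `ModKFRing.isTotallyAcyclic_of_injective`.
-/

set_option autoImplicit false
universe w v u
open CategoryTheory CategoryTheory.Limits Opposite
open Groth.Agent.Lib.Helper5 Groth.Agent.Lib.Helper13.DeltaFun
open Groth.Agent.Lib.Helper2.ExtUnitH Groth.Agent.Lib.Helper5.ModKFRing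

noncomputable section
namespace Groth.Agent.Lib.Helper5.ExtUnitHRing

variable {C : Type u} [SmallCategory C] {J : GrothendieckTopology C} (R : Sheaf J RingCat.{u})

/-- the presheaf map `ℤ ⟶ R`, `n ↦ n • 1`. -/
def eta₀ : (Functor.const Cᵒᵖ).obj (AddCommGrpCat.of (ULift.{u} ℤ)) ⟶
    ((toAbF R).obj (SheafOfModules.unit R)).obj where
  app U := AddCommGrpCat.ofHom
    (uliftZMultiplesHom (R.obj.obj U) (1 : R.obj.obj U))
  naturality U V f := by
    ext n
    change n.down • (1 : R.obj.obj V) =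
      (R.obj.map f).hom (n.down • (1 : R.obj.obj U))
    rw [map_zsmul, map_one]

/-- the canonical map `ℤ_C ⟶ R`. -/
def eta : constZ J ⟶ (toAbF R).obj (SheafOfModules.unit R) :=
  ((sheafificationAdjunction J AddCommGrpCat.{u}).homEquiv _ _).symm (eta₀ R)

lemma homEquiv_eta_comp {P : SheafOfModules.{u} R} (f : SheafOfModules.unit R ⟶ P) :
    (sheafificationAdjunction J AddCommGrpCat.{u}).homEquiv _ _ (eta R ≫ (toAbF R).map f) =
      eta₀ R ≫ ((toAbF R).map f).hom := by
  rw [Adjunction.homEquiv_naturality_right]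
  unfold eta
  rw [Equiv.apply_symm_apply]
  rfl

lemma eta₀_comp_apply {P : SheafOfModules.{u} R} (f : SheafOfModules.unit R ⟶ P) (U : Cᵒᵖ)
    (n : ULift.{u} ℤ) :
    ((eta₀ R ≫ ((toAbF R).map f).hom).app U).hom n =
      n.down • (f.val.app U).hom (1 : R.obj.obj U) := by
  exact map_zsmul (f.val.app U).hom n.down _

/-- `f ↦ η ≫ toAb f` -/
def zeroMap (P : SheafOfModules.{u} R) :
    (SheafOfModules.unit R ⟶ P) →+ (constZ J ⟶ (toAbF R).obj P) where
  toFun f := eta R ≫ (toAbF R).map f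
  map_zero' := by rw [Functor.map_zero, comp_zero]
  map_add' f g := by rw [Functor.map_add, Preadditive.comp_add]

lemma zeroMap_injective (P : SheafOfModules.{u} R) : Function.Injective (zeroMap R P) := by
  intro f g h
  have h' : eta₀ R ≫ ((toAbF R).map f).hom = eta₀ R ≫ ((toAbF R).map g).hom := by
    rw [← homEquiv_eta_comp, ← homEquiv_eta_comp]
    exact congrArg _ h
  apply (SheafOfModules.unitHomEquiv P).injective
  apply PresheafOfModules.sections_ext
  intro U
  have h1 := eta₀_comp_apply R f U ⟨1⟩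
  have h2 := eta₀_comp_apply R g U ⟨1⟩
  rw [h'] at h1
  rw [one_zsmul] at h1 h2
  exact h1.symm.trans h2

lemma zeroMap_surjective (P : SheafOfModules.{u} R) : Function.Surjective (zeroMap R P) := by
  intro ψ
  let φ := (sheafificationAdjunction J AddCommGrpCat.{u}).homEquiv _ _ ψ
  have hφ : ∀ ⦃U V : Cᵒᵖ⦄ (f : U ⟶ V),
      (((toAbF R).obj P).obj.map f).hom ((φ.app U).hom ⟨1⟩) = (φ.app V).hom ⟨1⟩ := by
    intro U V f
    have := congrArg (fun t => t.hom (⟨1⟩ : ULift.{u} ℤ)) (φ.naturality f)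
    exact this.symm
  let s : P.sections := PresheafOfModules.sectionsMk (M := P.val) (fun U => (φ.app U).hom ⟨1⟩) hφ
  refine ⟨(SheafOfModules.unitHomEquiv P).symm s, ?_⟩
  apply ((sheafificationAdjunction J AddCommGrpCat.{u}).homEquiv _ _).injective
  refine (homEquiv_eta_comp R _).trans ?_
  ext U n
  refine (eta₀_comp_apply R _ U n).trans ?_
  have h1 : (((SheafOfModules.unitHomEquiv P).symm s).val.app U).hom
      (1 : R.obj.obj U) = (φ.app U).hom ⟨1⟩ := by
    have := SheafOfModules.unitHomEquiv_apply_coe P ((SheafOfModules.unitHomEquiv P).symm s) U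
    rw [Equiv.apply_symm_apply] at this
    exact this.symm
  rw [h1]
  have h2 := map_zsmul (φ.app U).hom n.down (⟨1⟩ : ULift.{u} ℤ)
  refine Eq.trans ?_ (Eq.trans h2.symm ?_)
  · rfl
  · congr 1
    ext
    simp

open Abelian

instance : PreservesFiniteColimits (toAbF R) :=
  ⟨fun _ _ _ => Groth.Agent.Lib.Helper13.ModSheafBasic.toSheaf_preservesColimitsOfShape _ _⟩

instance : (toAbF R).Additive := Functor.additive_of_preserves_binary_products _

instance : EnoughInjectives (SheafOfModules.{u} R) :=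
  Groth.Agent.Lib.Helper13.ModGrothendieck.enoughInjectives R

variable [HasExt.{u} (SheafOfModules.{u} R)]

/-- the δ-functor `P ↦ Ext^n_R(R, P)`. -/
abbrev TT : DFun.{u} (SheafOfModules.{u} R) := ofExt (𝟭 (SheafOfModules.{u} R)) (SheafOfModules.unit R)

/-- the δ-functor `P ↦ H^n(C, P)`. -/
abbrev SS : DFun.{u} (SheafOfModules.{u} R) := ofExt (toAbF R) (constZ J)

/-- the comparison in degree `0`. -/
def e0 (P : SheafOfModules.{u} R) : (TT R).obj P 0 →+ (SS R).obj P 0 :=
  ((Ext.addEquiv₀ (X := constZ J) (Y := (toAbF R).obj P)).symm.toAddMonoidHom.comp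
    (zeroMap R P)).comp (Ext.addEquiv₀ (X := SheafOfModules.unit R) (Y := P)).toAddMonoidHom

lemma e0_mk₀ (P : SheafOfModules.{u} R) (f : SheafOfModules.unit R ⟶ P) :
    e0 R P (Ext.mk₀ f) = Ext.mk₀ (eta R ≫ (toAbF R).map f) := by
  change Ext.addEquiv₀.symm (zeroMap R P (Ext.addEquiv₀ (Ext.mk₀ f))) = _
  rw [Ext.addEquiv₀_symm_apply]
  congr 1
  have : Ext.addEquiv₀ (Ext.mk₀ f) = f := Ext.addEquiv₀.apply_symm_apply f
  rw [this]
  rfl

lemma e0_bijective (P : SheafOfModules.{u} R) : Function.Bijective (e0 R P) := by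
  have h1 : Function.Bijective (zeroMap R P) := ⟨zeroMap_injective R P, zeroMap_surjective R P⟩
  exact (Ext.addEquiv₀.symm.bijective.comp h1).comp Ext.addEquiv₀.bijective

lemma e0_natural {P Q : SheafOfModules.{u} R} (φ : P ⟶ Q) (x : (TT R).obj P 0) :
    e0 R Q ((TT R).map φ 0 x) = (SS R).map φ 0 (e0 R P x) := by
  obtain ⟨f, rfl⟩ := (Ext.mk₀_bijective _ _).2 x
  rw [ofExt_map_apply, e0_mk₀, ofExt_map_apply, Ext.mk₀_comp_mk₀, Ext.mk₀_comp_mk₀]
  change e0 R Q (Ext.mk₀ (f ≫ φ)) = _
  rw [e0_mk₀, Functor.map_comp, Category.assoc]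

lemma effaceable_TT : Effaceable (TT R) := by
  intro I _ n x
  exact Ext.eq_zero_of_injective x

lemma effaceable_SS : Effaceable (SS R) := by
  intro I _ n x
  have h : Subsingleton ((SS R).obj I (n + 1)) :=
    subsingleton_H_of_isTotallyAcyclic J ((toAbF R).obj I) (isTotallyAcyclic_of_injective R I) n
  exact Subsingleton.elim _ _

/-- **Cohomology of an `R`-module computed in `Mod(R)` and on the underlying abelian sheaf agree**:
a morphism of δ-functors `Ext^n_R(R, -) ⟶ H^n(C, -)`, bijective in every degree. -/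
theorem exists_comparison :
    ∃ e : ∀ (P : SheafOfModules.{u} R) (n : ℕ),
      Ext (SheafOfModules.unit R) P n →+ Sheaf.H ((toAbF R).obj P) n,
      IsHom (TT R) (SS R) e ∧ (∀ P, e P 0 = e0 R P) ∧ ∀ P n, Function.Bijective (e P n) :=
  bijective_of_zero (effaceable_TT R) (effaceable_SS R) (e0 R) (e0_natural R) (e0_bijective R)

/-- the objectwise form. -/
theorem nonempty_addEquiv (P : SheafOfModules.{u} R) (n : ℕ) :
    Nonempty (Ext (SheafOfModules.unit R) P n ≃+ Sheaf.H ((SheafOfModules.toSheaf R).obj P) n) := by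
  obtain ⟨e, -, -, hb⟩ := exists_comparison R
  exact ⟨AddEquiv.ofBijective (e P n) (hb P n)⟩

end Groth.Agent.Lib.Helper5.ExtUnitHRing
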