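import Groth.Agent.Lib.Helper5.InvModSections

/-!
# Helper5: morphisms out of the structure module and global sections
-/

set_option autoImplicit false
universe u

open CategoryTheory AlgebraicGeometry TopologicalSpace Opposite

namespace Groth.Agent.Lib.Helper5

theorem bijective_sections_eval_top {Xt : Type*} [TopologicalSpace Xt]
    (F : (Opens Xt)ᵒᵖ ⥤ Type*) :
    Function.Bijective (fun s : F.sections => s.1 (op ⊤)) := by
  constructor
  · intro s t h
    apply Subtype.ext
    funext V
    have hs := s.2 (homOfLE (le_top : V.unop ≤ ⊤)).op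
    have ht := t.2 (homOfLE (le_top : V.unop ≤ ⊤)).op
    rw [← hs, ← ht]
    exact congrArg _ h
  · intro x
    refine ⟨⟨fun V => F.map (homOfLE (le_top : V.unop ≤ ⊤)).op x, ?_⟩, ?_⟩
    · intro V W f
      dsimp only
      rw [← CategoryTheory.Functor.map_comp_apply]
      congr 2
    · change F.map (𝟙 _) x = x
      simp

variable {X : Scheme.{u}}

/-- Evaluation of a morphism `O_X ⟶ M` at the global section `1`. -/
noncomputable def evTop (M : X.Modules) (φ : Coh.structureModule X ⟶ M) : Γ(M, ⊤) :=
  (SheafOfModules.unitHomEquiv (R := X.ringCatSheaf) M φ).val (op ⊤)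

theorem bijective_evTop (M : X.Modules) : Function.Bijective (evTop M) :=
  (bijective_sections_eval_top _).comp (SheafOfModules.unitHomEquiv (R := X.ringCatSheaf) M).bijective


theorem evTop_apply (M : X.Modules) (φ : Coh.structureModule X ⟶ M) :
    evTop M φ = φ.app ⊤ (1 : Γ(X, ⊤)) := rfl

theorem app_naturality_apply {M N : X.Modules} (φ : M ⟶ N) {A B : X.Opens} (hAB : A ≤ B)
    (x : Γ(M, B)) :
    N.presheaf.map (homOfLE hAB).op (φ.app B x) = φ.app A (M.presheaf.map (homOfLE hAB).op x) := by
  have := φ.mapPresheaf.naturality (homOfLE hAB).op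
  simp only [Scheme.Modules.mapPresheaf_app] at this
  exact congr($this x).symm

theorem bijective_res_of_bijective_restrict_map {U' X' : Scheme.{u}} (j : U' ⟶ X')
    [IsOpenImmersion j]
    (hff : Function.Bijective (fun φ : Coh.structureModule X' ⟶ Coh.structureModule X' =>
      (Scheme.Modules.restrictFunctor j).map φ)) :
    Function.Bijective (X'.presheaf.map (homOfLE (le_top : j ''ᵁ ⊤ ≤ ⊤)).op) := by
  let ι := Scheme.Modules.restrictUnitIso j
  have h1 : Function.Bijective (fun φ : Coh.structureModule X' ⟶ Coh.structureModule X' =>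
      evTop ((Coh.structureModule X').restrict j)
        (ι.inv ≫ (Scheme.Modules.restrictFunctor j).map φ)) :=
    (bijective_evTop _).comp ((ι.homFromEquiv.bijective).comp hff)
  have key : ∀ φ : Coh.structureModule X' ⟶ Coh.structureModule X',
      evTop ((Coh.structureModule X').restrict j)
        (ι.inv ≫ (Scheme.Modules.restrictFunctor j).map φ) =
      X'.presheaf.map (homOfLE (le_top : j ''ᵁ ⊤ ≤ ⊤)).op (evTop (Coh.structureModule X') φ) := by
    intro φ
    rw [evTop_apply, evTop_apply]
    have e1 : (ι.inv.app ⊤) (1 : Γ(U', ⊤)) = (1 : Γ(X', j ''ᵁ ⊤)) :=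
      map_one (j.appIso ⊤).inv.hom
    have e2 : ((Scheme.Modules.restrictFunctor j).map φ).app ⊤ = φ.app (j ''ᵁ ⊤) := rfl
    have e3 : (1 : Γ(X', j ''ᵁ ⊤)) =
        (Coh.structureModule X').presheaf.map (homOfLE (le_top : j ''ᵁ ⊤ ≤ ⊤)).op
          (1 : Γ(X', ⊤)) :=
      (map_one (X'.presheaf.map (homOfLE (le_top : j ''ᵁ ⊤ ≤ ⊤)).op).hom).symm
    change ((Scheme.Modules.restrictFunctor j).map φ).app ⊤ (ι.inv.app ⊤ (1 : Γ(U', ⊤))) = _
    rw [e1, e2, e3]
    exact (app_naturality_apply φ (le_top : j ''ᵁ ⊤ ≤ ⊤) (1 : Γ(X', ⊤))).symm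
  have h2 : Function.Bijective ((X'.presheaf.map (homOfLE (le_top : j ''ᵁ ⊤ ≤ ⊤)).op) ∘
      (evTop (Coh.structureModule X'))) := by
    have : ((X'.presheaf.map (homOfLE (le_top : j ''ᵁ ⊤ ≤ ⊤)).op) ∘
      (evTop (Coh.structureModule X'))) = (fun φ : Coh.structureModule X' ⟶ Coh.structureModule X' =>
      evTop ((Coh.structureModule X').restrict j)
        (ι.inv ≫ (Scheme.Modules.restrictFunctor j).map φ)) := by
      funext φ
      exact (key φ).symm
    rw [this]
    exact h1
  exact (Function.Bijective.of_comp_iff _ (bijective_evTop _)).mp h2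

end Groth.Agent.Lib.Helper5
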