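import Mathlib
import Groth.Prelude.Def_CohSite
import Groth.Prelude.Def_FreeSh
import Groth.Agent.Lib.Helper13.ExtAdj
import Groth.Agent.Lib.Helper13.DiscFibLan
import Groth.Agent.Lib.Helper13.OverRestrAcyclic

set_option autoImplicit false
open CategoryTheory CategoryTheory.Limits Opposite

namespace Groth.Agent.Lib.Helper5.CoContCoh

universe u

section FreePull

variable {C D : Type u} [SmallCategory C] [SmallCategory D]
  (J : GrothendieckTopology C) (K : GrothendieckTopology D) (v : C ⥤ D) [v.IsContinuous J K]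

/-- the canonical section of `v^* ℤ_V` over `v V` -/
noncomputable def pullSect (V : C) :
    ((v.sheafPullback AddCommGrpCat.{u} J K).obj (CohCx.freeSheaf J V)).obj.obj (op (v.obj V)) :=
  (((v.sheafAdjunctionContinuous AddCommGrpCat.{u} J K).unit.app (CohCx.freeSheaf J V)).hom.app
    (op V)).hom (CohFree.gen J V)

/-- the comparison map `ℤ_{vV} ⟶ v^* ℤ_V` -/
noncomputable def pullFreeMap (V : C) :
    CohCx.freeSheaf K (v.obj V) ⟶
      (v.sheafPullback AddCommGrpCat.{u} J K).obj (CohCx.freeSheaf J V) :=
  CohFree.ofSect K (v.obj V) _ (pullSect J K v V)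

lemma pullFreeMap_key (V : C) (T : Sheaf K AddCommGrpCat.{u})
    (f : (v.sheafPullback AddCommGrpCat.{u} J K).obj (CohCx.freeSheaf J V) ⟶ T) :
    CohFree.evalGen K (v.obj V) T (pullFreeMap J K v V ≫ f) =
      CohFree.evalGen J V ((v.sheafPushforwardContinuous AddCommGrpCat.{u} J K).obj T)
        ((v.sheafAdjunctionContinuous AddCommGrpCat.{u} J K).homEquiv _ _ f) := by
  have h1 : CohFree.evalGen K (v.obj V) T (pullFreeMap J K v V ≫ f) =
      (f.hom.app (op (v.obj V))).hom (CohFree.evalGen K (v.obj V) _ (pullFreeMap J K v V)) := rfl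
  rw [h1, pullFreeMap, CohFree.evalGen_ofSect, Adjunction.homEquiv_unit]
  rfl

instance isIso_pullFreeMap (V : C) : IsIso (pullFreeMap J K v V) := by
  apply isIso_of_coyoneda_map_bijective
  intro T
  have h : (CohFree.homEquivSect K (v.obj V) T) ∘ (fun x => pullFreeMap J K v V ≫ x) =
      (CohFree.homEquivSect J V ((v.sheafPushforwardContinuous AddCommGrpCat.{u} J K).obj T)) ∘
        ((v.sheafAdjunctionContinuous AddCommGrpCat.{u} J K).homEquiv _ _) :=
    funext (pullFreeMap_key J K v V T)
  have h2 : Function.Bijective ((CohFree.homEquivSect K (v.obj V) T) ∘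
      (fun x => pullFreeMap J K v V ≫ x)) := by
    rw [h]
    exact (CohFree.homEquivSect J V _).bijective.comp (Equiv.bijective _)
  exact (Function.Bijective.of_comp_iff' (CohFree.homEquivSect K (v.obj V) T).bijective _).1 h2

/-- `v^* ℤ_V ≅ ℤ_{vV}` -/
noncomputable def pullFreeSheafIso (V : C) :
    (v.sheafPullback AddCommGrpCat.{u} J K).obj (CohCx.freeSheaf J V) ≅
      CohCx.freeSheaf K (v.obj V) :=
  (asIso (pullFreeMap J K v V)).symm

end FreePull

end Groth.Agent.Lib.Helper5.CoContCoh


namespace Groth.Agent.Lib.Helper5.CoContCoh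

universe u

section Part2

variable {C D : Type u} [SmallCategory C] [SmallCategory D]
  (J : GrothendieckTopology C) (K : GrothendieckTopology D) (v : C ⥤ D) [v.IsContinuous J K]
  [v.IsCocontinuous J K] [PreservesFiniteLimits (v.sheafPullback AddCommGrpCat.{u} J K)]

instance push_preservesFiniteLimits : PreservesFiniteLimits (CohSite.push K J v) :=
  have : PreservesLimitsOfSize.{u, u} (CohSite.push K J v) :=
    (v.sheafAdjunctionContinuous AddCommGrpCat.{u} J K).rightAdjoint_preservesLimits
  PreservesLimitsOfSize.preservesFiniteLimits.{u, u} _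

instance push_preservesFiniteColimits : PreservesFiniteColimits (CohSite.push K J v) :=
  have : PreservesColimitsOfSize.{u, u} (CohSite.push K J v) :=
    (v.sheafAdjunctionCocontinuous AddCommGrpCat.{u} J K).leftAdjoint_preservesColimits
  PreservesColimitsOfSize.preservesFiniteColimits.{u, u} _

/-- `H^p(vV, F) ≃ H^p(V, v^{-1}F)` when `v_!` is exact. -/
noncomputable def extPushEquiv (F : Sheaf K AddCommGrpCat.{u}) (V : C) (p : ℕ) :
    Abelian.Ext (CohCx.freeSheaf K (v.obj V)) F p ≃+
      Abelian.Ext (CohCx.freeSheaf J V) ((CohSite.push K J v).obj F) p :=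
  (Helper13.ExtAdj.extIsoLeft (pullFreeSheafIso J K v V) F p).trans
    (Helper13.ExtAdj.extAdjEquiv' (v.sheafAdjunctionContinuous AddCommGrpCat.{u} J K)
      (CohCx.freeSheaf J V) F p)

end Part2

end Groth.Agent.Lib.Helper5.CoContCoh

namespace Groth.Agent.Lib.Helper5.CoContCoh

universe u

section Localize

variable {C D : Type u} [SmallCategory C] [SmallCategory D] [HasPullbacks C]
  (J : GrothendieckTopology C) (K : GrothendieckTopology D) (u : C ⥤ D)
  [PreservesLimitsOfShape WalkingCospan u] (U : C)

instance hasFiniteLimits_over : HasFiniteLimits (Over U) :=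
  hasFiniteLimits_of_hasTerminal_and_pullbacks

instance preservesPullbacks_overPost :
    PreservesLimitsOfShape WalkingCospan (Over.post (X := U) u) := by
  have : PreservesLimitsOfShape WalkingCospan (Over.post (X := U) u ⋙ Over.forget (u.obj U)) :=
    inferInstanceAs (PreservesLimitsOfShape WalkingCospan (Over.forget U ⋙ u))
  exact preservesLimitsOfShape_of_reflects_of_preserves _ (Over.forget (u.obj U))

instance preservesTerminal_overPost :
    PreservesLimitsOfShape (Discrete PEmpty.{1}) (Over.post (X := U) u) := by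
  have : PreservesLimit (Functor.empty.{0} (Over U)) (Over.post (X := U) u) := by
    apply preservesTerminal_of_iso
    have e1 : (Over.post (X := U) u).obj (Over.mk (𝟙 U)) ≅ Over.mk (𝟙 (u.obj U)) :=
      Over.isoMk (Iso.refl _) (by
        show 𝟙 (u.obj U) ≫ 𝟙 (u.obj U) = u.map (𝟙 U)
        simp)
    exact (Over.post (X := U) u).mapIso (terminalIsTerminal.uniqueUpToIso Over.mkIdTerminal) ≪≫
      e1 ≪≫ (terminalIsTerminal.uniqueUpToIso Over.mkIdTerminal).symm
  exact preservesLimitsOfShape_pempty_of_preservesTerminal _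

instance preservesFiniteLimits_overPost : PreservesFiniteLimits (Over.post (X := U) u) :=
  preservesFiniteLimits_of_preservesTerminal_and_pullbacks _

instance flat_overPost : RepresentablyFlat (Over.post (X := U) u) :=
  flat_of_preservesFiniteLimits _

variable {J K} in
lemma isContinuous_overPost (hu : CoverPreserving J K u) :
    (Over.post (X := U) u).IsContinuous (J.over U) (K.over (u.obj U)) :=
  Functor.isContinuous_of_coverPreserving (compatiblePreservingOfFlat _ _) (hu.overPost U)

end Localize

end Groth.Agent.Lib.Helper5.CoContCoh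

namespace Groth.Agent.Lib.Helper5.CoContCoh

universe u

section Main

variable {C D : Type u} [SmallCategory C] [SmallCategory D] [HasPullbacks C]
  (J : GrothendieckTopology C) (K : GrothendieckTopology D) (u : C ⥤ D)
  [u.IsContinuous J K] [PreservesLimitsOfShape WalkingCospan u]
  [u.IsCocontinuous J K]

theorem nonempty_ext_push_equiv (hu : CoverPreserving J K u)
    (F : Sheaf K AddCommGrpCat.{u}) (U : C) (p : ℕ) :
    Nonempty (Abelian.Ext (CohCx.freeSheaf J U) ((CohSite.push K J u).obj F) p ≃+
      Abelian.Ext (CohCx.freeSheaf K (u.obj U)) F p) := by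
  let v := Over.post (X := U) u
  haveI : v.IsContinuous (J.over U) (K.over (u.obj U)) := isContinuous_overPost u U hu
  haveI : PreservesFiniteLimits
      (v.op.lan : ((Over U)ᵒᵖ ⥤ AddCommGrpCat.{u}) ⥤ ((Over (u.obj U))ᵒᵖ ⥤ AddCommGrpCat.{u})) :=
    lan_preservesFiniteLimits_of_flat AddCommGrpCat.{u} v
  haveI : PreservesFiniteLimits
      (v.sheafPullback AddCommGrpCat.{u} (J.over U) (K.over (u.obj U))) :=
    Helper13.DiscFibLan.sheafPullback_preservesFiniteLimits AddCommGrpCat.{u} v _ _
  haveI : PreservesFiniteLimits ((Over.forget U).sheafPullback AddCommGrpCat.{u} (J.over U) J) :=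
    Helper13.OverRestrAcyclic.shriekAb_preservesFiniteLimits J U
  haveI : PreservesFiniteLimits
      ((Over.forget (u.obj U)).sheafPullback AddCommGrpCat.{u} (K.over (u.obj U)) K) :=
    Helper13.OverRestrAcyclic.shriekAb_preservesFiniteLimits K (u.obj U)
  let G := (CohSite.push K J u).obj F
  let e1 := extPushEquiv (J.over U) J (Over.forget U) G (Over.mk (𝟙 U)) p
  let FU := (CohSite.push K (K.over (u.obj U)) (Over.forget (u.obj U))).obj F
  let e2 := extPushEquiv (K.over (u.obj U)) K (Over.forget (u.obj U)) F (v.obj (Over.mk (𝟙 U))) p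
  let e3 := extPushEquiv (J.over U) (K.over (u.obj U)) v FU (Over.mk (𝟙 U)) p
  let i : (CohSite.push (K.over (u.obj U)) (J.over U) v).obj FU ≅
      (CohSite.push J (J.over U) (Over.forget U)).obj G := Iso.refl _
  exact ⟨(e1.trans ((Helper13.ExtAdj.extIsoRight _ i p).symm.trans e3.symm)).trans e2.symm⟩

end Main

end Groth.Agent.Lib.Helper5.CoContCoh


namespace Groth.Agent.Lib.Helper5.CoContCoh

universe u

section Terminal

variable {C : Type u} [SmallCategory C] (J : GrothendieckTopology C)

/-- the free abelian presheaf on a terminal object is the constant presheaf `ℤ` -/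
noncomputable def freePreIsoConst {T : C} (hT : IsTerminal T) :
    yoneda.obj T ⋙ AddCommGrpCat.free.{u} ≅
      (Functor.const Cᵒᵖ).obj (AddCommGrpCat.of (ULift.{u} ℤ)) :=
  NatIso.ofComponents (fun V =>
    haveI : Unique (V.unop ⟶ T) := ⟨⟨hT.from _⟩, fun f => hT.hom_ext _ _⟩
    (AddEquiv.toAddCommGrpIso
      ((FreeAbelianGroup.uniqueEquiv (V.unop ⟶ T)).trans AddEquiv.ulift.symm))) (by
    intro V V' g
    apply AddCommGrpCat.hom_ext
    apply FreeAbelianGroup.lift_ext
    intro f
    haveI : Unique (V.unop ⟶ T) := ⟨⟨hT.from _⟩, fun f => hT.hom_ext _ _⟩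
    haveI : Unique (V'.unop ⟶ T) := ⟨⟨hT.from _⟩, fun f => hT.hom_ext _ _⟩
    show AddEquiv.ulift.symm ((FreeAbelianGroup.uniqueEquiv (V'.unop ⟶ T))
        (FreeAbelianGroup.map (fun f' => g.unop ≫ f') (FreeAbelianGroup.of f))) =
      AddEquiv.ulift.symm ((FreeAbelianGroup.uniqueEquiv (V.unop ⟶ T)) (FreeAbelianGroup.of f))
    rw [FreeAbelianGroup.map_of_apply]
    simp [FreeAbelianGroup.uniqueEquiv])

/-- the constant sheaf `ℤ` is the free abelian sheaf on a terminal object -/
noncomputable def constIsoFreeSheaf {T : C} (hT : IsTerminal T) :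
    (constantSheaf J AddCommGrpCat.{u}).obj (AddCommGrpCat.of (ULift.{u} ℤ)) ≅
      CohCx.freeSheaf J T :=
  (presheafToSheaf J AddCommGrpCat.{u}).mapIso (freePreIsoConst hT).symm

end Terminal

end Groth.Agent.Lib.Helper5.CoContCoh
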