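import Mathlib

/-!
# Finite families in filtered categories (helper5)
-/

set_option autoImplicit false
universe v u w

open CategoryTheory CategoryTheory.Limits

namespace Groth.Agent.Lib.Helper5.FiltFin

variable {I : Type u} [Category.{v} I] [IsFiltered I]

/-- finitely many properties of morphisms out of `j`, each stable under postcomposition and each
satisfied somewhere, are simultaneously satisfied somewhere. -/
lemma exists_common {ι : Type w} [Finite ι] (j : I)
    (p : ι → ∀ k : I, (j ⟶ k) → Prop)
    (hp : ∀ (i : ι) (k : I) (f : j ⟶ k) (l : I) (g : k ⟶ l), p i k f → p i l (f ≫ g))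
    (h : ∀ i, ∃ (k : I) (f : j ⟶ k), p i k f) : ∃ (k : I) (f : j ⟶ k), ∀ i, p i k f := by
  classical
  choose k f hf using h
  haveI := Fintype.ofFinite ι
  obtain ⟨S, hS⟩ := IsFiltered.sup_objs_exists
    (Finset.univ.image (fun i => (Under.mk (f i) : Under j)))
  refine ⟨S.right, S.hom, fun i => ?_⟩
  obtain ⟨g⟩ := hS (Finset.mem_image_of_mem _ (Finset.mem_univ i))
  have h1 := hp i _ (f i) _ g.right (hf i)
  have h2 : f i ≫ g.right = S.hom := Under.w g
  rwa [h2] at h1

/-- finitely many objects have a common upper bound. -/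
lemma exists_bound {ι : Type w} [Finite ι] (k : ι → I) : ∃ (l : I), ∀ i, Nonempty (k i ⟶ l) := by
  classical
  haveI := Fintype.ofFinite ι
  obtain ⟨S, hS⟩ := IsFiltered.sup_objs_exists (Finset.univ.image k)
  exact ⟨S, fun i => hS (Finset.mem_image_of_mem _ (Finset.mem_univ i))⟩

end Groth.Agent.Lib.Helper5.FiltFin
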