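import Mathlib
import Groth.Prelude
import Groth.Agent.Lib.Helper13.CechLow
import Groth.Agent.Lib.Helper5.FiltFin

/-!
# Čech exactness passes to filtered colimits, for finite families (helper5)
-/

set_option autoImplicit false
universe u' w v v'

open CategoryTheory CategoryTheory.Limits Opposite

noncomputable section

namespace Groth.Agent.Lib.Helper5.CechColim

open Groth.Agent.Lib.Helper13 Groth.Agent.Lib.Helper13.CechBasic Groth.Agent.Lib.Helper13.CechLow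

variable {D : Type u'} [Category.{w} D] [HasFiniteProducts D] {ι : Type w} (Y : ι → D)

section Maps

variable {P P' P'' : Dᵒᵖ ⥤ AddCommGrpCat.{w}} (τ : P ⟶ P') (σ : P' ⟶ P'')

/-- the induced map on Čech cochains, on elements -/
def cmap (m : ℕ) : (cx Y P).X m →+ (cx Y P').X m := (((cechComplexFunctor Y).map τ).f m).hom

lemma proj_cmap (m : ℕ) (a : Fin (m + 1) → ι) (x : (cx Y P).X m) :
    (proj Y P' m a).hom (cmap Y τ m x) = (τ.app (op (∏ᶜ (Y ∘ a)))).hom ((proj Y P m a).hom x) :=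
  ConcreteCategory.congr_hom (map_proj Y τ m a) x

lemma d_cmap (m : ℕ) (x : (cx Y P).X m) :
    ((cx Y P').d m (m + 1)).hom (cmap Y τ m x) = cmap Y τ (m + 1) (((cx Y P).d m (m + 1)).hom x) :=
  ConcreteCategory.congr_hom (((cechComplexFunctor Y).map τ).comm m (m + 1)) x

lemma cmap_comp (m : ℕ) (x : (cx Y P).X m) :
    cmap Y (τ ≫ σ) m x = cmap Y σ m (cmap Y τ m x) := by
  unfold cmap
  rw [Functor.map_comp]
  rfl

end Maps

variable [Finite ι] {I : Type v} [Category.{v'} I] [IsFiltered I]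
  (Q : I ⥤ (Dᵒᵖ ⥤ AddCommGrpCat.{w})) {R : Dᵒᵖ ⥤ AddCommGrpCat.{w}} (τ : ∀ i, Q.obj i ⟶ R)
  (hτ : ∀ {i j : I} (f : i ⟶ j), Q.map f ≫ τ j = τ i)

include hτ in
lemma exists_lift (m : ℕ)
    (hsurj : ∀ (a : Fin (m + 1) → ι) (s : R.obj (op (∏ᶜ (Y ∘ a)))),
      ∃ (i : I) (t : (Q.obj i).obj (op (∏ᶜ (Y ∘ a)))), ((τ i).app _).hom t = s)
    (x : (cx Y R).X m) : ∃ (i : I) (y : (cx Y (Q.obj i)).X m), cmap Y (τ i) m y = x := by
  choose i0 t0 ht0 using fun a => hsurj a ((proj Y R m a).hom x)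
  obtain ⟨l, hl⟩ := FiltFin.exists_bound i0
  refine ⟨l, mk Y (Q.obj l) (fun a => ((Q.map (hl a).some).app _).hom (t0 a)), ?_⟩
  apply ext_elem
  intro a
  rw [proj_cmap, proj_mk, ← ht0 a]
  have := hτ (hl a).some
  exact ConcreteCategory.congr_hom (NatTrans.congr_app this (op (∏ᶜ (Y ∘ a)))) (t0 a)

omit [Finite ι] [IsFiltered I] in
lemma map_comp_apply {i j l : I} (f : i ⟶ j) (g : j ⟶ l) (W : Dᵒᵖ) (t : (Q.obj i).obj W) :
    ((Q.map (f ≫ g)).app W).hom t = ((Q.map g).app W).hom (((Q.map f).app W).hom t) := by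
  rw [Q.map_comp]; rfl

lemma exists_kill (m : ℕ)
    (hinj : ∀ (a : Fin (m + 1) → ι) (i : I) (t : (Q.obj i).obj (op (∏ᶜ (Y ∘ a)))),
      ((τ i).app _).hom t = 0 → ∃ (j : I) (f : i ⟶ j), ((Q.map f).app _).hom t = 0)
    (i : I) (y : (cx Y (Q.obj i)).X m) (hy : cmap Y (τ i) m y = 0) :
    ∃ (j : I) (f : i ⟶ j), cmap Y (Q.map f) m y = 0 := by
  have h : ∀ a : Fin (m + 1) → ι, ∃ (j : I) (f : i ⟶ j),
      ((Q.map f).app (op (∏ᶜ (Y ∘ a)))).hom ((proj Y (Q.obj i) m a).hom y) = 0 := by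
    intro a
    apply hinj
    rw [← proj_cmap, hy, map_zero]
  obtain ⟨j, f, hf⟩ := FiltFin.exists_common i
    (fun (a : Fin (m + 1) → ι) j f =>
      ((Q.map f).app (op (∏ᶜ (Y ∘ a)))).hom ((proj Y (Q.obj i) m a).hom y) = 0)
    (fun a j f l g hp => by
      change ((Q.map (f ≫ g)).app (op (∏ᶜ (Y ∘ a)))).hom _ = 0
      rw [map_comp_apply, hp, map_zero]) h
  refine ⟨j, f, ?_⟩
  apply ext_elem
  intro a
  rw [proj_cmap, hf a, map_zero]

include hτ in
/-- **Čech exactness passes to filtered colimits** along finite families, provided the values on the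
iterated products commute with the colimit. -/
theorem cechExact_of_colim (n : ℕ)
    (hsurj : ∀ (a : Fin (n + 1 + 1) → ι) (s : R.obj (op (∏ᶜ (Y ∘ a)))),
      ∃ (i : I) (t : (Q.obj i).obj (op (∏ᶜ (Y ∘ a)))), ((τ i).app _).hom t = s)
    (hinj : ∀ (a : Fin (n + 2 + 1) → ι) (i : I) (t : (Q.obj i).obj (op (∏ᶜ (Y ∘ a)))),
      ((τ i).app _).hom t = 0 → ∃ (j : I) (f : i ⟶ j), ((Q.map f).app _).hom t = 0)
    (hex : ∀ i, CechExact Y (Q.obj i) n) : CechExact Y R n := by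
  intro x hx
  obtain ⟨i, y, rfl⟩ := exists_lift Y Q τ hτ (n + 1) hsurj x
  rw [d_cmap] at hx
  obtain ⟨j, f, hf⟩ := exists_kill Y Q τ (n + 2) hinj i _ hx
  rw [← d_cmap] at hf
  obtain ⟨z, hz⟩ := hex j _ hf
  refine ⟨cmap Y (τ j) n z, ?_⟩
  rw [d_cmap, hz, ← cmap_comp, hτ]

end Groth.Agent.Lib.Helper5.CechColim
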