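import Mathlib

/-!
# `Ext` and filtered colimits: dimension shifting (helper5)

Abstract form of the argument "cohomology commutes with filtered colimits": if `Hom(M, -)` commutes
with `I`-shaped colimits and `Ext^{>0}(M, -)` vanishes on colimits of objectwise injective diagrams,
then all `Ext^n(M, -)` commute with `I`-shaped colimits.
-/

set_option autoImplicit false
universe v u

open CategoryTheory CategoryTheory.Limits CategoryTheory.Abelian

namespace Groth.Agent.Lib.Helper5.ExtColim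

noncomputable section

section Post

variable {𝒜 : Type u} [Category.{v} 𝒜] [Abelian 𝒜] [HasExt.{v} 𝒜]

/-- postcomposition of an `Ext` class with a morphism -/
def post {M A B : 𝒜} {n : ℕ} (x : Ext.{v} M A n) (f : A ⟶ B) : Ext.{v} M B n :=
  x.comp (Ext.mk₀ f) (add_zero n)

lemma post_post {M A B D : 𝒜} {n : ℕ} (x : Ext.{v} M A n) (f : A ⟶ B) (g : B ⟶ D) :
    post (post x f) g = post x (f ≫ g) := by
  unfold post
  rw [Ext.comp_assoc_of_third_deg_zero, Ext.mk₀_comp_mk₀]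

lemma post_zero {M A B : 𝒜} {n : ℕ} (f : A ⟶ B) : post (0 : Ext.{v} M A n) f = 0 := by
  unfold post
  exact Ext.zero_comp M n (Ext.mk₀ f) n (add_zero n)

lemma post_add {M A B : 𝒜} {n : ℕ} (x y : Ext.{v} M A n) (f : A ⟶ B) :
    post (x + y) f = post x f + post y f :=
  Ext.add_comp _ _ _ _

lemma post_neg {M A B : 𝒜} {n : ℕ} (x : Ext.{v} M A n) (f : A ⟶ B) :
    post (-x) f = -post x f :=
  Ext.neg_comp _ _ _

lemma post_sub {M A B : 𝒜} {n : ℕ} (x y : Ext.{v} M A n) (f : A ⟶ B) :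
    post (x - y) f = post x f - post y f := by
  rw [sub_eq_add_neg, post_add, post_neg, ← sub_eq_add_neg]

lemma post_mk₀ {M A B : 𝒜} (y : M ⟶ A) (f : A ⟶ B) :
    post (Ext.mk₀ y) f = Ext.mk₀ (y ≫ f) :=
  Ext.mk₀_comp_mk₀ _ _

/-- the connecting homomorphism -/
def δ {S : ShortComplex 𝒜} (hS : S.ShortExact) {M : 𝒜} {n : ℕ} (x : Ext.{v} M S.X₃ n) :
    Ext.{v} M S.X₁ (n + 1) :=
  x.comp hS.extClass rfl

lemma δ_nat {S₁ S₂ : ShortComplex 𝒜} (h₁ : S₁.ShortExact) (h₂ : S₂.ShortExact) (φ : S₁ ⟶ S₂)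
    {M : 𝒜} {n : ℕ} (x : Ext.{v} M S₁.X₃ n) :
    post (δ h₁ x) φ.τ₁ = δ h₂ (post x φ.τ₃) := by
  unfold post δ
  rw [Ext.comp_assoc_of_third_deg_zero, ShortComplex.ShortExact.extClass_naturality h₁ h₂ φ,
    ← Ext.comp_assoc_of_second_deg_zero]

lemma δ_post_g {S : ShortComplex 𝒜} (hS : S.ShortExact) {M : 𝒜} {n : ℕ} (w : Ext.{v} M S.X₂ n) :
    δ hS (post w S.g) = 0 := by
  unfold post δ
  rw [Ext.comp_assoc_of_second_deg_zero, hS.comp_extClass, Ext.comp_zero]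

lemma exists_δ_eq {S : ShortComplex 𝒜} (hS : S.ShortExact) {M : 𝒜} {n : ℕ}
    (h₂ : ∀ z : Ext.{v} M S.X₂ (n + 1), z = 0) (x₁ : Ext.{v} M S.X₁ (n + 1)) :
    ∃ x₃ : Ext.{v} M S.X₃ n, δ hS x₃ = x₁ :=
  Ext.covariant_sequence_exact₁ M hS x₁ (h₂ _) rfl

lemma exists_post_g_eq {S : ShortComplex 𝒜} (hS : S.ShortExact) {M : 𝒜} {n : ℕ}
    (x₃ : Ext.{v} M S.X₃ n) (h : δ hS x₃ = 0) :
    ∃ x₂ : Ext.{v} M S.X₂ n, post x₂ S.g = x₃ :=
  Ext.covariant_sequence_exact₃ M hS x₃ rfl h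

end Post

section Main

variable {𝒜 : Type u} [Category.{v} 𝒜] [Abelian 𝒜] [HasExt.{v} 𝒜]
  {I : Type v} [SmallCategory I] [IsFiltered I] [HasColimitsOfShape I 𝒜]

/-- every class on the colimit comes from some stage -/
def Surj (M : 𝒜) (F : I ⥤ 𝒜) (n : ℕ) : Prop :=
  ∀ x : Ext.{v} M (colimit F) n, ∃ (i : I) (y : Ext.{v} M (F.obj i) n),
    post y (colimit.ι F i) = x

/-- a class dying on the colimit dies at some later stage -/
def Inj (M : 𝒜) (F : I ⥤ 𝒜) (n : ℕ) : Prop :=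
  ∀ (i : I) (y : Ext.{v} M (F.obj i) n), post y (colimit.ι F i) = 0 →
    ∃ (j : I) (f : i ⟶ j), post y (F.map f) = 0

lemma surj_zero_of_hom (M : 𝒜) (F : I ⥤ 𝒜)
    (h : ∀ x : M ⟶ colimit F, ∃ (i : I) (y : M ⟶ F.obj i), y ≫ colimit.ι F i = x) :
    Surj M F 0 := by
  intro x
  obtain ⟨x', rfl⟩ := (Ext.mk₀_bijective M (colimit F)).surjective x
  obtain ⟨i, y, rfl⟩ := h x'
  exact ⟨i, Ext.mk₀ y, post_mk₀ _ _⟩

lemma inj_zero_of_hom (M : 𝒜) (F : I ⥤ 𝒜)
    (h : ∀ (i : I) (y : M ⟶ F.obj i), y ≫ colimit.ι F i = 0 →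
      ∃ (j : I) (f : i ⟶ j), y ≫ F.map f = 0) :
    Inj M F 0 := by
  intro i y hy
  obtain ⟨y', rfl⟩ := (Ext.mk₀_bijective M (F.obj i)).surjective y
  rw [post_mk₀] at hy
  have hy' : y' ≫ colimit.ι F i = 0 := by
    apply (Ext.mk₀_bijective M (colimit F)).injective
    rw [hy, Ext.mk₀_zero]
  obtain ⟨j, f, hf⟩ := h i y' hy'
  exact ⟨j, f, by rw [post_mk₀, hf, Ext.mk₀_zero]⟩

lemma hom_of_surj_zero (M : 𝒜) (F : I ⥤ 𝒜) (h : Surj M F 0) (x : M ⟶ colimit F) :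
    ∃ (i : I) (y : M ⟶ F.obj i), y ≫ colimit.ι F i = x := by
  obtain ⟨i, y, hy⟩ := h (Ext.mk₀ x)
  obtain ⟨y', rfl⟩ := (Ext.mk₀_bijective M (F.obj i)).surjective y
  rw [post_mk₀] at hy
  exact ⟨i, y', (Ext.mk₀_bijective M (colimit F)).injective hy⟩

lemma hom_of_inj_zero (M : 𝒜) (F : I ⥤ 𝒜) (h : Inj M F 0) (i : I) (y : M ⟶ F.obj i)
    (hy : y ≫ colimit.ι F i = 0) : ∃ (j : I) (f : i ⟶ j), y ≫ F.map f = 0 := by
  obtain ⟨j, f, hf⟩ := h i (Ext.mk₀ y) (by rw [post_mk₀, hy, Ext.mk₀_zero])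
  rw [post_mk₀] at hf
  refine ⟨j, f, (Ext.mk₀_bijective M (F.obj j)).injective ?_⟩
  rw [hf, Ext.mk₀_zero]

variable [PreservesFiniteLimits (colim : (I ⥤ 𝒜) ⥤ 𝒜)]

/-- the natural transformation from evaluation at `i` to the colimit -/
def ιNat (i : I) : (evaluation I 𝒜).obj i ⟶ (colim : (I ⥤ 𝒜) ⥤ 𝒜) where
  app F := colimit.ι F i
  naturality F G η := (ι_colimMap η i).symm

variable (S : ShortComplex (I ⥤ 𝒜)) (hS : S.ShortExact)

include hS in
lemma shortExact_ev (i : I) : (S.map ((evaluation I 𝒜).obj i)).ShortExact :=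
  hS.map_of_exact _

include hS in
lemma shortExact_colim : (S.map (colim : (I ⥤ 𝒜) ⥤ 𝒜)).ShortExact :=
  hS.map_of_exact _

/-- the comparison of short complexes stage `i` → colimit -/
def φ (i : I) : S.map ((evaluation I 𝒜).obj i) ⟶ S.map (colim : (I ⥤ 𝒜) ⥤ 𝒜) :=
  S.mapNatTrans (ιNat i)

/-- the transition of short complexes -/
def ψ {i j : I} (f : i ⟶ j) :
    S.map ((evaluation I 𝒜).obj i) ⟶ S.map ((evaluation I 𝒜).obj j) :=
  S.mapNatTrans ((evaluation I 𝒜).map f)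

variable {M : 𝒜} {n : ℕ}

/-- connecting map at stage `i` -/
def δi (i : I) (y : Ext.{v} M (S.X₃.obj i) n) : Ext.{v} M (S.X₁.obj i) (n + 1) :=
  δ (shortExact_ev S hS i) y

/-- connecting map on the colimit -/
def δc (y : Ext.{v} M (colimit S.X₃) n) : Ext.{v} M (colimit S.X₁) (n + 1) :=
  δ (shortExact_colim S hS) y

lemma δi_nat {i j : I} (f : i ⟶ j) (y : Ext.{v} M (S.X₃.obj i) n) :
    post (δi S hS i y) (S.X₁.map f) = δi S hS j (post y (S.X₃.map f)) :=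
  δ_nat (shortExact_ev S hS i) (shortExact_ev S hS j) (ψ S f) y

lemma δi_colim (i : I) (y : Ext.{v} M (S.X₃.obj i) n) :
    post (δi S hS i y) (colimit.ι S.X₁ i) = δc S hS (post y (colimit.ι S.X₃ i)) :=
  δ_nat (shortExact_ev S hS i) (shortExact_colim S hS) (φ S i) y

lemma δi_post_g (i : I) (w : Ext.{v} M (S.X₂.obj i) n) :
    δi S hS i (post w (S.g.app i)) = 0 :=
  δ_post_g (shortExact_ev S hS i) w

lemma exists_δi_eq (i : I) (h₂ : ∀ z : Ext.{v} M (S.X₂.obj i) (n + 1), z = 0)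
    (x₁ : Ext.{v} M (S.X₁.obj i) (n + 1)) :
    ∃ x₃ : Ext.{v} M (S.X₃.obj i) n, δi S hS i x₃ = x₁ :=
  exists_δ_eq (shortExact_ev S hS i) h₂ x₁

lemma exists_δc_eq (h₂ : ∀ z : Ext.{v} M (colimit S.X₂) (n + 1), z = 0)
    (x₁ : Ext.{v} M (colimit S.X₁) (n + 1)) :
    ∃ x₃ : Ext.{v} M (colimit S.X₃) n, δc S hS x₃ = x₁ :=
  exists_δ_eq (shortExact_colim S hS) h₂ x₁

lemma exists_post_colimMap_eq (x₃ : Ext.{v} M (colimit S.X₃) n) (h : δc S hS x₃ = 0) :
    ∃ x₂ : Ext.{v} M (colimit S.X₂) n, post x₂ (colimMap S.g) = x₃ :=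
  exists_post_g_eq (shortExact_colim S hS) x₃ h

include hS in
theorem step_surj (M : 𝒜) (n : ℕ)
    (hb : ∀ x : Ext.{v} M (colimit S.X₂) (n + 1), x = 0)
    (hQ : Surj M S.X₃ n) : Surj M S.X₁ (n + 1) := by
  intro x
  obtain ⟨x₃, hx₃⟩ := exists_δc_eq S hS hb x
  obtain ⟨i, y₃, hy₃⟩ := hQ x₃
  refine ⟨i, δi S hS i y₃, ?_⟩
  rw [δi_colim, hy₃, hx₃]

include hS in
theorem step_inj (M : 𝒜) (n : ℕ)
    (hinj : ∀ (i : I) (z : Ext.{v} M (S.X₂.obj i) (n + 1)), z = 0)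
    (hE : Surj M S.X₂ n) (hQ : Inj M S.X₃ n) : Inj M S.X₁ (n + 1) := by
  intro i y hy
  obtain ⟨y₃, rfl⟩ := exists_δi_eq S hS i (hinj i) y
  have h1 : δc S hS (post y₃ (colimit.ι S.X₃ i)) = 0 := by
    rw [← δi_colim]; exact hy
  obtain ⟨x₂, hx₂⟩ := exists_post_colimMap_eq S hS _ h1
  obtain ⟨j, w, hw⟩ := hE x₂
  let k := IsFiltered.max i j
  let a : i ⟶ k := IsFiltered.leftToMax i j
  let b : j ⟶ k := IsFiltered.rightToMax i j
  have hz : post (post y₃ (S.X₃.map a) - post (post w (S.X₂.map b)) (S.g.app k))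
      (colimit.ι S.X₃ k) = 0 := by
    have e : S.X₂.map b ≫ S.g.app k ≫ colimit.ι S.X₃ k =
        colimit.ι S.X₂ j ≫ colimMap S.g := by
      rw [← ι_colimMap, colimit.w_assoc]
    have e2 : S.X₃.map a ≫ colimit.ι S.X₃ k = colimit.ι S.X₃ i := colimit.w _ _
    simp only [post_sub, post_post, Category.assoc]
    rw [e, e2, ← post_post, hw, hx₂, sub_self]
  obtain ⟨l, c, hc⟩ := hQ k _ hz
  refine ⟨l, a ≫ c, ?_⟩
  rw [δi_nat]
  have e1 : post y₃ (S.X₃.map (a ≫ c)) =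
      post (post w (S.X₂.map (b ≫ c))) (S.g.app l) := by
    rw [post_sub, sub_eq_zero] at hc
    simp only [post_post] at hc
    rw [post_post, S.X₃.map_comp, hc, S.X₂.map_comp, Category.assoc, Category.assoc,
      S.g.naturality]
  rw [e1]
  exact δi_post_g S hS l _

end Main


section Induction

variable {𝒜 : Type u} [Category.{v} 𝒜] [Abelian 𝒜] [HasExt.{v} 𝒜]
  {I : Type v} [SmallCategory I] [IsFiltered I] [HasColimitsOfShape I 𝒜]
  [PreservesFiniteLimits (colim : (I ⥤ 𝒜) ⥤ 𝒜)]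

/-- **Dimension shifting**: if `Hom(M, -)` commutes with `I`-colimits, every diagram embeds
into an objectwise injective one, and `Ext^{>0}(M, -)` vanishes on colimits of objectwise injective
diagrams, then `Ext^n(M, -)` commutes with `I`-colimits. -/
theorem surj_inj (M : 𝒜)
    (h0 : ∀ F : I ⥤ 𝒜, Surj M F 0 ∧ Inj M F 0)
    (hres : ∀ F : I ⥤ 𝒜, ∃ (E Q : I ⥤ 𝒜) (ι : F ⟶ E) (π : E ⟶ Q) (w : ι ≫ π = 0),
      (ShortComplex.mk ι π w).ShortExact ∧ ∀ i, Injective (E.obj i))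
    (hb : ∀ E : I ⥤ 𝒜, (∀ i, Injective (E.obj i)) →
      ∀ (n : ℕ) (x : Ext.{v} M (colimit E) (n + 1)), x = 0) :
    ∀ (n : ℕ) (F : I ⥤ 𝒜), Surj M F n ∧ Inj M F n := by
  intro n
  induction n with
  | zero => exact h0
  | succ n ih =>
    intro F
    obtain ⟨E, Q, ι, π, w, hS, hE⟩ := hres F
    constructor
    · exact step_surj (ShortComplex.mk ι π w) hS M n (hb E hE n) (ih Q).1
    · refine step_inj (ShortComplex.mk ι π w) hS M n (fun i z => ?_) (ih E).1 (ih Q).2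
      haveI : Injective (E.obj i) := hE i
      exact Ext.eq_zero_of_injective z

end Induction

section Embedding

variable {𝒜 : Type u} [Category.{v} 𝒜] [Abelian 𝒜] [EnoughInjectives 𝒜] [HasProducts.{v} 𝒜]
  {I : Type v} [SmallCategory I]

/-- the objectwise injective hull `j ↦ ∏_i ∏_{j ⟶ i} Inj (F i)` -/
def emb (F : I ⥤ 𝒜) : I ⥤ 𝒜 where
  obj j := ∏ᶜ fun i : I => ∏ᶜ fun _ : (j ⟶ i) => Injective.under (F.obj i)
  map {j j'} f := Limits.Pi.map fun i : I => Pi.lift fun g : (j' ⟶ i) =>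
    Pi.π (fun _ : (j ⟶ i) => Injective.under (F.obj i)) (f ≫ g)
  map_id j := by
    apply Pi.hom_ext; intro i
    apply Pi.hom_ext; intro g
    simp
  map_comp f g := by
    apply Pi.hom_ext; intro i
    apply Pi.hom_ext; intro h
    simp

instance (F : I ⥤ 𝒜) (j : I) : Injective ((emb F).obj j) := by
  dsimp [emb]; infer_instance

/-- the embedding `F ⟶ emb F` -/
def embι (F : I ⥤ 𝒜) : F ⟶ emb F where
  app j := Pi.lift fun i : I => Pi.lift fun g : (j ⟶ i) => F.map g ≫ Injective.ι (F.obj i)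
  naturality j j' f := by
    apply Pi.hom_ext; intro i
    apply Pi.hom_ext; intro g
    simp [emb]

instance (F : I ⥤ 𝒜) : Mono (embι F) := by
  have : ∀ j, Mono ((embι F).app j) := fun j => by
    have : (Pi.lift fun i : I => Pi.lift fun g : (j ⟶ i) => F.map g ≫ Injective.ι (F.obj i)) ≫
        Pi.π (fun i : I => ∏ᶜ fun _ : (j ⟶ i) => Injective.under (F.obj i)) j ≫
          Pi.π (fun _ : (j ⟶ j) => Injective.under (F.obj j)) (𝟙 j) = Injective.ι (F.obj j) := by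
      rw [Pi.lift_π_assoc, Pi.lift_π, F.map_id, Category.id_comp]
    exact mono_of_mono_fac this
  exact NatTrans.mono_of_mono_app _

theorem exists_res (F : I ⥤ 𝒜) : ∃ (E Q : I ⥤ 𝒜) (ι : F ⟶ E) (π : E ⟶ Q) (w : ι ≫ π = 0),
    (ShortComplex.mk ι π w).ShortExact ∧ ∀ i, Injective (E.obj i) :=
  ⟨emb F, cokernel (embι F), embι F, cokernel.π _, cokernel.condition _,
    { exact := ShortComplex.exact_cokernel _
      mono_f := by dsimp; infer_instance
      epi_g := by dsimp; infer_instance }, fun i => inferInstance⟩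

end Embedding


section Wrapper

variable {𝒜 : Type u} [Category.{v} 𝒜] [Abelian 𝒜] [HasExt.{v} 𝒜]
  {I : Type v} [SmallCategory I] [IsFiltered I] [HasColimitsOfShape I 𝒜]

theorem preservesColimit_extFunctorObj (M : 𝒜) (n : ℕ) (F : I ⥤ 𝒜)
    (hs : Surj M F n) (hi : Inj M F n) :
    PreservesColimit F (extFunctorObj.{v} M n) := by
  apply preservesColimit_of_preserves_colimit_cocone (colimit.isColimit F)
  haveI : ReflectsColimit (F ⋙ extFunctorObj.{v} M n) (forget AddCommGrpCat.{v}) :=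
    reflectsColimit_of_reflectsIsomorphisms _ _
  apply isColimitOfReflects (forget AddCommGrpCat.{v})
  apply Types.FilteredColimit.isColimitOf'
  · intro x
    obtain ⟨i, y, hy⟩ := hs x
    exact ⟨i, y, hy.symm⟩
  · intro i x y h
    let x' : Ext.{v} M (F.obj i) n := x
    let y' : Ext.{v} M (F.obj i) n := y
    have h' : post x' (colimit.ι F i) = post y' (colimit.ι F i) := h
    obtain ⟨j, f, hf⟩ := hi i (x' - y') (by rw [post_sub]; exact sub_eq_zero.2 h')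
    rw [post_sub, sub_eq_zero] at hf
    exact ⟨j, f, hf⟩

end Wrapper


section Final

variable {𝒜 : Type u} [Category.{v} 𝒜] [Abelian 𝒜] [HasExt.{v} 𝒜]
  {I : Type v} [SmallCategory I] [IsFiltered I] [HasColimitsOfShape I 𝒜]
  [PreservesFiniteLimits (colim : (I ⥤ 𝒜) ⥤ 𝒜)] [EnoughInjectives 𝒜] [HasProducts.{v} 𝒜]

/-- **`Ext^n(M, -)` commutes with `I`-shaped colimits** as soon as `Hom(M, -)` does and
`Ext^{>0}(M, -)` vanishes on colimits of objectwise injective diagrams. -/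
theorem main (M : 𝒜)
    (h0 : ∀ F : I ⥤ 𝒜, Surj M F 0 ∧ Inj M F 0)
    (hb : ∀ E : I ⥤ 𝒜, (∀ i, Injective (E.obj i)) →
      ∀ (n : ℕ) (x : Ext.{v} M (colimit E) (n + 1)), x = 0)
    (n : ℕ) (F : I ⥤ 𝒜) : PreservesColimit F (extFunctorObj.{v} M n) :=
  preservesColimit_extFunctorObj M n F
    (surj_inj M h0 exists_res hb n F).1 (surj_inj M h0 exists_res hb n F).2

end Final

end

end Groth.Agent.Lib.Helper5.ExtColim
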