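import Mathlib
import Groth.Prelude
import Groth.Agent.Lib.Helper13.CechSite
import Groth.Agent.Lib.Helper5.FiltFin

/-!
# Sections of a filtered colimit of abelian sheaves over "quasi-compact" objects (helper5)

Let `B` be a class of objects of a site with fibre products and `Cov` a class of finite covering
families as in `CohSite.colim_cohomology_of_collection`.  For `V ∈ B` and a filtered diagram `F` of
abelian sheaves, `colim_i F_i(V) → (colim_i F_i)(V)` is bijective.
-/

set_option autoImplicit false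
universe u

open CategoryTheory CategoryTheory.Limits Opposite

noncomputable section

namespace Groth.Agent.Lib.Helper5.SiteColimSections

open Groth.Agent.Lib.Helper13 Groth.Agent.Lib.Helper13.CechLow Groth.Agent.Lib.Helper13.CechSite

variable {C : Type u} [SmallCategory C] {J : GrothendieckTopology C}
  {I : Type u} [SmallCategory I] [IsFiltered I] (F : I ⥤ Sheaf J AddCommGrpCat.{u})

/-- the underlying diagram of presheaves -/
abbrev Fp : I ⥤ (Cᵒᵖ ⥤ AddCommGrpCat.{u}) := F ⋙ sheafToPresheaf J AddCommGrpCat.{u}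

/-- the presheaf colimit -/
abbrev P : Cᵒᵖ ⥤ AddCommGrpCat.{u} := colimit (Fp F)

/-- the canonical map `F_i(V) → P(V)` -/
def inP (i : I) (V : C) : (F.obj i).obj.obj (op V) →+ (P F).obj (op V) :=
  ((colimit.ι (Fp F) i).app (op V)).hom

lemma inP_res (i : I) {V W : C} (g : W ⟶ V) (t : (F.obj i).obj.obj (op V)) :
    ((P F).map g.op).hom (inP F i V t) = inP F i W (((F.obj i).obj.map g.op).hom t) :=
  (ConcreteCategory.congr_hom ((colimit.ι (Fp F) i).naturality g.op) t).symm

lemma inP_map {i j : I} (f : i ⟶ j) (V : C) (t : (F.obj i).obj.obj (op V)) :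
    inP F j V (((F.map f).hom.app (op V)).hom t) = inP F i V t := by
  have := colimit.w (Fp F) f
  exact ConcreteCategory.congr_hom (NatTrans.congr_app this (op V)) t

lemma inP_surj (V : C) (s : (P F).obj (op V)) :
    ∃ (i : I) (t : (F.obj i).obj.obj (op V)), inP F i V t = s := by
  have hc := isColimitOfPreserves ((evaluation Cᵒᵖ AddCommGrpCat.{u}).obj (op V))
    (colimit.isColimit (Fp F))
  obtain ⟨i, t, ht⟩ := Concrete.isColimit_exists_rep _ hc s
  exact ⟨i, t, ht⟩

lemma inP_eq_zero (i : I) (V : C) (t : (F.obj i).obj.obj (op V)) (h : inP F i V t = 0) :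
    ∃ (j : I) (f : i ⟶ j), ((F.map f).hom.app (op V)).hom t = 0 := by
  have hc := isColimitOfPreserves ((evaluation Cᵒᵖ AddCommGrpCat.{u}).obj (op V))
    (colimit.isColimit (Fp F))
  have h' : inP F i V t = inP F i V 0 := by rw [h, map_zero]
  obtain ⟨k, f, g, hfg⟩ := Concrete.isColimit_exists_of_rep_eq _ hc t
    (0 : (F.obj i).obj.obj (op V)) h'
  obtain ⟨l, e, he⟩ := IsFilteredOrEmpty.cocone_maps f g
  refine ⟨l, f ≫ e, ?_⟩
  have h1 : ((F.map (f ≫ e)).hom.app (op V)).hom t =
      ((F.map e).hom.app (op V)).hom (((F.map f).hom.app (op V)).hom t) := by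
    rw [F.map_comp]; rfl
  have h2 : ((F.map f).hom.app (op V)).hom t = ((F.map g).hom.app (op V)).hom 0 := hfg
  rw [h1, h2, map_zero, map_zero]


lemma map_comp_apply {i j k : I} (f : i ⟶ j) (g : j ⟶ k) (V : C) (t : (F.obj i).obj.obj (op V)) :
    ((F.map (f ≫ g)).hom.app (op V)).hom t =
      ((F.map g).hom.app (op V)).hom (((F.map f).hom.app (op V)).hom t) := by
  rw [F.map_comp]; rfl

lemma map_res {i j : I} (f : i ⟶ j) {V W : C} (g : W ⟶ V) (t : (F.obj i).obj.obj (op V)) :
    ((F.obj j).obj.map g.op).hom (((F.map f).hom.app (op V)).hom t) =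
      ((F.map f).hom.app (op W)).hom (((F.obj i).obj.map g.op).hom t) :=
  (ConcreteCategory.congr_hom ((F.map f).hom.naturality g.op) t).symm

lemma η_res {V W : C} (g : W ⟶ V) (x : (P F).obj (op V)) :
    ((toSheafify J (P F)).app (op W)).hom (((P F).map g.op).hom x) =
      ((sheafify J (P F)).map g.op).hom (((toSheafify J (P F)).app (op V)).hom x) :=
  ConcreteCategory.congr_hom ((toSheafify J (P F)).naturality g.op) x

lemma key_e (k : I) {V W W' : C} (π : W' ⟶ W) (y : W ⟶ V) (g : (sheafify J (P F)).obj (op V))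
    (s : (P F).obj (op W)) (t : (F.obj k).obj.obj (op W)) (ht : inP F k W t = s)
    (hs : ((toSheafify J (P F)).app (op W)).hom s = ((sheafify J (P F)).map y.op).hom g) :
    ((toSheafify J (P F)).app (op W')).hom (inP F k W' (((F.obj k).obj.map π.op).hom t)) =
      ((sheafify J (P F)).map (π ≫ y).op).hom g := by
  rw [← inP_res, ht, η_res, hs, op_comp, Functor.map_comp]
  rfl

variable [HasPullbacks C]

/-- **Lemma A**: the presheaf colimit is separated for finite covering families. -/
lemma P_sep {V : C} {ι : Type u} [Finite ι] (Y : ι → Over V)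
    (hY : Sieve.ofArrows (fun i => (Y i).left) (fun i => (Y i).hom) ∈ J V)
    (s : (P F).obj (op V)) (hs : ∀ i, ((P F).map (Y i).hom.op).hom s = 0) : s = 0 := by
  obtain ⟨j, t, rfl⟩ := inP_surj F V s
  have h : ∀ i, ∃ (k : I) (f : j ⟶ k), ((F.map f).hom.app (op (Y i).left)).hom
      (((F.obj j).obj.map (Y i).hom.op).hom t) = 0 := by
    intro i
    apply inP_eq_zero
    rw [← inP_res]; exact hs i
  obtain ⟨k, f, hf⟩ := FiltFin.exists_common j
    (fun i k f => ((F.map f).hom.app (op (Y i).left)).hom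
      (((F.obj j).obj.map (Y i).hom.op).hom t) = 0)
    (fun i k f l g hp => by
      change ((F.map (f ≫ g)).hom.app (op (Y i).left)).hom _ = 0
      rw [map_comp_apply, hp, map_zero]) h
  have h0 : ((F.map f).hom.app (op V)).hom t = 0 := by
    apply (isGluing_site Y hY (F.obj k)).sep
    intro i
    change ((F.obj k).obj.map (Y i).hom.op).hom _ = ((F.obj k).obj.map (Y i).hom.op).hom 0
    rw [map_zero, map_res]
    exact hf i
  rw [← inP_map F f, h0, map_zero]

variable (B : Set C) (Cov : ∀ (U : C) (ι : Type u), (ι → Over U) → Prop)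
  (h1 : ∀ (U : C) (ι : Type u) (Y : ι → Over U), Cov U ι Y → Finite ι ∧ U ∈ B ∧
    Sieve.ofArrows (fun i => (Y i).left) (fun i => (Y i).hom) ∈ J U ∧
    ∀ (p : ℕ) (a : Fin (p + 1) → ι), (∏ᶜ fun k => Y (a k)).left ∈ B)
  (h2 : ∀ U ∈ B, ∀ T ∈ J U, ∃ (ι : Type u) (Y : ι → Over U), Cov U ι Y ∧
    ∀ i, T.arrows (Y i).hom)

include h1 h2 in
/-- **Lemma B**: `P → P^#` is injective on sections over members of `B`. -/
lemma toSheafify_inj {V : C} (hV : V ∈ B) (s : (P F).obj (op V))
    (hs : ((toSheafify J (P F)).app (op V)).hom s = 0) : s = 0 := by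
  have hmem := Presheaf.equalizerSieve_mem J (toSheafify J (P F)) (X := op V) s 0
    (hs.trans (map_zero ((toSheafify J (P F)).app (op V)).hom).symm)
  obtain ⟨ι, Y, hY, hYT⟩ := h2 V hV _ hmem
  obtain ⟨hfin, -, hcov, -⟩ := h1 V ι Y hY
  haveI := hfin
  apply P_sep F Y hcov
  intro i
  have h := hYT i
  exact h.trans (map_zero ((P F).map (Y i).hom.op).hom)

include h1 h2 in
/-- **Lemma C**: `P → P^#` is surjective on sections over members of `B`. -/
lemma toSheafify_surj {V : C} (hV : V ∈ B) (g : (sheafify J (P F)).obj (op V)) :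
    ∃ s : (P F).obj (op V), ((toSheafify J (P F)).app (op V)).hom s = g := by
  have hmem := Presheaf.imageSieve_mem J (toSheafify J (P F)) (U := op V) g
  obtain ⟨ι, Y, hY, hYT⟩ := h2 V hV _ hmem
  obtain ⟨hfin, -, hcov, hprod⟩ := h1 V ι Y hY
  haveI := hfin
  choose s hs using hYT
  have hs' : ∀ i, ((toSheafify J (P F)).app (op (Y i).left)).hom (s i) =
      ((sheafify J (P F)).map (Y i).hom.op).hom g := hs
  choose j0 t0 ht0 using fun i => inP_surj F (Y i).left (s i)
  obtain ⟨k, hk⟩ := FiltFin.exists_bound j0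
  let t : ∀ i, (F.obj k).obj.obj (op (Y i).left) :=
    fun i => ((F.map (hk i).some).hom.app _).hom (t0 i)
  have ht : ∀ i, inP F k _ (t i) = s i := fun i => by rw [inP_map]; exact ht0 i
  let u : ∀ a : Fin 2 → ι, (F.obj k).obj.obj (op (∏ᶜ (Y ∘ a)).left) := fun a =>
    ((F.obj k).obj.map (Pi.π (Y ∘ a) 0).left.op).hom (t (a 0)) -
      ((F.obj k).obj.map (Pi.π (Y ∘ a) 1).left.op).hom (t (a 1))
  have hu : ∀ a, inP F k _ (u a) = 0 := by
    intro a
    apply toSheafify_inj F B Cov h1 h2 (hprod 1 a)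
    have e : ∀ (b : Fin 2), ((toSheafify J (P F)).app (op (∏ᶜ (Y ∘ a)).left)).hom
        (inP F k _ (((F.obj k).obj.map (Pi.π (Y ∘ a) b).left.op).hom (t (a b)))) =
        ((sheafify J (P F)).map (∏ᶜ (Y ∘ a)).hom.op).hom g := by
      intro b
      have hw : (Pi.π (Y ∘ a) b).left ≫ (Y (a b)).hom = (∏ᶜ (Y ∘ a)).hom := Over.w _
      rw [← hw]
      exact key_e F k (Pi.π (Y ∘ a) b).left (Y (a b)).hom g (s (a b)) (t (a b)) (ht (a b))
        (hs' (a b))
    change ((toSheafify J (P F)).app (op (∏ᶜ (Y ∘ a)).left)).hom (inP F k _ (u a)) = 0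
    rw [map_sub, map_sub, e 0, e 1, sub_self]
  obtain ⟨l, f, hf⟩ := FiltFin.exists_common k
    (fun (a : Fin 2 → ι) l f => ((F.map f).hom.app (op (∏ᶜ (Y ∘ a)).left)).hom (u a) = 0)
    (fun a l f m g hp => by
      change ((F.map (f ≫ g)).hom.app _).hom _ = 0
      rw [map_comp_apply, hp, map_zero])
    (fun a => inP_eq_zero F k _ (u a) (hu a))
  let t' : ∀ i, (F.obj l).obj.obj (op (Y i).left) := fun i => ((F.map f).hom.app _).hom (t i)
  obtain ⟨tt, htt'⟩ : ∃ tt : (F.obj l).obj.obj (op V),
      ∀ i, ((F.obj l).obj.map (Y i).hom.op).hom tt = t' i :=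
    (isGluing_site Y hcov (F.obj l)).glue t' (fun a => by
    change ((F.obj l).obj.map (Pi.π (Y ∘ a) 0).left.op).hom (t' (a 0)) =
      ((F.obj l).obj.map (Pi.π (Y ∘ a) 1).left.op).hom (t' (a 1))
    have h := hf a
    change ((F.map f).hom.app (op (∏ᶜ (Y ∘ a)).left)).hom
      (((F.obj k).obj.map (Pi.π (Y ∘ a) 0).left.op).hom (t (a 0)) -
        ((F.obj k).obj.map (Pi.π (Y ∘ a) 1).left.op).hom (t (a 1))) = 0 at h
    rw [map_sub, sub_eq_zero, ← map_res, ← map_res] at h
    exact h)
  refine ⟨inP F l V tt, ?_⟩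
  apply (isGluing_site Y hcov ((presheafToSheaf J AddCommGrpCat.{u}).obj (P F))).sep
  intro i
  change ((sheafify J (P F)).map (Y i).hom.op).hom _ = ((sheafify J (P F)).map (Y i).hom.op).hom g
  rw [← η_res, inP_res, htt' i, inP_map, ht, hs']


/-- the standard colimit cocone (sheafification of the presheaf colimit) -/
abbrev stdCocone : Cocone F := Sheaf.sheafifyCocone (colimit.cocone (Fp F))

/-- the standard cocone is a colimit -/
def stdIsColimit : IsColimit (stdCocone F) :=
  Sheaf.isColimitSheafifyCocone _ (colimit.isColimit _)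

omit [IsFiltered I] [HasPullbacks C] in
lemma std_ι_apply (i : I) (V : C) (t : (F.obj i).obj.obj (op V)) :
    (((stdCocone F).ι.app i).hom.app (op V)).hom t =
      ((toSheafify J (P F)).app (op V)).hom (inP F i V t) := by
  have := Sheaf.sheafifyCocone_ι_app_val (colimit.cocone (Fp F)) i
  exact ConcreteCategory.congr_hom (NatTrans.congr_app this (op V)) t

include h1 h2 in
/-- **Step 0, surjectivity**: a section of a filtered colimit of abelian sheaves over a member of `B`
comes from some stage. -/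
theorem sections_surj (d : Cocone F) (hd : IsColimit d) {V : C} (hV : V ∈ B)
    (s : d.pt.obj.obj (op V)) :
    ∃ (i : I) (t : (F.obj i).obj.obj (op V)), ((d.ι.app i).hom.app (op V)).hom t = s := by
  let e := (stdIsColimit F).coconePointUniqueUpToIso hd
  have he : ∀ i, (stdCocone F).ι.app i ≫ e.hom = d.ι.app i :=
    fun i => IsColimit.comp_coconePointUniqueUpToIso_hom _ _ _
  obtain ⟨s', hs'⟩ := toSheafify_surj F B Cov h1 h2 hV ((e.inv.hom.app (op V)).hom s)
  obtain ⟨i, t, rfl⟩ := inP_surj F V s'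
  refine ⟨i, t, ?_⟩
  rw [← he i]
  change (e.hom.hom.app (op V)).hom ((((stdCocone F).ι.app i).hom.app (op V)).hom t) = s
  rw [std_ι_apply, hs']
  exact congrArg (fun φ : d.pt ⟶ d.pt => (φ.hom.app (op V)).hom s) e.inv_hom_id

include h1 h2 in
/-- **Step 0, injectivity**: a section at some stage dying in the filtered colimit (over a member of
`B`) dies at a later stage. -/
theorem sections_inj (d : Cocone F) (hd : IsColimit d) {V : C} (hV : V ∈ B) (i : I)
    (t : (F.obj i).obj.obj (op V)) (h : ((d.ι.app i).hom.app (op V)).hom t = 0) :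
    ∃ (j : I) (f : i ⟶ j), ((F.map f).hom.app (op V)).hom t = 0 := by
  let e := (stdIsColimit F).coconePointUniqueUpToIso hd
  have he : (stdCocone F).ι.app i ≫ e.hom = d.ι.app i :=
    IsColimit.comp_coconePointUniqueUpToIso_hom _ _ _
  apply inP_eq_zero
  apply toSheafify_inj F B Cov h1 h2 hV
  rw [← std_ι_apply]
  have h' : (e.hom.hom.app (op V)).hom ((((stdCocone F).ι.app i).hom.app (op V)).hom t) = 0 := by
    rw [← he] at h; exact h
  have h'' := congrArg (e.inv.hom.app (op V)).hom h'
  rw [map_zero] at h''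
  exact (congrArg (fun φ : (stdCocone F).pt ⟶ (stdCocone F).pt =>
    (φ.hom.app (op V)).hom ((((stdCocone F).ι.app i).hom.app (op V)).hom t)) e.hom_inv_id).symm.trans h''

end Groth.Agent.Lib.Helper5.SiteColimSections
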