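import Mathlib
import Groth.Prelude.Def_CohCx

/-!
# Complexes of abelian groups, elementwise (helper5)

`cls` (homology classes of elements killed by the differential), `cls_eq_zero_iff`, `homologyMap_cls`;
`bijective_of_isLimSys`: `H^m` of a termwise limit of an inverse system of complexes of abelian groups.
-/

set_option autoImplicit false
universe u
open CategoryTheory CategoryTheory.Limits HomologicalComplex

noncomputable section
namespace Groth.Agent.Lib.Helper5.AbCx

variable (K : CochainComplex AddCommGrpCat.{u} ℤ)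

lemma iCycles_injective (i : ℤ) : Function.Injective (K.iCycles i) :=
  (AddCommGrpCat.mono_iff_injective _).mp inferInstance

lemma exists_cycle (i j : ℤ) (hij : i + 1 = j) (x : K.X i) (hx : K.d i j x = 0) :
    ∃ z : K.cycles i, K.iCycles i z = x := by
  let S : AddSubgroup (K.X i) := (K.d i j).hom.ker
  let f : AddCommGrpCat.of S ⟶ K.X i := AddCommGrpCat.ofHom S.subtype
  have hf : f ≫ K.d i j = 0 := by
    ext ⟨y, hy⟩
    exact hy
  have hj : (ComplexShape.up ℤ).next i = j := by simp [← hij]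
  refine ⟨K.liftCycles f j hj hf ⟨x, hx⟩, ?_⟩
  have := ConcreteCategory.congr_hom (K.liftCycles_i f j hj hf) ⟨x, hx⟩
  exact this

lemma homologyπ_surjective (i : ℤ) : Function.Surjective (K.homologyπ i) :=
  (AddCommGrpCat.epi_iff_surjective _).mp inferInstance

lemma homologyπ_eq_zero_iff (i j : ℤ) (hij : i + 1 = j) (z : K.cycles j) :
    K.homologyπ j z = 0 ↔ ∃ y : K.X i, K.toCycles i j y = z := by
  have hex : (ShortComplex.mk (K.toCycles i j) (K.homologyπ j) (by simp)).Exact :=
    ShortComplex.exact_of_g_is_cokernel _ (K.homologyIsCokernel i j (by simp [← hij]))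
  constructor
  · intro h
    exact (ShortComplex.ab_exact_iff _).mp hex z h
  · rintro ⟨y, rfl⟩
    have := ConcreteCategory.congr_hom (K.toCycles_comp_homologyπ i j) y
    exact this

/-- the cycle attached to an element killed by the differential -/
def cyc (i j : ℤ) (hij : i + 1 = j) (x : K.X i) (hx : K.d i j x = 0) : K.cycles i :=
  (exists_cycle K i j hij x hx).choose

lemma iCycles_cyc (i j : ℤ) (hij : i + 1 = j) (x : K.X i) (hx : K.d i j x = 0) :
    K.iCycles i (cyc K i j hij x hx) = x :=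
  (exists_cycle K i j hij x hx).choose_spec

/-- the homology class of an element killed by the differential -/
def cls (i j : ℤ) (hij : i + 1 = j) (x : K.X i) (hx : K.d i j x = 0) : K.homology i :=
  K.homologyπ i (cyc K i j hij x hx)

lemma cls_surjective (i j : ℤ) (hij : i + 1 = j) (h : K.homology i) :
    ∃ (x : K.X i) (hx : K.d i j x = 0), cls K i j hij x hx = h := by
  obtain ⟨z, rfl⟩ := homologyπ_surjective K i h
  have hx : K.d i j (K.iCycles i z) = 0 := by
    have := ConcreteCategory.congr_hom (K.iCycles_d i j) z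
    exact this
  refine ⟨K.iCycles i z, hx, ?_⟩
  have : cyc K i j hij (K.iCycles i z) hx = z :=
    iCycles_injective K i (iCycles_cyc K i j hij _ hx)
  dsimp only [cls]
  rw [this]

lemma cls_eq_zero_iff (i' i j : ℤ) (hi : i' + 1 = i) (hij : i + 1 = j) (x : K.X i)
    (hx : K.d i j x = 0) : cls K i j hij x hx = 0 ↔ ∃ y : K.X i', K.d i' i y = x := by
  dsimp only [cls]
  rw [homologyπ_eq_zero_iff K i' i hi]
  constructor
  · rintro ⟨y, hy⟩
    refine ⟨y, ?_⟩
    have h1 := congrArg (K.iCycles i) hy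
    rw [iCycles_cyc] at h1
    have h2 := ConcreteCategory.congr_hom (K.toCycles_i i' i) y
    exact h2.symm.trans h1
  · rintro ⟨y, hy⟩
    refine ⟨y, ?_⟩
    apply iCycles_injective K i
    rw [iCycles_cyc]
    have h2 := ConcreteCategory.congr_hom (K.toCycles_i i' i) y
    exact h2.trans hy

lemma cls_congr (i j : ℤ) (hij : i + 1 = j) (x x' : K.X i) (hx : K.d i j x = 0) (h : x = x') :
    cls K i j hij x hx = cls K i j hij x' (h ▸ hx) := by
  subst h
  rfl

lemma cls_sub (i j : ℤ) (hij : i + 1 = j) (x x' : K.X i) (hx : K.d i j x = 0)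
    (hx' : K.d i j x' = 0) :
    cls K i j hij (x - x') (by rw [map_sub, hx, hx', sub_zero]) =
      cls K i j hij x hx - cls K i j hij x' hx' := by
  dsimp only [cls]
  have h : cyc K i j hij (x - x') (by rw [map_sub, hx, hx', sub_zero]) =
      cyc K i j hij x hx - cyc K i j hij x' hx' := by
    apply iCycles_injective K i
    rw [iCycles_cyc, map_sub, iCycles_cyc, iCycles_cyc]
  exact (congrArg _ h).trans (map_sub _ _ _)

lemma cls_eq_iff (i' i j : ℤ) (hi : i' + 1 = i) (hij : i + 1 = j) (x x' : K.X i)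
    (hx : K.d i j x = 0) (hx' : K.d i j x' = 0) :
    cls K i j hij x hx = cls K i j hij x' hx' ↔ ∃ y : K.X i', K.d i' i y = x - x' := by
  rw [← sub_eq_zero, ← cls_sub, cls_eq_zero_iff K i' i j hi hij]

variable {K}

lemma homologyMap_cls {K' : CochainComplex AddCommGrpCat.{u} ℤ} (f : K ⟶ K') (i j : ℤ)
    (hij : i + 1 = j) (x : K.X i) (hx : K.d i j x = 0) :
    homologyMap f i (cls K i j hij x hx) = cls K' i j hij (f.f i x) (by
      have := ConcreteCategory.congr_hom (f.comm i j) x
      refine Eq.trans (b := f.f j (K.d i j x)) this ?_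
      rw [hx, map_zero]) := by
  dsimp only [cls]
  have h1 := ConcreteCategory.congr_hom (homologyπ_naturality f i) (cyc K i j hij x hx)
  refine Eq.trans (b := K'.homologyπ i (cyclesMap f i (cyc K i j hij x hx))) h1 ?_
  congr 1
  apply iCycles_injective K' i
  rw [iCycles_cyc]
  have h2 := ConcreteCategory.congr_hom (cyclesMap_i f i) (cyc K i j hij x hx)
  refine h2.trans ?_
  change f.f i (K.iCycles i (cyc K i j hij x hx)) = _
  rw [iCycles_cyc]


section Lim

variable (A : ℕ → CochainComplex AddCommGrpCat.{u} ℤ) (t : ∀ n, A (n + 1) ⟶ A n)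
  (L : CochainComplex AddCommGrpCat.{u} ℤ) (p : ∀ n, L ⟶ A n)

/-- `L` with the maps `p n` is a termwise limit of the inverse system `(A n, t n)` -/
structure IsLimSys : Prop where
  hp : ∀ n, p (n + 1) ≫ t n = p n
  hext : ∀ (j : ℤ) (x : L.X j), (∀ n, (p n).f j x = 0) → x = 0
  hex : ∀ (j : ℤ) (s : ∀ n, (A n).X j), (∀ n, (t n).f j (s (n + 1)) = s n) →
    ∃ x : L.X j, ∀ n, (p n).f j x = s n

lemma comm_apply {K K' : CochainComplex AddCommGrpCat.{u} ℤ} (f : K ⟶ K') (i j : ℤ) (x : K.X i) :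
    f.f j (K.d i j x) = K'.d i j (f.f i x) :=
  (ConcreteCategory.congr_hom (f.comm i j) x).symm

lemma d_d_apply (K : CochainComplex AddCommGrpCat.{u} ℤ) (i j k : ℤ) (x : K.X i) :
    K.d j k (K.d i j x) = 0 :=
  ConcreteCategory.congr_hom (K.d_comp_d i j k) x

variable {A t L p}

lemma IsLimSys.hp_apply (h : IsLimSys A t L p) (n : ℕ) (j : ℤ) (x : L.X j) :
    (t n).f j ((p (n + 1)).f j x) = (p n).f j x := by
  have := congrArg (fun φ : L ⟶ A n => (ConcreteCategory.hom (φ.f j)) x) (h.hp n)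
  exact this

theorem surjective_base (h : IsLimSys A t L p) (i1 i2 i3 : ℤ) (h12 : i1 + 1 = i2)
    (h23 : i2 + 1 = i3)
    (ha1 : CohCx.LimOneIsZero (fun n => (A n).X i1) (fun n => ((t n).f i1).hom))
    (hstep : ∀ n, Function.Bijective (homologyMap (t n) i2)) :
    Function.Surjective (homologyMap (p 0) i2) := by
  intro c
  have hγ : ∃ γ : ∀ n, (A n).homology i2, γ 0 = c ∧
      ∀ n, homologyMap (t n) i2 (γ (n + 1)) = γ n := by
    let γ : ∀ n, (A n).homology i2 := fun n => Nat.rec (motive := fun n => (A n).homology i2) c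
      (fun n g => Classical.choose ((hstep n).2 g)) n
    exact ⟨γ, rfl, fun n => Classical.choose_spec ((hstep n).2 (γ n))⟩
  obtain ⟨γ, hγ0, hγs⟩ := hγ
  choose w hw hwγ using fun n => cls_surjective (A n) i2 i3 h23 (γ n)
  have hd : ∀ n, (A n).d i2 i3 ((t n).f i2 (w (n + 1))) = 0 := by
    intro n
    rw [← comm_apply, hw, map_zero]
  have hbd : ∀ n, ∃ a : (A n).X i1, (A n).d i1 i2 a = (t n).f i2 (w (n + 1)) - w n := by
    intro n
    rw [← cls_eq_iff (A n) i1 i2 i3 h12 h23 _ _ (hd n) (hw n)]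
    have := homologyMap_cls (t n) i2 i3 h23 (w (n + 1)) (hw (n + 1))
    rw [← this, hwγ, hwγ, hγs]
  choose a ha using hbd
  obtain ⟨v, hv⟩ := ha1 a
  have hv' : ∀ n, v n - (t n).f i1 (v (n + 1)) = a n := fun n => congrFun hv n
  let w' : ∀ n, (A n).X i2 := fun n => w n + (A n).d i1 i2 (v n)
  have hw'c : ∀ n, (t n).f i2 (w' (n + 1)) = w' n := by
    intro n
    dsimp only [w']
    rw [map_add, comm_apply]
    have h1 : (t n).f i1 (v (n + 1)) = v n - a n := by
      rw [← hv' n]
      abel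
    rw [h1, map_sub, ha n]
    abel
  obtain ⟨x, hx⟩ := h.hex i2 w' hw'c
  have hdx : L.d i2 i3 x = 0 := by
    apply h.hext i3
    intro n
    rw [comm_apply, hx n]
    dsimp only [w']
    rw [map_add, hw n, d_d_apply, add_zero]
  refine ⟨cls L i2 i3 h23 x hdx, ?_⟩
  rw [homologyMap_cls, ← hγ0, ← hwγ 0, cls_eq_iff (A 0) i1 i2 i3 h12 h23]
  refine ⟨v 0, ?_⟩
  rw [hx 0]
  dsimp only [w']
  abel

theorem injective_base (h : IsLimSys A t L p) (i0 i1 i2 i3 : ℤ) (h01 : i0 + 1 = i1)
    (h12 : i1 + 1 = i2) (h23 : i2 + 1 = i3)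
    (ha0 : CohCx.LimOneIsZero (fun n => (A n).X i0) (fun n => ((t n).f i0).hom))
    (hb : CohCx.LimOneIsZero (fun n => (A n).homology i1)
      (fun n => (homologyMap (t n) i1).hom))
    (hstep : ∀ n, Function.Bijective (homologyMap (t n) i2)) :
    Function.Injective (homologyMap (p 0) i2) := by
  rw [injective_iff_map_eq_zero]
  intro c hc
  obtain ⟨x, hx, rfl⟩ := cls_surjective L i2 i3 h23 c
  rw [homologyMap_cls] at hc
  have hz : ∀ n, (A n).d i2 i3 ((p n).f i2 x) = 0 := fun n => by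
    rw [← comm_apply, hx, map_zero]
  have hcls : ∀ n, cls (A n) i2 i3 h23 ((p n).f i2 x) (hz n) = 0 := by
    intro n
    induction n with
    | zero => exact hc
    | succ n ih =>
      apply (hstep n).1
      rw [map_zero, homologyMap_cls, ← ih]
      exact cls_congr _ _ _ _ _ _ _ (h.hp_apply n i2 x)
  choose y hy using fun n => (cls_eq_zero_iff (A n) i1 i2 i3 h12 h23 _ (hz n)).mp (hcls n)
  let e : ∀ n, (A n).X i1 := fun n => (t n).f i1 (y (n + 1)) - y n
  have he : ∀ n, (A n).d i1 i2 (e n) = 0 := by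
    intro n
    dsimp only [e]
    rw [map_sub, ← comm_apply, hy, hy, h.hp_apply, sub_self]
  obtain ⟨β, hβ⟩ := hb (fun n => cls (A n) i1 i2 h12 (e n) (he n))
  have hβ' : ∀ n, β n - homologyMap (t n) i1 (β (n + 1)) = cls (A n) i1 i2 h12 (e n) (he n) :=
    fun n => congrFun hβ n
  choose c' hc' hc'β using fun n => cls_surjective (A n) i1 i2 h12 (β n)
  have hcyc : ∀ n, (A n).d i1 i2 ((t n).f i1 (c' (n + 1))) = 0 := by
    intro n
    rw [← comm_apply, hc', map_zero]
  have hbd : ∀ n, ∃ f : (A n).X i0,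
      (A n).d i0 i1 f = e n - (c' n - (t n).f i1 (c' (n + 1))) := by
    intro n
    have hcyc' : (A n).d i1 i2 (c' n - (t n).f i1 (c' (n + 1))) = 0 := by
      rw [map_sub, hc', hcyc, sub_zero]
    rw [← cls_eq_iff (A n) i0 i1 i2 h01 h12 _ _ (he n) hcyc', ← hβ' n,
      cls_sub _ _ _ _ _ _ (hc' n) (hcyc n), hc'β, ← hc'β (n + 1), homologyMap_cls]
  choose f hf using hbd
  obtain ⟨g, hg⟩ := ha0 f
  have hg' : ∀ n, g n - (t n).f i0 (g (n + 1)) = f n := fun n => congrFun hg n
  let y' : ∀ n, (A n).X i1 := fun n => y n + (c' n + (A n).d i0 i1 (g n))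
  have hy'c : ∀ n, (t n).f i1 (y' (n + 1)) = y' n := by
    intro n
    dsimp only [y']
    rw [map_add, map_add, comm_apply]
    have h1 : (t n).f i0 (g (n + 1)) = g n - f n := by
      rw [← hg' n]
      abel
    rw [h1, map_sub, hf n]
    dsimp only [e]
    abel
  have hy'd : ∀ n, (A n).d i1 i2 (y' n) = (p n).f i2 x := by
    intro n
    dsimp only [y']
    rw [map_add, map_add, hy, hc', d_d_apply, add_zero, add_zero]
  obtain ⟨yy, hyy⟩ := h.hex i1 y' hy'c
  have hfin : L.d i1 i2 yy = x := by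
    rw [← sub_eq_zero]
    apply h.hext i2
    intro n
    rw [map_sub, comm_apply, hyy, hy'd, sub_self]
  rw [cls_eq_zero_iff L i1 i2 i3 h12 h23]
  exact ⟨yy, hfin⟩

/-- the system shifted by one -/
lemma IsLimSys.shift (h : IsLimSys A t L p) :
    IsLimSys (fun n => A (n + 1)) (fun n => t (n + 1)) L (fun n => p (n + 1)) where
  hp n := h.hp (n + 1)
  hext j x hx := by
    apply h.hext j
    intro n
    cases n with
    | zero => rw [← h.hp_apply 0 j x, hx 0, map_zero]
    | succ n => exact hx n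
  hex j s hs := by
    let s' : ∀ n, (A n).X j := fun n => match n with
      | 0 => (t 0).f j (s 0)
      | n + 1 => s n
    obtain ⟨x, hx⟩ := h.hex j s' (fun n => by
      cases n with
      | zero => rfl
      | succ n => exact hs n)
    exact ⟨x, fun n => hx (n + 1)⟩

lemma limOne_shift (X : ℕ → Type u) [∀ n, AddCommGroup (X n)] (τ : ∀ n, X (n + 1) →+ X n)
    (h : CohCx.LimOneIsZero X τ) :
    CohCx.LimOneIsZero (fun n => X (n + 1)) (fun n => τ (n + 1)) := by
  intro g
  let g' : ∀ n, X n := fun n => match n with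
    | 0 => 0
    | n + 1 => g n
  obtain ⟨b, hb⟩ := h g'
  refine ⟨fun n => b (n + 1), ?_⟩
  funext n
  exact congrFun hb (n + 1)

/-- the abelian group lemma: `H^m(lim A_n) ≅ H^m(A_{n₀})` -/
theorem bijective_of_isLimSys (n₀ : ℕ) :
    ∀ (A : ℕ → CochainComplex AddCommGrpCat.{u} ℤ) (t : ∀ n, A (n + 1) ⟶ A n)
      (L : CochainComplex AddCommGrpCat.{u} ℤ) (p : ∀ n, L ⟶ A n) (_ : IsLimSys A t L p)
      (i0 i1 i2 i3 : ℤ) (_ : i0 + 1 = i1) (_ : i1 + 1 = i2) (_ : i2 + 1 = i3)
      (_ : CohCx.LimOneIsZero (fun n => (A n).X i0) (fun n => ((t n).f i0).hom))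
      (_ : CohCx.LimOneIsZero (fun n => (A n).X i1) (fun n => ((t n).f i1).hom))
      (_ : CohCx.LimOneIsZero (fun n => (A n).homology i1)
        (fun n => (homologyMap (t n) i1).hom))
      (_ : ∀ n, n₀ ≤ n → Function.Bijective (homologyMap (t n) i2)),
      Function.Bijective (homologyMap (p n₀) i2) := by
  induction n₀ with
  | zero =>
    intro A t L p h i0 i1 i2 i3 h01 h12 h23 ha0 ha1 hb hstep
    exact ⟨injective_base h i0 i1 i2 i3 h01 h12 h23 ha0 hb (fun n => hstep n (Nat.zero_le n)),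
      surjective_base h i1 i2 i3 h12 h23 ha1 (fun n => hstep n (Nat.zero_le n))⟩
  | succ n₀ ih =>
    intro A t L p h i0 i1 i2 i3 h01 h12 h23 ha0 ha1 hb hstep
    exact ih (fun n => A (n + 1)) (fun n => t (n + 1)) L (fun n => p (n + 1)) h.shift
      i0 i1 i2 i3 h01 h12 h23 (limOne_shift _ _ ha0) (limOne_shift _ _ ha1)
      (limOne_shift _ _ hb) (fun n hn => hstep (n + 1) (by omega))

end Lim

end Groth.Agent.Lib.Helper5.AbCx
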