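import Mathlib
import Groth.Prelude.Def_CohCx
import Groth.Prelude.Def_FreeSh

/-!
# Free abelian sheaves on a generating class of objects generate (helper5)

For a class `B` of objects of a small site such that every object is covered by members of `B`,
every abelian sheaf `G` receives an epimorphism `coverπ : ∐_{(W ∈ B, s : ℤ_W ⟶ G)} ℤ_W ⟶ G`.
-/

set_option autoImplicit false
universe u
open CategoryTheory CategoryTheory.Limits Opposite

namespace Groth.Agent.Lib.Helper5.FreeGen

variable {C : Type u} [SmallCategory C] (J : GrothendieckTopology C) (B : Set C)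

/-- sections of an abelian sheaf are determined locally -/
lemma sect_ext (T : Sheaf J AddCommGrpCat.{u}) {U : C} (S : Sieve U) (hS : S ∈ J U)
    (a b : T.obj.obj (op U))
    (h : ∀ (V : C) (g : V ⟶ U), S g → (T.obj.map g.op).hom a = (T.obj.map g.op).hom b) : a = b := by
  have hT : Presheaf.IsSheaf J (T.obj ⋙ forget AddCommGrpCat.{u}) :=
    (Presheaf.isSheaf_iff_isSheaf_comp J T.obj (forget AddCommGrpCat.{u})).1 T.property
  exact ((isSheaf_iff_isSheaf_of_type _ _).1 hT S hS).isSeparatedFor.ext (fun V g hg => h V g hg)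

/-- the index type of the canonical cover of `G` by free sheaves on members of `B` -/
abbrev Idx (G : Sheaf J AddCommGrpCat.{u}) : Type u := Σ W : B, (CohCx.freeSheaf J W.1 ⟶ G)

/-- the canonical cover of `G` -/
noncomputable def cover (G : Sheaf J AddCommGrpCat.{u}) : Sheaf J AddCommGrpCat.{u} :=
  ∐ (fun p : Idx J B G => CohCx.freeSheaf J p.1.1)

/-- the canonical map -/
noncomputable def coverπ (G : Sheaf J AddCommGrpCat.{u}) : cover J B G ⟶ G :=
  Sigma.desc (fun p : Idx J B G => p.2)

/-- the inclusions into the canonical cover -/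
noncomputable def coverι (G : Sheaf J AddCommGrpCat.{u}) (p : Idx J B G) :
    CohCx.freeSheaf J p.1.1 ⟶ cover J B G :=
  Sigma.ι (fun p : Idx J B G => CohCx.freeSheaf J p.1.1) p

lemma ι_coverπ (G : Sheaf J AddCommGrpCat.{u}) (p : Idx J B G) :
    coverι J B G p ≫ coverπ J B G = p.2 :=
  Sigma.ι_desc _ _

/-- the cofan of the canonical cover is a colimit -/
noncomputable def isColimitCover (G : Sheaf J AddCommGrpCat.{u}) :
    IsColimit (Cofan.mk (cover J B G) (coverι J B G)) :=
  coproductIsCoproduct _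

variable {J B}

lemma epi_coverπ (hB : ∀ U : C, ∃ (ι : Type u) (Y : ι → C) (f : ∀ i, Y i ⟶ U),
      Sieve.ofArrows Y f ∈ J U ∧ ∀ i, Y i ∈ B) (G : Sheaf J AddCommGrpCat.{u}) :
    Epi (coverπ J B G) := by
  apply Preadditive.epi_of_cancel_zero
  intro T h hh
  have key : ∀ (W : C) (hW : W ∈ B) (s : CohCx.freeSheaf J W ⟶ G), s ≫ h = 0 := by
    intro W hW s
    have h1 := ι_coverπ J B G ⟨⟨W, hW⟩, s⟩
    dsimp only at h1
    rw [← h1, Category.assoc, hh, comp_zero]
  apply Sheaf.hom_ext
  apply NatTrans.ext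
  funext ⟨U⟩
  apply AddCommGrpCat.hom_ext
  ext t
  obtain ⟨ι, Yc, f, hcov, hY⟩ := hB U
  refine sect_ext J T _ hcov _ _ ?_
  intro V g hg
  obtain ⟨W, e, g', hg', rfl⟩ := hg
  obtain ⟨i⟩ := hg'
  change (T.obj.map (e ≫ f i).op).hom ((h.hom.app (op U)).hom t) = (T.obj.map (e ≫ f i).op).hom 0
  rw [map_zero, op_comp, T.obj.map_comp]
  change (T.obj.map e.op).hom ((T.obj.map (f i).op).hom ((h.hom.app (op U)).hom t)) = 0
  have h1 : (T.obj.map (f i).op).hom ((h.hom.app (op U)).hom t) =
      (h.hom.app (op (Yc i))).hom ((G.obj.map (f i).op).hom t) :=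
    (ConcreteCategory.congr_hom (h.hom.naturality (f i).op) t).symm
  rw [h1]
  have h2 := key (Yc i) (hY i) (CohFree.ofSect J (Yc i) G ((G.obj.map (f i).op).hom t))
  have h3 : CohFree.evalGen J (Yc i) T (CohFree.ofSect J (Yc i) G ((G.obj.map (f i).op).hom t) ≫ h) =
      (h.hom.app (op (Yc i))).hom (CohFree.evalGen J (Yc i) G
        (CohFree.ofSect J (Yc i) G ((G.obj.map (f i).op).hom t))) := rfl
  rw [h2, CohFree.evalGen_ofSect, map_zero] at h3
  rw [← h3, map_zero]

end Groth.Agent.Lib.Helper5.FreeGen
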