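import Mathlib
import Groth.Prelude.Def_CohCx
import Groth.Prelude.Def_FreeSh

/-!
# Cohomology classes versus sections of cohomology sheaves (helper5)

For `K` in the derived category of abelian sheaves on a site: the map `toSect` from
`H^0(U, K) = Hom(σ ℤ_U, K)` to sections of the cohomology sheaf `H^0(K)` over `U`; it is locally
injective (`exists_cover_comp_eq_zero`) and locally surjective (`exists_cover_lift`), hence the
sheafification of `U ↦ H^q(U, K)` is `H^q(K)` (`nonempty_sheafify_HDUPresheaf_iso`).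
-/

set_option autoImplicit false
universe w v u
open CategoryTheory CategoryTheory.Limits Opposite HomologicalComplex

noncomputable section
namespace Groth.Agent.Lib.Helper5.HDULocal

section Generic

variable {A : Type u} [Category.{v} A] [Abelian A] [HasDerivedCategory.{w} A]

open DerivedCategory

variable (A) in
/-- single complex functor in degree 0 -/
abbrev sgl : A ⥤ CochainComplex A ℤ := HomologicalComplex.single A (ComplexShape.up ℤ) 0

/-- `H^0(Q (single X)) ≅ X` -/
def sIso (X : A) : (DerivedCategory.homologyFunctor A 0).obj (Q.obj ((sgl A).obj X)) ≅ X :=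
  (homologyFunctorFactors A 0).app ((sgl A).obj X) ≪≫
    singleObjHomologySelfIso (ComplexShape.up ℤ) 0 X

lemma sIso_hom_naturality {X Y : A} (f : X ⟶ Y) :
    (DerivedCategory.homologyFunctor A 0).map (Q.map ((sgl A).map f)) ≫ (sIso Y).hom =
      (sIso X).hom ≫ f := by
  have h1 := (homologyFunctorFactors A 0).hom.naturality ((sgl A).map f)
  have h2 := singleObjHomologySelfIso_hom_naturality (ComplexShape.up ℤ) 0 f
  dsimp only [Functor.comp_map] at h1
  dsimp only [sIso, Iso.trans_hom, Iso.app_hom]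
  rw [← Category.assoc, h1, Category.assoc, Category.assoc]
  congr 1

lemma sIso_inv_naturality {X Y : A} (f : X ⟶ Y) :
    (sIso X).inv ≫ (DerivedCategory.homologyFunctor A 0).map (Q.map ((sgl A).map f)) =
      f ≫ (sIso Y).inv := by
  rw [← cancel_mono (sIso Y).hom, Category.assoc, sIso_hom_naturality, Iso.inv_hom_id_assoc,
    Category.assoc, Iso.inv_hom_id, Category.comp_id]

/-- chain map from a single complex given by a cycle -/
def ofCycle {Z : A} {L : CochainComplex A ℤ} (c : Z ⟶ L.cycles 0) :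
    (sgl A).obj Z ⟶ L :=
  mkHomFromSingle (c ≫ L.iCycles 0) (by intro k _; simp)

omit [HasDerivedCategory.{w} A] in
lemma cyclesMap_ofCycle {Z : A} {L : CochainComplex A ℤ} (c : Z ⟶ L.cycles 0) :
    (singleObjCyclesSelfIso (ComplexShape.up ℤ) 0 Z).inv ≫ cyclesMap (ofCycle c) 0 = c := by
  rw [← cancel_mono (L.iCycles 0), Category.assoc, cyclesMap_i,
    singleObjCyclesSelfIso_inv_iCycles_assoc]
  dsimp only [ofCycle]
  rw [mkHomFromSingle_f, Iso.inv_hom_id_assoc]

/-- `H^0` of `Q` of a chain map from a single complex -/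
lemma sIso_inv_H0_map_Q {Z : A} {L : CochainComplex A ℤ}
    (g : (sgl A).obj Z ⟶ L) :
    (sIso Z).inv ≫ (DerivedCategory.homologyFunctor A 0).map (Q.map g) ≫
        (homologyFunctorFactors A 0).hom.app L =
      (singleObjCyclesSelfIso (ComplexShape.up ℤ) 0 Z).inv ≫ cyclesMap g 0 ≫ L.homologyπ 0 := by
  have h1 := (homologyFunctorFactors A 0).hom.naturality g
  dsimp only [Functor.comp_map] at h1
  rw [h1]
  dsimp only [sIso, Iso.trans_inv, Iso.app_inv]
  rw [Category.assoc, Iso.inv_hom_id_app_assoc]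
  change _ ≫ homologyMap g 0 = _
  rw [← singleObjCyclesSelfIso_inv_homologyπ, Category.assoc, homologyπ_naturality]

lemma sIso_inv_H0_map_Q_ofCycle {Z : A} {L : CochainComplex A ℤ} (c : Z ⟶ L.cycles 0) :
    (sIso Z).inv ≫ (DerivedCategory.homologyFunctor A 0).map (Q.map (ofCycle c)) ≫
        (homologyFunctorFactors A 0).hom.app L = c ≫ L.homologyπ 0 := by
  rw [sIso_inv_H0_map_Q, ← Category.assoc, cyclesMap_ofCycle]

open CochainComplex.HomComplex in
lemma Q_map_eq_zero_of_single {Z : A} {L : CochainComplex A ℤ}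
    (g : (sgl A).obj Z ⟶ L) (w : Z ⟶ L.X (-1))
    (hw : (singleObjXSelf (ComplexShape.up ℤ) 0 Z).inv ≫ g.f 0 = w ≫ L.d (-1) 0) :
    DerivedCategory.Q.map g = 0 := by
  have h : Homotopy (C := (CochainComplex.singleFunctor A 0).obj Z) g 0 :=
    (Cochain.equivHomotopy (F := (CochainComplex.singleFunctor A 0).obj Z) g 0).symm
    ⟨Cochain.fromSingleMk w (by omega : (0 : ℤ) + (-1) = -1), by
      rw [Cochain.δ_fromSingleMk _ _ 0 0 (by omega), ← hw, Cochain.ofHom_zero, add_zero]
      apply (Cochain.fromSingleEquiv (zero_add 0)).injective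
      simp [Cochain.fromSingleEquiv]⟩
  have := DerivedCategory.Q_map_eq_of_homotopy A h
  exact this.trans (Functor.map_zero _ _ _)

omit [HasDerivedCategory.{w} A] in
lemma exact_toCycles_homologyπ (L : CochainComplex A ℤ) :
    (ShortComplex.mk (L.toCycles (-1) 0) (L.homologyπ 0) (by simp)).Exact :=
  ShortComplex.exact_of_g_is_cokernel _ (L.homologyIsCokernel (-1) 0 (by simp))

/-- if a cycle restricted along `r` is a boundary, the restricted map is zero in `D(A)` -/
lemma Q_map_comp_eq_zero {Z Z' : A} {L : CochainComplex A ℤ}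
    (g : (sgl A).obj Z ⟶ L) (r : Z' ⟶ Z) (w : Z' ⟶ L.X (-1))
    (hw : w ≫ L.toCycles (-1) 0 =
      r ≫ (singleObjCyclesSelfIso (ComplexShape.up ℤ) 0 Z).inv ≫ cyclesMap g 0) :
    DerivedCategory.Q.map ((sgl A).map r ≫ g) = 0 := by
  apply Q_map_eq_zero_of_single _ w
  have h1 := hw =≫ L.iCycles 0
  rw [Category.assoc, toCycles_i, Category.assoc, Category.assoc, cyclesMap_i,
    singleObjCyclesSelfIso_inv_iCycles_assoc] at h1
  rw [h1, HomologicalComplex.comp_f, single_map_f_self, Category.assoc, Category.assoc,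
    Iso.inv_hom_id_assoc]

end Generic

section Site

variable {C : Type u} [SmallCategory C] {J : GrothendieckTopology C}

/-- local sections of an epimorphism onto a free sheaf -/
lemma exists_cover_factor {A' : Sheaf J AddCommGrpCat.{u}} {U : C}
    (π : A' ⟶ CohCx.freeSheaf J U) [Epi π] :
    ∃ R ∈ J U, ∀ ⦃V : C⦄ (f : V ⟶ U), R f →
      ∃ r : CohCx.freeSheaf J V ⟶ A', r ≫ π = CohCx.freeSheafMap J f := by
  have hloc : Presheaf.IsLocallySurjective J π.hom :=
    (Sheaf.isLocallySurjective_iff_epi' AddCommGrpCat.{u} π).2 inferInstance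
  refine ⟨Presheaf.imageSieve π.hom (CohFree.gen J U), hloc.imageSieve_mem _, ?_⟩
  intro V f hf
  obtain ⟨a', ha'⟩ := hf
  refine ⟨CohFree.ofSect J V A' a', ?_⟩
  apply (CohFree.homEquivSect J V _).injective
  rw [CohFree.homEquivSect_apply, CohFree.homEquivSect_apply]
  have h1 : CohFree.evalGen J V _ (CohFree.ofSect J V A' a' ≫ π) =
      (π.hom.app (op V)).hom (CohFree.evalGen J V A' (CohFree.ofSect J V A' a')) := rfl
  rw [h1, CohFree.evalGen_ofSect]
  refine ha'.trans ?_
  exact (CohFree.freeSheafMap_gen J f).symm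

variable [HasDerivedCategory.{u} (Sheaf J AddCommGrpCat.{u})]

/-- `σ = singleFunctor 0` -/
abbrev sg : Sheaf J AddCommGrpCat.{u} ⥤ DerivedCategory (Sheaf J AddCommGrpCat.{u}) :=
  DerivedCategory.singleFunctor _ 0

/-- `H^0 : D(A) ⥤ A` -/
abbrev H0 : DerivedCategory (Sheaf J AddCommGrpCat.{u}) ⥤ Sheaf J AddCommGrpCat.{u} :=
  DerivedCategory.homologyFunctor _ 0

/-- `H^0(σ G) ≅ G` -/
def sIsoS (G : Sheaf J AddCommGrpCat.{u}) : H0.obj (sg.obj G) ≅ G := sIso G

lemma sIsoS_inv_naturality {X Y : Sheaf J AddCommGrpCat.{u}} (f : X ⟶ Y) :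
    (sIsoS X).inv ≫ H0.map (sg.map f) = f ≫ (sIsoS Y).inv :=
  sIso_inv_naturality f

/-- the section of `H^0(K)` over `U` attached to a class in `H^0(U, K)` -/
def toSect (K : DerivedCategory (Sheaf J AddCommGrpCat.{u})) (U : C) :
    (sg.obj (CohCx.freeSheaf J U) ⟶ K) →+ (H0.obj K).obj.obj (op U) :=
  (CohFree.evalGen J U (H0.obj K)).comp
    { toFun := fun x => (sIsoS (CohCx.freeSheaf J U)).inv ≫ H0.map x
      map_zero' := by rw [Functor.map_zero, comp_zero]
      map_add' := fun x y => by rw [Functor.map_add, Preadditive.comp_add] }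

lemma toSect_apply (K : DerivedCategory (Sheaf J AddCommGrpCat.{u})) (U : C)
    (x : sg.obj (CohCx.freeSheaf J U) ⟶ K) :
    toSect K U x = CohFree.evalGen J U _ ((sIsoS (CohCx.freeSheaf J U)).inv ≫ H0.map x) := rfl

lemma toSect_comp {K K' : DerivedCategory (Sheaf J AddCommGrpCat.{u})} (U : C)
    (x : sg.obj (CohCx.freeSheaf J U) ⟶ K) (f : K ⟶ K') :
    toSect K' U (x ≫ f) = ((H0.map f).hom.app (op U)).hom (toSect K U x) := by
  rw [toSect_apply, toSect_apply, Functor.map_comp, ← Category.assoc]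
  rfl

lemma toSect_res (K : DerivedCategory (Sheaf J AddCommGrpCat.{u})) {U V : C} (f : V ⟶ U)
    (x : sg.obj (CohCx.freeSheaf J U) ⟶ K) :
    toSect K V (sg.map (CohCx.freeSheafMap J f) ≫ x) =
      ((H0.obj K).obj.map f.op).hom (toSect K U x) := by
  rw [toSect_apply, toSect_apply, Functor.map_comp, ← Category.assoc, sIsoS_inv_naturality,
    Category.assoc, CohFree.evalGen_freeSheafMap_comp]

lemma toSect_eq_zero_iff (K : DerivedCategory (Sheaf J AddCommGrpCat.{u})) (U : C)
    (x : sg.obj (CohCx.freeSheaf J U) ⟶ K) : toSect K U x = 0 ↔ H0.map x = 0 := by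
  rw [toSect_apply]
  constructor
  · intro h
    have h1 : (sIsoS (CohCx.freeSheaf J U)).inv ≫ H0.map x = 0 := by
      apply (CohFree.homEquivSect J U _).injective
      rw [map_zero]
      exact h
    rw [← cancel_epi (sIsoS (CohCx.freeSheaf J U)).inv, h1, comp_zero]
  · intro h
    rw [h, comp_zero, map_zero]

open DerivedCategory in
/-- a class in `H^0(U, K)` whose section of `H^0(K)` vanishes is locally zero (`Q`-form) -/
theorem exists_cover_comp_eq_zero' (K : DerivedCategory (Sheaf J AddCommGrpCat.{u})) (U : C)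
    (x : Q.obj ((sgl _).obj (CohCx.freeSheaf J U)) ⟶ K) (hx : H0.map x = 0) :
    ∃ R ∈ J U, ∀ ⦃V : C⦄ (f : V ⟶ U), R f →
      Q.map ((sgl _).map (CohCx.freeSheafMap J f)) ≫ x = 0 := by
  let L : CochainComplex (Sheaf J AddCommGrpCat.{u}) ℤ := Q.objPreimage K
  let e : Q.obj L ≅ K := Q.objObjPreimageIso K
  let x' : Q.obj ((sgl _).obj (CohCx.freeSheaf J U)) ⟶ Q.obj L := x ≫ e.inv
  obtain ⟨L', g, s, hs, hfac⟩ := left_fac x'
  have h1 : H0.map (Q.map g) = 0 := by
    have : Q.map g = x' ≫ Q.map s := by rw [hfac, Category.assoc, IsIso.inv_hom_id, Category.comp_id]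
    rw [this]
    dsimp only [x']
    rw [Functor.map_comp, Functor.map_comp, hx, zero_comp, zero_comp]
  let c : CohCx.freeSheaf J U ⟶ L'.cycles 0 :=
    (singleObjCyclesSelfIso (ComplexShape.up ℤ) 0 _).inv ≫ cyclesMap g 0
  have hc : c ≫ L'.homologyπ 0 = 0 := by
    have := sIso_inv_H0_map_Q g
    rw [h1, zero_comp, comp_zero] at this
    dsimp only [c]
    rw [Category.assoc]
    exact this.symm
  obtain ⟨A', π, hπ, x₁, fac⟩ := (exact_toCycles_homologyπ L').exact_up_to_refinements c hc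
  obtain ⟨R, hR, hRf⟩ := exists_cover_factor π
  refine ⟨R, hR, fun V f hf => ?_⟩
  obtain ⟨r, hr⟩ := hRf f hf
  have h2 : Q.map ((sgl _).map (CohCx.freeSheafMap J f) ≫ g) = 0 := by
    apply Q_map_comp_eq_zero g _ (r ≫ x₁)
    dsimp only at fac
    rw [Category.assoc, ← fac, ← Category.assoc, hr]
  have h3 : Q.map ((sgl _).map (CohCx.freeSheafMap J f)) ≫ x' = 0 := by
    rw [hfac, ← Category.assoc, ← Functor.map_comp, h2, zero_comp]
  have h4 : x = x' ≫ e.hom := by
    dsimp only [x']
    rw [Category.assoc, Iso.inv_hom_id, Category.comp_id]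
  rw [h4, ← Category.assoc, h3, zero_comp]

/-- a class in `H^0(U, K)` whose section of `H^0(K)` vanishes is locally zero -/
theorem exists_cover_comp_eq_zero (K : DerivedCategory (Sheaf J AddCommGrpCat.{u})) (U : C)
    (x : sg.obj (CohCx.freeSheaf J U) ⟶ K) (hx : H0.map x = 0) :
    ∃ R ∈ J U, ∀ ⦃V : C⦄ (f : V ⟶ U), R f → sg.map (CohCx.freeSheafMap J f) ≫ x = 0 :=
  exists_cover_comp_eq_zero' K U x hx

open DerivedCategory in
/-- sections of `H^0(K)` locally come from classes in `H^0(V, K)` -/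
theorem exists_cover_lift (K : DerivedCategory (Sheaf J AddCommGrpCat.{u})) (U : C)
    (s : (H0.obj K).obj.obj (op U)) :
    ∃ R ∈ J U, ∀ ⦃V : C⦄ (f : V ⟶ U), R f →
      ∃ x : sg.obj (CohCx.freeSheaf J V) ⟶ K,
        toSect K V x = ((H0.obj K).obj.map f.op).hom s := by
  let L : CochainComplex (Sheaf J AddCommGrpCat.{u}) ℤ := Q.objPreimage K
  let e : Q.obj L ≅ K := Q.objObjPreimageIso K
  let ŝ : CohCx.freeSheaf J U ⟶ H0.obj K := CohFree.ofSect J U _ s
  let t : CohCx.freeSheaf J U ⟶ L.homology 0 :=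
    ŝ ≫ H0.map e.inv ≫ (homologyFunctorFactors _ 0).hom.app L
  obtain ⟨A', π, hπ, c', fac⟩ := surjective_up_to_refinements_of_epi (L.homologyπ 0) t
  obtain ⟨R, hR, hRf⟩ := exists_cover_factor π
  refine ⟨R, hR, fun V f hf => ?_⟩
  obtain ⟨r, hr⟩ := hRf f hf
  let c : CohCx.freeSheaf J V ⟶ L.cycles 0 := r ≫ c'
  have hc : c ≫ L.homologyπ 0 = CohCx.freeSheafMap J f ≫ t := by
    dsimp only [c]
    rw [Category.assoc, ← fac, ← Category.assoc, hr]
  let x : sg.obj (CohCx.freeSheaf J V) ⟶ K := Q.map (ofCycle c) ≫ e.hom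
  refine ⟨x, ?_⟩
  have h1 := sIso_inv_H0_map_Q_ofCycle c
  rw [hc] at h1
  dsimp only [t] at h1
  have h2 : (sIso (CohCx.freeSheaf J V)).inv ≫ H0.map (Q.map (ofCycle c)) =
      CohCx.freeSheafMap J f ≫ ŝ ≫ H0.map e.inv := by
    rw [← cancel_mono ((homologyFunctorFactors _ 0).hom.app L), Category.assoc, Category.assoc,
      Category.assoc]
    exact h1
  have h3 : (sIsoS (CohCx.freeSheaf J V)).inv ≫ H0.map x = CohCx.freeSheafMap J f ≫ ŝ := by
    dsimp only [x]
    rw [Functor.map_comp, ← Category.assoc]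
    change ((sIso (CohCx.freeSheaf J V)).inv ≫ H0.map (Q.map (ofCycle c))) ≫ _ = _
    rw [h2, Category.assoc, Category.assoc, ← Functor.map_comp, Iso.inv_hom_id,
      CategoryTheory.Functor.map_id, Category.comp_id]
  rw [toSect_apply, h3, CohFree.evalGen_freeSheafMap_comp, CohFree.evalGen_ofSect]

/-- the functor `U ↦ σ ℤ_U` -/
abbrev freeD : C ⥤ DerivedCategory (Sheaf J AddCommGrpCat.{u}) :=
  yoneda ⋙ (Functor.whiskeringRight _ _ _).obj AddCommGrpCat.free.{u} ⋙
    presheafToSheaf J AddCommGrpCat.{u} ⋙ DerivedCategory.singleFunctor (Sheaf J AddCommGrpCat.{u}) 0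

/-- the presheaf map from `U ↦ H^0(U, K)` to the sheaf `H^0(K)` -/
def toSectNat (K : DerivedCategory (Sheaf J AddCommGrpCat.{u})) :
    (freeD (J := J)).op ⋙ preadditiveYoneda.obj K ⟶ (H0.obj K).obj where
  app U := AddCommGrpCat.ofHom (toSect K U.unop)
  naturality U V f := by
    apply AddCommGrpCat.hom_ext
    apply AddMonoidHom.ext
    intro x
    exact toSect_res K f.unop x

lemma toSectNat_app_apply (K : DerivedCategory (Sheaf J AddCommGrpCat.{u})) (U : C)
    (x : sg.obj (CohCx.freeSheaf J U) ⟶ K) :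
    ((toSectNat K).app (op U)).hom x = toSect K U x := rfl

instance (K : DerivedCategory (Sheaf J AddCommGrpCat.{u})) :
    Presheaf.IsLocallyInjective J (toSectNat K) where
  equalizerSieve_mem {U} x y h := by
    let x' : sg.obj (CohCx.freeSheaf J U.unop) ⟶ K := x
    let y' : sg.obj (CohCx.freeSheaf J U.unop) ⟶ K := y
    have h' : toSect K U.unop x' = toSect K U.unop y' := h
    have h0 : toSect K U.unop (x' - y') = 0 := by
      rw [map_sub, sub_eq_zero]
      exact h'
    obtain ⟨R, hR, hRf⟩ := exists_cover_comp_eq_zero K U.unop (x' - y')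
      ((toSect_eq_zero_iff K U.unop _).1 h0)
    refine J.superset_covering ?_ hR
    intro V f hf
    have := hRf f hf
    rw [Preadditive.comp_sub, sub_eq_zero] at this
    exact this

instance (K : DerivedCategory (Sheaf J AddCommGrpCat.{u})) :
    Presheaf.IsLocallySurjective J (toSectNat K) where
  imageSieve_mem {U} s := by
    obtain ⟨R, hR, hRf⟩ := exists_cover_lift K U s
    refine J.superset_covering ?_ hR
    intro V f hf
    obtain ⟨x, hx⟩ := hRf f hf
    exact ⟨x, hx⟩

/-- sheafification of `U ↦ H^0(U, K)` is `H^0(K)` -/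
def sheafifyIso (K : DerivedCategory (Sheaf J AddCommGrpCat.{u})) :
    (presheafToSheaf J AddCommGrpCat.{u}).obj ((freeD (J := J)).op ⋙ preadditiveYoneda.obj K) ≅
      H0.obj K :=
  haveI : IsIso ((presheafToSheaf J AddCommGrpCat.{u}).map (toSectNat K)) :=
    (J.W_iff (toSectNat K)).1 (J.W_of_isLocallyBijective _)
  asIso ((presheafToSheaf J AddCommGrpCat.{u}).map (toSectNat K)) ≪≫
    asIso ((sheafificationAdjunction J AddCommGrpCat.{u}).counit.app (H0.obj K))

/-- sheafification of `U ↦ H^q(U, K)` is `H^q(K)` -/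
theorem nonempty_sheafify_HDUPresheaf_iso (K : DerivedCategory (Sheaf J AddCommGrpCat.{u}))
    (q : ℤ) :
    Nonempty ((presheafToSheaf J AddCommGrpCat.{u}).obj (CohCx.HDUPresheaf K q) ≅ CohCx.HD K q) :=
  ⟨sheafifyIso ((shiftFunctor _ q).obj K) ≪≫
    ((DerivedCategory.homologyFunctor (Sheaf J AddCommGrpCat.{u}) 0).shiftIso q 0 q
      (by omega)).app K⟩

end Site

end Groth.Agent.Lib.Helper5.HDULocal
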