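import Mathlib.CategoryTheory.Triangulated.Pretriangulated
import Mathlib.CategoryTheory.Triangulated.TriangleShift
import Mathlib.CategoryTheory.Limits.Preserves.Shapes.Products
import Mathlib.CategoryTheory.Limits.Shapes.Products

/-!
# Milnor sequence consequences for derived limits (helper5)

In a pretriangulated category: shifted exactness of distinguished triangles, and for a
distinguished triangle `L ⟶ ∏ K ⟶ ∏ K ⟶ L[1]` (derived limit), lifting of compatible families of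
maps `Z ⟶ K n [m]` to `Z ⟶ L[m]` and uniqueness under vanishing of `lim¹`.
-/

set_option autoImplicit false
open CategoryTheory CategoryTheory.Limits CategoryTheory.Pretriangulated

namespace Groth.Agent.Lib.Helper5.MilnorSeq

variable {D : Type*} [Category D] [Preadditive D] [HasZeroObject D] [HasShift D ℤ]
  [∀ n : ℤ, (shiftFunctor D n).Additive] [Pretriangulated D]

/-- shifted exactness at the middle term -/
lemma exact₂_shift (T : Triangle D) (hT : T ∈ distTriang D) (n : ℤ) {X : D}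
    (w : X ⟶ T.obj₂⟦n⟧) (hw : w ≫ T.mor₂⟦n⟧' = 0) :
    ∃ y : X ⟶ T.obj₁⟦n⟧, w = y ≫ T.mor₁⟦n⟧' := by
  have hT' := Triangle.shift_distinguished T hT n
  have h0 : w ≫ ((Triangle.shiftFunctor D n).obj T).mor₂ = 0 := by
    change w ≫ (n.negOnePow • T.mor₂⟦n⟧') = 0
    rw [Linear.comp_units_smul, hw, smul_zero]
  obtain ⟨y, hy⟩ : ∃ y : X ⟶ T.obj₁⟦n⟧, w = y ≫ (n.negOnePow • T.mor₁⟦n⟧') :=
    Triangle.coyoneda_exact₂ _ hT' w h0
  refine ⟨n.negOnePow • y, ?_⟩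
  rw [hy, Linear.comp_units_smul, Linear.units_smul_comp]

/-- shifted exactness at the first term -/
lemma exact₁_shift (T : Triangle D) (hT : T ∈ distTriang D) (n n' : ℤ) (h : 1 + n = n') {X : D}
    (y : X ⟶ T.obj₁⟦n'⟧) (hy : y ≫ T.mor₁⟦n'⟧' = 0) :
    ∃ g : X ⟶ T.obj₃⟦n⟧,
      y = g ≫ T.mor₃⟦n⟧' ≫ (shiftFunctorAdd' D 1 n n' h).inv.app T.obj₁ := by
  have hT' := rot_of_distTriang _ (rot_of_distTriang _ hT)
  let w : X ⟶ (T.obj₁⟦(1 : ℤ)⟧)⟦n⟧ := y ≫ (shiftFunctorAdd' D 1 n n' h).hom.app T.obj₁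
  have hw : w ≫ (T.rotate.rotate).mor₂⟦n⟧' = 0 := by
    change (y ≫ (shiftFunctorAdd' D 1 n n' h).hom.app T.obj₁) ≫ (-T.mor₁⟦(1 : ℤ)⟧')⟦n⟧' = 0
    rw [Functor.map_neg, Preadditive.comp_neg, neg_eq_zero, Category.assoc]
    have hnat := (shiftFunctorAdd' D 1 n n' h).hom.naturality T.mor₁
    dsimp at hnat
    rw [← hnat, ← Category.assoc, hy, zero_comp]
  obtain ⟨g, hg'⟩ : ∃ g : X ⟶ T.obj₃⟦n⟧, w = g ≫ T.mor₃⟦n⟧' := exact₂_shift _ hT' n w hw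
  refine ⟨g, ?_⟩
  rw [← Category.assoc, ← hg']
  dsimp only [w]
  rw [Category.assoc, Iso.hom_inv_id_app, Category.comp_id]

section Rlim

variable (K : ℕ → D) (t : ∀ n, K (n + 1) ⟶ K n) [HasProduct K] (L : D) (a : ∀ n, L ⟶ K n)
  (c : ∏ᶜ K ⟶ L⟦(1 : ℤ)⟧)
  (hΔ : Triangle.mk (Pi.lift a) (Pi.lift fun n => Pi.π K n - Pi.π K (n + 1) ≫ t n) c ∈
    distTriang D)

/-- the shifted product is a product -/
noncomputable def isLimitShiftProd (m : ℤ) :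
    IsLimit (Fan.mk ((∏ᶜ K)⟦m⟧) (fun n => (Pi.π K n)⟦m⟧')) :=
  isLimitFanMkObjOfIsLimit (shiftFunctor D m) _ _ (productIsProduct K)

include hΔ in
/-- existence part of the Milnor sequence -/
lemma exists_lift {Z : D} (m : ℤ) (x : ∀ n, Z ⟶ (K n)⟦m⟧)
    (hx : ∀ n, x (n + 1) ≫ (t n)⟦m⟧' = x n) :
    ∃ y : Z ⟶ L⟦m⟧, ∀ n, y ≫ (a n)⟦m⟧' = x n := by
  let w : Z ⟶ (∏ᶜ K)⟦m⟧ := Fan.IsLimit.lift (isLimitShiftProd K m) x
  have hw : ∀ n, w ≫ (Pi.π K n)⟦m⟧' = x n := fun n => Fan.IsLimit.fac (isLimitShiftProd K m) x n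
  have h0 : w ≫ (Pi.lift fun n => Pi.π K n - Pi.π K (n + 1) ≫ t n)⟦m⟧' = 0 := by
    apply Fan.IsLimit.hom_ext (isLimitShiftProd K m)
    intro n
    change (w ≫ _) ≫ (Pi.π K n)⟦m⟧' = 0 ≫ (Pi.π K n)⟦m⟧'
    rw [zero_comp, Category.assoc, ← Functor.map_comp, Pi.lift_π, Functor.map_sub,
      Functor.map_comp, Preadditive.comp_sub, ← Category.assoc, hw, hw, hx, sub_self]
  obtain ⟨y, hy⟩ : ∃ y : Z ⟶ L⟦m⟧, w = y ≫ (Pi.lift a)⟦m⟧' := exact₂_shift _ hΔ m w h0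
  refine ⟨y, fun n => ?_⟩
  have h1 : (Pi.lift a)⟦m⟧' ≫ (Pi.π K n)⟦m⟧' = (a n)⟦m⟧' := by
    rw [← Functor.map_comp, Pi.lift_π]
  calc y ≫ (a n)⟦m⟧' = y ≫ (Pi.lift a)⟦m⟧' ≫ (Pi.π K n)⟦m⟧' := by rw [h1]
    _ = w ≫ (Pi.π K n)⟦m⟧' := by rw [hy, Category.assoc]
    _ = x n := hw n

include hΔ in
/-- uniqueness part of the Milnor sequence -/
lemma eq_zero_of_limOne {Z : D} (m m' : ℤ) (hm : 1 + m' = m)
    (hlim : Function.Surjective (fun (b : ∀ n, Z ⟶ (K n)⟦m'⟧) (n : ℕ) =>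
      b n - b (n + 1) ≫ (t n)⟦m'⟧'))
    (y : Z ⟶ L⟦m⟧) (hy : ∀ n, y ≫ (a n)⟦m⟧' = 0) : y = 0 := by
  have h0 : y ≫ (Pi.lift a)⟦m⟧' = 0 := by
    apply Fan.IsLimit.hom_ext (isLimitShiftProd K m)
    intro n
    change (y ≫ _) ≫ (Pi.π K n)⟦m⟧' = 0 ≫ (Pi.π K n)⟦m⟧'
    rw [zero_comp, Category.assoc, ← Functor.map_comp, Pi.lift_π, hy]
  obtain ⟨g, hg⟩ : ∃ g : Z ⟶ (∏ᶜ K)⟦m'⟧,
      y = g ≫ c⟦m'⟧' ≫ (shiftFunctorAdd' D 1 m' m hm).inv.app L :=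
    exact₁_shift _ hΔ m' m hm y h0
  obtain ⟨b, hb⟩ := hlim (fun n => g ≫ (Pi.π K n)⟦m'⟧')
  let bb : Z ⟶ (∏ᶜ K)⟦m'⟧ := Fan.IsLimit.lift (isLimitShiftProd K m') b
  have hbb : ∀ n, bb ≫ (Pi.π K n)⟦m'⟧' = b n := fun n =>
    Fan.IsLimit.fac (isLimitShiftProd K m') b n
  have hg2 : g = bb ≫ (Pi.lift fun n => Pi.π K n - Pi.π K (n + 1) ≫ t n)⟦m'⟧' := by
    apply Fan.IsLimit.hom_ext (isLimitShiftProd K m')
    intro n
    change g ≫ (Pi.π K n)⟦m'⟧' = (bb ≫ _) ≫ (Pi.π K n)⟦m'⟧'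
    rw [Category.assoc, ← Functor.map_comp, Pi.lift_π, Functor.map_sub, Functor.map_comp,
      Preadditive.comp_sub, ← Category.assoc, hbb, hbb]
    exact (congrFun hb n).symm
  have hzero : (Pi.lift fun n => Pi.π K n - Pi.π K (n + 1) ≫ t n) ≫ c = 0 :=
    comp_distTriang_mor_zero₂₃ _ hΔ
  have hz : (Pi.lift fun n => Pi.π K n - Pi.π K (n + 1) ≫ t n)⟦m'⟧' ≫ c⟦m'⟧' = 0 := by
    rw [← Functor.map_comp, hzero, Functor.map_zero]
  rw [hg, hg2, Category.assoc, reassoc_of% hz, zero_comp, comp_zero]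

include hΔ in
/-- the maps `a n` are compatible with the transition maps -/
lemma a_comp_t (n : ℕ) : a (n + 1) ≫ t n = a n := by
  have h0 : Pi.lift a ≫ (Pi.lift fun n => Pi.π K n - Pi.π K (n + 1) ≫ t n) = 0 :=
    comp_distTriang_mor_zero₁₂ _ hΔ
  have h1 := h0 =≫ Pi.π K n
  rw [Category.assoc, Pi.lift_π, Preadditive.comp_sub, Pi.lift_π, ← Category.assoc, Pi.lift_π,
    zero_comp, sub_eq_zero] at h1
  exact h1.symm

end Rlim

section Transition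

variable {T : Type*} [Category T] (K : ℕ → T) (t : ∀ n, K (n + 1) ⟶ K n)

/-- composite transition map (same recursion as the prelude's `CohCx.transition`) -/
def trans (n : ℕ) : ∀ k : ℕ, K (n + k) ⟶ K n
  | 0 => 𝟙 (K n)
  | k + 1 => t (n + k) ≫ trans n k

lemma a_comp_trans {L : T} (a : ∀ n, L ⟶ K n) (ha : ∀ n, a (n + 1) ≫ t n = a n) (n k : ℕ) :
    a (n + k) ≫ trans K t n k = a n := by
  induction k with
  | zero => exact Category.comp_id _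
  | succ k ih =>
    change a (n + k + 1) ≫ t (n + k) ≫ trans K t n k = a n
    rw [← Category.assoc, ha, ih]

end Transition

section Rlim2

variable (K : ℕ → D) (t : ∀ n, K (n + 1) ⟶ K n) (L : D) (a : ∀ n, L ⟶ K n)
  (ha : ∀ n, a (n + 1) ≫ t n = a n)

include ha in
/-- if `z` dies in `K n₀ [m]` and the transition maps into `K n₀` are injective on `Hom(Z, -[m])`,
then `z` dies in every `K n [m]` -/
lemma comp_a_eq_zero {Z : D} (m : ℤ) (n₀ : ℕ) (z : Z ⟶ L⟦m⟧) (hz : z ≫ (a n₀)⟦m⟧' = 0)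
    (hinj : ∀ k : ℕ, Function.Injective
      (fun (b : Z ⟶ (K (n₀ + k))⟦m⟧) => b ≫ (trans K t n₀ k)⟦m⟧')) (n : ℕ) :
    z ≫ (a n)⟦m⟧' = 0 := by
  have hdown : ∀ n k : ℕ, z ≫ (a (n + k))⟦m⟧' = 0 → z ≫ (a n)⟦m⟧' = 0 := by
    intro n k h
    rw [← a_comp_trans K t a ha n k, Functor.map_comp, ← Category.assoc, h, zero_comp]
  by_cases hn : n ≤ n₀
  · obtain ⟨k, rfl⟩ := Nat.exists_eq_add_of_le hn
    exact hdown n k hz
  · obtain ⟨k, rfl⟩ := Nat.exists_eq_add_of_le (Nat.le_of_not_le hn)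
    apply hinj k
    change (z ≫ (a (n₀ + k))⟦m⟧') ≫ (trans K t n₀ k)⟦m⟧' = 0 ≫ (trans K t n₀ k)⟦m⟧'
    rw [zero_comp, Category.assoc, ← Functor.map_comp, a_comp_trans K t a ha, hz]

end Rlim2

end Groth.Agent.Lib.Helper5.MilnorSeq
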