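import Mathlib
import Groth.Prelude.Def_CohCx
import Groth.Prelude.Def_FreeSh
import Groth.Agent.Lib.Helper5.HDULocal
import Groth.Agent.Lib.Helper5.MilnorSeq
import Groth.Agent.Lib.Helper5.FreeGen

/-!
# Injectivity of `H^m(R lim K_n) → H^m(K_{n₀})` on sections (helper5)
-/

set_option autoImplicit false
universe u
open CategoryTheory CategoryTheory.Limits Opposite

noncomputable section
namespace Groth.Agent.Lib.Helper5.RlimInj

open HDULocal

lemma trans_eq {T : Type*} [Category T] (K : ℕ → T) (t : ∀ n, K (n + 1) ⟶ K n) (n k : ℕ) :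
    MilnorSeq.trans K t n k = CohCx.transition K t n k := by
  induction k with
  | zero => rfl
  | succ k ih =>
    change _ ≫ _ = _ ≫ _
    rw [ih]

variable {C : Type u} [SmallCategory C] {J : GrothendieckTopology C}
  [HasDerivedCategory.{u} (Sheaf J AddCommGrpCat.{u})]

/-- `H^0(X[m]) ≅ H^m(X)` -/
abbrev shIso (m : ℤ) (X : DerivedCategory (Sheaf J AddCommGrpCat.{u})) :
    H0.obj ((shiftFunctor _ m).obj X) ≅ (DerivedCategory.homologyFunctor _ m).obj X :=
  ((DerivedCategory.homologyFunctor (Sheaf J AddCommGrpCat.{u}) 0).shiftIso m 0 m (by omega)).app X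

lemma shIso_hom_naturality (m : ℤ) {X Y : DerivedCategory (Sheaf J AddCommGrpCat.{u})}
    (f : X ⟶ Y) :
    H0.map ((shiftFunctor _ m).map f) ≫ (shIso m Y).hom =
      (shIso m X).hom ≫ (DerivedCategory.homologyFunctor _ m).map f :=
  ((DerivedCategory.homologyFunctor (Sheaf J AddCommGrpCat.{u}) 0).shiftIso m 0 m
    (by omega)).hom.naturality f

/-- the key local statement: a section of `H^0(L[m])` over `V` dying in `H^0(K n₀ [m])` vanishes,
given that every covering sieve contains a covering family on whose members classes dying in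
`K n₀ [m]` are zero. -/
theorem sect_eq_zero (Lm Km : DerivedCategory (Sheaf J AddCommGrpCat.{u})) (am : Lm ⟶ Km) (V : C)
    (h : ∀ T ∈ J V, ∃ (ι : Type u) (Y : ι → C) (f : ∀ i, Y i ⟶ V), (∀ i, T.arrows (f i)) ∧
      Sieve.ofArrows Y f ∈ J V ∧ ∀ i, ∀ z : sg.obj (CohCx.freeSheaf J (Y i)) ⟶ Lm,
        z ≫ am = 0 → z = 0)
    (y : (H0.obj Lm).obj.obj (op V)) (hy : ((H0.map am).hom.app (op V)).hom y = 0) : y = 0 := by
  obtain ⟨R, hR, hRf⟩ := exists_cover_lift Lm V y
  choose x hx using hRf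
  have h2 : ∀ ⦃W : C⦄ (f : W ⟶ V) (hf : R f), ∃ R' ∈ J W, ∀ ⦃W' : C⦄ (g : W' ⟶ W), R' g →
      sg.map (CohCx.freeSheafMap J g) ≫ x f hf ≫ am = 0 := by
    intro W f hf
    apply exists_cover_comp_eq_zero
    rw [← toSect_eq_zero_iff, toSect_comp, hx]
    have := ConcreteCategory.congr_hom ((H0.map am).hom.naturality f.op) y
    refine this.trans ?_
    change ((H0.obj Km).obj.map f.op).hom (((H0.map am).hom.app (op V)).hom y) = 0
    rw [hy, map_zero]
  choose R' hR' hR'f using h2
  let T : Sieve V := Sieve.bind R (fun W f hf => R' f hf)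
  have hT : T ∈ J V := J.bind_covering hR (fun W f hf => hR' f hf)
  obtain ⟨ι, Yc, f, hTf, hcov, hprop⟩ := h T hT
  apply FreeGen.sect_ext J (H0.obj Lm) _ hcov
  intro W g hg
  obtain ⟨W', g', k, ⟨i⟩, rfl⟩ := hg
  rw [map_zero]
  obtain ⟨W₁, g₁, f₁, hf₁, hg₁, hcomp⟩ := hTf i
  let z : sg.obj (CohCx.freeSheaf J (Yc i)) ⟶ Lm := sg.map (CohCx.freeSheafMap J g₁) ≫ x f₁ hf₁
  have hz : z = 0 := by
    apply hprop i z
    dsimp only [z]
    rw [Category.assoc]
    exact hR'f f₁ hf₁ g₁ hg₁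
  have h3 : toSect Lm (Yc i) z = ((H0.obj Lm).obj.map (f i).op).hom y := by
    dsimp only [z]
    rw [toSect_res, hx, ← hcomp]
    have := ConcreteCategory.congr_hom ((H0.obj Lm).obj.map_comp f₁.op g₁.op) y
    exact this.symm
  rw [hz, map_zero] at h3
  rw [op_comp, Functor.map_comp]
  change ((H0.obj Lm).obj.map g'.op).hom (((H0.obj Lm).obj.map (f i).op).hom y) = 0
  rw [← h3, map_zero]

/-- S0880 in library form -/
theorem sections_injective
    (K : ℕ → DerivedCategory (Sheaf J AddCommGrpCat.{u})) (t : ∀ n, K (n + 1) ⟶ K n) [HasProduct K]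
    (L : DerivedCategory (Sheaf J AddCommGrpCat.{u})) (a : ∀ n, L ⟶ K n)
    (hL : CohCx.IsRlimVia K t L a) (V : C) (m : ℤ) (nV : ℕ)
    (h : ∀ T ∈ J V, ∃ (ι : Type u) (Y : ι → C) (f : ∀ i, Y i ⟶ V), (∀ i, T.arrows (f i)) ∧
      Sieve.ofArrows Y f ∈ J V ∧ ∀ i,
        CohCx.LimOneIsZero (fun n => CohCx.HDU (K n) (m - 1) (Y i))
          (fun n => Preadditive.rightComp _ ((shiftFunctor _ (m - 1)).map (t n))) ∧
        ∀ k : ℕ, Function.Injective
          (Preadditive.rightComp _ ((shiftFunctor _ m).map (CohCx.transition K t nV k)) :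
            CohCx.HDU (K (nV + k)) m (Y i) → CohCx.HDU (K nV) m (Y i))) :
    Function.Injective (((DerivedCategory.homologyFunctor _ m).map (a nV)).hom.app (op V)) := by
  obtain ⟨c, hΔ⟩ := hL
  have ha := MilnorSeq.a_comp_t K t L a c hΔ
  have key : ∀ y' : (H0.obj ((shiftFunctor _ m).obj L)).obj.obj (op V),
      ((H0.map ((shiftFunctor _ m).map (a nV))).hom.app (op V)).hom y' = 0 → y' = 0 := by
    apply sect_eq_zero
    intro T hT
    obtain ⟨ι, Yc, f, hTf, hcov, hprop⟩ := h T hT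
    refine ⟨ι, Yc, f, hTf, hcov, fun i z hz => ?_⟩
    have hz' : ∀ n, z ≫ (shiftFunctor _ m).map (a n) = 0 := by
      apply MilnorSeq.comp_a_eq_zero K t L a ha m nV z hz
      intro k
      rw [trans_eq]
      exact (hprop i).2 k
    exact MilnorSeq.eq_zero_of_limOne K t L a c hΔ m (m - 1) (by omega) (hprop i).1 z hz'
  rw [injective_iff_map_eq_zero]
  intro y hy
  let y' : (H0.obj ((shiftFunctor _ m).obj L)).obj.obj (op V) :=
    ((shIso m L).inv.hom.app (op V)).hom y
  have hnat : (shIso m L).inv ≫ H0.map ((shiftFunctor _ m).map (a nV)) =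
      (DerivedCategory.homologyFunctor _ m).map (a nV) ≫ (shIso m (K nV)).inv := by
    rw [← cancel_mono (shIso m (K nV)).hom, Category.assoc, shIso_hom_naturality,
      Iso.inv_hom_id_assoc, Category.assoc, Iso.inv_hom_id, Category.comp_id]
  have hy' : ((H0.map ((shiftFunctor _ m).map (a nV))).hom.app (op V)).hom y' = 0 := by
    have h1 := congrArg (fun φ => (φ.hom.app (op V)).hom y) hnat
    refine h1.trans ?_
    change ((shIso m (K nV)).inv.hom.app (op V)).hom
      ((((DerivedCategory.homologyFunctor _ m).map (a nV)).hom.app (op V)).hom y) = 0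
    rw [hy, map_zero]
  have h0 := key y' hy'
  have h2 : y = ((shIso m L).hom.hom.app (op V)).hom y' := by
    have h3 := congrArg (fun φ => (φ.hom.app (op V)).hom y) (shIso m L).inv_hom_id
    exact h3.symm
  rw [h2, h0, map_zero]

end Groth.Agent.Lib.Helper5.RlimInj
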