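import Mathlib
import Groth.Prelude.Def_CohCx
import Groth.Prelude.Def_CohSite
import Groth.Prelude.Def_FreeSh
import Groth.Prelude.Def_DCoh2
import Groth.Agent.Lib.Helper5.HDULocal
import Groth.Agent.Lib.Helper5.MilnorSeq
import Groth.Agent.Lib.Helper5.FreeGen
import Groth.Agent.Lib.Helper5.RlimInj

/-!
# The limit of an acyclic inverse system of sheaves is its derived limit (helper5)

For an inverse system of abelian sheaves `F n` on a site and a covering class `B` of objects with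
`H^p(U, F n) = 0` (`p > 0`, `U ∈ B`) and `lim¹ F n (U) = 0` (`U ∈ B`): the limit sheaf placed in degree
zero is a derived limit of the system, and `H^p(U, lim F) = 0` for `p > 0`, `U ∈ B` (`main`).
-/

set_option autoImplicit false
universe u
open CategoryTheory CategoryTheory.Limits Opposite

noncomputable section
namespace Groth.Agent.Lib.Helper5.RlimAcyclic

open HDULocal DerivedCategory

variable {C : Type u} [SmallCategory C] {J : GrothendieckTopology C}

/-- a section vanishing on all members of a covering class vanishes -/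
lemma sect_eq_zero_of_B (B : Set C)
    (hB : ∀ U : C, ∃ (ι : Type u) (Y : ι → C) (f : ∀ i, Y i ⟶ U),
      Sieve.ofArrows Y f ∈ J U ∧ ∀ i, Y i ∈ B)
    (T : Sheaf J AddCommGrpCat.{u}) {U : C} (s : T.obj.obj (op U))
    (h : ∀ (W : C) (_ : W ∈ B) (g : W ⟶ U), (T.obj.map g.op).hom s = 0) : s = 0 := by
  obtain ⟨ι, Yc, f, hcov, hYB⟩ := hB U
  apply FreeGen.sect_ext J T _ hcov
  intro W g hg
  obtain ⟨W', g', k, ⟨i⟩, rfl⟩ := hg
  rw [map_zero, op_comp, Functor.map_comp]
  change (T.obj.map g'.op).hom ((T.obj.map (f i).op).hom s) = 0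
  rw [h _ (hYB i), map_zero]

variable [HasDerivedCategory.{u} (Sheaf J AddCommGrpCat.{u})]

/-- `H^0((σF)[0]) ≅ F` -/
def ιF (F : Sheaf J AddCommGrpCat.{u}) :
    H0.obj ((shiftFunctor _ (0 : ℤ)).obj (sg.obj F)) ≅ F :=
  H0.mapIso ((shiftFunctorZero _ ℤ).app (sg.obj F)) ≪≫ sIsoS F

lemma ιF_hom_naturality {F G : Sheaf J AddCommGrpCat.{u}} (φ : F ⟶ G) :
    H0.map ((shiftFunctor _ (0 : ℤ)).map (sg.map φ)) ≫ (ιF G).hom = (ιF F).hom ≫ φ := by
  dsimp only [ιF, Iso.trans_hom, Functor.mapIso_hom, Iso.app_hom]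
  rw [← Category.assoc, ← Functor.map_comp, (shiftFunctorZero _ ℤ).hom.naturality,
    Functor.map_comp, Category.assoc, Category.assoc]
  congr 1
  exact sIso_hom_naturality φ

/-- the class in `H^0(U, (σF)[0])` attached to a section of `F` -/
def ofF (F : Sheaf J AddCommGrpCat.{u}) (U : C) (s : F.obj.obj (op U)) :
    sg.obj (CohCx.freeSheaf J U) ⟶ (shiftFunctor _ (0 : ℤ)).obj (sg.obj F) :=
  sg.map (CohFree.ofSect J U F s) ≫ (shiftFunctorZero _ ℤ).inv.app (sg.obj F)

/-- the section of `F` attached to a class in `H^0(U, (σF)[0])` -/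
def toF (F : Sheaf J AddCommGrpCat.{u}) (U : C) :
    (sg.obj (CohCx.freeSheaf J U) ⟶ (shiftFunctor _ (0 : ℤ)).obj (sg.obj F)) →+ F.obj.obj (op U) :=
  (((ιF F).hom.hom.app (op U)).hom).comp (toSect _ U)

lemma toF_apply (F : Sheaf J AddCommGrpCat.{u}) (U : C)
    (b : sg.obj (CohCx.freeSheaf J U) ⟶ (shiftFunctor _ (0 : ℤ)).obj (sg.obj F)) :
    toF F U b = CohFree.evalGen J U F
      ((sIsoS (CohCx.freeSheaf J U)).inv ≫ H0.map b ≫ (ιF F).hom) := by
  rw [← Category.assoc]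
  rfl

lemma toF_ofF (F : Sheaf J AddCommGrpCat.{u}) (U : C) (s : F.obj.obj (op U)) :
    toF F U (ofF F U s) = s := by
  rw [toF_apply]
  have : (sIsoS (CohCx.freeSheaf J U)).inv ≫ H0.map (ofF F U s) ≫ (ιF F).hom =
      CohFree.ofSect J U F s := by
    dsimp only [ofF, ιF, Iso.trans_hom, Functor.mapIso_hom, Iso.app_hom]
    have h1 : H0.map ((shiftFunctorZero _ ℤ).inv.app (sg.obj F)) ≫
        H0.map ((shiftFunctorZero _ ℤ).hom.app (sg.obj F)) = 𝟙 _ := by
      rw [← Functor.map_comp, Iso.inv_hom_id_app, CategoryTheory.Functor.map_id]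
    rw [Functor.map_comp, Category.assoc, reassoc_of% h1,
      ← Category.assoc, sIsoS_inv_naturality, Category.assoc, Iso.inv_hom_id, Category.comp_id]
  rw [this, CohFree.evalGen_ofSect]

lemma ofF_toF (F : Sheaf J AddCommGrpCat.{u}) (U : C)
    (b : sg.obj (CohCx.freeSheaf J U) ⟶ (shiftFunctor _ (0 : ℤ)).obj (sg.obj F)) :
    ofF F U (toF F U b) = b := by
  obtain ⟨b₀, hb₀⟩ := sg.map_surjective (b ≫ (shiftFunctorZero _ ℤ).hom.app (sg.obj F))
  have hb : b = ofF F U (CohFree.evalGen J U F b₀) := by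
    dsimp only [ofF]
    rw [CohFree.ofSect_evalGen, hb₀, Category.assoc, Iso.hom_inv_id_app, Category.comp_id]
  rw [hb, toF_ofF]

lemma toF_injective (F : Sheaf J AddCommGrpCat.{u}) (U : C) : Function.Injective (toF F U) :=
  Function.LeftInverse.injective (ofF_toF F U)

lemma toF_comp {F G : Sheaf J AddCommGrpCat.{u}} (φ : F ⟶ G) (U : C)
    (b : sg.obj (CohCx.freeSheaf J U) ⟶ (shiftFunctor _ (0 : ℤ)).obj (sg.obj F)) :
    toF G U (b ≫ (shiftFunctor _ (0 : ℤ)).map (sg.map φ)) = (φ.hom.app (op U)).hom (toF F U b) := by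
  rw [toF_apply, toF_apply, Functor.map_comp, Category.assoc, ιF_hom_naturality]
  rw [← Category.assoc (H0.map b), ← Category.assoc]
  rfl

/-- negative `Ext` vanish -/
lemma hom_eq_zero_of_neg (Z F : Sheaf J AddCommGrpCat.{u}) (m : ℤ) (hm : m < 0)
    (y : sg.obj Z ⟶ (shiftFunctor _ m).obj (sg.obj F)) : y = 0 := by
  have h1 : ((shiftFunctor _ m).obj (sg.obj F)).IsGE (-m) :=
    TStructure.t.isGE_shift (sg.obj F) 0 m (-m) (by omega)
  have h2 : (sg.obj Z).IsLE 0 := inferInstance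
  exact TStructure.t.zero_of_isLE_of_isGE y 0 (-m) (by omega) h2 h1

/-- positive `Ext` vanish if `H^{p+1}(U, F) = 0` -/
lemma hom_eq_zero_of_pos (F : Sheaf J AddCommGrpCat.{u}) (U : C) (p : ℕ)
    [Subsingleton (CohSite.HU F (p + 1) U)] (m : ℤ) (hm : m = ((p + 1 : ℕ) : ℤ))
    (y : sg.obj (CohCx.freeSheaf J U) ⟶ (shiftFunctor _ m).obj (sg.obj F)) : y = 0 := by
  subst hm
  have h1 : (Abelian.Ext.homEquiv (X := CohCx.freeSheaf J U) (Y := F) (n := p + 1)).symm y =
      (Abelian.Ext.homEquiv (X := CohCx.freeSheaf J U) (Y := F) (n := p + 1)).symm 0 :=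
    Subsingleton.elim (α := CohSite.HU F (p + 1) U) _ _
  exact (Abelian.Ext.homEquiv (X := CohCx.freeSheaf J U) (Y := F) (n := p + 1)).symm.injective h1

section Main

variable (F : ℕ → Sheaf J AddCommGrpCat.{u}) (t : ∀ n, F (n + 1) ⟶ F n)
  [HasProduct fun n => sg.obj (F n)]
  (B : Set C)
  (h1 : ∀ U ∈ B, ∀ (p n : ℕ), Subsingleton (CohSite.HU (F n) (p + 1) U))
  (h2 : ∀ U ∈ B, CohCx.LimOneIsZero (fun n => (F n).obj.obj (op U))
    (fun n => ((t n).hom.app (op U)).hom))
  (M : DerivedCategory (Sheaf J AddCommGrpCat.{u})) (a : ∀ n, M ⟶ sg.obj (F n))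
  (c : (∏ᶜ fun n => sg.obj (F n)) ⟶ (shiftFunctor _ (1 : ℤ)).obj M)
  (hΔ : Pretriangulated.Triangle.mk (Pi.lift a)
    (Pi.lift fun n => Pi.π (fun n => sg.obj (F n)) n -
      Pi.π (fun n => sg.obj (F n)) (n + 1) ≫ sg.map (t n)) c ∈
    Pretriangulated.distinguishedTriangles)

omit [HasProduct fun n => sg.obj (F n)] in
include h1 in
lemma hom_F_eq_zero (U : C) (hU : U ∈ B) (m : ℤ) (hm : m ≠ 0) (n : ℕ)
    (y : sg.obj (CohCx.freeSheaf J U) ⟶ (shiftFunctor _ m).obj (sg.obj (F n))) : y = 0 := by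
  rcases lt_or_gt_of_ne hm with h | h
  · exact hom_eq_zero_of_neg _ _ m h y
  · haveI := h1 U hU (m - 1).toNat n
    exact hom_eq_zero_of_pos (F n) U (m - 1).toNat m (by push_cast; omega) y

omit [HasProduct fun n => sg.obj (F n)] in
include h2 in
lemma limOne_zero (U : C) (hU : U ∈ B) :
    Function.Surjective (fun (b : ∀ n, sg.obj (CohCx.freeSheaf J U) ⟶
        (shiftFunctor _ (0 : ℤ)).obj (sg.obj (F n))) (n : ℕ) =>
      b n - b (n + 1) ≫ (shiftFunctor _ (0 : ℤ)).map (sg.map (t n))) := by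
  intro g
  obtain ⟨s, hs⟩ := h2 U hU (fun n => toF (F n) U (g n))
  refine ⟨fun n => ofF (F n) U (s n), ?_⟩
  funext n
  apply toF_injective
  have := congrFun hs n
  dsimp only at this
  rw [map_sub, toF_comp, toF_ofF, toF_ofF]
  exact this

include h1 h2 hΔ in
/-- (C1) `H^m(U, M) = 0` for `U ∈ B` and `m ≠ 0` -/
lemma hom_M_eq_zero (U : C) (hU : U ∈ B) (m : ℤ) (hm : m ≠ 0)
    (z : sg.obj (CohCx.freeSheaf J U) ⟶ (shiftFunctor _ m).obj M) : z = 0 := by
  apply MilnorSeq.eq_zero_of_limOne (fun n => sg.obj (F n)) (fun n => sg.map (t n)) M a c hΔ m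
    (m - 1) (by omega) _ z (fun n => hom_F_eq_zero F B h1 U hU m hm n _)
  by_cases hm1 : m - 1 = 0
  · have : m - 1 = 0 := hm1
    rw [this]
    exact limOne_zero F t B h2 U hU
  · intro g
    refine ⟨fun n => 0, ?_⟩
    funext n
    exact (hom_F_eq_zero F B h1 U hU (m - 1) hm1 n _).trans
      (hom_F_eq_zero F B h1 U hU (m - 1) hm1 n _).symm

include h1 hΔ in
/-- (C2) uniqueness in degree `0` -/
lemma hom_M_zero_unique (U : C) (hU : U ∈ B)
    (z : sg.obj (CohCx.freeSheaf J U) ⟶ (shiftFunctor _ (0 : ℤ)).obj M)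
    (hz : ∀ n, z ≫ (shiftFunctor _ (0 : ℤ)).map (a n) = 0) : z = 0 := by
  apply MilnorSeq.eq_zero_of_limOne (fun n => sg.obj (F n)) (fun n => sg.map (t n)) M a c hΔ 0
    (-1) (by omega) _ z hz
  intro g
  refine ⟨fun n => 0, ?_⟩
  funext n
  exact (hom_F_eq_zero F B h1 U hU (-1) (by omega) n _).trans
    (hom_F_eq_zero F B h1 U hU (-1) (by omega) n _).symm

variable (hB : ∀ U : C, ∃ (ι : Type u) (Y : ι → C) (f : ∀ i, Y i ⟶ U),
      Sieve.ofArrows Y f ∈ J U ∧ ∀ i, Y i ∈ B)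

include h1 h2 hΔ hB in
/-- (S1) the cohomology sheaves of `M` vanish in nonzero degrees -/
lemma sect_M_eq_zero (m : ℤ) (hm : m ≠ 0) (V : C)
    (s : (H0.obj ((shiftFunctor _ m).obj M)).obj.obj (op V)) : s = 0 := by
  obtain ⟨R, hR, hRf⟩ := exists_cover_lift ((shiftFunctor _ m).obj M) V s
  apply FreeGen.sect_ext J _ R hR
  intro W f hf
  obtain ⟨x, hx⟩ := hRf f hf
  rw [map_zero, ← hx]
  apply sect_eq_zero_of_B B hB
  intro W' hW' g
  rw [← toSect_res, hom_M_eq_zero F t B h1 h2 M a c hΔ W' hW' m hm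
    (sg.map (CohCx.freeSheafMap J g) ≫ x), map_zero]

/-- the maps `H^0(M[0]) ⟶ F n` -/
def ψ (n : ℕ) : H0.obj ((shiftFunctor _ (0 : ℤ)).obj M) ⟶ F n :=
  H0.map ((shiftFunctor _ (0 : ℤ)).map (a n)) ≫ (ιF (F n)).hom

include hΔ in
lemma ψ_comp_t (n : ℕ) : ψ F M a (n + 1) ≫ t n = ψ F M a n := by
  dsimp only [ψ]
  rw [Category.assoc, ← ιF_hom_naturality, ← Category.assoc, ← Functor.map_comp,
    ← Functor.map_comp,
    MilnorSeq.a_comp_t (fun n => sg.obj (F n)) (fun n => sg.map (t n)) M a c hΔ n]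

omit [HasProduct fun n => sg.obj (F n)] in
lemma toF_comp_a (U : C) (n : ℕ)
    (z : sg.obj (CohCx.freeSheaf J U) ⟶ (shiftFunctor _ (0 : ℤ)).obj M) :
    toF (F n) U (z ≫ (shiftFunctor _ (0 : ℤ)).map (a n)) =
      ((ψ F M a n).hom.app (op U)).hom (toSect _ U z) := by
  change ((ιF (F n)).hom.hom.app (op U)).hom (toSect _ U (z ≫ _)) = _
  rw [toSect_comp]
  rfl

/-- the cone on the inverse system `(F n)` with vertex `H^0(M[0])` -/
def coneF : Cone (CohCx.opSequence F t) where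
  pt := H0.obj ((shiftFunctor _ (0 : ℤ)).obj M)
  π := NatTrans.ofOpSequence (F := (Functor.const _).obj _) (fun n => ψ F M a n) (fun n => by
    dsimp only [Functor.const_obj_obj, Functor.const_obj_map]
    rw [Category.id_comp, Functor.ofOpSequence_map_homOfLE_succ]
    exact (ψ_comp_t F t M a c hΔ n).symm)

/-- the comparison map `H^0(M[0]) ⟶ lim F` -/
def φ : H0.obj ((shiftFunctor _ (0 : ℤ)).obj M) ⟶ limit (CohCx.opSequence F t) :=
  limit.lift _ (coneF F t M a c hΔ)

lemma φ_π (n : ℕ) : φ F t M a c hΔ ≫ limit.π _ (op n) = ψ F M a n :=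
  limit.lift_π _ _

omit [HasDerivedCategory.{u} (Sheaf J AddCommGrpCat.{u})] [HasProduct fun n => sg.obj (F n)] in
/-- sections of the limit sheaf are determined by their projections -/
lemma limit_sect_ext {W : C} (s₁ s₂ : (limit (CohCx.opSequence F t)).obj.obj (op W))
    (h : ∀ n, ((limit.π (CohCx.opSequence F t) (op n)).hom.app (op W)).hom s₁ =
      ((limit.π (CohCx.opSequence F t) (op n)).hom.app (op W)).hom s₂) : s₁ = s₂ := by
  have h0 : CohFree.ofSect J W _ s₁ = CohFree.ofSect J W _ s₂ := by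
    apply limit.hom_ext
    rintro ⟨n⟩
    apply (CohFree.homEquivSect J W _).injective
    rw [CohFree.homEquivSect_apply, CohFree.homEquivSect_apply]
    have e1 : ∀ s : (limit (CohCx.opSequence F t)).obj.obj (op W),
        CohFree.evalGen J W _ (CohFree.ofSect J W _ s ≫ limit.π (CohCx.opSequence F t) (op n)) =
        ((limit.π (CohCx.opSequence F t) (op n)).hom.app (op W)).hom
          (CohFree.evalGen J W _ (CohFree.ofSect J W _ s)) := fun _ => rfl
    rw [e1, e1, CohFree.evalGen_ofSect, CohFree.evalGen_ofSect]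
    exact h n
  have := congrArg (CohFree.evalGen J W _) h0
  rwa [CohFree.evalGen_ofSect, CohFree.evalGen_ofSect] at this

include h1 hB in
/-- `φ` is injective on sections -/
lemma φ_injective (V : C) (s : (H0.obj ((shiftFunctor _ (0 : ℤ)).obj M)).obj.obj (op V))
    (hs : ((φ F t M a c hΔ).hom.app (op V)).hom s = 0) : s = 0 := by
  have hψ : ∀ n, ((ψ F M a n).hom.app (op V)).hom s = 0 := by
    intro n
    rw [← φ_π F t M a c hΔ n]
    change ((limit.π (CohCx.opSequence F t) (op n)).hom.app (op V)).hom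
      (((φ F t M a c hΔ).hom.app (op V)).hom s) = 0
    rw [hs, map_zero]
  obtain ⟨R, hR, hRf⟩ := exists_cover_lift ((shiftFunctor _ (0 : ℤ)).obj M) V s
  apply FreeGen.sect_ext J _ R hR
  intro W f hf
  obtain ⟨x, hx⟩ := hRf f hf
  rw [map_zero, ← hx]
  apply sect_eq_zero_of_B B hB
  intro W' hW' g
  rw [← toSect_res]
  have hz : sg.map (CohCx.freeSheafMap J g) ≫ x = 0 := by
    apply hom_M_zero_unique F t B h1 M a c hΔ W' hW'
    intro n
    apply toF_injective
    rw [toF_comp_a, map_zero, toSect_res, hx]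
    have e1 := ConcreteCategory.congr_hom ((ψ F M a n).hom.naturality f.op) s
    have e2 := ConcreteCategory.congr_hom ((ψ F M a n).hom.naturality g.op)
      (((H0.obj ((shiftFunctor _ (0 : ℤ)).obj M)).obj.map f.op).hom s)
    refine e2.trans ?_
    change ((F n).obj.map g.op).hom (((ψ F M a n).hom.app (op W)).hom
      (((H0.obj ((shiftFunctor _ (0 : ℤ)).obj M)).obj.map f.op).hom s)) = 0
    have e1' : ((ψ F M a n).hom.app (op W)).hom
      (((H0.obj ((shiftFunctor _ (0 : ℤ)).obj M)).obj.map f.op).hom s) =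
        ((F n).obj.map f.op).hom (((ψ F M a n).hom.app (op V)).hom s) := e1
    rw [e1', hψ n, map_zero, map_zero]
  rw [hz, map_zero]

include hB in
/-- `φ` is locally surjective -/
lemma φ_locallySurjective (V : C) (s : (limit (CohCx.opSequence F t)).obj.obj (op V)) :
    Presheaf.imageSieve (φ F t M a c hΔ).hom s ∈ J V := by
  obtain ⟨ι, Yc, f, hcov, hYB⟩ := hB V
  refine J.superset_covering ?_ hcov
  intro W g hg
  obtain ⟨W', g', k, ⟨i⟩, rfl⟩ := hg
  apply Sieve.downward_closed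
  let sY : (limit (CohCx.opSequence F t)).obj.obj (op (Yc i)) :=
    ((limit (CohCx.opSequence F t)).obj.map (f i).op).hom s
  let sn : ∀ n, (F n).obj.obj (op (Yc i)) := fun n =>
    ((limit.π (CohCx.opSequence F t) (op n)).hom.app (op (Yc i))).hom sY
  have hsn : ∀ n, ((t n).hom.app (op (Yc i))).hom (sn (n + 1)) = sn n := by
    intro n
    have hw := limit.w (CohCx.opSequence F t) (homOfLE (Nat.le_add_right n 1)).op
    rw [Functor.ofOpSequence_map_homOfLE_succ] at hw
    have := congrArg (fun κ => (κ.hom.app (op (Yc i))).hom sY) hw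
    exact this
  have hx : ∀ n, ofF (F (n + 1)) (Yc i) (sn (n + 1)) ≫
      (shiftFunctor _ (0 : ℤ)).map (sg.map (t n)) = ofF (F n) (Yc i) (sn n) := by
    intro n
    apply toF_injective
    rw [toF_comp, toF_ofF, toF_ofF, hsn]
  obtain ⟨y, hy⟩ := MilnorSeq.exists_lift (fun n => sg.obj (F n)) (fun n => sg.map (t n)) M a c hΔ
    0 (fun n => ofF (F n) (Yc i) (sn n)) hx
  refine ⟨toSect _ (Yc i) y, ?_⟩
  apply limit_sect_ext
  intro n
  have e1 : ((limit.π (CohCx.opSequence F t) (op n)).hom.app (op (Yc i))).hom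
      (((φ F t M a c hΔ).hom.app (op (Yc i))).hom (toSect _ (Yc i) y)) =
      ((ψ F M a n).hom.app (op (Yc i))).hom (toSect _ (Yc i) y) := by
    rw [← φ_π F t M a c hΔ n]
    rfl
  refine e1.trans ?_
  rw [← toF_comp_a, hy, toF_ofF]

include h1 hB in
theorem isIso_φ : IsIso (φ F t M a c hΔ) := by
  haveI : Mono (φ F t M a c hΔ).hom := by
    haveI : ∀ X, Mono ((φ F t M a c hΔ).hom.app X) := by
      intro X
      rw [AddCommGrpCat.mono_iff_injective, injective_iff_map_eq_zero]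
      intro s hs
      exact φ_injective F t B h1 M a c hΔ hB X.unop s hs
    exact NatTrans.mono_of_mono_app _
  haveI : Mono (φ F t M a c hΔ) := Sheaf.Hom.mono_of_presheaf_mono J _ _
  haveI : Epi (φ F t M a c hΔ) :=
    (Sheaf.isLocallySurjective_iff_epi' AddCommGrpCat.{u} _).1
      ⟨fun s => φ_locallySurjective F t B M a c hΔ hB _ s⟩
  exact isIso_of_mono_of_epi _

omit [HasDerivedCategory.{u} (Sheaf J AddCommGrpCat.{u})] in
/-- a sheaf all of whose sections vanish is zero -/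
lemma isZero_of_sect (T : Sheaf J AddCommGrpCat.{u})
    (h : ∀ (V : C) (s : T.obj.obj (op V)), s = 0) : IsZero T := by
  rw [IsZero.iff_id_eq_zero]
  apply Sheaf.hom_ext
  apply NatTrans.ext
  funext V
  apply AddCommGrpCat.hom_ext
  apply AddMonoidHom.ext
  intro s
  exact (h V.unop s).trans (h V.unop _).symm

include h1 h2 hΔ hB in
/-- `M` is the limit sheaf placed in degree zero -/
theorem nonempty_iso : Nonempty (sg.obj (limit (CohCx.opSequence F t)) ≅ M) := by
  have hz : ∀ m : ℤ, m ≠ 0 → IsZero ((DerivedCategory.homologyFunctor _ m).obj M) := by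
    intro m hm
    refine IsZero.of_iso ?_ (RlimInj.shIso m M).symm
    exact isZero_of_sect _ (fun V s => sect_M_eq_zero F t B h1 h2 M a c hΔ hB m hm V s)
  haveI : M.IsGE 0 := (DerivedCategory.isGE_iff M 0).2 (fun i hi => hz i (by omega))
  haveI : M.IsLE 0 := (DerivedCategory.isLE_iff M 0).2 (fun i hi => hz i (by omega))
  obtain ⟨X, ⟨e⟩⟩ := exists_iso_singleFunctor_obj_of_isGE_of_isLE M 0
  haveI := isIso_φ F t B h1 M a c hΔ hB
  let e1 : X ≅ limit (CohCx.opSequence F t) :=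
    (sIsoS X).symm ≪≫ H0.mapIso e.symm ≪≫ (RlimInj.shIso 0 M).symm ≪≫ asIso (φ F t M a c hΔ)
  exact ⟨sg.mapIso e1.symm ≪≫ e.symm⟩

end Main

open Pretriangulated in
/-- S0879 in library form -/
theorem main (F : ℕ → Sheaf J AddCommGrpCat.{u}) (t : ∀ n, F (n + 1) ⟶ F n)
    [HasProduct fun n => (DerivedCategory.singleFunctor (Sheaf J AddCommGrpCat.{u}) 0).obj (F n)]
    (B : Set C)
    (hB : ∀ U : C, ∃ (ι : Type u) (Y : ι → C) (f : ∀ i, Y i ⟶ U),
      Sieve.ofArrows Y f ∈ J U ∧ ∀ i, Y i ∈ B)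
    (h1 : ∀ U ∈ B, ∀ (p n : ℕ), Subsingleton (CohSite.HU (F n) (p + 1) U))
    (h2 : ∀ U ∈ B, CohCx.LimOneIsZero (fun n => (F n).obj.obj (op U))
      (fun n => ((t n).hom.app (op U)).hom)) :
    DCoh.IsRlim (fun n => (DerivedCategory.singleFunctor _ 0).obj (F n))
      (fun n => (DerivedCategory.singleFunctor _ 0).map (t n))
      ((DerivedCategory.singleFunctor _ 0).obj (limit (CohCx.opSequence F t))) ∧
    ∀ U ∈ B, ∀ p : ℕ, Subsingleton (CohSite.HU (limit (CohCx.opSequence F t)) (p + 1) U) := by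
  obtain ⟨M, a', c, hΔ'⟩ := distinguished_cocone_triangle₁
    (Pi.lift fun n => Pi.π (fun n => sg.obj (F n)) n -
      Pi.π (fun n => sg.obj (F n)) (n + 1) ≫ sg.map (t n))
  let a : ∀ n, M ⟶ sg.obj (F n) := fun n => a' ≫ Pi.π _ n
  have ha' : a' = Pi.lift a := by
    apply Pi.hom_ext
    intro n
    rw [Pi.lift_π]
  have hΔ : Triangle.mk (Pi.lift a)
      (Pi.lift fun n => Pi.π (fun n => sg.obj (F n)) n -
        Pi.π (fun n => sg.obj (F n)) (n + 1) ≫ sg.map (t n)) c ∈ distinguishedTriangles := by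
    rw [← ha']
    exact hΔ'
  obtain ⟨e⟩ := nonempty_iso F t B h1 h2 M a c hΔ hB
  refine ⟨⟨e.hom ≫ a', c ≫ (shiftFunctor _ (1 : ℤ)).map e.inv, ?_⟩, ?_⟩
  · refine isomorphic_distinguished _ hΔ' _ (Triangle.isoMk _ _ e (Iso.refl _) (Iso.refl _) ?_ ?_ ?_)
    · change (e.hom ≫ a') ≫ 𝟙 _ = e.hom ≫ a'
      rw [Category.comp_id]
    · change _ ≫ 𝟙 _ = 𝟙 _ ≫ _
      rw [Category.comp_id, Category.id_comp]
      rfl
    · change (c ≫ (shiftFunctor _ (1 : ℤ)).map e.inv) ≫ (shiftFunctor _ (1 : ℤ)).map e.hom =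
        𝟙 _ ≫ c
      rw [Category.id_comp, Category.assoc, ← Functor.map_comp, Iso.inv_hom_id,
        CategoryTheory.Functor.map_id, Category.comp_id]
  · intro U hU p
    have hzero : ∀ z : sg.obj (CohCx.freeSheaf J U) ⟶
        (shiftFunctor _ (((p + 1 : ℕ) : ℤ))).obj (sg.obj (limit (CohCx.opSequence F t))),
        z = 0 := by
      intro z
      have h0 := hom_M_eq_zero F t B h1 h2 M a c hΔ U hU ((p + 1 : ℕ) : ℤ) (by push_cast; omega)
        (z ≫ (shiftFunctor _ (((p + 1 : ℕ) : ℤ))).map e.hom)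
      have h3 : z = (z ≫ (shiftFunctor _ (((p + 1 : ℕ) : ℤ))).map e.hom) ≫
          (shiftFunctor _ (((p + 1 : ℕ) : ℤ))).map e.inv := by
        rw [Category.assoc, ← Functor.map_comp, Iso.hom_inv_id, CategoryTheory.Functor.map_id,
          Category.comp_id]
      rw [h3, h0, zero_comp]
    constructor
    intro x y
    apply (Abelian.Ext.homEquiv (X := CohCx.freeSheaf J U)
      (Y := limit (CohCx.opSequence F t)) (n := p + 1)).injective
    exact (hzero _).trans (hzero _).symm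

end Groth.Agent.Lib.Helper5.RlimAcyclic
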