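import Mathlib
import Groth.Prelude.Def_CohCx
import Groth.Prelude.Def_FreeSh
import Groth.Agent.Lib.Helper5.FreeGen
import Groth.Agent.Lib.Helper5.HDULocal
import Groth.Agent.Lib.Helper5.RlimAcyclic
import Groth.Agent.Lib.Helper5.AbCx

/-!
# Cohomology sheaves of complexes of abelian sheaves, locally (helper5)

`hc`: the class in `H^i(F)` of a morphism `ℤ_U ⟶ F^i` killed by the differential; local lifting
(`exists_cover_hc`) and local vanishing (`exists_cover_d`); `isIso_homologyMap_of_sect`: a morphism of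
complexes of sheaves inducing bijections on `H^i` of the complexes of sections over a covering class
of objects induces an isomorphism of cohomology sheaves.
-/

set_option autoImplicit false
universe u
open CategoryTheory CategoryTheory.Limits Opposite HomologicalComplex

noncomputable section
namespace Groth.Agent.Lib.Helper5.CxLocal

variable {C : Type u} [SmallCategory C] {J : GrothendieckTopology C}

lemma evalGen_comp {F G : Sheaf J AddCommGrpCat.{u}} (U : C) (a : CohCx.freeSheaf J U ⟶ F)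
    (ψ : F ⟶ G) :
    CohFree.evalGen J U G (a ≫ ψ) = (ψ.hom.app (op U)).hom (CohFree.evalGen J U F a) := rfl

lemma hom_ext_evalGen {F : Sheaf J AddCommGrpCat.{u}} (U : C) (a b : CohCx.freeSheaf J U ⟶ F)
    (h : CohFree.evalGen J U F a = CohFree.evalGen J U F b) : a = b :=
  (CohFree.homEquivSect J U F).injective h

lemma hom_eq_zero_of_cover {T : Sheaf J AddCommGrpCat.{u}} {U : C} (a : CohCx.freeSheaf J U ⟶ T)
    (R : Sieve U) (hR : R ∈ J U)
    (h : ∀ ⦃V : C⦄ (f : V ⟶ U), R f → CohCx.freeSheafMap J f ≫ a = 0) : a = 0 := by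
  apply hom_ext_evalGen
  rw [map_zero]
  apply FreeGen.sect_ext J T R hR
  intro V g hg
  rw [map_zero, ← CohFree.evalGen_freeSheafMap_comp, h g hg, map_zero]

lemma hom_eq_zero_of_B (B : Set C)
    (hB : ∀ U : C, ∃ (ι : Type u) (Y : ι → C) (f : ∀ i, Y i ⟶ U),
      Sieve.ofArrows Y f ∈ J U ∧ ∀ i, Y i ∈ B)
    {T : Sheaf J AddCommGrpCat.{u}} {U : C} (a : CohCx.freeSheaf J U ⟶ T)
    (h : ∀ (W : C) (_ : W ∈ B) (g : W ⟶ U), CohCx.freeSheafMap J g ≫ a = 0) : a = 0 := by
  apply hom_ext_evalGen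
  rw [map_zero]
  apply RlimAcyclic.sect_eq_zero_of_B B hB
  intro W hW g
  rw [← CohFree.evalGen_freeSheafMap_comp, h W hW g, map_zero]

lemma mono_of_freeSheaf {X Y : Sheaf J AddCommGrpCat.{u}} (ψ : X ⟶ Y)
    (h : ∀ (U : C) (a : CohCx.freeSheaf J U ⟶ X), a ≫ ψ = 0 → a = 0) : Mono ψ := by
  haveI : Mono ψ.hom := by
    haveI : ∀ Z, Mono (ψ.hom.app Z) := by
      intro Z
      rw [AddCommGrpCat.mono_iff_injective, injective_iff_map_eq_zero]
      intro s hs
      have h1 := h Z.unop (CohFree.ofSect J Z.unop X s) (by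
        apply hom_ext_evalGen
        rw [evalGen_comp, CohFree.evalGen_ofSect, map_zero]
        exact hs)
      have h2 := congrArg (CohFree.evalGen J Z.unop X) h1
      rwa [CohFree.evalGen_ofSect, map_zero] at h2
    exact NatTrans.mono_of_mono_app _
  exact Sheaf.Hom.mono_of_presheaf_mono J _ _

lemma epi_of_freeSheaf {X Y : Sheaf J AddCommGrpCat.{u}} (ψ : X ⟶ Y)
    (h : ∀ (U : C) (b : CohCx.freeSheaf J U ⟶ Y), ∃ R ∈ J U, ∀ ⦃V : C⦄ (f : V ⟶ U), R f →
      ∃ a : CohCx.freeSheaf J V ⟶ X, a ≫ ψ = CohCx.freeSheafMap J f ≫ b) : Epi ψ := by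
  apply (Sheaf.isLocallySurjective_iff_epi' AddCommGrpCat.{u} ψ).1
  refine ⟨fun {U} s => ?_⟩
  obtain ⟨R, hR, hRf⟩ := h U (CohFree.ofSect J U Y s)
  refine J.superset_covering ?_ hR
  intro V f hf
  obtain ⟨a, ha⟩ := hRf f hf
  refine ⟨CohFree.evalGen J V X a, ?_⟩
  have := congrArg (CohFree.evalGen J V Y) ha
  rw [evalGen_comp, CohFree.evalGen_freeSheafMap_comp, CohFree.evalGen_ofSect] at this
  exact this


section Cx

variable (F : CochainComplex (Sheaf J AddCommGrpCat.{u}) ℤ)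

lemma next_eq (i j : ℤ) (hij : i + 1 = j) : (ComplexShape.up ℤ).next i = j := by
  simp [← hij]

/-- the class in `H^i(F)` of a morphism into `F^i` killed by the differential -/
def hc {U : C} (i j : ℤ) (hij : i + 1 = j) (x : CohCx.freeSheaf J U ⟶ F.X i)
    (hx : x ≫ F.d i j = 0) : CohCx.freeSheaf J U ⟶ F.homology i :=
  F.liftCycles x j (next_eq i j hij) hx ≫ F.homologyπ i

lemma hc_congr {U : C} (i j : ℤ) (hij : i + 1 = j) (x x' : CohCx.freeSheaf J U ⟶ F.X i)
    (hx : x ≫ F.d i j = 0) (h : x = x') : hc F i j hij x hx = hc F i j hij x' (h ▸ hx) := by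
  subst h
  rfl

lemma hc_sub {U : C} (i j : ℤ) (hij : i + 1 = j) (x z : CohCx.freeSheaf J U ⟶ F.X i)
    (hx : x ≫ F.d i j = 0) (hz : z ≫ F.d i j = 0) :
    hc F i j hij (x - z) (by rw [Preadditive.sub_comp, hx, hz, sub_zero]) =
      hc F i j hij x hx - hc F i j hij z hz := by
  have h : F.liftCycles (x - z) j (next_eq i j hij)
      (by rw [Preadditive.sub_comp, hx, hz, sub_zero]) =
      F.liftCycles x j (next_eq i j hij) hx - F.liftCycles z j (next_eq i j hij) hz := by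
    rw [← cancel_mono (F.iCycles i), liftCycles_i, Preadditive.sub_comp, liftCycles_i,
      liftCycles_i]
  exact (congrArg (fun κ => κ ≫ F.homologyπ i) h).trans (Preadditive.sub_comp _ _ _)

lemma hc_res {U V : C} (f : V ⟶ U) (i j : ℤ) (hij : i + 1 = j) (x : CohCx.freeSheaf J U ⟶ F.X i)
    (hx : x ≫ F.d i j = 0) :
    hc F i j hij (CohCx.freeSheafMap J f ≫ x) (by rw [Category.assoc, hx, comp_zero]) =
      CohCx.freeSheafMap J f ≫ hc F i j hij x hx := by
  have h : F.liftCycles (CohCx.freeSheafMap J f ≫ x) j (next_eq i j hij)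
      (by rw [Category.assoc, hx, comp_zero]) =
      CohCx.freeSheafMap J f ≫ F.liftCycles x j (next_eq i j hij) hx :=
    (comp_liftCycles F x j (next_eq i j hij) hx (CohCx.freeSheafMap J f)).symm
  exact (congrArg (fun κ => κ ≫ F.homologyπ i) h).trans (Category.assoc _ _ _)

lemma hc_map {G : CochainComplex (Sheaf J AddCommGrpCat.{u}) ℤ} (φ : F ⟶ G) {U : C} (i j : ℤ)
    (hij : i + 1 = j) (x : CohCx.freeSheaf J U ⟶ F.X i) (hx : x ≫ F.d i j = 0) :
    hc F i j hij x hx ≫ homologyMap φ i =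
      hc G i j hij (x ≫ φ.f i) (by rw [Category.assoc, φ.comm, ← Category.assoc, hx, zero_comp]) := by
  have h := liftCycles_comp_cyclesMap x j (next_eq i j hij) hx φ
  dsimp only [hc]
  refine (Category.assoc _ _ _).trans ?_
  refine (congrArg (fun κ => _ ≫ κ) (homologyπ_naturality φ i)).trans ?_
  refine (Category.assoc _ _ _).symm.trans ?_
  exact congrArg (fun κ => κ ≫ G.homologyπ i) h

lemma hc_d {U : C} (i' i j : ℤ) (hij : i + 1 = j) (y : CohCx.freeSheaf J U ⟶ F.X i') :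
    hc F i j hij (y ≫ F.d i' i) (by rw [Category.assoc, F.d_comp_d, comp_zero]) = 0 := by
  dsimp only [hc]
  have : F.liftCycles (y ≫ F.d i' i) j (next_eq i j hij)
      (by rw [Category.assoc, F.d_comp_d, comp_zero]) = y ≫ F.toCycles i' i := by
    rw [← cancel_mono (F.iCycles i), liftCycles_i, Category.assoc, toCycles_i]
  rw [this, Category.assoc, toCycles_comp_homologyπ, comp_zero]

/-- sections of `H^i(F)` are locally classes of cycles -/
lemma exists_cover_hc {U : C} (i j : ℤ) (hij : i + 1 = j)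
    (s : CohCx.freeSheaf J U ⟶ F.homology i) :
    ∃ R ∈ J U, ∀ ⦃V : C⦄ (f : V ⟶ U), R f →
      ∃ (x : CohCx.freeSheaf J V ⟶ F.X i) (hx : x ≫ F.d i j = 0),
        hc F i j hij x hx = CohCx.freeSheafMap J f ≫ s := by
  obtain ⟨A', π, hπ, c', fac⟩ := surjective_up_to_refinements_of_epi (F.homologyπ i) s
  obtain ⟨R, hR, hRf⟩ := HDULocal.exists_cover_factor π
  refine ⟨R, hR, fun V f hf => ?_⟩
  obtain ⟨r, hr⟩ := hRf f hf
  refine ⟨r ≫ c' ≫ F.iCycles i, by rw [Category.assoc, Category.assoc, iCycles_d, comp_zero,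
    comp_zero], ?_⟩
  dsimp only [hc]
  have : F.liftCycles (r ≫ c' ≫ F.iCycles i) j (next_eq i j hij)
      (by rw [Category.assoc, Category.assoc, iCycles_d, comp_zero, comp_zero]) = r ≫ c' := by
    rw [← cancel_mono (F.iCycles i), liftCycles_i, Category.assoc]
  rw [this, Category.assoc, ← fac, ← Category.assoc, hr]

/-- a cycle whose class vanishes is locally a boundary -/
lemma exists_cover_d {U : C} (i' i j : ℤ) (hi : i' + 1 = i) (hij : i + 1 = j)
    (x : CohCx.freeSheaf J U ⟶ F.X i) (hx : x ≫ F.d i j = 0) (h0 : hc F i j hij x hx = 0) :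
    ∃ R ∈ J U, ∀ ⦃V : C⦄ (f : V ⟶ U), R f →
      ∃ y : CohCx.freeSheaf J V ⟶ F.X i', y ≫ F.d i' i = CohCx.freeSheafMap J f ≫ x := by
  have hex : (ShortComplex.mk (F.toCycles i' i) (F.homologyπ i) (by simp)).Exact :=
    ShortComplex.exact_of_g_is_cokernel _ (F.homologyIsCokernel i' i (by simp [← hi]))
  obtain ⟨A', π, hπ, y₁, fac⟩ := hex.exact_up_to_refinements
    (F.liftCycles x j (next_eq i j hij) hx) h0
  obtain ⟨R, hR, hRf⟩ := HDULocal.exists_cover_factor π
  refine ⟨R, hR, fun V f hf => ?_⟩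
  obtain ⟨r, hr⟩ := hRf f hf
  refine ⟨r ≫ y₁, ?_⟩
  have h1 := congrArg (fun κ => r ≫ κ ≫ F.iCycles i) fac
  dsimp only at h1
  rw [Category.assoc, liftCycles_i, Category.assoc, toCycles_i, ← Category.assoc, hr] at h1
  rw [Category.assoc]
  exact h1.symm

end Cx

section Main

variable {F G : CochainComplex (Sheaf J AddCommGrpCat.{u}) ℤ} (φ : F ⟶ G)
  (i' i j : ℤ) (hi : i' + 1 = i) (hij : i + 1 = j) (B : Set C)
  (hB : ∀ U : C, ∃ (ι : Type u) (Y : ι → C) (f : ∀ i, Y i ⟶ U),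
    Sieve.ofArrows Y f ∈ J U ∧ ∀ i, Y i ∈ B)

include hi hij hB in
lemma mono_homologyMap_of_local
    (hinj : ∀ U ∈ B, ∀ (x : CohCx.freeSheaf J U ⟶ F.X i), x ≫ F.d i j = 0 →
      (∃ y' : CohCx.freeSheaf J U ⟶ G.X i', y' ≫ G.d i' i = x ≫ φ.f i) →
        ∃ y : CohCx.freeSheaf J U ⟶ F.X i', y ≫ F.d i' i = x) :
    Mono (homologyMap φ i) := by
  apply mono_of_freeSheaf
  intro U a ha
  apply hom_eq_zero_of_B B hB
  intro W hW g
  obtain ⟨R₁, hR₁, h₁⟩ := exists_cover_hc F i j hij (CohCx.freeSheafMap J g ≫ a)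
  apply hom_eq_zero_of_cover _ R₁ hR₁
  intro V f hf
  obtain ⟨x, hx, hxa⟩ := h₁ f hf
  rw [← hxa]
  apply hom_eq_zero_of_B B hB
  intro W' hW' g'
  rw [← hc_res]
  have h2 : hc G i j hij ((CohCx.freeSheafMap J g' ≫ x) ≫ φ.f i)
      (by rw [Category.assoc, Category.assoc, φ.comm, ← Category.assoc x, hx, zero_comp,
        comp_zero]) = 0 := by
    rw [← hc_map F φ i j hij (CohCx.freeSheafMap J g' ≫ x)
      (by rw [Category.assoc, hx, comp_zero]), hc_res F g' i j hij x hx, hxa, Category.assoc,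
      Category.assoc, Category.assoc, ha, comp_zero, comp_zero, comp_zero]
  obtain ⟨R₂, hR₂, h₂⟩ := exists_cover_d G i' i j hi hij _ _ h2
  apply hom_eq_zero_of_cover _ R₂ hR₂
  intro V' f' hf'
  obtain ⟨y', hy'⟩ := h₂ f' hf'
  rw [← hc_res]
  apply hom_eq_zero_of_B B hB
  intro W'' hW'' g''
  rw [← hc_res]
  obtain ⟨y, hy⟩ := hinj W'' hW''
    (CohCx.freeSheafMap J g'' ≫ CohCx.freeSheafMap J f' ≫ CohCx.freeSheafMap J g' ≫ x)
    (by rw [Category.assoc, Category.assoc, Category.assoc, hx, comp_zero, comp_zero, comp_zero])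
    ⟨CohCx.freeSheafMap J g'' ≫ y', by
      rw [Category.assoc, hy', Category.assoc, Category.assoc, Category.assoc, Category.assoc]⟩
  rw [hc_congr F i j hij _ _ _ hy.symm, hc_d]

include hij hB in
lemma epi_homologyMap_of_local
    (hsurj : ∀ U ∈ B, ∀ (z : CohCx.freeSheaf J U ⟶ G.X i), z ≫ G.d i j = 0 →
      ∃ (x : CohCx.freeSheaf J U ⟶ F.X i) (_ : x ≫ F.d i j = 0)
        (y' : CohCx.freeSheaf J U ⟶ G.X i'), y' ≫ G.d i' i = x ≫ φ.f i - z) :
    Epi (homologyMap φ i) := by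
  apply epi_of_freeSheaf
  intro U b
  obtain ⟨R₁, hR₁, h₁⟩ := exists_cover_hc G i j hij b
  choose ι Yc fY hcov hYB using hB
  refine ⟨Sieve.bind R₁.arrows (fun V _ _ => Sieve.ofArrows (Yc V) (fY V)),
    J.bind_covering hR₁ (fun V _ _ => hcov V), ?_⟩
  intro Z h hh
  obtain ⟨V, g, f, hf, hg, rfl⟩ := hh
  obtain ⟨W', g', k, ⟨i₀⟩, rfl⟩ := hg
  obtain ⟨z, hz, hzb⟩ := h₁ f hf
  obtain ⟨x, hx, y', hy'⟩ := hsurj (Yc V i₀) (hYB V i₀) (CohCx.freeSheafMap J (fY V i₀) ≫ z)
    (by rw [Category.assoc, hz, comp_zero])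
  refine ⟨CohCx.freeSheafMap J g' ≫ hc F i j hij x hx, ?_⟩
  have h3 : hc G i j hij (x ≫ φ.f i) (by rw [Category.assoc, φ.comm, ← Category.assoc, hx,
      zero_comp]) = hc G i j hij (CohCx.freeSheafMap J (fY V i₀) ≫ z)
      (by rw [Category.assoc, hz, comp_zero]) := by
    rw [← sub_eq_zero, ← hc_sub, hc_congr G i j hij _ _ _ hy'.symm, hc_d]
  rw [Category.assoc, hc_map, h3, hc_res G (fY V i₀) i j hij z hz, hzb, CohFree.freeSheafMap_comp,
    CohFree.freeSheafMap_comp, Category.assoc, Category.assoc]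

include hi hij hB in
theorem isIso_homologyMap_of_local
    (hinj : ∀ U ∈ B, ∀ (x : CohCx.freeSheaf J U ⟶ F.X i), x ≫ F.d i j = 0 →
      (∃ y' : CohCx.freeSheaf J U ⟶ G.X i', y' ≫ G.d i' i = x ≫ φ.f i) →
        ∃ y : CohCx.freeSheaf J U ⟶ F.X i', y ≫ F.d i' i = x)
    (hsurj : ∀ U ∈ B, ∀ (z : CohCx.freeSheaf J U ⟶ G.X i), z ≫ G.d i j = 0 →
      ∃ (x : CohCx.freeSheaf J U ⟶ F.X i) (_ : x ≫ F.d i j = 0)
        (y' : CohCx.freeSheaf J U ⟶ G.X i'), y' ≫ G.d i' i = x ≫ φ.f i - z) :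
    IsIso (homologyMap φ i) := by
  haveI := mono_homologyMap_of_local φ i' i j hi hij B hB hinj
  haveI := epi_homologyMap_of_local φ i' i j hij B hB hsurj
  exact isIso_of_mono_of_epi _

lemma sect_d (F : CochainComplex (Sheaf J AddCommGrpCat.{u}) ℤ) (U : C) (i j : ℤ)
    (x : CohCx.freeSheaf J U ⟶ F.X i) :
    ((CohCx.sectCx J U).obj F).d i j (CohFree.evalGen J U (F.X i) x) =
      CohFree.evalGen J U (F.X j) (x ≫ F.d i j) := rfl

lemma sect_f (U : C) (i : ℤ) (x : CohCx.freeSheaf J U ⟶ F.X i) :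
    ((CohCx.sectCx J U).map φ).f i (CohFree.evalGen J U (F.X i) x) =
      CohFree.evalGen J U (G.X i) (x ≫ φ.f i) := rfl

include hi hij hB in
/-- a morphism of complexes of sheaves inducing bijections on `H^i` of sections over a covering
class of objects induces an isomorphism on the cohomology sheaves `H^i` -/
theorem isIso_homologyMap_of_sect
    (h : ∀ U ∈ B, Function.Bijective (homologyMap ((CohCx.sectCx J U).map φ) i)) :
    IsIso (homologyMap φ i) := by
  apply isIso_homologyMap_of_local φ i' i j hi hij B hB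
  · intro U hU x hx ⟨y', hy'⟩
    have hξ : ((CohCx.sectCx J U).obj F).d i j (CohFree.evalGen J U (F.X i) x) = 0 := by
      rw [sect_d, hx, map_zero]
      rfl
    have h1 : AbCx.cls ((CohCx.sectCx J U).obj F) i j hij _ hξ = 0 := by
      apply (h U hU).1
      rw [map_zero, AbCx.homologyMap_cls, AbCx.cls_eq_zero_iff _ i' i j hi hij]
      refine ⟨CohFree.evalGen J U (G.X i') y', ?_⟩
      rw [sect_d, hy', sect_f]
    obtain ⟨η, hη⟩ := (AbCx.cls_eq_zero_iff _ i' i j hi hij _ hξ).mp h1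
    refine ⟨CohFree.ofSect J U (F.X i') η, ?_⟩
    apply hom_ext_evalGen
    rw [← sect_d, CohFree.evalGen_ofSect]
    exact hη
  · intro U hU z hz
    have hζ : ((CohCx.sectCx J U).obj G).d i j (CohFree.evalGen J U (G.X i) z) = 0 := by
      rw [sect_d, hz, map_zero]
      rfl
    obtain ⟨c, hc⟩ := (h U hU).2 (AbCx.cls ((CohCx.sectCx J U).obj G) i j hij _ hζ)
    obtain ⟨ξ, hξ, rfl⟩ := AbCx.cls_surjective ((CohCx.sectCx J U).obj F) i j hij c
    rw [AbCx.homologyMap_cls, AbCx.cls_eq_iff _ i' i j hi hij] at hc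
    obtain ⟨η', hη'⟩ := hc
    have hx : CohFree.ofSect J U (F.X i) ξ ≫ F.d i j = 0 := by
      apply hom_ext_evalGen
      rw [← sect_d, CohFree.evalGen_ofSect, map_zero]
      exact hξ
    refine ⟨CohFree.ofSect J U (F.X i) ξ, hx, CohFree.ofSect J U (G.X i') η', ?_⟩
    apply hom_ext_evalGen
    rw [← sect_d, CohFree.evalGen_ofSect, map_sub, ← sect_f, CohFree.evalGen_ofSect]
    exact hη'

end Main

end Groth.Agent.Lib.Helper5.CxLocal
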