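import Mathlib
import Groth.Prelude.Def_CohTop
import Groth.Prelude.Def_FreeSh
import Groth.Agent.Lib.Helper5.CxLocal

/-!
# Local arguments with sections of abelian sheaves on a topological space (helper5)

Sections over `V` of an abelian sheaf `T` are represented by morphisms `free V ⟶ T`.
-/

set_option autoImplicit false
universe u
open CategoryTheory CategoryTheory.Limits Opposite TopologicalSpace Topology

noncomputable section
namespace Groth.Agent.Lib.Helper5.TopLocal

open Groth.Agent.Lib.Helper5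

variable {X : TopCat.{u}}

/-- the free abelian sheaf on an open subset -/
abbrev free (V : Opens X) : CohTop.Ab X := CohCx.freeSheaf (Opens.grothendieckTopology X) V

/-- restriction of sections -/
abbrev res {W V : Opens X} (h : W ≤ V) : free W ⟶ free V :=
  CohCx.freeSheafMap (Opens.grothendieckTopology X) (homOfLE h)

lemma res_comp {W' W V : Opens X} (h : W' ≤ W) (h' : W ≤ V) :
    res h ≫ res h' = res (h.trans h') :=
  (CohFree.freeSheafMap_comp (Opens.grothendieckTopology X) (homOfLE h) (homOfLE h')).symm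

lemma res_comp_assoc {W' W V : Opens X} (h : W' ≤ W) (h' : W ≤ V) {T : CohTop.Ab X}
    (a : free V ⟶ T) : res h ≫ res h' ≫ a = res (h.trans h') ≫ a := by
  rw [← Category.assoc, res_comp]

lemma res_self (V : Opens X) {T : CohTop.Ab X} (a : free V ⟶ T) : res (le_refl V) ≫ a = a := by
  have : res (le_refl V) = 𝟙 (free V) := CohFree.freeSheafMap_id (Opens.grothendieckTopology X) V
  rw [this, Category.id_comp]

lemma hom_eq_zero_of_near {T : CohTop.Ab X} {V : Opens X} (a : free V ⟶ T)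
    (h : ∀ x ∈ V, ∃ (W : Opens X) (_ : x ∈ W) (hW : W ≤ V), res hW ≫ a = 0) : a = 0 := by
  let R : Sieve V :=
    { arrows := fun W f => res f.le ≫ a = 0
      downward_closed := by
        intro W W' f hf g
        show res (g ≫ f).le ≫ a = 0
        rw [← res_comp_assoc g.le f.le a, hf, comp_zero] }
  have hR : R ∈ Opens.grothendieckTopology X V := by
    intro x hx
    obtain ⟨W, hxW, hW, h0⟩ := h x hx
    exact ⟨W, homOfLE hW, h0, hxW⟩
  exact CxLocal.hom_eq_zero_of_cover a R hR (fun W f hf => hf)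

lemma hom_ext_of_near {T : CohTop.Ab X} {V : Opens X} (a b : free V ⟶ T)
    (h : ∀ x ∈ V, ∃ (W : Opens X) (_ : x ∈ W) (hW : W ≤ V), res hW ≫ a = res hW ≫ b) : a = b := by
  rw [← sub_eq_zero]
  apply hom_eq_zero_of_near
  intro x hx
  obtain ⟨W, hxW, hW, e⟩ := h x hx
  exact ⟨W, hxW, hW, by rw [Preadditive.comp_sub, e, sub_self]⟩

lemma eq_zero_of_free {A T : CohTop.Ab X} (m : A ⟶ T)
    (h : ∀ (V : Opens X) (s : free V ⟶ A), s ≫ m = 0) : m = 0 := by
  haveI : Mono (𝟙 A - 0 : A ⟶ A) := by rw [sub_zero]; infer_instance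
  apply Sheaf.hom_ext
  apply NatTrans.ext
  funext V
  apply AddCommGrpCat.hom_ext
  ext t
  have h1 := h V.unop (CohFree.ofSect _ V.unop A t)
  have h2 := congrArg (CohFree.evalGen _ V.unop T) h1
  rw [CxLocal.evalGen_comp, CohFree.evalGen_ofSect, map_zero] at h2
  exact h2

lemma epi_of_near {A B : CohTop.Ab X} (ψ : A ⟶ B)
    (h : ∀ (V : Opens X) (b : free V ⟶ B), ∀ x ∈ V, ∃ (W : Opens X) (_ : x ∈ W) (hW : W ≤ V)
      (a : free W ⟶ A), a ≫ ψ = res hW ≫ b) : Epi ψ := by
  apply CxLocal.epi_of_freeSheaf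
  intro V b
  let R : Sieve V :=
    { arrows := fun W f => ∃ a : free W ⟶ A, a ≫ ψ = res f.le ≫ b
      downward_closed := by
        rintro W W' f ⟨a, ha⟩ g
        refine ⟨res g.le ≫ a, ?_⟩
        show (res g.le ≫ a) ≫ ψ = res (g ≫ f).le ≫ b
        rw [Category.assoc, ha, res_comp_assoc] }
  refine ⟨R, ?_, fun W f hf => hf⟩
  intro x hx
  obtain ⟨W, hxW, hW, a, ha⟩ := h V b x hx
  exact ⟨W, homOfLE hW, ⟨a, ha⟩, hxW⟩

lemma near_of_epi {A B : CohTop.Ab X} (ψ : A ⟶ B) [Epi ψ] (V : Opens X) (b : free V ⟶ B)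
    (x : X) (hx : x ∈ V) : ∃ (W : Opens X) (_ : x ∈ W) (hW : W ≤ V)
      (a : free W ⟶ A), a ≫ ψ = res hW ≫ b := by
  have hloc : Presheaf.IsLocallySurjective (Opens.grothendieckTopology X) ψ.hom :=
    (Sheaf.isLocallySurjective_iff_epi' AddCommGrpCat.{u} ψ).2 inferInstance
  obtain ⟨W, g, ⟨t, ht⟩, hxW⟩ := hloc.imageSieve_mem
    (CohFree.evalGen (Opens.grothendieckTopology X) V B b) x hx
  refine ⟨W, hxW, g.le, CohFree.ofSect _ W A t, ?_⟩
  apply CxLocal.hom_ext_evalGen
  rw [CxLocal.evalGen_comp, CohFree.evalGen_ofSect, CohFree.evalGen_freeSheafMap_comp]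
  exact ht

/-- exactness of a short complex of sheaves from a local condition on sections -/
lemma exact_of_near (S : ShortComplex (CohTop.Ab X))
    (h : ∀ (V : Opens X) (z : free V ⟶ S.X₂), z ≫ S.g = 0 → ∀ x ∈ V,
      ∃ (W : Opens X) (_ : x ∈ W) (hW : W ≤ V) (a : free W ⟶ S.X₁), a ≫ S.f = res hW ≫ z) :
    S.Exact := by
  rw [S.exact_iff_epi_kernel_lift]
  apply epi_of_near
  intro V b x hx
  obtain ⟨W, hxW, hW, a, ha⟩ := h V (b ≫ kernel.ι S.g)
    (by rw [Category.assoc, kernel.condition, comp_zero]) x hx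
  refine ⟨W, hxW, hW, a, ?_⟩
  rw [← cancel_mono (kernel.ι S.g), Category.assoc, kernel.lift_ι, ha, Category.assoc]

/-- a finite family of open neighbourhoods has a common refinement -/
lemma exists_nhd_le {α : Type*} (S : Set α) (hS : S.Finite) (x : X) (W : α → Opens X)
    (hW : ∀ a ∈ S, x ∈ W a) : ∃ (W' : Opens X) (_ : x ∈ W'), ∀ a ∈ S, W' ≤ W a := by
  refine ⟨⟨⋂ a ∈ S, (W a : Set X), hS.isOpen_biInter (fun a _ => (W a).2)⟩, ?_, ?_⟩
  · simp only [Opens.mem_mk, Set.mem_iInter]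
    exact fun a ha => hW a ha
  · intro a ha y hy
    simp only [Opens.mem_mk, Set.mem_iInter] at hy
    exact hy a ha

end Groth.Agent.Lib.Helper5.TopLocal
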