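import Mathlib
import Groth.Prelude.Def_CohTop
import Groth.Prelude.Def_FreeSh
import Groth.Agent.Lib.Helper3.ClosedEmbSheaf
import Groth.Agent.Lib.Helper5.TopLocal

/-!
# The sheaves `i_* i^* F` for closed subspaces (helper5)

For a closed embedding `i : Z ⟶ X` and an abelian sheaf `F` on `X`, the unit `F ⟶ i_* i^* F`
is an epimorphism, it is injective on germs at the points of `Z`, and `i_* i^* F` has no nonzero
sections over opens not meeting `Z`.  For closed subsets `Z' ⊆ Z` this gives restriction maps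
`Psi F Z ⟶ Psi F Z'`.
-/

set_option autoImplicit false
universe u
open CategoryTheory CategoryTheory.Limits Opposite TopologicalSpace Topology

noncomputable section
namespace Groth.Agent.Lib.Helper5.ClosedPsi

open Groth.Agent.Lib.Helper5 Groth.Agent.Lib.Helper5.TopLocal

variable {Z X : TopCat.{u}} (i : Z ⟶ X)

/-- stalk functor on abelian sheaves -/
abbrev stalkF (x : X) : CohTop.Ab X ⥤ AddCommGrpCat.{u} :=
  TopCat.Sheaf.forget AddCommGrpCat.{u} X ⋙ TopCat.Presheaf.stalkFunctor AddCommGrpCat.{u} x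

abbrev adj : CohTop.pull i ⊣ CohTop.push i := TopCat.Sheaf.pullbackPushforwardAdjunction _ i

open Classical in
def stalkPullIso (z : Z) : CohTop.pull i ⋙ stalkF z ≅ stalkF (i z) :=
  letI : ∀ U : Opens X, Decidable (i z ∈ U) := fun U => Classical.dec _
  ((adj i).comp (stalkSkyscraperSheafAdjunction z)).leftAdjointUniq
    ((stalkSkyscraperSheafAdjunction (i z)).ofNatIsoRight
      (NatIso.ofComponents (fun _ => Iso.refl _)))

variable {i}

lemma isIso_pull_map_unit (hi : IsClosedEmbedding i) (F : CohTop.Ab X) :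
    IsIso ((CohTop.pull i).map ((adj i).unit.app F)) := by
  haveI : (CohTop.push i).Full :=
    (Groth.Agent.Lib.Helper3.ClosedEmbSheaf.ffSheaf i AddCommGrpCat.{u} hi).full
  haveI : (CohTop.push i).Faithful :=
    (Groth.Agent.Lib.Helper3.ClosedEmbSheaf.ffSheaf i AddCommGrpCat.{u} hi).faithful
  have h := (adj i).left_triangle_components F
  haveI : IsIso ((CohTop.pull i).map ((adj i).unit.app F) ≫
      (adj i).counit.app ((CohTop.pull i).obj F)) := by
    rw [h]; exact IsIso.id _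
  exact IsIso.of_isIso_comp_right _ ((adj i).counit.app ((CohTop.pull i).obj F))

lemma isIso_stalk_unit (hi : IsClosedEmbedding i) (F : CohTop.Ab X) (z : Z) :
    IsIso ((stalkF (i z)).map ((adj i).unit.app F)) := by
  haveI := isIso_pull_map_unit hi F
  have hnat := (stalkPullIso i z).hom.naturality ((adj i).unit.app F)
  haveI : IsIso ((CohTop.pull i ⋙ stalkF z).map ((adj i).unit.app F)) := by
    rw [Functor.comp_map]; infer_instance
  haveI : IsIso ((stalkPullIso i z).hom.app ((𝟭 (CohTop.Ab X)).obj F) ≫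
      (stalkF (i z)).map ((adj i).unit.app F)) := by
    rw [← hnat]; infer_instance
  exact IsIso.of_isIso_comp_left ((stalkPullIso i z).hom.app ((𝟭 (CohTop.Ab X)).obj F)) _


variable (i) in
abbrev PsiOf (F : CohTop.Ab X) : CohTop.Ab X := (CohTop.push i).obj ((CohTop.pull i).obj F)

variable (i) in
abbrev etaOf (F : CohTop.Ab X) : F ⟶ PsiOf i F := (adj i).unit.app F

lemma stalk_eta_bijective (hi : IsClosedEmbedding i) (F : CohTop.Ab X) (z : Z) :
    Function.Bijective ((stalkF (i z)).map (etaOf i F)) := by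
  haveI := isIso_stalk_unit hi F z
  exact (ConcreteCategory.isIso_iff_bijective _).1 inferInstance

lemma eta_inj_near (hi : IsClosedEmbedding i) (F : CohTop.Ab X) (z : Z) (V : Opens X)
    (hz : i z ∈ V) (s : F.obj.obj (op V))
    (hs : (etaOf i F).hom.app (op V) s = 0) :
    ∃ (W : Opens X) (_ : i z ∈ W) (h : W ≤ V), F.obj.map (homOfLE h).op s = 0 := by
  have h1 : TopCat.Presheaf.germ F.obj V (i z) hz s = TopCat.Presheaf.germ F.obj V (i z) hz 0 := by
    apply (stalk_eta_bijective hi F z).1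
    refine (TopCat.Presheaf.stalkFunctor_map_germ_apply V (i z) hz (etaOf i F).hom s).trans ?_
    refine Eq.trans ?_ (TopCat.Presheaf.stalkFunctor_map_germ_apply V (i z) hz
      (etaOf i F).hom 0).symm
    rw [hs, map_zero, map_zero, map_zero]
  obtain ⟨W, hW, iU, iV, e⟩ := TopCat.Presheaf.germ_eq F.obj (i z) hz hz s 0 h1
  refine ⟨W, hW, iU.le, ?_⟩
  rw [map_zero] at e
  exact e

lemma subsingleton_of_isTerminal {T : AddCommGrpCat.{u}} (hT : IsTerminal T) : Subsingleton T := by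
  have hz : IsZero T := by
    rw [IsZero.iff_id_eq_zero]
    exact hT.hom_ext _ _
  exact AddCommGrpCat.subsingleton_of_isZero hz

lemma psi_subsingleton (H : CohTop.Ab Z) (W : Opens X) (hW : (Opens.map i).obj W = ⊥) :
    Subsingleton (((CohTop.push i).obj H).obj.obj (op W)) :=
  subsingleton_of_isTerminal (TopCat.Sheaf.isTerminalOfEqEmpty H hW)

lemma eta_surj_near (hi : IsClosedEmbedding i) (F : CohTop.Ab X) (V : Opens X) (x : X)
    (hx : x ∈ V) (t : (PsiOf i F).obj.obj (op V)) :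
    ∃ (W : Opens X) (_ : x ∈ W) (h : W ≤ V) (s : F.obj.obj (op W)),
      (etaOf i F).hom.app (op W) s = (PsiOf i F).obj.map (homOfLE h).op t := by
  by_cases hxr : x ∈ Set.range i
  · obtain ⟨z, rfl⟩ := hxr
    obtain ⟨g, hg⟩ := (stalk_eta_bijective hi F z).2
      (TopCat.Presheaf.germ (PsiOf i F).obj V (i z) hx t)
    obtain ⟨W₁, hW₁, s₁, rfl⟩ := TopCat.Presheaf.exists_germ_eq F.obj g
    have h2 : TopCat.Presheaf.germ (PsiOf i F).obj W₁ (i z) hW₁
        ((etaOf i F).hom.app (op W₁) s₁) =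
        TopCat.Presheaf.germ (PsiOf i F).obj V (i z) hx t :=
      (TopCat.Presheaf.stalkFunctor_map_germ_apply W₁ (i z) hW₁ (etaOf i F).hom s₁).symm.trans hg
    obtain ⟨W, hW, iU, iV, e⟩ := TopCat.Presheaf.germ_eq (PsiOf i F).obj (i z) hW₁ hx _ _ h2
    refine ⟨W, hW, iV.le, F.obj.map iU.op s₁, ?_⟩
    refine Eq.trans ?_ e
    exact ConcreteCategory.congr_hom ((etaOf i F).hom.naturality iU.op) s₁
  · let W : Opens X := V ⊓ ⟨(Set.range i)ᶜ, hi.isClosed_range.isOpen_compl⟩
    have hbot : (Opens.map i).obj W = ⊥ := by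
      ext z
      simp only [Opens.coe_bot, Set.mem_empty_iff_false, iff_false]
      intro hz
      exact hz.2 ⟨z, rfl⟩
    haveI := psi_subsingleton ((CohTop.pull i).obj F) W hbot
    exact ⟨W, ⟨hx, hxr⟩, inf_le_left, 0, Subsingleton.elim _ _⟩


/-! ### the same statements for sections viewed as morphisms from free sheaves -/

lemma lift_near (hi : IsClosedEmbedding i) (F : CohTop.Ab X) {V : Opens X}
    (t : free V ⟶ PsiOf i F) (x : X) (hx : x ∈ V) :
    ∃ (W : Opens X) (_ : x ∈ W) (hW : W ≤ V) (s : free W ⟶ F),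
      s ≫ etaOf i F = res hW ≫ t := by
  obtain ⟨W, hxW, hW, s, hs⟩ := eta_surj_near hi F V x hx (CohFree.evalGen _ V _ t)
  refine ⟨W, hxW, hW, CohFree.ofSect _ W F s, ?_⟩
  apply CxLocal.hom_ext_evalGen
  rw [CxLocal.evalGen_comp, CohFree.evalGen_ofSect, CohFree.evalGen_freeSheafMap_comp]
  exact hs

lemma vanish_near (hi : IsClosedEmbedding i) (F : CohTop.Ab X) {V : Opens X}
    (s : free V ⟶ F) (hs : s ≫ etaOf i F = 0) (z : Z) (hz : i z ∈ V) :
    ∃ (W : Opens X) (_ : i z ∈ W) (hW : W ≤ V), res hW ≫ s = 0 := by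
  have h0 : (etaOf i F).hom.app (op V) (CohFree.evalGen _ V F s) = 0 := by
    have := congrArg (CohFree.evalGen _ V _) hs
    rw [CxLocal.evalGen_comp, map_zero] at this
    exact this
  obtain ⟨W, hzW, hW, e⟩ := eta_inj_near hi F z V hz _ h0
  refine ⟨W, hzW, hW, ?_⟩
  apply CxLocal.hom_ext_evalGen
  rw [CohFree.evalGen_freeSheafMap_comp, map_zero]
  exact e

lemma zero_of_map_eq_bot (H : CohTop.Ab Z) {W : Opens X} (hW : (Opens.map i).obj W = ⊥)
    (t : free W ⟶ (CohTop.push i).obj H) : t = 0 := by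
  haveI := psi_subsingleton H W hW
  apply CxLocal.hom_ext_evalGen
  exact Subsingleton.elim _ _

lemma epi_eta (hi : IsClosedEmbedding i) (F : CohTop.Ab X) : Epi (etaOf i F) := by
  apply epi_of_near
  intro V b x hx
  exact lift_near hi F b x hx

variable {Z' : TopCat.{u}} {i' : Z' ⟶ X}

lemma kernel_eta_comp (hi : IsClosedEmbedding i) (hi' : IsClosedEmbedding i')
    (hsub : Set.range i' ⊆ Set.range i) (F : CohTop.Ab X) :
    kernel.ι (etaOf i F) ≫ etaOf i' F = 0 := by
  apply eq_zero_of_free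
  intro V s
  apply hom_eq_zero_of_near
  intro x hx
  by_cases hxr : x ∈ Set.range i'
  · obtain ⟨z, rfl⟩ := hsub hxr
    obtain ⟨W, hzW, hW, e⟩ := vanish_near hi F (s ≫ kernel.ι (etaOf i F))
      (by rw [Category.assoc, kernel.condition, comp_zero]) z hx
    refine ⟨W, hzW, hW, ?_⟩
    rw [← Category.assoc s, ← Category.assoc (res hW), e, zero_comp]
  · let W : Opens X := V ⊓ ⟨(Set.range i')ᶜ, hi'.isClosed_range.isOpen_compl⟩
    have hbot : (Opens.map i').obj W = ⊥ := by
      ext z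
      simp only [Opens.coe_bot, Set.mem_empty_iff_false, iff_false]
      intro hz
      exact hz.2 ⟨z, rfl⟩
    exact ⟨W, ⟨hx, hxr⟩, inf_le_left, zero_of_map_eq_bot _ hbot _⟩

/-- the restriction map `i_* i^* F ⟶ i'_* i'^* F` when the image of `i'` is contained in that
of `i` -/
def rhoOf (hi : IsClosedEmbedding i) (hi' : IsClosedEmbedding i')
    (hsub : Set.range i' ⊆ Set.range i) (F : CohTop.Ab X) : PsiOf i F ⟶ PsiOf i' F :=
  haveI := epi_eta hi F
  Abelian.epiDesc (etaOf i F) (etaOf i' F) (kernel_eta_comp hi hi' hsub F)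

lemma eta_rhoOf (hi : IsClosedEmbedding i) (hi' : IsClosedEmbedding i')
    (hsub : Set.range i' ⊆ Set.range i) (F : CohTop.Ab X) :
    etaOf i F ≫ rhoOf hi hi' hsub F = etaOf i' F := by
  haveI := epi_eta hi F
  exact Abelian.comp_epiDesc _ _ _

/-! ### closed subsets -/

/-- the inclusion of a subset -/
abbrev incl (Z : Set X) : TopCat.of Z ⟶ X :=
  TopCat.ofHom ⟨((↑) : Z → X), continuous_subtype_val⟩

lemma isClosedEmbedding_incl {Z : Set X} (hZ : IsClosed Z) : IsClosedEmbedding (incl Z) :=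
  hZ.isClosedEmbedding_subtypeVal

lemma range_incl (Z : Set X) : Set.range (incl Z) = Z := Subtype.range_coe

/-- `i_* i^* F` for the inclusion of a subset `Z` -/
abbrev Psi (F : CohTop.Ab X) (Z : Set X) : CohTop.Ab X := PsiOf (incl Z) F

/-- the unit `F ⟶ i_* i^* F` -/
abbrev eta (F : CohTop.Ab X) (Z : Set X) : F ⟶ Psi F Z := etaOf (incl Z) F

variable (F : CohTop.Ab X)

lemma epi_eta' {Z : Set X} (hZ : IsClosed Z) : Epi (eta F Z) := epi_eta (isClosedEmbedding_incl hZ) F

/-- the restriction map for closed subsets `Z' ⊆ Z` -/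
def rho {Z Z' : Set X} (hZ : IsClosed Z) (hZ' : IsClosed Z') (h : Z' ⊆ Z) : Psi F Z ⟶ Psi F Z' :=
  rhoOf (isClosedEmbedding_incl hZ) (isClosedEmbedding_incl hZ')
    (by rw [range_incl, range_incl]; exact h) F

@[reassoc]
lemma eta_rho {Z Z' : Set X} (hZ : IsClosed Z) (hZ' : IsClosed Z') (h : Z' ⊆ Z) :
    eta F Z ≫ rho F hZ hZ' h = eta F Z' :=
  eta_rhoOf _ _ _ F

lemma rho_self {Z : Set X} (hZ : IsClosed Z) : rho F hZ hZ subset_rfl = 𝟙 _ := by
  haveI := epi_eta' F hZ
  rw [← cancel_epi (eta F Z), eta_rho, Category.comp_id]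

@[reassoc]
lemma rho_comp {Z Z' Z'' : Set X} (hZ : IsClosed Z) (hZ' : IsClosed Z') (hZ'' : IsClosed Z'')
    (h : Z' ⊆ Z) (h' : Z'' ⊆ Z') :
    rho F hZ hZ' h ≫ rho F hZ' hZ'' h' = rho F hZ hZ'' (h'.trans h) := by
  haveI := epi_eta' F hZ
  rw [← cancel_epi (eta F Z), eta_rho_assoc, eta_rho, eta_rho]

lemma lift_near' {Z : Set X} (hZ : IsClosed Z) {V : Opens X} (t : free V ⟶ Psi F Z) (x : X)
    (hx : x ∈ V) :
    ∃ (W : Opens X) (_ : x ∈ W) (hW : W ≤ V) (s : free W ⟶ F), s ≫ eta F Z = res hW ≫ t :=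
  lift_near (isClosedEmbedding_incl hZ) F t x hx

lemma vanish_near' {Z : Set X} (hZ : IsClosed Z) {V : Opens X} (s : free V ⟶ F)
    (hs : s ≫ eta F Z = 0) (x : X) (hxZ : x ∈ Z) (hx : x ∈ V) :
    ∃ (W : Opens X) (_ : x ∈ W) (hW : W ≤ V), res hW ≫ s = 0 :=
  vanish_near (isClosedEmbedding_incl hZ) F s hs ⟨x, hxZ⟩ hx

lemma zero_of_disjoint (Z : Set X) {W : Opens X} (hW : Disjoint (W : Set X) Z)
    (t : free W ⟶ Psi F Z) : t = 0 := by
  apply zero_of_map_eq_bot
  ext z
  simp only [Opens.coe_bot, Set.mem_empty_iff_false, iff_false]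
  intro hz
  exact Set.disjoint_left.1 hW hz z.2

end Groth.Agent.Lib.Helper5.ClosedPsi
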