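import Mathlib
import Groth.Prelude.Def_CohTop
import Groth.Agent.Lib.Helper5.ClosedPsi

/-!
# Pullback of abelian sheaves along an inducing map (helper5)

For an inducing map `i : Z ⟶ X` (e.g. the inclusion of a subspace), pushforward of sheaves is fully
faithful, the unit `F ⟶ i_* i^* F` is bijective on stalks at points of the image, and sections of
`i^* F` are locally (on `X`, near points of the image) induced by sections of `F`.
-/

set_option autoImplicit false
universe u v w
open CategoryTheory CategoryTheory.Limits Opposite TopologicalSpace Topology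

noncomputable section
namespace Groth.Agent.Lib.Helper5.EmbSheaf

variable {Z X : TopCat.{u}} (i : Z ⟶ X)

/-- The largest open of `X` with preimage contained in a given open of `Z`. -/
def Φ : Opens Z ⥤ Opens X where
  obj V := ⟨interior (i '' (V : Set Z)ᶜ)ᶜ, isOpen_interior⟩
  map {V W} h := homOfLE (by
    apply interior_mono
    intro x hx ⟨z, hz, hzx⟩
    exact hx ⟨z, fun hzV => hz (leOfHom h hzV), hzx⟩)

/-- `i⁻¹ ⊣ Φ` on opens. -/
def adj : Opens.map i ⊣ Φ i :=
  Adjunction.mkOfHomEquiv
    { homEquiv := fun U V =>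
        { toFun := fun h => homOfLE (by
            intro x hxU
            refine (interior_maximal ?_ U.isOpen) hxU
            rintro y hy ⟨z, hz, rfl⟩
            exact hz (leOfHom h hy))
          invFun := fun h => homOfLE (by
            intro z hz
            by_contra hzV
            exact (interior_subset (leOfHom h hz)) ⟨z, hzV, rfl⟩)
          left_inv := fun _ => Subsingleton.elim _ _
          right_inv := fun _ => Subsingleton.elim _ _ }
      homEquiv_naturality_left_symm := by intros; apply Subsingleton.elim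
      homEquiv_naturality_right := by intros; apply Subsingleton.elim }

variable {i}

lemma map_Φ (hi : IsInducing i) (V : Opens Z) :
    (Opens.map i).obj ((Φ i).obj V) = V := by
  apply Opens.ext
  ext z
  change i z ∈ interior (i '' (V : Set Z)ᶜ)ᶜ ↔ z ∈ (V : Set Z)
  constructor
  · intro hz
    by_contra hzV
    exact (interior_subset hz) ⟨z, hzV, rfl⟩
  · intro hzV
    obtain ⟨U, hU, hUV⟩ := hi.isOpen_iff.1 V.isOpen
    have hsub : U ⊆ (i '' (V : Set Z)ᶜ)ᶜ := by
      rintro x hx ⟨z', hz', rfl⟩
      apply hz'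
      rw [← hUV]
      exact hx
    apply interior_maximal hsub hU
    change z ∈ i ⁻¹' U
    rw [hUV]
    exact hzV

lemma isIso_unit_op (hi : IsInducing i) : IsIso (adj i).op.unit := by
  have : ∀ V, IsIso ((adj i).op.unit.app V) := fun V =>
    ⟨⟨(homOfLE (le_of_eq (map_Φ hi V.unop).symm)).op,
      Subsingleton.elim _ _, Subsingleton.elim _ _⟩⟩
  exact NatIso.isIso_of_isIso_app _

variable (i) (C : Type v) [Category.{w} C]

/-- On presheaves, pushforward has a right adjoint. -/
def adjP : TopCat.Presheaf.pushforward C i ⊣ (Functor.whiskeringLeft _ _ C).obj (Φ i).op :=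
  (adj i).op.whiskerLeft C

variable {i}

lemma isIso_unit_adjP (hi : IsInducing i) : IsIso (adjP i C).unit := by
  haveI := isIso_unit_op hi
  have : ∀ P : Z.Presheaf C, IsIso ((adjP i C).unit.app P) := by
    intro P
    have : ∀ V, IsIso (((adjP i C).unit.app P).app V) := by
      intro V
      rw [adjP, Adjunction.whiskerLeft_unit_app_app]
      infer_instance
    exact NatIso.isIso_of_isIso_app _
  exact NatIso.isIso_of_isIso_app _

/-- Pushforward of presheaves along an inducing map is fully faithful. -/
noncomputable def ffPresheaf (hi : IsInducing i) :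
    (TopCat.Presheaf.pushforward C i).FullyFaithful :=
  haveI := isIso_unit_adjP C hi
  (adjP i C).fullyFaithfulLOfIsIsoUnit

/-- Pushforward of sheaves along an inducing map is fully faithful. -/
noncomputable def ffSheaf (hi : IsInducing i) :
    (TopCat.Sheaf.pushforward C i).FullyFaithful where
  preimage {F G} γ := ObjectProperty.homMk ((ffPresheaf C hi).preimage γ.hom)
  map_preimage {F G} γ := Sheaf.hom_ext ((ffPresheaf C hi).map_preimage γ.hom)
  preimage_map {F G} α := Sheaf.hom_ext ((ffPresheaf C hi).preimage_map α.hom)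


/-! ### stalks of the unit -/

open Groth.Agent.Lib.Helper5.ClosedPsi

lemma isIso_pull_map_unit (hi : IsInducing i) (F : CohTop.Ab X) :
    IsIso ((CohTop.pull i).map ((ClosedPsi.adj i).unit.app F)) := by
  haveI : (CohTop.push i).Full := (ffSheaf AddCommGrpCat.{u} hi).full
  haveI : (CohTop.push i).Faithful := (ffSheaf AddCommGrpCat.{u} hi).faithful
  have h := (ClosedPsi.adj i).left_triangle_components F
  haveI : IsIso ((CohTop.pull i).map ((ClosedPsi.adj i).unit.app F) ≫
      (ClosedPsi.adj i).counit.app ((CohTop.pull i).obj F)) := by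
    rw [h]; exact IsIso.id _
  exact IsIso.of_isIso_comp_right _ ((ClosedPsi.adj i).counit.app ((CohTop.pull i).obj F))

lemma isIso_stalk_unit (hi : IsInducing i) (F : CohTop.Ab X) (z : Z) :
    IsIso ((stalkF (i z)).map ((ClosedPsi.adj i).unit.app F)) := by
  haveI := isIso_pull_map_unit hi F
  have hnat := (stalkPullIso i z).hom.naturality ((ClosedPsi.adj i).unit.app F)
  haveI : IsIso ((CohTop.pull i ⋙ stalkF z).map ((ClosedPsi.adj i).unit.app F)) := by
    rw [Functor.comp_map]; infer_instance
  haveI : IsIso ((stalkPullIso i z).hom.app ((𝟭 (CohTop.Ab X)).obj F) ≫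
      (stalkF (i z)).map ((ClosedPsi.adj i).unit.app F)) := by
    rw [← hnat]; infer_instance
  exact IsIso.of_isIso_comp_left ((stalkPullIso i z).hom.app ((𝟭 (CohTop.Ab X)).obj F)) _

lemma stalk_eta_bijective (hi : IsInducing i) (F : CohTop.Ab X) (z : Z) :
    Function.Bijective ((stalkF (i z)).map (etaOf i F)) := by
  haveI := isIso_stalk_unit hi F z
  exact (ConcreteCategory.isIso_iff_bijective _).1 inferInstance

/-- a section of `F` dying in `i_* i^* F` vanishes near every point of the image. -/
lemma eta_inj_near (hi : IsInducing i) (F : CohTop.Ab X) (z : Z) (V : Opens X)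
    (hz : i z ∈ V) (s : F.obj.obj (op V))
    (hs : (etaOf i F).hom.app (op V) s = 0) :
    ∃ (W : Opens X) (_ : i z ∈ W) (h : W ≤ V), F.obj.map (homOfLE h).op s = 0 := by
  have h1 : TopCat.Presheaf.germ F.obj V (i z) hz s = TopCat.Presheaf.germ F.obj V (i z) hz 0 := by
    apply (stalk_eta_bijective hi F z).1
    refine (TopCat.Presheaf.stalkFunctor_map_germ_apply V (i z) hz (etaOf i F).hom s).trans ?_
    refine Eq.trans ?_ (TopCat.Presheaf.stalkFunctor_map_germ_apply V (i z) hz
      (etaOf i F).hom 0).symm
    rw [hs, map_zero, map_zero, map_zero]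
  obtain ⟨W, hW, iU, iV, e⟩ := TopCat.Presheaf.germ_eq F.obj (i z) hz hz s 0 h1
  refine ⟨W, hW, iU.le, ?_⟩
  rw [map_zero] at e
  exact e

/-- a section of `i_* i^* F` is induced by a section of `F` near every point of the image. -/
lemma eta_surj_near (hi : IsInducing i) (F : CohTop.Ab X) (V : Opens X) (z : Z)
    (hx : i z ∈ V) (t : (PsiOf i F).obj.obj (op V)) :
    ∃ (W : Opens X) (_ : i z ∈ W) (h : W ≤ V) (s : F.obj.obj (op W)),
      (etaOf i F).hom.app (op W) s = (PsiOf i F).obj.map (homOfLE h).op t := by
  obtain ⟨g, hg⟩ := (stalk_eta_bijective hi F z).2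
    (TopCat.Presheaf.germ (PsiOf i F).obj V (i z) hx t)
  obtain ⟨W₁, hW₁, s₁, rfl⟩ := TopCat.Presheaf.exists_germ_eq F.obj g
  have h2 : TopCat.Presheaf.germ (PsiOf i F).obj W₁ (i z) hW₁
      ((etaOf i F).hom.app (op W₁) s₁) =
      TopCat.Presheaf.germ (PsiOf i F).obj V (i z) hx t :=
    (TopCat.Presheaf.stalkFunctor_map_germ_apply W₁ (i z) hW₁ (etaOf i F).hom s₁).symm.trans hg
  obtain ⟨W, hW, iU, iV, e⟩ := TopCat.Presheaf.germ_eq (PsiOf i F).obj (i z) hW₁ hx _ _ h2
  refine ⟨W, hW, iV.le, F.obj.map iU.op s₁, ?_⟩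
  refine Eq.trans ?_ e
  exact ConcreteCategory.congr_hom ((etaOf i F).hom.naturality iU.op) s₁

end Groth.Agent.Lib.Helper5.EmbSheaf
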