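import Mathlib
import Groth.Prelude.Def_CohTop
import Groth.Agent.Lib.Helper5.EmbSheaf

set_option autoImplicit false
universe u
open CategoryTheory CategoryTheory.Limits Opposite TopologicalSpace Topology

noncomputable section
namespace Groth.Agent.Lib.Helper5.SoftK

open Groth.Agent.Lib.Helper5.ClosedPsi Groth.Agent.Lib.Helper5.EmbSheaf

/-! ### topology -/

section Top

variable {X : Type u} [TopologicalSpace X]

/-- disjoint compact subsets of a relatively Hausdorff subset have disjoint neighbourhoods. -/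
lemma separatedNhds_of_rel {K : Set X}
    (hsep : ∀ x ∈ K, ∀ y ∈ K, x ≠ y → ∃ U V : Set X, IsOpen U ∧ IsOpen V ∧ x ∈ U ∧ y ∈ V ∧ Disjoint U V)
    {B₁ B₂ : Set X} (h₁ : IsCompact B₁) (h₂ : IsCompact B₂) (hB₁ : B₁ ⊆ K) (hB₂ : B₂ ⊆ K)
    (hd : Disjoint B₁ B₂) : SeparatedNhds B₁ B₂ := by
  have step : ∀ x ∈ B₁, SeparatedNhds {x} B₂ := by
    intro x hx
    refine h₂.induction_on (p := fun T => SeparatedNhds {x} T) (SeparatedNhds.empty_right _)
      (fun s t hst ht => ht.mono subset_rfl hst) (fun s t hs ht => hs.union_right ht) ?_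
    intro y hy
    have hxy : x ≠ y := fun e => (Set.disjoint_left.1 hd hx) (e ▸ hy)
    obtain ⟨U, V, hU, hV, hxU, hyV, hUV⟩ := hsep x (hB₁ hx) y (hB₂ hy) hxy
    exact ⟨V, mem_nhdsWithin_of_mem_nhds (hV.mem_nhds hyV),
      ⟨U, V, hU, hV, Set.singleton_subset_iff.2 hxU, subset_rfl, hUV⟩⟩
  refine h₁.induction_on (p := fun S => SeparatedNhds S B₂) (SeparatedNhds.empty_left _)
    (fun s t hst ht => ht.mono hst subset_rfl) (fun s t hs ht => hs.union_left ht) ?_
  intro x hx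
  obtain ⟨U, V, hU, hV, hxU, hBV, hUV⟩ := step x hx
  exact ⟨U, mem_nhdsWithin_of_mem_nhds (hU.mem_nhds (Set.singleton_subset_iff.1 hxU)),
    ⟨U, V, hU, hV, subset_rfl, hBV, hUV⟩⟩

end Top


/-! ### sheaves -/

variable {X : TopCat.{u}} {K : Set X} (A : Set K) (F : CohTop.Ab X)

/-- the inclusion of `K`. -/
abbrev iK (K : Set X) : TopCat.of K ⟶ X := TopCat.ofHom ⟨((↑) : K → X), continuous_subtype_val⟩

/-- the inclusion of `A`. -/
abbrev jA : TopCat.of A ⟶ TopCat.of K := TopCat.ofHom ⟨((↑) : A → K), continuous_subtype_val⟩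

lemma inducing_iK (K : Set X) : IsInducing (iK K) := IsInducing.subtypeVal

lemma inducing_jA : IsInducing (jA A) := IsInducing.subtypeVal

/-- `F|K`. -/
abbrev G : CohTop.Ab (TopCat.of K) := (CohTop.pull (iK K)).obj F

/-- `j_* ((F|K)|A)`. -/
abbrev H : CohTop.Ab (TopCat.of K) := PsiOf (jA A) (G (K := K) F)

/-- preimage in `K` of an open of `X`. -/
abbrev pre (U : Opens X) : Opens (TopCat.of K) := (Opens.map (iK K)).obj U

lemma pre_mono {W U : Opens X} (h : W ≤ U) : pre (K := K) W ≤ pre U := fun _ hx => h hx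

/-- `F(U) → (F|K)(K ∩ U)`. -/
def indI (U : Opens X) : F.obj.obj (op U) →+ (G (K := K) F).obj.obj (op (pre U)) :=
  ((etaOf (iK K) F).hom.app (op U)).hom

/-- `(F|K)(N) → ((F|K)|A)(A ∩ N)`. -/
def indJ (N : Opens (TopCat.of K)) : (G (K := K) F).obj.obj (op N) →+ (H A F).obj.obj (op N) :=
  ((etaOf (jA A) (G (K := K) F)).hom.app (op N)).hom

lemma indI_res {U W : Opens X} (h : W ≤ U) (s : F.obj.obj (op U)) :
    indI F W (F.obj.map (homOfLE h).op s) =
      (G (K := K) F).obj.map (homOfLE (pre_mono h)).op (indI F U s) :=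
  ConcreteCategory.congr_hom ((etaOf (iK K) F).hom.naturality (homOfLE h).op) s

lemma indJ_res {N M : Opens (TopCat.of K)} (h : M ≤ N) (g : (G (K := K) F).obj.obj (op N)) :
    indJ A F M ((G (K := K) F).obj.map (homOfLE h).op g) =
      (H A F).obj.map (homOfLE h).op (indJ A F N g) :=
  ConcreteCategory.congr_hom ((etaOf (jA A) (G (K := K) F)).hom.naturality (homOfLE h).op) g

/-- the section of `(F|K)|A` over `A ∩ U` induced by a section of `F` over `U`. -/
def ind (U : Opens X) : F.obj.obj (op U) →+ (H A F).obj.obj (op (pre U)) :=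
  (indJ A F (pre U)).comp (indI F U)

lemma ind_res {U W : Opens X} (h : W ≤ U) (s : F.obj.obj (op U)) :
    ind A F W (F.obj.map (homOfLE h).op s) =
      (H A F).obj.map (homOfLE (pre_mono h)).op (ind A F U s) := by
  change indJ A F (pre W) (indI F W _) = _
  rw [indI_res, indJ_res]
  rfl


omit A F in
lemma map_map_le {Y : TopCat.{u}} (P : CohTop.Ab Y) {W V U : Opens Y} (h1 : W ≤ V) (h2 : V ≤ U)
    (s : P.obj.obj (op U)) :
    P.obj.map (homOfLE h1).op (P.obj.map (homOfLE h2).op s) =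
      P.obj.map (homOfLE (h1.trans h2)).op s := by
  rw [← ConcreteCategory.comp_apply, ← P.obj.map_comp]
  rfl

omit A F in
/-- opens of `K` are preimages of opens of `X`. -/
lemma exists_pre_eq (N : Opens (TopCat.of K)) : ∃ O : Opens X, pre (K := K) O = N := by
  obtain ⟨O, hO, hON⟩ := (inducing_iK K).isOpen_iff.1 N.isOpen
  exact ⟨⟨O, hO⟩, Opens.ext hON⟩

lemma ind_inj_near (U : Opens X) (s : F.obj.obj (op U)) (hs : ind A F U s = 0) (a : A)
    (ha : ((a : K) : X) ∈ U) :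
    ∃ (W : Opens X) (_ : ((a : K) : X) ∈ W) (h : W ≤ U), F.obj.map (homOfLE h).op s = 0 := by
  obtain ⟨N, hN, hNU, e1⟩ := eta_inj_near (inducing_jA A) (G (K := K) F) a (pre U) ha
    (indI F U s) hs
  obtain ⟨O, rfl⟩ := exists_pre_eq N
  have h2 : indI (K := K) F (U ⊓ O) (F.obj.map (homOfLE inf_le_left).op s) = 0 := by
    rw [indI_res]
    have h3 : pre (K := K) (U ⊓ O) ≤ pre O := pre_mono inf_le_right
    rw [← map_map_le (G (K := K) F) h3 hNU, e1, map_zero]
  obtain ⟨W, hW, hWU', e3⟩ := eta_inj_near (inducing_iK K) F (a : K) (U ⊓ O) ⟨ha, hN⟩ _ h2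
  refine ⟨W, hW, hWU'.trans inf_le_left, ?_⟩
  rw [← map_map_le F hWU' inf_le_left]
  exact e3

lemma ind_surj_near (t : (H A F).obj.obj (op ⊤)) (a : A) :
    ∃ (W : Opens X) (_ : ((a : K) : X) ∈ W) (s : F.obj.obj (op W)),
      ind A F W s = (H A F).obj.map (homOfLE le_top).op t := by
  obtain ⟨N, hN, hNU, g, e1⟩ := eta_surj_near (inducing_jA A) (G (K := K) F) ⊤ a trivial t
  obtain ⟨O, rfl⟩ := exists_pre_eq N
  obtain ⟨W, hW, hWO, s, e2⟩ := eta_surj_near (inducing_iK K) F O (a : K) hN g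
  refine ⟨W, hW, s, ?_⟩
  change indJ A F (pre W) (indI F W s) = _
  have e2' : indI (K := K) F W s = (G (K := K) F).obj.map (homOfLE (pre_mono hWO)).op g := e2
  have e1' : indJ A F (pre O) g = (H A F).obj.map (homOfLE hNU).op t := e1
  rw [e2', indJ_res, e1', map_map_le]


omit A F in
/-- gluing two sections (after helper2's `glue₂`). -/
lemma glue₂ {Y : TopCat.{u}} (P : CohTop.Ab Y) {A B V : Opens Y} (iA : A ≤ V) (iB : B ≤ V)
    (hcover : V ≤ A ⊔ B)
    (a : P.obj.obj (op A)) (b : P.obj.obj (op B))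
    (hab : P.obj.map (homOfLE (inf_le_left : A ⊓ B ≤ A)).op a =
      P.obj.map (homOfLE (inf_le_right : A ⊓ B ≤ B)).op b) :
    ∃ g : P.obj.obj (op V), P.obj.map (homOfLE iA).op g = a ∧ P.obj.map (homOfLE iB).op g = b := by
  let U' : Bool → Opens Y := fun t => cond t A B
  let sf : ∀ t : Bool, ToType (P.1.obj (op (U' t))) := fun t =>
    match t with
    | true => a
    | false => b
  let iUV : ∀ t : Bool, U' t ⟶ V := fun t =>
    match t with
    | true => homOfLE iA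
    | false => homOfLE iB
  have hc : V ≤ iSup U' := by
    refine le_trans hcover (sup_le ?_ ?_)
    · exact le_iSup U' true
    · exact le_iSup U' false
  have hcompat : TopCat.Presheaf.IsCompatible P.1 U' sf := by
    rintro (_ | _) (_ | _)
    · rfl
    · change P.obj.map (homOfLE (inf_le_left : B ⊓ A ≤ B)).op b =
        P.obj.map (homOfLE (inf_le_right : B ⊓ A ≤ A)).op a
      have h1 : B ⊓ A ≤ A ⊓ B := by rw [inf_comm]
      rw [← map_map_le P h1 inf_le_right, ← map_map_le P h1 inf_le_left, hab]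
    · exact hab
    · rfl
  obtain ⟨g, hg, -⟩ := TopCat.Sheaf.existsUnique_gluing' P U' V iUV hc sf hcompat
  exact ⟨g, hg true, hg false⟩

/-- the gluing data: an open `U ⊇ B` with a section of `F` inducing `t` on `A ∩ U`. -/
def Good (t : (H A F).obj.obj (op ⊤)) (B : Set X) : Prop :=
  ∃ (U : Opens X) (s : F.obj.obj (op U)), B ⊆ (U : Set X) ∧
    ind A F U s = (H A F).obj.map (homOfLE le_top).op t

lemma good_empty (t : (H A F).obj.obj (op ⊤)) : Good A F t ∅ := by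
  refine ⟨⊥, 0, Set.empty_subset _, ?_⟩
  rw [map_zero]
  have hb : pre (K := K) (⊥ : Opens X) = ⊥ := rfl
  haveI : Subsingleton ((H A F).obj.obj (op (pre (K := K) (⊥ : Opens X)))) := by
    rw [hb]
    exact subsingleton_of_isTerminal (TopCat.Sheaf.isTerminalOfEmpty (H A F))
  exact Subsingleton.elim _ _

lemma good_mono (t : (H A F).obj.obj (op ⊤)) {B B' : Set X} (h : B ⊆ B') (hB' : Good A F t B') :
    Good A F t B := by
  obtain ⟨U, s, hU, e⟩ := hB'
  exact ⟨U, s, h.trans hU, e⟩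


/-- the image of `A` in `X`. -/
def img : Set X := Set.range (fun a : A => ((a : K) : X))

omit F in
lemma img_subset : img A ⊆ K := by
  rintro x ⟨a, rfl⟩
  exact (a : K).2

variable (hsep : ∀ x ∈ K, ∀ y ∈ K, x ≠ y →
  ∃ U V : Set X, IsOpen U ∧ IsOpen V ∧ x ∈ U ∧ y ∈ V ∧ Disjoint U V)

include hsep in
lemma good_union (t : (H A F).obj.obj (op ⊤)) {B₁ B₂ : Set X} (hc₁ : IsCompact B₁)
    (hc₂ : IsCompact B₂) (hA₁ : B₁ ⊆ img A) (hA₂ : B₂ ⊆ img A) (h₁ : Good A F t B₁)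
    (h₂ : Good A F t B₂) : Good A F t (B₁ ∪ B₂) := by
  obtain ⟨U₁, s₁, hU₁, e₁⟩ := h₁
  obtain ⟨U₂, s₂, hU₂, e₂⟩ := h₂
  let d : F.obj.obj (op (U₁ ⊓ U₂)) :=
    F.obj.map (homOfLE (inf_le_left : U₁ ⊓ U₂ ≤ U₁)).op s₁ -
      F.obj.map (homOfLE (inf_le_right : U₁ ⊓ U₂ ≤ U₂)).op s₂
  have hd : ind A F (U₁ ⊓ U₂) d = 0 := by
    change ind A F (U₁ ⊓ U₂) (_ - _) = 0
    rw [map_sub, ind_res, ind_res, e₁, e₂, map_map_le, map_map_le, sub_self]
  let 𝒲 : Set (Opens X) := {W | ∃ h : W ≤ U₁ ⊓ U₂, F.obj.map (homOfLE h).op d = 0}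
  let W : Opens X := sSup 𝒲
  have hW : W ≤ U₁ ⊓ U₂ := sSup_le (fun W' hW' => hW'.1)
  have hdW : F.obj.map (homOfLE hW).op d = 0 := by
    refine TopCat.Sheaf.eq_of_locally_eq' F (fun w : 𝒲 => (w : Opens X)) W
      (fun w => homOfLE (le_sSup w.2)) ?_ _ _ ?_
    · change sSup 𝒲 ≤ _
      rw [sSup_eq_iSup']
    · intro w
      obtain ⟨h, e⟩ := w.2
      change F.obj.map (homOfLE (le_sSup w.2)).op (F.obj.map (homOfLE hW).op d) =
        F.obj.map (homOfLE (le_sSup w.2)).op 0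
      rw [map_map_le, map_zero]
      exact e
  have hAW : ∀ a : A, ((a : K) : X) ∈ U₁ ⊓ U₂ → ((a : K) : X) ∈ W := by
    intro a ha
    obtain ⟨W', hW', h, e⟩ := ind_inj_near A F (U₁ ⊓ U₂) d hd a ha
    exact (le_sSup (⟨h, e⟩ : W' ∈ 𝒲) : W' ≤ W) hW'
  have hdisj : Disjoint (B₁ \ (W : Set X)) (B₂ \ (W : Set X)) := by
    rw [Set.disjoint_left]
    rintro x ⟨hx₁, hxW⟩ ⟨hx₂, -⟩
    obtain ⟨a, rfl⟩ := hA₁ hx₁
    exact hxW (hAW a ⟨hU₁ hx₁, hU₂ hx₂⟩)
  obtain ⟨V₁, V₂, hV₁, hV₂, hBV₁, hBV₂, hVd⟩ := separatedNhds_of_rel hsep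
    (hc₁.diff W.isOpen) (hc₂.diff W.isOpen)
    (Set.diff_subset.trans (hA₁.trans (img_subset A)))
    (Set.diff_subset.trans (hA₂.trans (img_subset A))) hdisj
  let O₁ : Opens X := ⟨V₁, hV₁⟩
  let O₂ : Opens X := ⟨V₂, hV₂⟩
  let U₁' : Opens X := (U₁ ⊓ O₁) ⊔ W
  let U₂' : Opens X := (U₂ ⊓ O₂) ⊔ W
  have hU₁' : U₁' ≤ U₁ := sup_le inf_le_left (hW.trans inf_le_left)
  have hU₂' : U₂' ≤ U₂ := sup_le inf_le_left (hW.trans inf_le_right)
  have hinter : U₁' ⊓ U₂' ≤ W := by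
    rintro x ⟨hx₁, hx₂⟩
    rcases hx₁ with hx₁ | hx₁
    · rcases hx₂ with hx₂ | hx₂
      · exact (Set.disjoint_left.1 hVd hx₁.2 hx₂.2).elim
      · exact hx₂
    · exact hx₁
  have compat : F.obj.map (homOfLE (inf_le_left : U₁' ⊓ U₂' ≤ U₁')).op
      (F.obj.map (homOfLE hU₁').op s₁) =
      F.obj.map (homOfLE (inf_le_right : U₁' ⊓ U₂' ≤ U₂')).op (F.obj.map (homOfLE hU₂').op s₂) := by
    have h0 : F.obj.map (homOfLE (hinter.trans hW)).op d = 0 := by
      rw [← map_map_le F hinter hW, hdW, map_zero]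
    change F.obj.map (homOfLE (hinter.trans hW)).op (_ - _) = 0 at h0
    rw [map_sub, map_map_le, map_map_le, sub_eq_zero] at h0
    rw [map_map_le, map_map_le]
    exact h0
  obtain ⟨s, hs₁, hs₂⟩ := glue₂ F (le_sup_left : U₁' ≤ U₁' ⊔ U₂') le_sup_right le_rfl _ _ compat
  refine ⟨U₁' ⊔ U₂', s, ?_, ?_⟩
  · rintro x (hx | hx)
    · by_cases hxW : x ∈ (W : Set X)
      · exact Or.inl (Or.inr hxW)
      · exact Or.inl (Or.inl ⟨hU₁ hx, hBV₁ ⟨hx, hxW⟩⟩)
    · by_cases hxW : x ∈ (W : Set X)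
      · exact Or.inr (Or.inr hxW)
      · exact Or.inr (Or.inl ⟨hU₂ hx, hBV₂ ⟨hx, hxW⟩⟩)
  · refine TopCat.Sheaf.eq_of_locally_eq₂ (H A F)
      (homOfLE (pre_mono (K := K) (le_sup_left : U₁' ≤ U₁' ⊔ U₂')))
      (homOfLE (pre_mono (K := K) (le_sup_right : U₂' ≤ U₁' ⊔ U₂'))) ?_ _ _ ?_ ?_
    · rintro x (hx | hx)
      · exact Or.inl hx
      · exact Or.inr hx
    · rw [← ind_res A F (le_sup_left : U₁' ≤ U₁' ⊔ U₂'), hs₁, ind_res, e₁, map_map_le, map_map_le]
    · rw [← ind_res A F (le_sup_right : U₂' ≤ U₁' ⊔ U₂'), hs₂, ind_res, e₂, map_map_le, map_map_le]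


omit F in
include hsep in
lemma t2_A : T2Space A := by
  refine ⟨fun a b hab => ?_⟩
  have hne : ((a : K) : X) ≠ ((b : K) : X) := fun e => hab (Subtype.ext (Subtype.ext e))
  obtain ⟨U, V, hU, hV, haU, hbV, hUV⟩ := hsep _ (a : K).2 _ (b : K).2 hne
  have cont : Continuous (fun a : A => ((a : K) : X)) :=
    continuous_subtype_val.comp continuous_subtype_val
  exact ⟨(fun a : A => ((a : K) : X)) ⁻¹' U, (fun a : A => ((a : K) : X)) ⁻¹' V,
    hU.preimage cont, hV.preimage cont, haU, hbV, hUV.preimage _⟩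

include hsep in
theorem good_img (hK : IsCompact K) (hA : IsClosed A) (t : (H A F).obj.obj (op ⊤)) :
    Good A F t (img A) := by
  haveI : CompactSpace K := isCompact_iff_compactSpace.1 hK
  haveI : CompactSpace A := isCompact_iff_compactSpace.1 hA.isCompact
  haveI := t2_A A hsep
  let φ : A → X := fun a => ((a : K) : X)
  have hφ : Continuous φ := continuous_subtype_val.comp continuous_subtype_val
  have key : (fun S : Set A => ∃ B : Set X, IsCompact B ∧ φ '' S ⊆ B ∧ B ⊆ img A ∧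
      Good A F t B) Set.univ := by
    refine isCompact_univ.induction_on ?_ ?_ ?_ ?_
    · exact ⟨∅, isCompact_empty, by simp, Set.empty_subset _, good_empty A F t⟩
    · rintro S T hST ⟨B, hB, hTB, hBA, hG⟩
      exact ⟨B, hB, (Set.image_mono hST).trans hTB, hBA, hG⟩
    · rintro S T ⟨B₁, hB₁, hS, hBA₁, hG₁⟩ ⟨B₂, hB₂, hT, hBA₂, hG₂⟩
      refine ⟨B₁ ∪ B₂, hB₁.union hB₂, ?_, Set.union_subset hBA₁ hBA₂,
        good_union A F hsep t hB₁ hB₂ hBA₁ hBA₂ hG₁ hG₂⟩
      rw [Set.image_union]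
      exact Set.union_subset_union hS hT
    · intro a _
      obtain ⟨W, haW, s, e⟩ := ind_surj_near A F t a
      have hopen : IsOpen (φ ⁻¹' (W : Set X)) := W.isOpen.preimage hφ
      obtain ⟨C, hC, haC, hCW⟩ := exists_compact_subset hopen (show a ∈ φ ⁻¹' (W : Set X) from haW)
      refine ⟨C, mem_nhdsWithin_of_mem_nhds (mem_interior_iff_mem_nhds.1 haC), φ '' C,
        hC.image hφ, subset_rfl, ?_, W, s, ?_, e⟩
      · rintro x ⟨c, _, rfl⟩
        exact ⟨c, rfl⟩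
      · rintro x ⟨c, hc, rfl⟩
        exact hCW hc
  obtain ⟨B, -, hB, -, hG⟩ := key
  refine good_mono A F t ?_ hG
  rintro x ⟨a, rfl⟩
  exact hB ⟨a, trivial, rfl⟩

include hsep in
/-- **softness**: sections of `(F|K)|A` over `A` extend to sections of `F|K` over `K`, for `F`
flasque. -/
theorem surjective_indJ [TopCat.Sheaf.IsFlasque F] (hK : IsCompact K) (hA : IsClosed A) :
    Function.Surjective (indJ A F ⊤) := by
  intro t
  obtain ⟨U, s, hU, e⟩ := good_img A F hsep hK hA t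
  haveI : Epi (F.obj.map (homOfLE (le_top : U ≤ ⊤)).op) :=
    TopCat.Presheaf.IsFlasque.epi _
  obtain ⟨s', hs'⟩ := (AddCommGrpCat.epi_iff_surjective _).1 this s
  refine ⟨indI F ⊤ s', ?_⟩
  have h1 : (H A F).obj.map (homOfLE (le_top : pre (K := K) U ≤ ⊤)).op (indJ A F ⊤ (indI F ⊤ s')) =
      (H A F).obj.map (homOfLE (le_top : pre (K := K) U ≤ ⊤)).op t := by
    rw [← e, ← hs']
    exact (ind_res A F (le_top : U ≤ ⊤) s').symm
  -- restriction `H(⊤) → H(K ∩ U)` is injective as `A ⊆ U`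
  have hle : (Opens.map (jA A)).obj ⊤ ≤ (Opens.map (jA A)).obj (pre (K := K) U) := by
    intro a _
    exact hU ⟨a, rfl⟩
  let P := (CohTop.pull (jA A)).obj (G (K := K) F)
  have h3 : ∀ x : P.obj.obj (op ((Opens.map (jA A)).obj ⊤)),
      P.obj.map (homOfLE hle).op
        (P.obj.map ((Opens.map (jA A)).map (homOfLE (le_top : pre (K := K) U ≤ ⊤))).op x) = x := by
    intro x
    rw [← ConcreteCategory.comp_apply, ← Functor.map_comp, ← op_comp]
    have : homOfLE hle ≫ (Opens.map (jA A)).map (homOfLE (le_top : pre (K := K) U ≤ ⊤)) = 𝟙 _ :=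
      Subsingleton.elim _ _
    rw [this, op_id, CategoryTheory.Functor.map_id]
    rfl
  have h1' : P.obj.map ((Opens.map (jA A)).map (homOfLE (le_top : pre (K := K) U ≤ ⊤))).op
      (indJ A F ⊤ (indI F ⊤ s')) =
      P.obj.map ((Opens.map (jA A)).map (homOfLE (le_top : pre (K := K) U ≤ ⊤))).op t := h1
  have h2 := congrArg (P.obj.map (homOfLE hle).op) h1'
  exact (h3 _).symm.trans (h2.trans (h3 _))

end Groth.Agent.Lib.Helper5.SoftK
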