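import Mathlib
import Groth.Prelude.Def_CohTop
import Groth.Prelude.Def_FreeSh
import Groth.Agent.Lib.Helper5.TopLocal
import Groth.Agent.Lib.Helper5.SoftK
import Groth.Agent.Lib.Helper1.FlasqueAcyclic

/-!
# Soft sheaves on a compact Hausdorff space are acyclic (helper5)

`IsSoft G`: every section of `G` over an open neighbourhood `W` of a closed set `A` agrees, on a
smaller neighbourhood of `A`, with a global section.
-/

set_option autoImplicit false
universe u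
open CategoryTheory CategoryTheory.Limits Opposite TopologicalSpace Topology

noncomputable section
namespace Groth.Agent.Lib.Helper5.SoftAcyc

open Groth.Agent.Lib.Helper5 Groth.Agent.Lib.Helper5.SoftK

variable {Y : TopCat.{u}}

/-- softness, formulated with germs along closed subsets. -/
def IsSoft (G : CohTop.Ab Y) : Prop :=
  ∀ (A : Set Y), IsClosed A → ∀ (W : Opens Y), A ⊆ (W : Set Y) → ∀ s : G.obj.obj (op W),
    ∃ (t : G.obj.obj (op ⊤)) (N : Opens Y) (hN : N ≤ W), A ⊆ (N : Set Y) ∧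
      G.obj.map (homOfLE (le_top : N ≤ ⊤)).op t = G.obj.map (homOfLE hN).op s

/-- naturality of a morphism of sheaves with respect to restriction. -/
lemma nat_res {P Q : CohTop.Ab Y} (φ : P ⟶ Q) {W V : Opens Y} (h : W ≤ V) (s : P.obj.obj (op V)) :
    φ.hom.app (op W) (P.obj.map (homOfLE h).op s) =
      Q.obj.map (homOfLE h).op (φ.hom.app (op V) s) :=
  ConcreteCategory.congr_hom (φ.hom.naturality (homOfLE h).op) s

/-- sections killed by `g` come from `f` in a short exact sequence. -/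
lemma sec_lift_kernel {S : ShortComplex (CohTop.Ab Y)} (hS : S.ShortExact) (V : Opens Y)
    (t : S.X₂.obj.obj (op V)) (h : S.g.hom.app (op V) t = 0) :
    ∃ t' : S.X₁.obj.obj (op V), S.f.hom.app (op V) t' = t := by
  have := hS.mono_f
  let τ : TopLocal.free V ⟶ S.X₂ := CohFree.ofSect _ V S.X₂ t
  have hτ : τ ≫ S.g = 0 := by
    apply CxLocal.hom_ext_evalGen
    rw [CxLocal.evalGen_comp, CohFree.evalGen_ofSect, map_zero]
    exact h
  refine ⟨CohFree.evalGen _ V S.X₁ (hS.exact.lift τ hτ), ?_⟩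
  have := CxLocal.evalGen_comp (J := Opens.grothendieckTopology Y) V (hS.exact.lift τ hτ) S.f
  rw [hS.exact.lift_f, CohFree.evalGen_ofSect] at this
  exact this.symm

/-- `g ∘ f = 0` on sections. -/
lemma sec_zero (S : ShortComplex (CohTop.Ab Y)) (V : Opens Y) (t : S.X₁.obj.obj (op V)) :
    S.g.hom.app (op V) (S.f.hom.app (op V) t) = 0 := by
  have h := S.zero
  have h2 : (S.f ≫ S.g).hom.app (op V) t = 0 := by rw [h]; rfl
  exact h2

/-- local lifting of sections along an epimorphism. -/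
lemma sec_local_lift {P Q : CohTop.Ab Y} (ψ : P ⟶ Q) [Epi ψ] (V : Opens Y) (b : Q.obj.obj (op V))
    (y : Y) (hy : y ∈ V) :
    ∃ (N : Opens Y) (_ : y ∈ N) (hN : N ≤ V) (a : P.obj.obj (op N)),
      ψ.hom.app (op N) a = Q.obj.map (homOfLE hN).op b := by
  have hloc : Presheaf.IsLocallySurjective (Opens.grothendieckTopology Y) ψ.hom :=
    (Sheaf.isLocallySurjective_iff_epi' AddCommGrpCat.{u} ψ).2 inferInstance
  obtain ⟨W, g, ⟨t, ht⟩, hxW⟩ := hloc.imageSieve_mem b y hy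
  exact ⟨W, hxW, g.le, t, ht⟩

section Compact

variable [CompactSpace Y] [T2Space Y]

/-- the key lifting lemma: sections of the quotient lift near closed sets when the kernel is soft. -/
theorem lift_near {S : ShortComplex (CohTop.Ab Y)} (hS : S.ShortExact) (hsoft : IsSoft S.X₁)
    (A : Set Y) (hA : IsClosed A) (W : Opens Y) (hAW : A ⊆ (W : Set Y)) (s : S.X₃.obj.obj (op W)) :
    ∃ (N : Opens Y) (hN : N ≤ W) (_ : A ⊆ (N : Set Y)) (t : S.X₂.obj.obj (op N)),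
      S.g.hom.app (op N) t = S.X₃.obj.map (homOfLE hN).op s := by
  have := hS.epi_g
  let Good : Set Y → Prop := fun B =>
    ∃ (N : Opens Y) (hN : N ≤ W) (_ : B ⊆ (N : Set Y)) (t : S.X₂.obj.obj (op N)),
      S.g.hom.app (op N) t = S.X₃.obj.map (homOfLE hN).op s
  have key : (fun T : Set Y => ∃ B : Set Y, IsCompact B ∧ T ⊆ B ∧ Good B) A := by
    refine hA.isCompact.induction_on ?_ ?_ ?_ ?_
    · refine ⟨∅, isCompact_empty, subset_rfl, ⊥, bot_le, Set.empty_subset _, 0, ?_⟩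
      haveI : Subsingleton (S.X₃.obj.obj (op (⊥ : Opens Y))) :=
        ClosedPsi.subsingleton_of_isTerminal (TopCat.Sheaf.isTerminalOfEmpty S.X₃)
      exact Subsingleton.elim _ _
    · rintro T T' hTT' ⟨B, hB, hT'B, hG⟩
      exact ⟨B, hB, hTT'.trans hT'B, hG⟩
    · rintro T₁ T₂ ⟨B₁, hB₁, hT₁, N₁, hN₁, hBN₁, t₁, e₁⟩ ⟨B₂, hB₂, hT₂, N₂, hN₂, hBN₂, t₂, e₂⟩
      refine ⟨B₁ ∪ B₂, hB₁.union hB₂, Set.union_subset_union hT₁ hT₂, ?_⟩
      obtain ⟨L₁, hL₁, hBL₁, hLN₁⟩ := exists_compact_between hB₁ N₁.isOpen hBN₁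
      obtain ⟨L₂, hL₂, hBL₂, hLN₂⟩ := exists_compact_between hB₂ N₂.isOpen hBN₂
      -- the difference on `N₁ ⊓ N₂`
      let d : S.X₂.obj.obj (op (N₁ ⊓ N₂)) :=
        S.X₂.obj.map (homOfLE (inf_le_left : N₁ ⊓ N₂ ≤ N₁)).op t₁ -
          S.X₂.obj.map (homOfLE (inf_le_right : N₁ ⊓ N₂ ≤ N₂)).op t₂
      have hd : S.g.hom.app (op (N₁ ⊓ N₂)) d = 0 := by
        change S.g.hom.app (op (N₁ ⊓ N₂)) (_ - _) = 0
        rw [map_sub, nat_res, nat_res, e₁, e₂, map_map_le, map_map_le, sub_self]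
      obtain ⟨d', hd'⟩ := sec_lift_kernel hS (N₁ ⊓ N₂) d hd
      have hA' : L₁ ∩ L₂ ⊆ ((N₁ ⊓ N₂ : Opens Y) : Set Y) := fun x hx => ⟨hLN₁ hx.1, hLN₂ hx.2⟩
      obtain ⟨r, M, hM, hAM, hr⟩ := hsoft (L₁ ∩ L₂) (hL₁.isClosed.inter hL₂.isClosed) (N₁ ⊓ N₂) hA' d'
      let O₁ : Opens Y := ⟨interior L₁, isOpen_interior⟩
      let O₂ : Opens Y := ⟨interior L₂, isOpen_interior⟩
      have hO₁ : O₁ ≤ N₁ := fun x hx => hLN₁ (interior_subset hx)
      have hO₂ : O₂ ≤ N₂ := fun x hx => hLN₂ (interior_subset hx)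
      have hOM : O₁ ⊓ O₂ ≤ M := fun x hx => hAM ⟨interior_subset hx.1, interior_subset hx.2⟩
      let a : S.X₂.obj.obj (op O₁) := S.X₂.obj.map (homOfLE hO₁).op t₁
      let b : S.X₂.obj.obj (op O₂) := S.X₂.obj.map (homOfLE hO₂).op t₂ +
        S.X₂.obj.map (homOfLE (le_top : O₂ ≤ ⊤)).op (S.f.hom.app (op ⊤) r)
      have compat : S.X₂.obj.map (homOfLE (inf_le_left : O₁ ⊓ O₂ ≤ O₁)).op a =
          S.X₂.obj.map (homOfLE (inf_le_right : O₁ ⊓ O₂ ≤ O₂)).op b := by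
        have hle : O₁ ⊓ O₂ ≤ N₁ ⊓ N₂ := hOM.trans hM
        -- restrict `d = f d'` and `r|M = d'|M` to `O₁ ⊓ O₂`
        have h1 : S.X₂.obj.map (homOfLE hle).op d =
            S.X₂.obj.map (homOfLE (le_top : O₁ ⊓ O₂ ≤ ⊤)).op (S.f.hom.app (op ⊤) r) := by
          rw [← hd', ← nat_res, ← nat_res]
          congr 1
          rw [← map_map_le S.X₁ hOM hM, ← hr, map_map_le]
        change S.X₂.obj.map (homOfLE hle).op (_ - _) = _ at h1
        rw [map_sub, map_map_le, map_map_le, sub_eq_iff_eq_add] at h1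
        change S.X₂.obj.map _ (S.X₂.obj.map _ t₁) = S.X₂.obj.map _ (_ + _)
        rw [map_add, map_map_le, map_map_le, map_map_le, h1, add_comm]
      obtain ⟨t, ht₁, ht₂⟩ := glue₂ S.X₂ (le_sup_left : O₁ ≤ O₁ ⊔ O₂) le_sup_right le_rfl a b compat
      have hNW : O₁ ⊔ O₂ ≤ W := sup_le (hO₁.trans hN₁) (hO₂.trans hN₂)
      refine ⟨O₁ ⊔ O₂, hNW, ?_, t, ?_⟩
      · rintro x (hx | hx)
        · exact Or.inl (hBL₁ hx)
        · exact Or.inr (hBL₂ hx)
      · refine TopCat.Sheaf.eq_of_locally_eq₂ S.X₃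
          (homOfLE (le_sup_left : O₁ ≤ O₁ ⊔ O₂)) (homOfLE (le_sup_right : O₂ ≤ O₁ ⊔ O₂)) le_rfl _ _ ?_ ?_
        · change S.X₃.obj.map (homOfLE _).op (S.g.hom.app _ t) =
            S.X₃.obj.map (homOfLE _).op (S.X₃.obj.map (homOfLE hNW).op s)
          rw [← nat_res, ht₁, map_map_le]
          change S.g.hom.app _ (S.X₂.obj.map _ t₁) = _
          rw [nat_res, e₁, map_map_le]
        · change S.X₃.obj.map (homOfLE _).op (S.g.hom.app _ t) =
            S.X₃.obj.map (homOfLE _).op (S.X₃.obj.map (homOfLE hNW).op s)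
          rw [← nat_res, ht₂, map_map_le]
          change S.g.hom.app _ (S.X₂.obj.map _ t₂ + S.X₂.obj.map _ _) = _
          rw [map_add, nat_res, nat_res, e₂, map_map_le, sec_zero, map_zero, add_zero]
    · intro y hy
      obtain ⟨N, hyN, hN, a, ha⟩ := sec_local_lift S.g W s y (hAW hy)
      obtain ⟨C, hC, hyC, hCN⟩ := exists_compact_subset N.isOpen hyN
      exact ⟨C, mem_nhdsWithin_of_mem_nhds (mem_interior_iff_mem_nhds.1 hyC), C, hC, subset_rfl,
        N, hN, hCN, a, ha⟩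
  obtain ⟨B, -, hAB, N, hN, hBN, t, e⟩ := key
  exact ⟨N, hN, hAB.trans hBN, t, e⟩

/-- global sections are right exact on sequences with soft kernel. -/
theorem surjective_of_soft {S : ShortComplex (CohTop.Ab Y)} (hS : S.ShortExact) (hsoft : IsSoft S.X₁) :
    Function.Surjective (S.g.hom.app (op (⊤ : Opens Y))) := by
  intro s
  obtain ⟨N, hN, hAN, t, e⟩ := lift_near hS hsoft Set.univ isClosed_univ ⊤ (fun _ _ => trivial) s
  have hNtop : N = ⊤ := top_le_iff.1 (fun x _ => hAN (Set.mem_univ x))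
  subst hNtop
  refine ⟨t, ?_⟩
  rw [e]
  have : homOfLE hN = 𝟙 _ := Subsingleton.elim _ _
  rw [this, op_id, S.X₃.obj.map_id]
  rfl

/-- quotients of soft sheaves by soft sheaves are soft. -/
theorem isSoft_of_shortExact {S : ShortComplex (CohTop.Ab Y)} (hS : S.ShortExact)
    (h₁ : IsSoft S.X₁) (h₂ : IsSoft S.X₂) : IsSoft S.X₃ := by
  intro A hA W hAW s
  obtain ⟨N, hN, hAN, t, e⟩ := lift_near hS h₁ A hA W hAW s
  obtain ⟨t', M, hM, hAM, ht'⟩ := h₂ A hA N hAN t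
  refine ⟨S.g.hom.app (op ⊤) t', M, hM.trans hN, hAM, ?_⟩
  rw [← nat_res, ht', nat_res, e, map_map_le]

end Compact

/-- flasque sheaves are soft. -/
theorem isSoft_of_isFlasque (G : CohTop.Ab Y) [TopCat.Sheaf.IsFlasque G] : IsSoft G := by
  intro A _ W hAW s
  haveI : Epi (G.obj.map (homOfLE (le_top : W ≤ ⊤)).op) := TopCat.Presheaf.IsFlasque.epi _
  obtain ⟨t, ht⟩ := (AddCommGrpCat.epi_iff_surjective _).1 this s
  refine ⟨t, W, le_rfl, hAW, ?_⟩
  have h1 : homOfLE (le_rfl : W ≤ W) = 𝟙 W := Subsingleton.elim _ _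
  rw [ht, h1, op_id, G.obj.map_id]
  rfl

/-- soft sheaves on a compact Hausdorff space are acyclic. -/
theorem soft_H_eq_zero [CompactSpace Y] [T2Space Y] (n : ℕ) (G : CohTop.Ab Y) (hG : IsSoft G)
    (x : CohTop.H G (n + 1)) : x = 0 := by
  refine Groth.Agent.Lib.Helper1.FlasqueAcyclic.ext_eq_zero_of_class _
    (fun G : CohTop.Ab Y ↦ IsSoft G) ?_ ?_ ?_ n G hG x
  · intro I hI
    haveI := Groth.Agent.Lib.Helper1.FlasqueAcyclic.isFlasque_of_injective I
    exact isSoft_of_isFlasque I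
  · intro S hS h1 h2
    exact isSoft_of_shortExact hS h1 h2
  · intro S hS h1 φ
    have hT : IsTerminal (⊤ : Opens Y) := isTerminalTop
    obtain ⟨t, ht⟩ := surjective_of_soft hS h1 (Sheaf.H.equiv₀ S.X₃ hT (Abelian.Ext.mk₀ φ))
    obtain ⟨ψ, hψ⟩ := (Abelian.Ext.mk₀_bijective _ S.X₂).surjective ((Sheaf.H.equiv₀ S.X₂ hT).symm t)
    refine ⟨ψ, ?_⟩
    apply (Abelian.Ext.mk₀_bijective _ _).injective
    apply (Sheaf.H.equiv₀ S.X₃ hT).injective
    rw [← ht, ← Abelian.Ext.mk₀_comp_mk₀, hψ]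
    have := Sheaf.H.equiv₀_naturality hT S.g ((Sheaf.H.equiv₀ S.X₂ hT).symm t)
    rw [AddEquiv.apply_symm_apply] at this
    rw [this, Sheaf.H.map_apply]

end Groth.Agent.Lib.Helper5.SoftAcyc
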