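import Mathlib
import Groth.Prelude.Def_CohTop
import Groth.Agent.Lib.Helper5.SoftK
import Groth.Agent.Lib.Helper5.SoftAcyc

/-!
# Sections of `F|K` over a compact relatively Hausdorff subset `K` (helper5)

* germs of sections of `F` along `K` are the sections of `F|K`;
* `F|K` is soft when `F` is flasque, hence acyclic.
-/

set_option autoImplicit false
universe u
open CategoryTheory CategoryTheory.Limits Opposite TopologicalSpace Topology

noncomputable section
namespace Groth.Agent.Lib.Helper5.CompactNbhd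

open Groth.Agent.Lib.Helper5 Groth.Agent.Lib.Helper5.SoftK Groth.Agent.Lib.Helper5.ClosedPsi
  Groth.Agent.Lib.Helper5.EmbSheaf

/-- the largest open on which a section vanishes. -/
lemma exists_vanishing_open {Y : TopCat.{u}} (P : CohTop.Ab Y) (V : Opens Y) (s : P.obj.obj (op V)) :
    ∃ (W : Opens Y) (hW : W ≤ V), P.obj.map (homOfLE hW).op s = 0 ∧
      ∀ (W' : Opens Y) (h : W' ≤ V), P.obj.map (homOfLE h).op s = 0 → W' ≤ W := by
  let 𝒲 : Set (Opens Y) := {W | ∃ h : W ≤ V, P.obj.map (homOfLE h).op s = 0}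
  let W : Opens Y := sSup 𝒲
  have hW : W ≤ V := sSup_le (fun W' hW' => hW'.1)
  refine ⟨W, hW, ?_, fun W' h e => le_sSup (⟨h, e⟩ : W' ∈ 𝒲)⟩
  refine TopCat.Sheaf.eq_of_locally_eq' P (fun w : 𝒲 => (w : Opens Y)) W
    (fun w => homOfLE (le_sSup w.2)) ?_ _ _ ?_
  · change sSup 𝒲 ≤ _
    rw [sSup_eq_iSup']
  · intro w
    obtain ⟨h, e⟩ := w.2
    change P.obj.map (homOfLE (le_sSup w.2)).op (P.obj.map (homOfLE hW).op s) =
      P.obj.map (homOfLE (le_sSup w.2)).op 0
    rw [map_map_le, map_zero]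
    exact e

variable {X : TopCat.{u}} {K : Set X} (F : CohTop.Ab X)

/-- a section of `F` inducing `0` on `K ∩ U` vanishes near `K ∩ U`. -/
theorem indI_inj_near (U : Opens X) (s : F.obj.obj (op U)) (hs : indI (K := K) F U s = 0) :
    ∃ (U' : Opens X) (h : U' ≤ U), (K ∩ (U : Set X)) ⊆ (U' : Set X) ∧
      F.obj.map (homOfLE h).op s = 0 := by
  obtain ⟨W, hW, e, hmax⟩ := exists_vanishing_open F U s
  refine ⟨W, hW, ?_, e⟩
  rintro x ⟨hxK, hxU⟩
  obtain ⟨W', hxW', hW'U, e'⟩ := eta_inj_near (inducing_iK K) F (⟨x, hxK⟩ : K) U hxU s hs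
  exact hmax W' hW'U e' hxW'

/-- `indJ` for `A = univ` is injective. -/
lemma indJ_univ_injective (N : Opens (TopCat.of K)) :
    Function.Injective (indJ (Set.univ : Set K) F N) := by
  rw [injective_iff_map_eq_zero]
  intro g hg
  obtain ⟨W, hW, e, hmax⟩ := exists_vanishing_open (G (K := K) F) N g
  have hNW : N ≤ W := by
    intro a ha
    obtain ⟨W', haW', hW'N, e'⟩ := eta_inj_near (inducing_jA (Set.univ : Set K)) (G (K := K) F)
      (⟨a, trivial⟩ : (Set.univ : Set K)) N ha g hg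
    exact hmax W' hW'N e' haW'
  have hWN : W = N := le_antisymm hW hNW
  subst hWN
  have h1 : homOfLE hW = 𝟙 W := Subsingleton.elim _ _
  rw [h1, op_id, (G (K := K) F).obj.map_id] at e
  exact e

variable (hsep : ∀ x ∈ K, ∀ y ∈ K, x ≠ y →
  ∃ U V : Set X, IsOpen U ∧ IsOpen V ∧ x ∈ U ∧ y ∈ V ∧ Disjoint U V)

include hsep in
/-- every section of `F|K` over `K` is induced by a section of `F` over a neighbourhood of `K`. -/
theorem indI_surj (hK : IsCompact K) (t : (G (K := K) F).obj.obj (op ⊤)) :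
    ∃ (U : Opens X) (s : F.obj.obj (op U)), K ⊆ (U : Set X) ∧
      indI (K := K) F U s = (G (K := K) F).obj.map (homOfLE (le_top : pre (K := K) U ≤ ⊤)).op t := by
  obtain ⟨U, s, hU, e⟩ := good_img (Set.univ : Set K) F hsep hK isClosed_univ
    (indJ (Set.univ : Set K) F ⊤ t)
  refine ⟨U, s, ?_, ?_⟩
  · intro x hx
    exact hU ⟨⟨⟨x, hx⟩, trivial⟩, rfl⟩
  · apply indJ_univ_injective F (pre U)
    rw [indJ_res]
    exact e

include hsep in
lemma t2_K : T2Space (TopCat.of K) := by
  refine ⟨fun a b hab => ?_⟩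
  have hne : (a : X) ≠ (b : X) := fun e => hab (Subtype.ext e)
  obtain ⟨U, V, hU, hV, haU, hbV, hUV⟩ := hsep _ a.2 _ b.2 hne
  have cont : Continuous (fun a : K => (a : X)) := continuous_subtype_val
  exact ⟨(fun a : K => (a : X)) ⁻¹' U, (fun a : K => (a : X)) ⁻¹' V,
    hU.preimage cont, hV.preimage cont, haU, hbV, hUV.preimage _⟩

include hsep in
/-- the restriction of a flasque sheaf to `K` is soft. -/
theorem isSoft_pull [TopCat.Sheaf.IsFlasque F] (hK : IsCompact K) :
    SoftAcyc.IsSoft (G (K := K) F) := by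
  intro A hA W hAW s
  -- the section of `(F|K)|A` over `A` induced by `s`
  let P := (CohTop.pull (jA A)).obj (G (K := K) F)
  have hle : (Opens.map (jA A)).obj ⊤ ≤ (Opens.map (jA A)).obj W := fun a _ => hAW a.2
  let t'' : (H A F).obj.obj (op ⊤) := P.obj.map (homOfLE hle).op (indJ A F W s)
  obtain ⟨g, hg⟩ := surjective_indJ A F hsep hK hA t''
  let d : (G (K := K) F).obj.obj (op W) :=
    (G (K := K) F).obj.map (homOfLE (le_top : W ≤ ⊤)).op g - s
  have hd : indJ A F W d = 0 := by
    change indJ A F W (_ - _) = 0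
    rw [map_sub, indJ_res, hg, sub_eq_zero]
    have h3 : ∀ x : P.obj.obj (op ((Opens.map (jA A)).obj W)),
        P.obj.map ((Opens.map (jA A)).map (homOfLE (le_top : W ≤ ⊤))).op
          (P.obj.map (homOfLE hle).op x) = x := by
      intro x
      rw [← ConcreteCategory.comp_apply, ← Functor.map_comp, ← op_comp]
      have : (Opens.map (jA A)).map (homOfLE (le_top : W ≤ ⊤)) ≫ homOfLE hle = 𝟙 _ :=
        Subsingleton.elim _ _
      rw [this, op_id, CategoryTheory.Functor.map_id]
      rfl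
    exact h3 _
  obtain ⟨N, hN, e, hmax⟩ := exists_vanishing_open (G (K := K) F) W d
  refine ⟨g, N, hN, ?_, ?_⟩
  · intro a ha
    obtain ⟨W', haW', hW'W, e'⟩ := eta_inj_near (inducing_jA A) (G (K := K) F)
      (⟨a, ha⟩ : A) W (hAW ha) d hd
    exact hmax W' hW'W e' haW'
  · change (G (K := K) F).obj.map (homOfLE hN).op (_ - _) = 0 at e
    rw [map_sub, map_map_le, sub_eq_zero] at e
    exact e

include hsep in
/-- the restriction of a flasque sheaf to `K` is acyclic. -/
theorem pull_flasque_H_eq_zero [TopCat.Sheaf.IsFlasque F] (hK : IsCompact K) (n : ℕ)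
    (x : CohTop.H (G (K := K) F) (n + 1)) : x = 0 := by
  have : CompactSpace (TopCat.of K) := isCompact_iff_compactSpace.1 hK
  have := t2_K hsep
  exact SoftAcyc.soft_H_eq_zero n _ (isSoft_pull F hsep hK) x

end Groth.Agent.Lib.Helper5.CompactNbhd
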