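import Mathlib
import Groth.Prelude.Def_CohTop
import Groth.Agent.Lib.Helper5.CompactNbhd
import Groth.Agent.Lib.Helper13.ClosedEmbPush

set_option autoImplicit false
universe u
open CategoryTheory CategoryTheory.Limits Opposite TopologicalSpace Topology Abelian

noncomputable section
namespace Groth.Agent.Lib.Helper5.CompactColim

open Groth.Agent.Lib.Helper5 Groth.Agent.Lib.Helper5.SoftK Groth.Agent.Lib.Helper5.ClosedPsi
  Groth.Agent.Lib.Helper5.EmbSheaf Groth.Agent.Lib.Helper5.TopLocal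
  Groth.Agent.Lib.Helper5.CompactNbhd

variable {X : TopCat.{u}} (K : Set X)

/-- restriction to `K`. -/
abbrev pl : CohTop.Ab X ⥤ CohTop.Ab (TopCat.of K) := CohTop.pull (iK K)

instance : (CohTop.push (iK K)).Additive := CohTop.instAdditiveAbPush (iK K)

instance : (pl K).Additive := (ClosedPsi.adj (iK K)).left_adjoint_additive

instance : PreservesFiniteLimits (pl K) := Groth.Agent.Lib.Helper13.ClosedEmbPush.pull_preservesFiniteLimits _

instance : PreservesFiniteColimits (pl K) := by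
  have : PreservesColimitsOfSize.{0, 0} (pl K) := (ClosedPsi.adj (iK K)).leftAdjoint_preservesColimits
  exact PreservesColimitsOfSize.preservesFiniteColimits.{0, 0} _

variable {K}

/-- naturality of `indI` in the sheaf. -/
lemma indI_nat {F F' : CohTop.Ab X} (φ : F ⟶ F') (U : Opens X) (s : F.obj.obj (op U)) :
    ((pl K).map φ).hom.app (op (pre (K := K) U)) (indI (K := K) F U s) =
      indI (K := K) F' U (φ.hom.app (op U) s) := by
  have h := (ClosedPsi.adj (iK K)).unit.naturality φ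
  have h2 := congrArg (fun m => (m.hom.app (op U)).hom s) h
  exact h2.symm


/-- naturality of a morphism of sheaves with respect to restriction. -/
lemma nat_res' {Y : TopCat.{u}} {P Q : CohTop.Ab Y} (φ : P ⟶ Q) {W V : Opens Y} (h : W ≤ V)
    (s : P.obj.obj (op V)) :
    φ.hom.app (op W) (P.obj.map (homOfLE h).op s) =
      Q.obj.map (homOfLE h).op (φ.hom.app (op V) s) :=
  ConcreteCategory.congr_hom (φ.hom.naturality (homOfLE h).op) s

lemma top_le_pre {U : Opens X} (hU : K ⊆ (U : Set X)) : (⊤ : Opens (TopCat.of K)) ≤ pre (K := K) U :=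
  fun a _ => hU a.2

/-- restricting from `K ∩ U = K` to `K` and back. -/
lemma map_top_pre {U : Opens X} (hU : K ⊆ (U : Set X)) (P : CohTop.Ab (TopCat.of K))
    (x : P.obj.obj (op (pre (K := K) U))) :
    P.obj.map (homOfLE (le_top : pre (K := K) U ≤ ⊤)).op
      (P.obj.map (homOfLE (top_le_pre hU)).op x) = x := by
  rw [map_map_le]
  have : homOfLE (le_refl (pre (K := K) U)) = 𝟙 _ := Subsingleton.elim _ _
  rw [this, op_id, P.obj.map_id]
  rfl

/-- the section of `F|K` over `K` induced by a section of `F` over a neighbourhood of `K`. -/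
def germ (F : CohTop.Ab X) {U : Opens X} (hU : K ⊆ (U : Set X)) :
    F.obj.obj (op U) →+ ((pl K).obj F).obj.obj (op ⊤) :=
  (((pl K).obj F).obj.map (homOfLE (top_le_pre hU)).op).hom.comp (indI (K := K) F U)

lemma germ_apply (F : CohTop.Ab X) {U : Opens X} (hU : K ⊆ (U : Set X)) (s : F.obj.obj (op U)) :
    germ F hU s = ((pl K).obj F).obj.map (homOfLE (top_le_pre hU)).op (indI (K := K) F U s) := rfl

lemma germ_nat {F F' : CohTop.Ab X} (φ : F ⟶ F') {U : Opens X} (hU : K ⊆ (U : Set X))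
    (s : F.obj.obj (op U)) :
    ((pl K).map φ).hom.app (op ⊤) (germ F hU s) = germ F' hU (φ.hom.app (op U) s) := by
  rw [germ_apply, germ_apply, nat_res', indI_nat]

lemma germ_res (F : CohTop.Ab X) {U U' : Opens X} (hU : K ⊆ (U : Set X)) (hU' : K ⊆ (U' : Set X))
    (h : U' ≤ U) (s : F.obj.obj (op U)) :
    germ F hU' (F.obj.map (homOfLE h).op s) = germ F hU s := by
  rw [germ_apply, germ_apply, indI_res, map_map_le]

/-- the canonical class in `H^0(K, ℤ_U|K)`. -/
def υ {U : Opens X} (hU : K ⊆ (U : Set X)) : CohTop.H ((pl K).obj (free U)) 0 :=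
  (Sheaf.H.equiv₀ ((pl K).obj (free U)) isTerminalTop).symm
    (germ (free U) hU (CohFree.gen _ U))

/-- the comparison map `H^p(U, F) → H^p(K, F|K)`. -/
def θ (F : CohTop.Ab X) {U : Opens X} (hU : K ⊆ (U : Set X)) (p : ℕ) :
    Ext (free U) F p →+ CohTop.H ((pl K).obj F) p :=
  ((υ hU).precomp ((pl K).obj F) (zero_add p)).comp ((pl K).mapExtAddHom (free U) F p)

lemma θ_apply (F : CohTop.Ab X) {U : Opens X} (hU : K ⊆ (U : Set X)) (p : ℕ) (x : Ext (free U) F p) :
    θ F hU p x = (υ hU).comp (x.mapExactFunctor (pl K)) (zero_add p) := rfl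


lemma equiv₀_υ {U : Opens X} (hU : K ⊆ (U : Set X)) :
    Sheaf.H.equiv₀ ((pl K).obj (free U)) isTerminalTop (υ hU) = germ (free U) hU (CohFree.gen _ U) :=
  AddEquiv.apply_symm_apply _ _

/-- `θ` in degree zero is the germ map. -/
lemma equiv₀_θ_mk₀ (F : CohTop.Ab X) {U : Opens X} (hU : K ⊆ (U : Set X)) (σ : free U ⟶ F) :
    Sheaf.H.equiv₀ ((pl K).obj F) isTerminalTop (θ F hU 0 (Ext.mk₀ σ)) =
      germ F hU (CohFree.evalGen _ U F σ) := by
  rw [θ_apply, Ext.mapExactFunctor_mk₀]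
  have h1 : (υ hU).comp (Ext.mk₀ ((pl K).map σ)) (zero_add 0) =
      Sheaf.H.map ((pl K).map σ) 0 (υ hU) := rfl
  rw [h1, ← Sheaf.H.equiv₀_naturality, equiv₀_υ, germ_nat]
  rfl

/-- compatibility of the canonical classes with restriction. -/
lemma υ_res {U U' : Opens X} (hU : K ⊆ (U : Set X)) (hU' : K ⊆ (U' : Set X)) (h : U' ≤ U) :
    (υ hU').comp (Ext.mk₀ ((pl K).map (res h))) (add_zero 0) = υ hU := by
  apply (Sheaf.H.equiv₀ ((pl K).obj (free U)) isTerminalTop).injective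
  have h1 : (υ hU').comp (Ext.mk₀ ((pl K).map (res h))) (add_zero 0) =
      Sheaf.H.map ((pl K).map (res h)) 0 (υ hU') := rfl
  rw [h1, ← Sheaf.H.equiv₀_naturality, equiv₀_υ, equiv₀_υ, germ_nat]
  have h2 : (res h).hom.app (op U') (CohFree.gen _ U') =
      (free U).obj.map (homOfLE h).op (CohFree.gen _ U) :=
    CohFree.freeSheafMap_gen (Opens.grothendieckTopology X) (homOfLE h)
  rw [h2, germ_res]

lemma θ_res (F : CohTop.Ab X) {U U' : Opens X} (hU : K ⊆ (U : Set X)) (hU' : K ⊆ (U' : Set X))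
    (h : U' ≤ U) (p : ℕ) (x : Ext (free U) F p) :
    θ F hU' p ((Ext.mk₀ (res h)).comp x (zero_add p)) = θ F hU p x := by
  rw [θ_apply, θ_apply, Ext.mapExactFunctor_comp, Ext.mapExactFunctor_mk₀, ← Ext.comp_assoc _ _ _
    (add_zero 0) (zero_add p) (by omega), υ_res hU hU' h]

lemma θ_nat {F F' : CohTop.Ab X} (φ : F ⟶ F') {U : Opens X} (hU : K ⊆ (U : Set X)) (p : ℕ)
    (x : Ext (free U) F p) :
    θ F' hU p (x.comp (Ext.mk₀ φ) (add_zero p)) =
      (θ F hU p x).comp (Ext.mk₀ ((pl K).map φ)) (add_zero p) := by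
  rw [θ_apply, θ_apply, Ext.mapExactFunctor_comp, Ext.mapExactFunctor_mk₀,
    Ext.comp_assoc _ _ _ (zero_add p) (add_zero p) (by omega)]

lemma θ_δ {S : ShortComplex (CohTop.Ab X)} (hS : S.ShortExact) {U : Opens X} (hU : K ⊆ (U : Set X))
    (p : ℕ) (x : Ext (free U) S.X₃ p) :
    θ S.X₁ hU (p + 1) (x.comp hS.extClass rfl) =
      (θ S.X₃ hU p x).comp (hS.map_of_exact (pl K)).extClass rfl := by
  rw [θ_apply, θ_apply, Ext.mapExactFunctor_comp, Ext.mapExactFunctor_extClass]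
  exact (Ext.comp_assoc (υ hU) (x.mapExactFunctor (pl K)) (hS.map_of_exact (pl K)).extClass
    (zero_add p) rfl (by omega)).symm


/-- restriction on `Ext` groups out of free sheaves. -/
def rs (F : CohTop.Ab X) {U U' : Opens X} (h : U' ≤ U) (p : ℕ) :
    Ext (free U) F p →+ Ext (free U') F p :=
  (Ext.mk₀ (res h)).precomp F (zero_add p)

lemma rs_apply (F : CohTop.Ab X) {U U' : Opens X} (h : U' ≤ U) (p : ℕ) (x : Ext (free U) F p) :
    rs F h p x = (Ext.mk₀ (res h)).comp x (zero_add p) := rfl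

lemma rs_rs (F : CohTop.Ab X) {U U' U'' : Opens X} (h : U' ≤ U) (h' : U'' ≤ U') (p : ℕ)
    (x : Ext (free U) F p) : rs F h' p (rs F h p x) = rs F (h'.trans h) p x := by
  rw [rs_apply, rs_apply, rs_apply, ← Ext.comp_assoc _ _ _ (add_zero 0) (zero_add p) (by omega),
    Ext.mk₀_comp_mk₀, res_comp]

lemma rs_comp {F F' : CohTop.Ab X} {U U' : Opens X} (h : U' ≤ U) {p q n : ℕ} (x : Ext (free U) F p)
    (β : Ext F F' q) (hn : p + q = n) :
    rs F' h n (x.comp β hn) = (rs F h p x).comp β hn := by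
  rw [rs_apply, rs_apply, Ext.comp_assoc _ _ _ (zero_add p) hn (by omega)]

lemma θ_rs (F : CohTop.Ab X) {U U' : Opens X} (hU : K ⊆ (U : Set X)) (hU' : K ⊆ (U' : Set X))
    (h : U' ≤ U) (p : ℕ) (x : Ext (free U) F p) :
    θ F hU' p (rs F h p x) = θ F hU p x := θ_res F hU hU' h p x

/-- surjectivity of the comparison, elementwise. -/
def Surj (F : CohTop.Ab X) (p : ℕ) : Prop :=
  ∀ y : CohTop.H ((pl K).obj F) p, ∃ (U : Opens X) (hU : K ⊆ (U : Set X)) (ξ : Ext (free U) F p),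
    θ F hU p ξ = y

/-- injectivity of the comparison, elementwise. -/
def Inj (F : CohTop.Ab X) (p : ℕ) : Prop :=
  ∀ (U : Opens X) (hU : K ⊆ (U : Set X)) (ξ : Ext (free U) F p), θ F hU p ξ = 0 →
    ∃ (U' : Opens X) (_ : K ⊆ (U' : Set X)) (h : U' ≤ U), rs F h p ξ = 0

variable (hsep : ∀ x ∈ K, ∀ y ∈ K, x ≠ y →
  ∃ U V : Set X, IsOpen U ∧ IsOpen V ∧ x ∈ U ∧ y ∈ V ∧ Disjoint U V)

include hsep in
lemma surj_zero (hK : IsCompact K) (F : CohTop.Ab X) : Surj (K := K) F 0 := by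
  intro y
  obtain ⟨U, s, hU, e⟩ := indI_surj F hsep hK (Sheaf.H.equiv₀ ((pl K).obj F) isTerminalTop y)
  refine ⟨U, hU, Ext.mk₀ (CohFree.ofSect _ U F s), ?_⟩
  apply (Sheaf.H.equiv₀ ((pl K).obj F) isTerminalTop).injective
  rw [equiv₀_θ_mk₀, CohFree.evalGen_ofSect, germ_apply, e, map_map_le]
  have : homOfLE (le_refl (⊤ : Opens (TopCat.of K))) = 𝟙 _ := Subsingleton.elim _ _
  rw [this, op_id, ((pl K).obj F).obj.map_id]
  rfl

lemma inj_zero (F : CohTop.Ab X) : Inj (K := K) F 0 := by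
  intro U hU ξ hξ
  obtain ⟨σ, rfl⟩ := (Ext.mk₀_bijective _ _).surjective ξ
  have h1 := equiv₀_θ_mk₀ F hU σ
  rw [hξ, map_zero] at h1
  have h2 : indI (K := K) F U (CohFree.evalGen _ U F σ) = 0 := by
    have h3 := congrArg (((pl K).obj F).obj.map (homOfLE (le_top : pre (K := K) U ≤ ⊤)).op) h1
    rw [germ_apply, map_top_pre hU, map_zero] at h3
    exact h3.symm
  obtain ⟨U', h, hKU', e⟩ := indI_inj_near F U _ h2
  refine ⟨U', fun x hx => hKU' ⟨hx, hU hx⟩, h, ?_⟩
  rw [rs_apply, Ext.mk₀_comp_mk₀]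
  have : res h ≫ σ = 0 := by
    apply CxLocal.hom_ext_evalGen
    rw [CohFree.evalGen_freeSheafMap_comp, map_zero]
    exact e
  rw [this, Ext.mk₀_zero]

end Groth.Agent.Lib.Helper5.CompactColim
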