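import Mathlib
import Groth.Prelude.Def_CohTop
import Groth.Agent.Lib.Helper5.CompactColim

set_option autoImplicit false
universe u
open CategoryTheory CategoryTheory.Limits Opposite TopologicalSpace Topology Abelian

noncomputable section
namespace Groth.Agent.Lib.Helper5.CompactColim

open Groth.Agent.Lib.Helper5 Groth.Agent.Lib.Helper5.SoftK Groth.Agent.Lib.Helper5.ClosedPsi
  Groth.Agent.Lib.Helper5.EmbSheaf Groth.Agent.Lib.Helper5.TopLocal
  Groth.Agent.Lib.Helper5.CompactNbhd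

variable {X : TopCat.{u}} {K : Set X}

variable (hsep : ∀ x ∈ K, ∀ y ∈ K, x ≠ y →
  ∃ U V : Set X, IsOpen U ∧ IsOpen V ∧ x ∈ U ∧ y ∈ V ∧ Disjoint U V)

include hsep in
/-- the inductive step. -/
lemma step (hK : IsCompact K) (p : ℕ)
    (ih : ∀ F : CohTop.Ab X, Surj (K := K) F p ∧ Inj (K := K) F p) (F : CohTop.Ab X) :
    Surj (K := K) F (p + 1) ∧ Inj (K := K) F (p + 1) := by
  let S := ShortComplex.mk _ _ (cokernel.condition (Injective.ι F))
  have hS : S.ShortExact :=
    { exact := ShortComplex.exact_of_g_is_cokernel _ (cokernelIsCokernel S.f) }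
  have hS' := hS.map_of_exact (pl K)
  constructor
  · intro y
    have h0 : (show Ext _ (S.map (pl K)).X₁ (p + 1) from y).comp
        (Ext.mk₀ (S.map (pl K)).f) (add_zero (p + 1)) = 0 := by
      have : TopCat.Sheaf.IsFlasque S.X₂ :=
        Groth.Agent.Lib.Helper1.FlasqueAcyclic.isFlasque_of_injective _
      exact pull_flasque_H_eq_zero S.X₂ hsep hK p _
    obtain ⟨x₃, hx₃⟩ := Ext.covariant_sequence_exact₁ _ hS' _ h0 rfl
    obtain ⟨U, hU, ξ', hξ'⟩ := (ih S.X₃).1 x₃
    refine ⟨U, hU, ξ'.comp hS.extClass rfl, ?_⟩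
    rw [θ_δ hS hU p ξ', hξ']
    exact hx₃
  · intro U hU ξ hξ
    obtain ⟨ξ', rfl⟩ := Ext.covariant_sequence_exact₁ (free U) hS ξ (Ext.eq_zero_of_injective _) rfl
    rw [θ_δ hS hU p ξ'] at hξ
    obtain ⟨w, hw⟩ := Ext.covariant_sequence_exact₃ _ hS' (θ S.X₃ hU p ξ') rfl hξ
    obtain ⟨U₁, hU₁, ω, rfl⟩ := (ih S.X₂).1 w
    have hU₂ : K ⊆ ((U ⊓ U₁ : Opens X) : Set X) := fun x hx => ⟨hU hx, hU₁ hx⟩
    let a : Ext (free (U ⊓ U₁)) S.X₃ p := rs S.X₃ inf_le_left p ξ'
    let b : Ext (free (U ⊓ U₁)) S.X₃ p := (rs S.X₂ inf_le_right p ω).comp (Ext.mk₀ S.g) (add_zero p)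
    have hab : θ S.X₃ hU₂ p (a - b) = 0 := by
      rw [map_sub, sub_eq_zero]
      change θ S.X₃ hU₂ p (rs S.X₃ inf_le_left p ξ') =
        θ S.X₃ hU₂ p ((rs S.X₂ inf_le_right p ω).comp (Ext.mk₀ S.g) (add_zero p))
      rw [θ_rs S.X₃ hU hU₂, θ_nat S.g hU₂, θ_rs S.X₂ hU₁ hU₂]
      exact hw.symm
    obtain ⟨U₃, hU₃, h₃, e⟩ := (ih S.X₃).2 _ hU₂ _ hab
    refine ⟨U₃, hU₃, h₃.trans inf_le_left, ?_⟩
    rw [map_sub, sub_eq_zero] at e
    change rs S.X₃ h₃ p (rs S.X₃ inf_le_left p ξ') =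
      rs S.X₃ h₃ p ((rs S.X₂ inf_le_right p ω).comp (Ext.mk₀ S.g) (add_zero p)) at e
    rw [rs_rs, rs_comp] at e
    rw [rs_comp, e, Ext.comp_assoc_of_second_deg_zero, hS.comp_extClass, Ext.comp_zero]

include hsep in
theorem surj_inj (hK : IsCompact K) (p : ℕ) :
    ∀ F : CohTop.Ab X, Surj (K := K) F p ∧ Inj (K := K) F p := by
  induction p with
  | zero => exact fun F => ⟨surj_zero hsep hK F, inj_zero F⟩
  | succ p ih => exact fun F => step hsep hK p ih F


/-! ### the colimit -/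

variable (K) in
/-- the property of being a neighbourhood of `K`. -/
abbrev P : ObjectProperty (Opens X)ᵒᵖ := fun U => K ⊆ (U.unop : Set X)

instance : IsFiltered (P K).FullSubcategory where
  cocone_objs U V :=
    ⟨⟨op (U.obj.unop ⊓ V.obj.unop), fun x hx => ⟨U.property hx, V.property hx⟩⟩,
      ObjectProperty.homMk (homOfLE inf_le_left).op, ObjectProperty.homMk (homOfLE inf_le_right).op,
      trivial⟩
  cocone_maps U V f g := ⟨V, 𝟙 V, by
    apply ObjectProperty.hom_ext
    exact Subsingleton.elim _ _⟩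
  nonempty := ⟨⟨op ⊤, fun _ _ => trivial⟩⟩

variable (K) in
/-- the diagram of the `H^p(U, F)` for `U ⊇ K`. -/
abbrev D (F : CohTop.Ab X) (p : ℕ) : (P K).FullSubcategory ⥤ AddCommGrpCat.{u} :=
  ObjectProperty.ι (P K) ⋙ (Sheaf.cohomologyPresheafFunctor (Opens.grothendieckTopology X) p).obj F

lemma D_map (F : CohTop.Ab X) (p : ℕ) {j j' : (P K).FullSubcategory} (f : j ⟶ j')
    (x : Ext (free j.obj.unop) F p) :
    (D K F p).map f x = rs F f.hom.unop.le p x := rfl

/-- the comparison cocone. -/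
def cocone (F : CohTop.Ab X) (p : ℕ) : Cocone (D K F p) where
  pt := AddCommGrpCat.of (CohTop.H ((pl K).obj F) p)
  ι :=
    { app := fun j => AddCommGrpCat.ofHom (θ F j.property p)
      naturality := by
        intro j j' f
        apply AddCommGrpCat.hom_ext
        ext x
        exact θ_rs F j.property j'.property f.hom.unop.le p x }

include hsep in
theorem bijective_desc (hK : IsCompact K) (F : CohTop.Ab X) (p : ℕ) :
    Function.Bijective (colimit.desc (D K F p) (cocone F p)) := by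
  obtain ⟨hsurj, hinj⟩ := surj_inj hsep hK p F
  constructor
  · rw [injective_iff_map_eq_zero]
    intro x hx
    obtain ⟨j, y, rfl⟩ := Concrete.colimit_exists_rep (D K F p) x
    have h1 : θ F j.property p y = 0 := by
      have := ConcreteCategory.congr_hom (colimit.ι_desc (cocone F p) j) y
      rw [ConcreteCategory.comp_apply, hx] at this
      exact this.symm
    obtain ⟨U', hU', h, e⟩ := hinj _ j.property y h1
    let j' : (P K).FullSubcategory := ⟨op U', hU'⟩
    let f : j ⟶ j' := ObjectProperty.homMk (homOfLE h).op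
    have h2 := ConcreteCategory.congr_hom (colimit.w (D K F p) f) y
    rw [ConcreteCategory.comp_apply] at h2
    rw [← h2]
    have h3 : (D K F p).map f y = 0 := e
    rw [h3, map_zero]
  · intro y
    obtain ⟨U, hU, ξ, rfl⟩ := hsurj y
    let j : (P K).FullSubcategory := ⟨op U, hU⟩
    refine ⟨colimit.ι (D K F p) j ξ, ?_⟩
    exact ConcreteCategory.congr_hom (colimit.ι_desc (cocone F p) j) ξ

include hsep in
theorem main (hK : IsCompact K) (F : CohTop.Ab X) (p : ℕ) :
    Nonempty ((colimit (D K F p) : AddCommGrpCat.{u}) ≃+ CohTop.H ((pl K).obj F) p) :=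
  ⟨AddEquiv.ofBijective (colimit.desc (D K F p) (cocone F p)).hom (bijective_desc hsep hK F p)⟩

end Groth.Agent.Lib.Helper5.CompactColim
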