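import Mathlib
import Groth.Prelude.Def_CohTop
import Groth.Agent.Lib.Helper5.CompactColimB

/-!
# Cohomology of a subspace as a colimit over neighbourhoods: abstract form (helper5)
-/

set_option autoImplicit false
universe u
open CategoryTheory CategoryTheory.Limits Opposite TopologicalSpace Topology Abelian

noncomputable section
namespace Groth.Agent.Lib.Helper5.CompactColimGen

open Groth.Agent.Lib.Helper5 Groth.Agent.Lib.Helper5.SoftK Groth.Agent.Lib.Helper5.ClosedPsi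
  Groth.Agent.Lib.Helper5.EmbSheaf Groth.Agent.Lib.Helper5.TopLocal
  Groth.Agent.Lib.Helper5.CompactNbhd Groth.Agent.Lib.Helper5.CompactColim

variable {X : TopCat.{u}}

/-- the two inputs of the comparison: germs of sections and acyclicity of restrictions of flasque
sheaves. -/
structure Hyp (K : Set X) : Prop where
  surj0 : ∀ (F : CohTop.Ab X) (t : (G (K := K) F).obj.obj (op ⊤)),
    ∃ (U : Opens X) (s : F.obj.obj (op U)), K ⊆ (U : Set X) ∧
      indI (K := K) F U s = (G (K := K) F).obj.map (homOfLE (le_top : pre (K := K) U ≤ ⊤)).op t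
  acyc : ∀ (F : CohTop.Ab X), TopCat.Sheaf.IsFlasque F → ∀ (n : ℕ)
    (x : CohTop.H (G (K := K) F) (n + 1)), x = 0

variable {K : Set X}

lemma surj_zero (h : Hyp K) (F : CohTop.Ab X) : Surj (K := K) F 0 := by
  intro y
  obtain ⟨U, s, hU, e⟩ := h.surj0 F (Sheaf.H.equiv₀ ((pl K).obj F) isTerminalTop y)
  refine ⟨U, hU, Ext.mk₀ (CohFree.ofSect _ U F s), ?_⟩
  apply (Sheaf.H.equiv₀ ((pl K).obj F) isTerminalTop).injective
  rw [equiv₀_θ_mk₀, CohFree.evalGen_ofSect, germ_apply, e, map_map_le]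
  have : homOfLE (le_refl (⊤ : Opens (TopCat.of K))) = 𝟙 _ := Subsingleton.elim _ _
  rw [this, op_id, ((pl K).obj F).obj.map_id]
  rfl

lemma step (h : Hyp K) (p : ℕ)
    (ih : ∀ F : CohTop.Ab X, Surj (K := K) F p ∧ Inj (K := K) F p) (F : CohTop.Ab X) :
    Surj (K := K) F (p + 1) ∧ Inj (K := K) F (p + 1) := by
  let S := ShortComplex.mk _ _ (cokernel.condition (Injective.ι F))
  have hS : S.ShortExact :=
    { exact := ShortComplex.exact_of_g_is_cokernel _ (cokernelIsCokernel S.f) }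
  have hS' := hS.map_of_exact (pl K)
  constructor
  · intro y
    have h0 : (show Ext _ (S.map (pl K)).X₁ (p + 1) from y).comp
        (Ext.mk₀ (S.map (pl K)).f) (add_zero (p + 1)) = 0 :=
      h.acyc S.X₂ (Groth.Agent.Lib.Helper1.FlasqueAcyclic.isFlasque_of_injective _) p _
    obtain ⟨x₃, hx₃⟩ := Ext.covariant_sequence_exact₁ _ hS' _ h0 rfl
    obtain ⟨U, hU, ξ', hξ'⟩ := (ih S.X₃).1 x₃
    refine ⟨U, hU, ξ'.comp hS.extClass rfl, ?_⟩
    rw [θ_δ hS hU p ξ', hξ']
    exact hx₃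
  · intro U hU ξ hξ
    obtain ⟨ξ', rfl⟩ := Ext.covariant_sequence_exact₁ (free U) hS ξ (Ext.eq_zero_of_injective _) rfl
    rw [θ_δ hS hU p ξ'] at hξ
    obtain ⟨w, hw⟩ := Ext.covariant_sequence_exact₃ _ hS' (θ S.X₃ hU p ξ') rfl hξ
    obtain ⟨U₁, hU₁, ω, rfl⟩ := (ih S.X₂).1 w
    have hU₂ : K ⊆ ((U ⊓ U₁ : Opens X) : Set X) := fun x hx => ⟨hU hx, hU₁ hx⟩
    let a : Ext (free (U ⊓ U₁)) S.X₃ p := rs S.X₃ inf_le_left p ξ'
    let b : Ext (free (U ⊓ U₁)) S.X₃ p := (rs S.X₂ inf_le_right p ω).comp (Ext.mk₀ S.g) (add_zero p)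
    have hab : θ S.X₃ hU₂ p (a - b) = 0 := by
      rw [map_sub, sub_eq_zero]
      change θ S.X₃ hU₂ p (rs S.X₃ inf_le_left p ξ') =
        θ S.X₃ hU₂ p ((rs S.X₂ inf_le_right p ω).comp (Ext.mk₀ S.g) (add_zero p))
      rw [θ_rs S.X₃ hU hU₂, θ_nat S.g hU₂, θ_rs S.X₂ hU₁ hU₂]
      exact hw.symm
    obtain ⟨U₃, hU₃, h₃, e⟩ := (ih S.X₃).2 _ hU₂ _ hab
    refine ⟨U₃, hU₃, h₃.trans inf_le_left, ?_⟩
    rw [map_sub, sub_eq_zero] at e
    change rs S.X₃ h₃ p (rs S.X₃ inf_le_left p ξ') =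
      rs S.X₃ h₃ p ((rs S.X₂ inf_le_right p ω).comp (Ext.mk₀ S.g) (add_zero p)) at e
    rw [rs_rs, rs_comp] at e
    rw [rs_comp, e, Ext.comp_assoc_of_second_deg_zero, hS.comp_extClass, Ext.comp_zero]

theorem surj_inj (h : Hyp K) (p : ℕ) :
    ∀ F : CohTop.Ab X, Surj (K := K) F p ∧ Inj (K := K) F p := by
  induction p with
  | zero => exact fun F => ⟨surj_zero h F, inj_zero F⟩
  | succ p ih => exact fun F => step h p ih F

/-! ### the colimit over a cofinal system of neighbourhoods -/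

section Colim

variable (P : ObjectProperty (Opens X)ᵒᵖ)
  (hP₁ : ∀ U : (Opens X)ᵒᵖ, P U → K ⊆ (U.unop : Set X))
  (hP₂ : ∀ U : Opens X, K ⊆ (U : Set X) → ∃ U' : Opens X, P (op U') ∧ U' ≤ U)

/-- the diagram of the `H^p(U, F)` for `U` in the system. -/
abbrev D (F : CohTop.Ab X) (p : ℕ) : P.FullSubcategory ⥤ AddCommGrpCat.{u} :=
  ObjectProperty.ι P ⋙ (Sheaf.cohomologyPresheafFunctor (Opens.grothendieckTopology X) p).obj F

include hP₁ in
/-- the comparison cocone. -/
def cocone (F : CohTop.Ab X) (p : ℕ) : Cocone (D P F p) where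
  pt := AddCommGrpCat.of (CohTop.H ((pl K).obj F) p)
  ι :=
    { app := fun j => AddCommGrpCat.ofHom (θ F (hP₁ j.obj j.property) p)
      naturality := by
        intro j j' f
        apply AddCommGrpCat.hom_ext
        ext x
        exact θ_rs F (hP₁ j.obj j.property) (hP₁ j'.obj j'.property) f.hom.unop.le p x }

include hP₂ in
theorem bijective_desc [IsFiltered P.FullSubcategory] (h : Hyp K) (F : CohTop.Ab X) (p : ℕ) :
    Function.Bijective (colimit.desc (D P F p) (cocone P hP₁ F p)) := by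
  obtain ⟨hsurj, hinj⟩ := surj_inj h p F
  constructor
  · rw [injective_iff_map_eq_zero]
    intro x hx
    obtain ⟨j, y, rfl⟩ := Concrete.colimit_exists_rep (D P F p) x
    have h1 : θ F (hP₁ j.obj j.property) p y = 0 := by
      have := ConcreteCategory.congr_hom (colimit.ι_desc (cocone P hP₁ F p) j) y
      rw [ConcreteCategory.comp_apply, hx] at this
      exact this.symm
    obtain ⟨U', hU', h', e⟩ := hinj _ (hP₁ j.obj j.property) y h1
    obtain ⟨U'', hU''P, hU''⟩ := hP₂ U' hU'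
    let j' : P.FullSubcategory := ⟨op U'', hU''P⟩
    let f : j ⟶ j' := ObjectProperty.homMk (homOfLE (hU''.trans h')).op
    have h2 := ConcreteCategory.congr_hom (colimit.w (D P F p) f) y
    rw [ConcreteCategory.comp_apply] at h2
    rw [← h2]
    have h3 : (D P F p).map f y = 0 := by
      have e' : rs F (hU''.trans h') p y = 0 := by
        have := rs_rs F h' hU'' p y
        rw [e, map_zero] at this
        exact this.symm
      exact e'
    rw [h3, map_zero]
  · intro y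
    obtain ⟨U, hU, ξ, rfl⟩ := hsurj y
    obtain ⟨U'', hU''P, hU''⟩ := hP₂ U hU
    let j : P.FullSubcategory := ⟨op U'', hU''P⟩
    refine ⟨colimit.ι (D P F p) j (rs F hU'' p ξ), ?_⟩
    refine (ConcreteCategory.congr_hom (colimit.ι_desc (cocone P hP₁ F p) j) (rs F hU'' p ξ)).trans ?_
    exact θ_rs F hU (hP₁ j.obj j.property) hU'' p ξ

include hP₁ hP₂ in
theorem main [IsFiltered P.FullSubcategory] (h : Hyp K) (F : CohTop.Ab X) (p : ℕ) :
    Nonempty ((colimit (D P F p) : AddCommGrpCat.{u}) ≃+ CohTop.H ((pl K).obj F) p) :=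
  ⟨AddEquiv.ofBijective (colimit.desc (D P F p) (cocone P hP₁ F p)).hom
    (bijective_desc P hP₁ hP₂ h F p)⟩

end Colim

end Groth.Agent.Lib.Helper5.CompactColimGen
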