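import Mathlib

/-!
# Filtered intersections of quasi-compact opens in a spectral space (helper5)
-/

set_option autoImplicit false
universe u
open TopologicalSpace Topology

namespace Groth.Agent.Lib.Helper5.SpecInter

variable {X : Type u} [TopologicalSpace X]

/-- a nonempty down-directed family of quasi-compact opens. -/
structure ProQc (𝒰 : Set (Opens X)) : Prop where
  nonempty : 𝒰.Nonempty
  isCompact : ∀ U ∈ 𝒰, IsCompact (U : Set X)
  directed : ∀ U ∈ 𝒰, ∀ V ∈ 𝒰, ∃ W ∈ 𝒰, W ≤ U ⊓ V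

/-- the intersection of the family. -/
def inter (𝒰 : Set (Opens X)) : Set X := ⋂ U ∈ 𝒰, (U : Set X)

lemma mem_inter {𝒰 : Set (Opens X)} {x : X} : x ∈ inter 𝒰 ↔ ∀ U ∈ 𝒰, x ∈ U := by
  simp [inter]

/-- transport of a subset to the constructible topology. -/
def up (S : Set X) : Set (WithConstructibleTopology X) := WithTopology.ofTopology ⁻¹' S

lemma isClosed_up_of_isCompact_isOpen {U : Set X} (hU : IsOpen U) (hc : IsCompact U) :
    IsClosed (up U) := by
  rw [WithConstructibleTopology.isClosed_iff, ← @isOpen_compl_iff _ _ (constructibleTopology X)]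
  exact IsCompact.isOpen_constructibleTopology_of_isClosed (s := Uᶜ) (by rwa [compl_compl])
    hU.isClosed_compl

lemma isClosed_up_of_isClosed [PrespectralSpace X] {Z : Set X} (hZ : IsClosed Z) :
    IsClosed (up Z) := by
  rw [WithConstructibleTopology.isClosed_iff, ← @isOpen_compl_iff _ _ (constructibleTopology X)]
  change IsOpen[constructibleTopology X] Zᶜ
  obtain ⟨S, hS, e⟩ := (PrespectralSpace.isTopologicalBasis (X := X)).open_eq_sUnion hZ.isOpen_compl
  rw [e]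
  apply @isOpen_sUnion _ (constructibleTopology X)
  intro s hs
  exact (hS hs).2.isOpen_constructibleTopology_of_isOpen (hS hs).1

variable [SpectralSpace X] {𝒰 : Set (Opens X)}

/-- the key consequence of compactness of the constructible topology. -/
theorem shrink (h𝒰 : ProQc 𝒰) (O : Opens X) (hO : IsCompact (O : Set X)) (N : Opens X)
    (h : inter 𝒰 ∩ (O : Set X) ⊆ (N : Set X)) : ∃ U ∈ 𝒰, (U : Set X) ∩ (O : Set X) ⊆ (N : Set X) := by
  have : Nonempty 𝒰 := h𝒰.nonempty.to_subtype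
  let t : 𝒰 → Set (WithConstructibleTopology X) :=
    fun U => up ((U : Opens X) : Set X) ∩ up (O : Set X) ∩ up ((N : Set X)ᶜ)
  have htc : ∀ U, IsClosed (t U) := fun U =>
    ((isClosed_up_of_isCompact_isOpen U.1.isOpen (h𝒰.isCompact _ U.2)).inter
      (isClosed_up_of_isCompact_isOpen O.isOpen hO)).inter
      (isClosed_up_of_isClosed N.isOpen.isClosed_compl)
  have hst : (Set.univ ∩ ⋂ U, t U) = ∅ := by
    rw [Set.univ_inter, Set.eq_empty_iff_forall_notMem]
    intro x hx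
    rw [Set.mem_iInter] at hx
    have hxB : WithTopology.ofTopology x ∈ inter 𝒰 := by
      rw [mem_inter]
      intro U hU
      exact (hx ⟨U, hU⟩).1.1
    obtain ⟨U₀, hU₀⟩ := h𝒰.nonempty
    exact (hx ⟨U₀, hU₀⟩).2 (h ⟨hxB, (hx ⟨U₀, hU₀⟩).1.2⟩)
  have hdt : Directed (· ⊇ ·) t := by
    intro U V
    obtain ⟨W, hW, hWUV⟩ := h𝒰.directed _ U.2 _ V.2
    refine ⟨⟨W, hW⟩, ?_, ?_⟩
    · rintro x ⟨⟨hxW, hxO⟩, hxN⟩
      exact ⟨⟨(hWUV hxW).1, hxO⟩, hxN⟩
    · rintro x ⟨⟨hxW, hxO⟩, hxN⟩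
      exact ⟨⟨(hWUV hxW).2, hxO⟩, hxN⟩
  obtain ⟨U, hU⟩ := isCompact_univ.elim_directed_family_closed t htc hst hdt
  refine ⟨U.1, U.2, ?_⟩
  rintro x ⟨hxU, hxO⟩
  by_contra hxN
  have : WithTopology.toTopology _ x ∈ Set.univ ∩ t U := ⟨trivial, ⟨hxU, hxO⟩, hxN⟩
  rw [hU] at this
  exact this

/-- every open neighbourhood of the intersection contains a member of the family. -/
theorem exists_le_of_inter_subset (h𝒰 : ProQc 𝒰) (N : Opens X) (h : inter 𝒰 ⊆ (N : Set X)) :
    ∃ U ∈ 𝒰, U ≤ N := by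
  obtain ⟨U, hU, hUN⟩ := shrink h𝒰 ⊤ isCompact_univ N (fun x hx => h hx.1)
  exact ⟨U, hU, fun x hx => hUN ⟨hx, trivial⟩⟩

/-- the trace of the intersection on a quasi-compact open is quasi-compact. -/
theorem isCompact_inter (h𝒰 : ProQc 𝒰) (O : Opens X) (hO : IsCompact (O : Set X)) :
    IsCompact (inter 𝒰 ∩ (O : Set X)) := by
  rw [isCompact_iff_finite_subcover]
  intro ι V hV hcov
  let N : Opens X := ⟨⋃ i, V i, isOpen_iUnion hV⟩
  obtain ⟨U, hU, hUN⟩ := shrink h𝒰 O hO N hcov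
  have hc : IsCompact ((U : Set X) ∩ (O : Set X)) :=
    QuasiSeparatedSpace.inter_isCompact _ _ U.isOpen (h𝒰.isCompact U hU) O.isOpen hO
  obtain ⟨s, hs⟩ := hc.elim_finite_subcover V hV hUN
  refine ⟨s, fun x hx => hs ⟨?_, hx.2⟩⟩
  exact mem_inter.1 hx.1 U hU

end Groth.Agent.Lib.Helper5.SpecInter
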