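import Mathlib
import Groth.Prelude.Def_CohTop
import Groth.Agent.Lib.Helper5.SpecInter
import Groth.Agent.Lib.Helper5.CompactNbhd

/-!
# Sheaves on a filtered intersection of quasi-compact opens of a spectral space (helper5)
-/

set_option autoImplicit false
universe u
open CategoryTheory CategoryTheory.Limits Opposite TopologicalSpace Topology

noncomputable section
namespace Groth.Agent.Lib.Helper5.ProQcSheaf

open Groth.Agent.Lib.Helper5 Groth.Agent.Lib.Helper5.SoftK Groth.Agent.Lib.Helper5.ClosedPsi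
  Groth.Agent.Lib.Helper5.EmbSheaf Groth.Agent.Lib.Helper5.CompactNbhd
  Groth.Agent.Lib.Helper5.SpecInter Groth.Agent.Lib.Helper5.SoftAcyc

variable {X : TopCat.{u}} [SpectralSpace X] {𝒰 : Set (Opens X)} {K : Set X}

/-- a quasi-compact open neighbourhood inside an open neighbourhood. -/
lemma exists_qc_nhd (x : X) (N : Opens X) (hx : x ∈ N) :
    ∃ O : Opens X, IsCompact (O : Set X) ∧ x ∈ O ∧ O ≤ N := by
  obtain ⟨v, ⟨hvo, hvc⟩, hxv, hvN⟩ :=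
    (PrespectralSpace.isTopologicalBasis (X := X)).exists_subset_of_mem_open hx N.isOpen
  exact ⟨⟨v, hvo⟩, hvc, hxv, hvN⟩

lemma isCompact_inf {O₁ O₂ : Opens X} (h₁ : IsCompact (O₁ : Set X)) (h₂ : IsCompact (O₂ : Set X)) :
    IsCompact ((O₁ ⊓ O₂ : Opens X) : Set X) :=
  QuasiSeparatedSpace.inter_isCompact _ _ O₁.isOpen h₁ O₂.isOpen h₂

omit [SpectralSpace X] in
lemma isCompact_sup {O₁ O₂ : Opens X} (h₁ : IsCompact (O₁ : Set X)) (h₂ : IsCompact (O₂ : Set X)) :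
    IsCompact ((O₁ ⊔ O₂ : Opens X) : Set X) := h₁.union h₂

variable (F : CohTop.Ab X)

/-- sections of `F|K` over `K ∩ O`, `O` quasi-compact open, come from sections of `F` over `U ∩ O`
for some member `U` of the family. -/
theorem indI_surj_qc (h𝒰 : ProQc 𝒰) (hK : K = inter 𝒰) (O : Opens X) (hO : IsCompact (O : Set X))
    (t : (G (K := K) F).obj.obj (op (pre (K := K) O))) :
    ∃ (U : Opens X) (_ : U ∈ 𝒰) (s : F.obj.obj (op (U ⊓ O))),
      indI (K := K) F (U ⊓ O) s =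
        (G (K := K) F).obj.map (homOfLE (pre_mono (K := K) (inf_le_right : U ⊓ O ≤ O))).op t := by
  have hKU : ∀ U ∈ 𝒰, K ⊆ (U : Set X) := fun U hU x hx => mem_inter.1 (hK ▸ hx) U hU
  let Good : Opens X → Prop := fun O' => ∃ (hO' : O' ≤ O) (U : Opens X) (_ : U ∈ 𝒰)
    (s : F.obj.obj (op (U ⊓ O'))), indI (K := K) F (U ⊓ O') s =
      (G (K := K) F).obj.map
        (homOfLE (pre_mono (K := K) ((inf_le_right : U ⊓ O' ≤ O').trans hO'))).op t
  have hcomp : IsCompact (K ∩ (O : Set X)) := hK ▸ isCompact_inter h𝒰 O hO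
  have key : (fun T : Set X => ∃ O' : Opens X, IsCompact (O' : Set X) ∧ T ⊆ (O' : Set X) ∧ Good O')
      (K ∩ (O : Set X)) := by
    refine hcomp.induction_on ?_ ?_ ?_ ?_
    · obtain ⟨U₀, hU₀⟩ := h𝒰.nonempty
      refine ⟨⊥, isCompact_empty, Set.empty_subset _, bot_le, U₀, hU₀, 0, ?_⟩
      have hb : pre (K := K) (U₀ ⊓ ⊥) = ⊥ := by
        apply le_antisymm _ bot_le
        rintro x ⟨-, hx⟩
        exact hx
      have : Subsingleton ((G (K := K) F).obj.obj (op (pre (K := K) (U₀ ⊓ ⊥)))) := by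
        rw [hb]
        exact subsingleton_of_isTerminal (TopCat.Sheaf.isTerminalOfEmpty (G (K := K) F))
      exact Subsingleton.elim _ _
    · rintro T T' hTT' ⟨O', hO'c, hT', hG⟩
      exact ⟨O', hO'c, hTT'.trans hT', hG⟩
    · rintro T₁ T₂ ⟨O₁, hO₁c, hT₁, hO₁, U₁, hU₁, s₁, e₁⟩ ⟨O₂, hO₂c, hT₂, hO₂, U₂, hU₂, s₂, e₂⟩
      refine ⟨O₁ ⊔ O₂, isCompact_sup hO₁c hO₂c, Set.union_subset_union hT₁ hT₂, sup_le hO₁ hO₂, ?_⟩
      obtain ⟨U₃, hU₃, hU₃le⟩ := h𝒰.directed U₁ hU₁ U₂ hU₂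
      -- the difference on `U₃ ⊓ (O₁ ⊓ O₂)`
      have hl₁ : U₃ ⊓ (O₁ ⊓ O₂) ≤ U₁ ⊓ O₁ := fun x hx => ⟨(hU₃le hx.1).1, hx.2.1⟩
      have hl₂ : U₃ ⊓ (O₁ ⊓ O₂) ≤ U₂ ⊓ O₂ := fun x hx => ⟨(hU₃le hx.1).2, hx.2.2⟩
      let d : F.obj.obj (op (U₃ ⊓ (O₁ ⊓ O₂))) :=
        F.obj.map (homOfLE hl₁).op s₁ - F.obj.map (homOfLE hl₂).op s₂
      have hd : indI (K := K) F (U₃ ⊓ (O₁ ⊓ O₂)) d = 0 := by
        change indI (K := K) F _ (_ - _) = 0
        rw [map_sub, indI_res, indI_res, e₁, e₂, map_map_le, map_map_le, sub_self]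
      obtain ⟨N, hN, hKN, hdN⟩ := indI_inj_near F _ d hd
      have hsub : inter 𝒰 ∩ ((O₁ ⊓ O₂ : Opens X) : Set X) ⊆ (N : Set X) := by
        rintro x ⟨hxK, hxO⟩
        exact hKN ⟨hK ▸ hxK, mem_inter.1 hxK U₃ hU₃, hxO⟩
      obtain ⟨U₄, hU₄, hU₄N⟩ := shrink h𝒰 (O₁ ⊓ O₂) (isCompact_inf hO₁c hO₂c) N hsub
      obtain ⟨U₅, hU₅, hU₅le⟩ := h𝒰.directed U₃ hU₃ U₄ hU₄
      have hA : U₅ ⊓ O₁ ≤ U₁ ⊓ O₁ := fun x hx => ⟨(hU₃le (hU₅le hx.1).1).1, hx.2⟩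
      have hB : U₅ ⊓ O₂ ≤ U₂ ⊓ O₂ := fun x hx => ⟨(hU₃le (hU₅le hx.1).1).2, hx.2⟩
      let a : F.obj.obj (op (U₅ ⊓ O₁)) := F.obj.map (homOfLE hA).op s₁
      let b : F.obj.obj (op (U₅ ⊓ O₂)) := F.obj.map (homOfLE hB).op s₂
      have hAB : (U₅ ⊓ O₁) ⊓ (U₅ ⊓ O₂) ≤ N := fun x hx =>
        hU₄N ⟨(hU₅le hx.1.1).2, hx.1.2, hx.2.2⟩
      have compat : F.obj.map (homOfLE (inf_le_left : (U₅ ⊓ O₁) ⊓ (U₅ ⊓ O₂) ≤ U₅ ⊓ O₁)).op a =
          F.obj.map (homOfLE (inf_le_right : (U₅ ⊓ O₁) ⊓ (U₅ ⊓ O₂) ≤ U₅ ⊓ O₂)).op b := by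
        have h0 : F.obj.map (homOfLE hAB).op (F.obj.map (homOfLE hN).op d) = 0 := by
          rw [hdN, map_zero]
        rw [map_map_le] at h0
        change F.obj.map (homOfLE (hAB.trans hN)).op (_ - _) = 0 at h0
        rw [map_sub, map_map_le, map_map_le, sub_eq_zero] at h0
        change F.obj.map _ (F.obj.map _ s₁) = F.obj.map _ (F.obj.map _ s₂)
        rw [map_map_le, map_map_le]
        exact h0
      have hV₁ : U₅ ⊓ O₁ ≤ U₅ ⊓ (O₁ ⊔ O₂) := inf_le_inf_left _ le_sup_left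
      have hV₂ : U₅ ⊓ O₂ ≤ U₅ ⊓ (O₁ ⊔ O₂) := inf_le_inf_left _ le_sup_right
      have hcov : U₅ ⊓ (O₁ ⊔ O₂) ≤ (U₅ ⊓ O₁) ⊔ (U₅ ⊓ O₂) := by
        rintro x ⟨hx5, hx | hx⟩
        · exact Or.inl ⟨hx5, hx⟩
        · exact Or.inr ⟨hx5, hx⟩
      obtain ⟨s, hs₁, hs₂⟩ := glue₂ F hV₁ hV₂ hcov a b compat
      refine ⟨U₅, hU₅, s, ?_⟩
      refine TopCat.Sheaf.eq_of_locally_eq₂ (G (K := K) F)
        (homOfLE (pre_mono (K := K) hV₁)) (homOfLE (pre_mono (K := K) hV₂)) ?_ _ _ ?_ ?_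
      · rintro x ⟨hx5, hx | hx⟩
        · exact Or.inl ⟨hx5, hx⟩
        · exact Or.inr ⟨hx5, hx⟩
      · rw [← indI_res F hV₁, hs₁]
        change indI (K := K) F _ (F.obj.map _ s₁) = _
        rw [indI_res, e₁, map_map_le, map_map_le]
      · rw [← indI_res F hV₂, hs₂]
        change indI (K := K) F _ (F.obj.map _ s₂) = _
        rw [indI_res, e₂, map_map_le, map_map_le]
    · rintro x ⟨hxK, hxO⟩
      obtain ⟨W, hxW, hWO, s, e⟩ := eta_surj_near (inducing_iK K) F O (⟨x, hxK⟩ : K) hxO t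
      obtain ⟨O', hO'c, hxO', hO'W⟩ := exists_qc_nhd x W hxW
      obtain ⟨U₀, hU₀⟩ := h𝒰.nonempty
      refine ⟨(O' : Set X), mem_nhdsWithin_of_mem_nhds (O'.isOpen.mem_nhds hxO'), O', hO'c,
        subset_rfl, hO'W.trans hWO, U₀, hU₀,
        F.obj.map (homOfLE ((inf_le_right : U₀ ⊓ O' ≤ O').trans hO'W)).op s, ?_⟩
      have e' : indI (K := K) F W s = (G (K := K) F).obj.map (homOfLE (pre_mono (K := K) hWO)).op t := e
      rw [indI_res, e', map_map_le]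
  obtain ⟨O', hO'c, hKO', hO'O, U, hU, s, e⟩ := key
  have hsub : inter 𝒰 ∩ (O : Set X) ⊆ (O' : Set X) := fun x hx => hKO' ⟨hK ▸ hx.1, hx.2⟩
  obtain ⟨U₁, hU₁, hU₁O'⟩ := shrink h𝒰 O hO O' hsub
  obtain ⟨U₂, hU₂, hU₂le⟩ := h𝒰.directed U hU U₁ hU₁
  have hle : U₂ ⊓ O ≤ U ⊓ O' := fun x hx => ⟨(hU₂le hx.1).1, hU₁O' ⟨(hU₂le hx.1).2, hx.2⟩⟩
  refine ⟨U₂, hU₂, F.obj.map (homOfLE hle).op s, ?_⟩
  rw [indI_res, e, map_map_le]


/-- restriction maps from `K` to `K ∩ O`, `O` quasi-compact open, are surjective. -/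
def IsQcFlasque (P : CohTop.Ab (TopCat.of K)) : Prop :=
  ∀ O : Opens X, IsCompact (O : Set X) →
    Function.Surjective (P.obj.map (homOfLE (le_top : pre (K := K) O ≤ ⊤)).op)

omit [SpectralSpace X] in
lemma map_self {Y : TopCat.{u}} (P : CohTop.Ab Y) {V V' : Opens Y} (h : V' ≤ V) (h' : V ≤ V')
    (x : P.obj.obj (op V)) :
    P.obj.map (homOfLE h').op (P.obj.map (homOfLE h).op x) = x := by
  rw [map_map_le]
  have : homOfLE (h'.trans h) = 𝟙 _ := Subsingleton.elim _ _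
  rw [this, op_id, P.obj.map_id]
  rfl

/-- the restriction of a flasque sheaf is quasi-compactly flasque. -/
theorem isQcFlasque_pull [TopCat.Sheaf.IsFlasque F] (h𝒰 : ProQc 𝒰) (hK : K = inter 𝒰) :
    IsQcFlasque (K := K) (G (K := K) F) := by
  intro O hO t
  obtain ⟨U, hU, s, e⟩ := indI_surj_qc F h𝒰 hK O hO t
  have : Epi (F.obj.map (homOfLE (le_top : U ⊓ O ≤ ⊤)).op) := TopCat.Presheaf.IsFlasque.epi _
  obtain ⟨s', hs'⟩ := (AddCommGrpCat.epi_iff_surjective _).1 this s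
  obtain ⟨g, hg⟩ : ∃ g : (G (K := K) F).obj.obj (op ⊤), ∀ (O' : Opens X),
      (G (K := K) F).obj.map (homOfLE (le_top : pre (K := K) O' ≤ ⊤)).op g =
        indI (K := K) F O' (F.obj.map (homOfLE (le_top : O' ≤ ⊤)).op s') :=
    ⟨indI (K := K) F ⊤ s', fun O' => (indI_res F (le_top : O' ≤ ⊤) s').symm⟩
  refine ⟨g, ?_⟩
  have hKU : K ⊆ (U : Set X) := fun x hx => mem_inter.1 (hK ▸ hx) U hU
  have hle : pre (K := K) O ≤ pre (K := K) (U ⊓ O) := fun a ha => ⟨hKU a.2, ha⟩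
  have h1 : (G (K := K) F).obj.map (homOfLE (pre_mono (K := K) (inf_le_right : U ⊓ O ≤ O))).op
      ((G (K := K) F).obj.map (homOfLE (le_top : pre (K := K) O ≤ ⊤)).op g) =
      (G (K := K) F).obj.map (homOfLE (pre_mono (K := K) (inf_le_right : U ⊓ O ≤ O))).op t := by
    rw [← e, ← hs', map_map_le]
    exact hg (U ⊓ O)
  have h2 := congrArg ((G (K := K) F).obj.map (homOfLE hle).op) h1
  rw [map_self, map_self] at h2
  exact h2

/-- lifting sections of a quotient over `K ∩ O` when the kernel is quasi-compactly flasque. -/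
theorem lift_qc (h𝒰 : ProQc 𝒰) (hK : K = inter 𝒰) {S : ShortComplex (CohTop.Ab (TopCat.of K))}
    (hS : S.ShortExact) (hfl : IsQcFlasque (K := K) S.X₁) (O : Opens X) (hO : IsCompact (O : Set X))
    (s : S.X₃.obj.obj (op (pre (K := K) O))) :
    ∃ t : S.X₂.obj.obj (op (pre (K := K) O)), S.g.hom.app (op (pre (K := K) O)) t = s := by
  have := hS.epi_g
  have hcomp : IsCompact (K ∩ (O : Set X)) := hK ▸ isCompact_inter h𝒰 O hO
  have key : (fun T : Set X => ∃ (O' : Opens X) (hO' : O' ≤ O), IsCompact (O' : Set X) ∧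
      T ⊆ (O' : Set X) ∧ ∃ t : S.X₂.obj.obj (op (pre (K := K) O')),
        S.g.hom.app (op (pre (K := K) O')) t =
          S.X₃.obj.map (homOfLE (pre_mono (K := K) hO')).op s) (K ∩ (O : Set X)) := by
    refine hcomp.induction_on ?_ ?_ ?_ ?_
    · refine ⟨⊥, bot_le, isCompact_empty, Set.empty_subset _, 0, ?_⟩
      have hb : pre (K := K) (⊥ : Opens X) = ⊥ := rfl
      have : Subsingleton (S.X₃.obj.obj (op (pre (K := K) (⊥ : Opens X)))) := by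
        rw [hb]
        exact subsingleton_of_isTerminal (TopCat.Sheaf.isTerminalOfEmpty S.X₃)
      exact Subsingleton.elim _ _
    · rintro T T' hTT' ⟨O', hO', hO'c, hT', hG⟩
      exact ⟨O', hO', hO'c, hTT'.trans hT', hG⟩
    · rintro T₁ T₂ ⟨O₁, hO₁, hO₁c, hT₁, t₁, e₁⟩ ⟨O₂, hO₂, hO₂c, hT₂, t₂, e₂⟩
      refine ⟨O₁ ⊔ O₂, sup_le hO₁ hO₂, isCompact_sup hO₁c hO₂c, Set.union_subset_union hT₁ hT₂, ?_⟩
      have hl₁ : pre (K := K) (O₁ ⊓ O₂) ≤ pre (K := K) O₁ := pre_mono inf_le_left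
      have hl₂ : pre (K := K) (O₁ ⊓ O₂) ≤ pre (K := K) O₂ := pre_mono inf_le_right
      let d : S.X₂.obj.obj (op (pre (K := K) (O₁ ⊓ O₂))) :=
        S.X₂.obj.map (homOfLE hl₁).op t₁ - S.X₂.obj.map (homOfLE hl₂).op t₂
      have hd : S.g.hom.app (op (pre (K := K) (O₁ ⊓ O₂))) d = 0 := by
        change S.g.hom.app _ (_ - _) = 0
        rw [map_sub, nat_res, nat_res, e₁, e₂, map_map_le, map_map_le, sub_self]
      obtain ⟨d', hd'⟩ := sec_lift_kernel hS _ d hd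
      obtain ⟨r, hr⟩ := hfl (O₁ ⊓ O₂) (isCompact_inf hO₁c hO₂c) d'
      let a : S.X₂.obj.obj (op (pre (K := K) O₁)) := t₁
      let b : S.X₂.obj.obj (op (pre (K := K) O₂)) := t₂ +
        S.X₂.obj.map (homOfLE (le_top : pre (K := K) O₂ ≤ ⊤)).op (S.f.hom.app (op ⊤) r)
      have hAB : pre (K := K) O₁ ⊓ pre (K := K) O₂ ≤ pre (K := K) (O₁ ⊓ O₂) := fun x hx => hx
      have compat : S.X₂.obj.map (homOfLE (inf_le_left :
          pre (K := K) O₁ ⊓ pre (K := K) O₂ ≤ pre (K := K) O₁)).op a =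
          S.X₂.obj.map (homOfLE (inf_le_right :
            pre (K := K) O₁ ⊓ pre (K := K) O₂ ≤ pre (K := K) O₂)).op b := by
        have h1 : S.X₂.obj.map (homOfLE hAB).op d =
            S.X₂.obj.map (homOfLE (le_top : pre (K := K) O₁ ⊓ pre (K := K) O₂ ≤ ⊤)).op
              (S.f.hom.app (op ⊤) r) := by
          rw [← hd', ← nat_res, ← nat_res]
          congr 1
          rw [← hr, map_map_le]
        change S.X₂.obj.map (homOfLE hAB).op (_ - _) = _ at h1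
        rw [map_sub, map_map_le, map_map_le, sub_eq_iff_eq_add] at h1
        change S.X₂.obj.map _ t₁ = S.X₂.obj.map _ (_ + _)
        rw [map_add, map_map_le, h1, add_comm]
      have hV₁ : pre (K := K) O₁ ≤ pre (K := K) (O₁ ⊔ O₂) := pre_mono le_sup_left
      have hV₂ : pre (K := K) O₂ ≤ pre (K := K) (O₁ ⊔ O₂) := pre_mono le_sup_right
      have hcov : pre (K := K) (O₁ ⊔ O₂) ≤ pre (K := K) O₁ ⊔ pre (K := K) O₂ := fun x hx => hx
      obtain ⟨t, ht₁, ht₂⟩ := glue₂ S.X₂ hV₁ hV₂ hcov a b compat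
      refine ⟨t, ?_⟩
      refine TopCat.Sheaf.eq_of_locally_eq₂ S.X₃ (homOfLE hV₁) (homOfLE hV₂) hcov _ _ ?_ ?_
      · change S.X₃.obj.map (homOfLE _).op (S.g.hom.app _ t) =
          S.X₃.obj.map (homOfLE _).op (S.X₃.obj.map (homOfLE _).op s)
        rw [← nat_res, ht₁, map_map_le]
        exact e₁
      · change S.X₃.obj.map (homOfLE _).op (S.g.hom.app _ t) =
          S.X₃.obj.map (homOfLE _).op (S.X₃.obj.map (homOfLE _).op s)
        rw [← nat_res, ht₂, map_map_le]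
        change S.g.hom.app _ (t₂ + S.X₂.obj.map _ _) = _
        rw [map_add, nat_res, e₂, sec_zero, map_zero, add_zero]
    · rintro x ⟨hxK, hxO⟩
      obtain ⟨N, hxN, hN, a, ha⟩ := sec_local_lift S.g (pre (K := K) O) s (⟨x, hxK⟩ : K) hxO
      obtain ⟨N', rfl⟩ := exists_pre_eq N
      obtain ⟨O', hO'c, hxO', hO'N⟩ := exists_qc_nhd x (N' ⊓ O) ⟨hxN, hxO⟩
      have hO'O : O' ≤ O := hO'N.trans inf_le_right
      have hle : pre (K := K) O' ≤ pre (K := K) N' := pre_mono (hO'N.trans inf_le_left)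
      refine ⟨(O' : Set X), mem_nhdsWithin_of_mem_nhds (O'.isOpen.mem_nhds hxO'), O', hO'O, hO'c,
        subset_rfl, S.X₂.obj.map (homOfLE hle).op a, ?_⟩
      rw [nat_res, ha, map_map_le]
  obtain ⟨O', hO', hO'c, hKO', t, e⟩ := key
  have hle : pre (K := K) O ≤ pre (K := K) O' := fun a ha => hKO' ⟨a.2, ha⟩
  refine ⟨S.X₂.obj.map (homOfLE hle).op t, ?_⟩
  rw [nat_res, e, map_self]


theorem isQcFlasque_of_shortExact (h𝒰 : ProQc 𝒰) (hK : K = inter 𝒰)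
    {S : ShortComplex (CohTop.Ab (TopCat.of K))} (hS : S.ShortExact)
    (h₁ : IsQcFlasque (K := K) S.X₁) (h₂ : IsQcFlasque (K := K) S.X₂) :
    IsQcFlasque (K := K) S.X₃ := by
  intro O hO s
  obtain ⟨t, ht⟩ := lift_qc h𝒰 hK hS h₁ O hO s
  obtain ⟨t', ht'⟩ := h₂ O hO t
  exact ⟨S.g.hom.app (op ⊤) t', by rw [← nat_res, ht', ht]⟩

omit [SpectralSpace X] in
theorem isQcFlasque_of_isFlasque (P : CohTop.Ab (TopCat.of K)) [TopCat.Sheaf.IsFlasque P] :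
    IsQcFlasque (K := K) P := by
  intro O _
  have : Epi (P.obj.map (homOfLE (le_top : pre (K := K) O ≤ ⊤)).op) :=
    TopCat.Presheaf.IsFlasque.epi _
  exact (AddCommGrpCat.epi_iff_surjective _).1 this

theorem surjective_top (h𝒰 : ProQc 𝒰) (hK : K = inter 𝒰)
    {S : ShortComplex (CohTop.Ab (TopCat.of K))} (hS : S.ShortExact)
    (h₁ : IsQcFlasque (K := K) S.X₁) :
    Function.Surjective (S.g.hom.app (op (⊤ : Opens (TopCat.of K)))) := by
  intro s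
  have htop : pre (K := K) (⊤ : Opens X) = ⊤ := rfl
  obtain ⟨t, ht⟩ := lift_qc h𝒰 hK hS h₁ ⊤ isCompact_univ s
  exact ⟨t, ht⟩

/-- quasi-compactly flasque sheaves are acyclic. -/
theorem qcFlasque_H_eq_zero (h𝒰 : ProQc 𝒰) (hK : K = inter 𝒰) (n : ℕ)
    (P : CohTop.Ab (TopCat.of K)) (hP : IsQcFlasque (K := K) P) (x : CohTop.H P (n + 1)) : x = 0 := by
  refine Groth.Agent.Lib.Helper1.FlasqueAcyclic.ext_eq_zero_of_class _
    (fun P : CohTop.Ab (TopCat.of K) ↦ IsQcFlasque (K := K) P) ?_ ?_ ?_ n P hP x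
  · intro I hI
    have := Groth.Agent.Lib.Helper1.FlasqueAcyclic.isFlasque_of_injective I
    exact isQcFlasque_of_isFlasque I
  · intro S hS h1 h2
    exact isQcFlasque_of_shortExact h𝒰 hK hS h1 h2
  · intro S hS h1 φ
    have hT : IsTerminal (⊤ : Opens (TopCat.of K)) := isTerminalTop
    obtain ⟨t, ht⟩ := surjective_top h𝒰 hK hS h1 (Sheaf.H.equiv₀ S.X₃ hT (Abelian.Ext.mk₀ φ))
    obtain ⟨ψ, hψ⟩ := (Abelian.Ext.mk₀_bijective _ S.X₂).surjective ((Sheaf.H.equiv₀ S.X₂ hT).symm t)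
    refine ⟨ψ, ?_⟩
    apply (Abelian.Ext.mk₀_bijective _ _).injective
    apply (Sheaf.H.equiv₀ S.X₃ hT).injective
    rw [← ht, ← Abelian.Ext.mk₀_comp_mk₀, hψ]
    have := Sheaf.H.equiv₀_naturality hT S.g ((Sheaf.H.equiv₀ S.X₂ hT).symm t)
    rw [AddEquiv.apply_symm_apply] at this
    rw [this, Sheaf.H.map_apply]

/-- the restriction of a flasque sheaf is acyclic. -/
theorem pull_flasque_H_eq_zero [TopCat.Sheaf.IsFlasque F] (h𝒰 : ProQc 𝒰) (hK : K = inter 𝒰) (n : ℕ)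
    (x : CohTop.H (G (K := K) F) (n + 1)) : x = 0 :=
  qcFlasque_H_eq_zero h𝒰 hK n _ (isQcFlasque_pull F h𝒰 hK) x

/-- global form of `indI_surj_qc`. -/
theorem indI_surj (h𝒰 : ProQc 𝒰) (hK : K = inter 𝒰) (t : (G (K := K) F).obj.obj (op ⊤)) :
    ∃ (U : Opens X) (s : F.obj.obj (op U)), K ⊆ (U : Set X) ∧
      indI (K := K) F U s = (G (K := K) F).obj.map (homOfLE (le_top : pre (K := K) U ≤ ⊤)).op t := by
  obtain ⟨U, hU, s, e⟩ := indI_surj_qc F h𝒰 hK ⊤ isCompact_univ t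
  have hKU : K ⊆ (U : Set X) := fun x hx => mem_inter.1 (hK ▸ hx) U hU
  have hle : U ≤ U ⊓ ⊤ := le_inf le_rfl le_top
  refine ⟨U, F.obj.map (homOfLE hle).op s, hKU, ?_⟩
  rw [indI_res, e]
  exact map_map_le (G (K := K) F) (pre_mono (K := K) hle) le_top t

end Groth.Agent.Lib.Helper5.ProQcSheaf
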