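import Mathlib
import Groth.Prelude.Def_CohTop
import Groth.Agent.Lib.Helper5.CompactColimGen
import Groth.Agent.Lib.Helper5.ProQcSheaf

/-!
# Cohomology of the set of generalizations of a quasi-compact subset of a spectral space (helper5)
-/

set_option autoImplicit false
universe u
open CategoryTheory CategoryTheory.Limits Opposite TopologicalSpace Topology Abelian

noncomputable section
namespace Groth.Agent.Lib.Helper5.SpecGen

open Groth.Agent.Lib.Helper5 Groth.Agent.Lib.Helper5.SoftK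
  Groth.Agent.Lib.Helper5.CompactColim Groth.Agent.Lib.Helper5.CompactColimGen
  Groth.Agent.Lib.Helper5.SpecInter Groth.Agent.Lib.Helper5.ProQcSheaf

variable {X : TopCat.{u}} [SpectralSpace X]

/-- the inputs of the comparison for a filtered intersection of quasi-compact opens. -/
theorem hyp_of_proQc {𝒰 : Set (Opens X)} {K : Set X} (h𝒰 : ProQc 𝒰) (hK : K = inter 𝒰) :
    Hyp K where
  surj0 F t := ProQcSheaf.indI_surj F h𝒰 hK t
  acyc F hF n x := by
    have := hF
    exact ProQcSheaf.pull_flasque_H_eq_zero F h𝒰 hK n x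

/-- a quasi-compact open between a quasi-compact set and an open neighbourhood. -/
lemma exists_qc_between {E : Set X} (hE : IsCompact E) (N : Opens X) (hEN : E ⊆ (N : Set X)) :
    ∃ U : Opens X, IsCompact (U : Set X) ∧ E ⊆ (U : Set X) ∧ U ≤ N := by
  refine hE.induction_on (p := fun S => ∃ U : Opens X, IsCompact (U : Set X) ∧ S ⊆ (U : Set X) ∧ U ≤ N)
    ⟨⊥, isCompact_empty, Set.empty_subset _, bot_le⟩ ?_ ?_ ?_
  · rintro S T hST ⟨U, hc, hT, hU⟩
    exact ⟨U, hc, hST.trans hT, hU⟩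
  · rintro S T ⟨U₁, hc₁, hS, hU₁⟩ ⟨U₂, hc₂, hT, hU₂⟩
    exact ⟨U₁ ⊔ U₂, hc₁.union hc₂, Set.union_subset_union hS hT, sup_le hU₁ hU₂⟩
  · intro x hx
    obtain ⟨O, hOc, hxO, hON⟩ := exists_qc_nhd x N (hEN hx)
    exact ⟨O, mem_nhdsWithin_of_mem_nhds (O.isOpen.mem_nhds hxO), O, hOc, subset_rfl, hON⟩

variable (E : Set X)

/-- the set of generalizations of points of `E`. -/
abbrev Kgen : Set X := {x : X | ∃ e ∈ E, e ∈ closure {x}}

/-- the quasi-compact open neighbourhoods of `E`. -/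
def Uqc : Set (Opens X) := {U | E ⊆ (U : Set X) ∧ IsCompact (U : Set X)}

lemma proQc_Uqc : ProQc (Uqc E) where
  nonempty := ⟨⊤, fun _ _ => trivial, isCompact_univ⟩
  isCompact U hU := hU.2
  directed U hU V hV := ⟨U ⊓ V, ⟨fun x hx => ⟨hU.1 hx, hV.1 hx⟩, isCompact_inf hU.2 hV.2⟩, le_rfl⟩

lemma Kgen_subset {U : Opens X} (hU : E ⊆ (U : Set X)) : Kgen E ⊆ (U : Set X) := by
  rintro x ⟨e, heE, he⟩
  obtain ⟨y, hyU, hy⟩ := mem_closure_iff.1 he U U.isOpen (hU heE)
  rw [Set.mem_singleton_iff] at hy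
  rw [← hy]
  exact hyU

lemma Kgen_eq (hE : IsCompact E) : Kgen E = inter (Uqc E) := by
  apply Set.Subset.antisymm
  · intro x hx
    rw [mem_inter]
    intro U hU
    exact Kgen_subset E hU.1 hx
  · intro x hx
    by_contra hxK
    have hEN : E ⊆ (closure {x})ᶜ := by
      intro e heE he
      exact hxK ⟨e, heE, he⟩
    obtain ⟨U, hUc, hEU, hUN⟩ := exists_qc_between hE ⟨(closure {x})ᶜ, isClosed_closure.isOpen_compl⟩ hEN
    have hxU : x ∈ U := mem_inter.1 hx U ⟨hEU, hUc⟩
    exact hUN hxU (subset_closure (Set.mem_singleton x))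

/-- the index property of the colimit. -/
abbrev PE : ObjectProperty (Opens X)ᵒᵖ :=
  fun U : (Opens X)ᵒᵖ => E ⊆ (U.unop : Set X) ∧ IsCompact (U.unop : Set X)

instance : IsFiltered (PE E).FullSubcategory where
  cocone_objs U V :=
    ⟨⟨op (U.obj.unop ⊓ V.obj.unop), fun x hx => ⟨U.property.1 hx, V.property.1 hx⟩,
        isCompact_inf U.property.2 V.property.2⟩,
      ObjectProperty.homMk (homOfLE inf_le_left).op, ObjectProperty.homMk (homOfLE inf_le_right).op,
      trivial⟩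
  cocone_maps U V f g := ⟨V, 𝟙 V, by
    apply ObjectProperty.hom_ext
    exact Subsingleton.elim _ _⟩
  nonempty := ⟨⟨op ⊤, fun _ _ => trivial, isCompact_univ⟩⟩

theorem main (hE : IsCompact E) (F : CohTop.Ab X) (p : ℕ) :
    Nonempty ((colimit (CompactColimGen.D (PE E) F p) : AddCommGrpCat.{u}) ≃+
      CohTop.H ((pl (Kgen E)).obj F) p) := by
  refine CompactColimGen.main (K := Kgen E) (PE E) (fun U hU => Kgen_subset E hU.1) ?_
    (hyp_of_proQc (proQc_Uqc E) (Kgen_eq E hE)) F p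
  intro U hU
  obtain ⟨U', hU', hle⟩ := exists_le_of_inter_subset (proQc_Uqc E) U (Kgen_eq E hE ▸ hU)
  exact ⟨U', hU', hle⟩

end Groth.Agent.Lib.Helper5.SpecGen
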