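import Mathlib
import Groth.Prelude.Def_CohTop
import Groth.Agent.Lib.Helper5.SpecGen

/-!
# Vanishing of cohomology from surjectivity of restriction maps on quasi-compact opens (helper5)
-/

set_option autoImplicit false
universe u
open CategoryTheory CategoryTheory.Limits Opposite TopologicalSpace Topology Abelian

noncomputable section
namespace Groth.Agent.Lib.Helper5.SpecShift

open Groth.Agent.Lib.Helper5 Groth.Agent.Lib.Helper5.SoftK Groth.Agent.Lib.Helper5.ClosedPsi
  Groth.Agent.Lib.Helper5.EmbSheaf Groth.Agent.Lib.Helper5.TopLocal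
  Groth.Agent.Lib.Helper5.CompactNbhd Groth.Agent.Lib.Helper5.CompactColim
  Groth.Agent.Lib.Helper5.CompactColimGen Groth.Agent.Lib.Helper5.SpecInter
  Groth.Agent.Lib.Helper5.ProQcSheaf Groth.Agent.Lib.Helper5.SpecGen

variable {X : TopCat.{u}} [SpectralSpace X]

/-- the restriction of a sheaf with surjective restrictions to quasi-compact opens is
quasi-compactly flasque. -/
theorem isQcFlasque_pull' (F : CohTop.Ab X)
    (hF : ∀ O : Opens X, IsCompact (O : Set X) →
      Function.Surjective (F.obj.map (homOfLE (le_top : O ≤ ⊤)).op))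
    {𝒰 : Set (Opens X)} {K : Set X} (h𝒰 : ProQc 𝒰) (hK : K = inter 𝒰) :
    IsQcFlasque (K := K) (G (K := K) F) := by
  intro O hO t
  obtain ⟨U, hU, s, e⟩ := indI_surj_qc F h𝒰 hK O hO t
  obtain ⟨s', hs'⟩ := hF (U ⊓ O) (isCompact_inf (h𝒰.isCompact U hU) hO) s
  obtain ⟨g, hg⟩ : ∃ g : (G (K := K) F).obj.obj (op ⊤), ∀ (O' : Opens X),
      (G (K := K) F).obj.map (homOfLE (le_top : pre (K := K) O' ≤ ⊤)).op g =
        indI (K := K) F O' (F.obj.map (homOfLE (le_top : O' ≤ ⊤)).op s') :=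
    ⟨indI (K := K) F ⊤ s', fun O' => (indI_res F (le_top : O' ≤ ⊤) s').symm⟩
  refine ⟨g, ?_⟩
  have hKU : K ⊆ (U : Set X) := fun x hx => mem_inter.1 (hK ▸ hx) U hU
  have hle : pre (K := K) O ≤ pre (K := K) (U ⊓ O) := fun a ha => ⟨hKU a.2, ha⟩
  have h1 : (G (K := K) F).obj.map (homOfLE (pre_mono (K := K) (inf_le_right : U ⊓ O ≤ O))).op
      ((G (K := K) F).obj.map (homOfLE (le_top : pre (K := K) O ≤ ⊤)).op g) =
      (G (K := K) F).obj.map (homOfLE (pre_mono (K := K) (inf_le_right : U ⊓ O ≤ O))).op t := by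
    rw [← e, ← hs', map_map_le]
    exact hg (U ⊓ O)
  have h2 := congrArg ((G (K := K) F).obj.map (homOfLE hle).op) h1
  rw [map_self, map_self] at h2
  exact h2

/-- acyclicity of sheaves with surjective restrictions to quasi-compact opens. -/
theorem base (F : CohTop.Ab X)
    (hF : ∀ O : Opens X, IsCompact (O : Set X) →
      Function.Surjective (F.obj.map (homOfLE (le_top : O ≤ ⊤)).op))
    (p : ℕ) (x : Ext (free (⊤ : Opens X)) F (p + 1)) : x = 0 := by
  let 𝒰 : Set (Opens X) := {⊤}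
  have h𝒰 : ProQc 𝒰 :=
    { nonempty := ⟨⊤, rfl⟩
      isCompact := by rintro U rfl; exact isCompact_univ
      directed := by rintro U rfl V rfl; exact ⟨⊤, rfl, le_inf le_rfl le_rfl⟩ }
  have hKtop : inter 𝒰 ⊆ ((⊤ : Opens X) : Set X) := fun _ _ => trivial
  have hyp := hyp_of_proQc h𝒰 (rfl : inter 𝒰 = inter 𝒰)
  have h0 : θ F hKtop (p + 1) x = 0 :=
    qcFlasque_H_eq_zero h𝒰 rfl p _ (isQcFlasque_pull' F hF h𝒰 rfl) _
  obtain ⟨U', hU', hle, e⟩ := (surj_inj hyp (p + 1) F).2 ⊤ hKtop x h0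
  have hU'top : U' = ⊤ := by
    apply top_le_iff.1
    intro y _
    apply hU'
    rw [mem_inter]
    rintro U rfl
    trivial
  subst hU'top
  rw [rs_apply] at e
  have h1 : res (le_refl (⊤ : Opens X)) = 𝟙 (free ⊤) :=
    CohFree.freeSheafMap_id (Opens.grothendieckTopology X) ⊤
  have h2 : res hle = 𝟙 (free ⊤) := h1
  rw [h2, Ext.mk₀_id_comp] at e
  exact e

/-- surjectivity of the restriction maps between quasi-compact opens in degree `d`. -/
def ResSurj (F : CohTop.Ab X) (d : ℕ) : Prop :=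
  ∀ (U U' : Opens X) (h : U' ≤ U), IsCompact (U : Set X) → IsCompact (U' : Set X) →
    Function.Surjective (rs F h d)

omit [SpectralSpace X] in
lemma rs_mk₀ (F : CohTop.Ab X) {U U' : Opens X} (h : U' ≤ U) (φ : free U ⟶ F) :
    rs F h 0 (Ext.mk₀ φ) = Ext.mk₀ (res h ≫ φ) := by
  rw [rs_apply, Ext.mk₀_comp_mk₀]

omit [SpectralSpace X] in
lemma sections_surj_of_rs (F : CohTop.Ab X) {U U' : Opens X} (h : U' ≤ U)
    (hs : Function.Surjective (rs F h 0)) :
    Function.Surjective (F.obj.map (homOfLE h).op) := by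
  intro t'
  obtain ⟨ξ, hξ⟩ := hs (Ext.mk₀ (CohFree.ofSect _ U' F t'))
  obtain ⟨φ, rfl⟩ := (Ext.mk₀_bijective _ _).2 ξ
  rw [rs_mk₀] at hξ
  have h1 := (Ext.mk₀_bijective _ _).1 hξ
  have h2 := congrArg (CohFree.evalGen _ U' F) h1
  rw [CohFree.evalGen_ofSect] at h2
  refine ⟨CohFree.evalGen _ U F φ, ?_⟩
  rw [← h2]
  exact (CohFree.evalGen_freeSheafMap_comp _ (homOfLE h) F φ).symm

omit [SpectralSpace X] in
lemma rs_surj_of_injective (I : CohTop.Ab X) [Injective I] {U U' : Opens X} (h : U' ≤ U) (d : ℕ) :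
    Function.Surjective (rs I h d) := by
  intro ι'
  rcases d with _ | d
  · obtain ⟨φ', rfl⟩ := (Ext.mk₀_bijective _ _).2 ι'
    have := Groth.Agent.Lib.Helper1.FlasqueAcyclic.isFlasque_of_injective I
    have hepi : Epi (I.obj.map (homOfLE h).op) := TopCat.Presheaf.IsFlasque.epi _
    obtain ⟨t, ht⟩ := (AddCommGrpCat.epi_iff_surjective _).1 hepi (CohFree.evalGen _ U' I φ')
    refine ⟨Ext.mk₀ (CohFree.ofSect _ U I t), ?_⟩
    rw [rs_mk₀]
    congr 1
    apply CxLocal.hom_ext_evalGen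
    have := CohFree.evalGen_freeSheafMap_comp (Opens.grothendieckTopology X) (homOfLE h) I
      (CohFree.ofSect _ U I t)
    refine this.trans ?_
    rw [CohFree.evalGen_ofSect]
    exact ht
  · exact ⟨0, by rw [map_zero]; exact (Ext.eq_zero_of_injective _).symm⟩

theorem shift (d : ℕ) : ∀ F : CohTop.Ab X, ResSurj F d → ∀ q : ℕ, d < q →
    ∀ x : Ext (free (⊤ : Opens X)) F q, x = 0 := by
  induction d with
  | zero =>
    intro F hF q hq x
    obtain ⟨p, rfl⟩ : ∃ p, q = p + 1 := ⟨q - 1, by omega⟩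
    exact base F (fun O hO => sections_surj_of_rs F le_top (hF ⊤ O le_top isCompact_univ hO)) p x
  | succ d ih =>
    intro F hF q hq x
    let S := ShortComplex.mk _ _ (cokernel.condition (Injective.ι F))
    have hS : S.ShortExact :=
      { exact := ShortComplex.exact_of_g_is_cokernel _ (cokernelIsCokernel S.f) }
    have hQ : ResSurj S.X₃ d := by
      intro U U' h hU hU' η'
      obtain ⟨ζ, hζ⟩ := hF U U' h hU hU' (η'.comp hS.extClass rfl)
      obtain ⟨η, hη⟩ := Ext.covariant_sequence_exact₁ (free U) hS ζ (Ext.eq_zero_of_injective _) rfl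
      have h0 : (rs S.X₃ h d η - η').comp hS.extClass rfl = 0 := by
        rw [sub_eq_add_neg, Ext.add_comp, Ext.neg_comp, ← sub_eq_add_neg, ← rs_comp, hη, sub_eq_zero]
        exact hζ
      obtain ⟨ι', hι'⟩ := Ext.covariant_sequence_exact₃ (free U') hS _ rfl h0
      obtain ⟨ι, hι⟩ := rs_surj_of_injective S.X₂ h d ι'
      refine ⟨η - ι.comp (Ext.mk₀ S.g) (add_zero d), ?_⟩
      rw [map_sub, rs_comp, hι, hι', sub_sub_cancel]
    obtain ⟨q', rfl⟩ : ∃ q', q = q' + 1 := ⟨q - 1, by omega⟩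
    obtain ⟨x', rfl⟩ := Ext.covariant_sequence_exact₁ (free (⊤ : Opens X)) hS x
      (Ext.eq_zero_of_injective _) rfl
    rw [ih S.X₃ hQ q' (by omega) x', Ext.zero_comp]

end Groth.Agent.Lib.Helper5.SpecShift
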