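import Mathlib
import Groth.Agent.Lib.Helper5.SpecInter

/-!
# Filtered intersections of quasi-compact opens of a spectral space are spectral (helper5)
and a dimension drop lemma.
-/

set_option autoImplicit false
universe u
open TopologicalSpace Topology

namespace Groth.Agent.Lib.Helper5.SpecSub

open Groth.Agent.Lib.Helper5.SpecInter

section Dim

variable {X : Type u} [TopologicalSpace X]

/-- if every point of `K` specializes to a point of `Z` whose closure misses `K`, then the
dimension of `K` is smaller than that of `X`. -/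
theorem dim_lt (K Z : Set X) (hgen : ∀ x ∈ K, ∃ z ∈ Z, z ∈ closure {x})
    (hdisj : ∀ z ∈ Z, Disjoint (closure {z}) K) (n : ℕ)
    (hX : topologicalKrullDim X < ((n + 1 : ℕ) : WithBot ℕ∞)) :
    topologicalKrullDim K < (n : WithBot ℕ∞) := by
  unfold topologicalKrullDim at hX ⊢
  rw [Order.krullDim_lt_coe_iff] at hX ⊢
  intro l
  have hind : IsInducing (Subtype.val : K → X) := IsInducing.subtypeVal
  let l' : LTSeries (IrreducibleCloseds X) :=
    l.map (IrreducibleCloseds.map Subtype.val hind.continuous)
      (IrreducibleCloseds.map_strictMono_of_isInducing hind)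
  obtain ⟨x, hx⟩ := l.head.isIrreducible.nonempty
  obtain ⟨z, hzZ, hz⟩ := hgen x.1 x.2
  let T' : IrreducibleCloseds X := ⟨closure {z}, isIrreducible_singleton.closure, isClosed_closure⟩
  have hxmem : x.1 ∈ (l'.head : Set X) := by
    change x.1 ∈ closure (Subtype.val '' (l.head : Set K))
    exact subset_closure ⟨x, hx, rfl⟩
  have hlt : T' < l'.head := by
    rw [SetLike.lt_iff_le_and_exists]
    refine ⟨?_, x.1, hxmem, ?_⟩
    · change closure {z} ⊆ (l'.head : Set X)
      apply closure_minimal _ l'.head.isClosed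
      rw [Set.singleton_subset_iff]
      have h1 : closure {x.1} ⊆ (l'.head : Set X) :=
        closure_minimal (Set.singleton_subset_iff.2 hxmem) l'.head.isClosed
      exact h1 hz
    · intro hxT
      exact Set.disjoint_left.1 (hdisj z hzZ) hxT x.2
  have := hX (l'.cons T' hlt)
  rw [RelSeries.cons_length] at this
  change l.length + 1 < n + 1 at this
  omega

/-- a space of negative dimension is empty. -/
theorem isEmpty_of_dim_lt_zero (hX : topologicalKrullDim X < ((0 : ℕ) : WithBot ℕ∞)) : IsEmpty X := by
  unfold topologicalKrullDim at hX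
  rw [Order.krullDim_lt_coe_iff] at hX
  constructor
  intro x
  let T : IrreducibleCloseds X := ⟨closure {x}, isIrreducible_singleton.closure, isClosed_closure⟩
  have := hX (RelSeries.singleton _ T)
  omega

end Dim

variable {X : Type u} [TopologicalSpace X] [SpectralSpace X] {𝒰 : Set (Opens X)}

theorem isCompact_inter_top (h𝒰 : ProQc 𝒰) : IsCompact (inter 𝒰) := by
  have := isCompact_inter h𝒰 ⊤ isCompact_univ
  rwa [Opens.coe_top, Set.inter_univ] at this

theorem isSpectralMap_val (h𝒰 : ProQc 𝒰) : IsSpectralMap (Subtype.val : inter 𝒰 → X) where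
  toContinuous := continuous_subtype_val
  isCompact_preimage_of_isOpen := by
    intro s hs hc
    rw [IsInducing.subtypeVal.isCompact_iff, Subtype.image_preimage_coe]
    exact isCompact_inter h𝒰 ⟨s, hs⟩ hc

theorem compactSpace (h𝒰 : ProQc 𝒰) : CompactSpace (inter 𝒰) :=
  isCompact_iff_compactSpace.1 (isCompact_inter_top h𝒰)

theorem prespectralSpace (h𝒰 : ProQc 𝒰) : PrespectralSpace (inter 𝒰) :=
  PrespectralSpace.of_isInducing _ IsInducing.subtypeVal (isSpectralMap_val h𝒰)

theorem quasiSeparatedSpace (h𝒰 : ProQc 𝒰) : QuasiSeparatedSpace (inter 𝒰) := by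
  let b : {U : Set X // IsOpen U ∧ IsCompact U} → Set (inter 𝒰) := fun U => Subtype.val ⁻¹' U.1
  have hb : IsTopologicalBasis (Set.range b) := by
    have h1 := (PrespectralSpace.isTopologicalBasis (X := X)).isInducing
      (IsInducing.subtypeVal (t := inter 𝒰))
    convert h1 using 1
    ext s
    constructor
    · rintro ⟨U, rfl⟩
      exact ⟨U.1, U.2, rfl⟩
    · rintro ⟨U, hU, rfl⟩
      exact ⟨⟨U, hU⟩, rfl⟩
  refine QuasiSeparatedSpace.of_isTopologicalBasis hb ?_
  intro U V
  change IsCompact (Subtype.val ⁻¹' U.1 ∩ Subtype.val ⁻¹' V.1)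
  rw [← Set.preimage_inter]
  exact (isSpectralMap_val h𝒰).isCompact_preimage_of_isOpen (U.2.1.inter V.2.1)
    (QuasiSeparatedSpace.inter_isCompact _ _ U.2.1 U.2.2 V.2.1 V.2.2)

theorem quasiSober (_h𝒰 : ProQc 𝒰) : QuasiSober (inter 𝒰) where
  sober := by
    intro S hirr hcl
    have hind : IsInducing (Subtype.val : inter 𝒰 → X) := IsInducing.subtypeVal
    have hT : IsIrreducible (closure (Subtype.val '' S)) :=
      (hirr.image Subtype.val continuous_subtype_val.continuousOn).closure
    obtain ⟨η, hη⟩ := QuasiSober.sober hT isClosed_closure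
    obtain ⟨s, hs⟩ := hirr.nonempty
    have hηK : η ∈ inter 𝒰 := by
      rw [mem_inter]
      intro U hU
      by_contra hηU
      have h1 : closure {η} ⊆ ((U : Set X)ᶜ) :=
        closure_minimal (Set.singleton_subset_iff.2 hηU) U.isOpen.isClosed_compl
      have h2 : s.1 ∈ closure {η} := by
        rw [hη.def]
        exact subset_closure ⟨s, hs, rfl⟩
      exact h1 h2 (mem_inter.1 s.2 U hU)
    refine ⟨⟨η, hηK⟩, ?_⟩
    change closure {(⟨η, hηK⟩ : inter 𝒰)} = S
    rw [hind.closure_eq_preimage_closure_image, Set.image_singleton, hη.def,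
      ← hind.closure_eq_preimage_closure_image, hcl.closure_eq]

theorem spectralSpace (h𝒰 : ProQc 𝒰) : SpectralSpace (inter 𝒰) where
  __ := compactSpace h𝒰
  __ := quasiSober h𝒰
  __ := quasiSeparatedSpace h𝒰
  __ := prespectralSpace h𝒰
  __ := (inferInstance : T0Space (inter 𝒰))

end Groth.Agent.Lib.Helper5.SpecSub
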