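import Mathlib
import Groth.Prelude.Def_CohTop
import Groth.Agent.Lib.Helper5.SpecShift
import Groth.Agent.Lib.Helper5.SpecSub
import Groth.Agent.Lib.Helper13.ProfiniteAcyclic

/-!
# Cohomological dimension of spectral spaces (Scheiderer) (helper5)
-/

set_option autoImplicit false
universe u
open CategoryTheory CategoryTheory.Limits Opposite TopologicalSpace Topology Abelian

noncomputable section
namespace Groth.Agent.Lib.Helper5.SpecVanish

open Groth.Agent.Lib.Helper5 Groth.Agent.Lib.Helper5.SoftK Groth.Agent.Lib.Helper5.ClosedPsi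
  Groth.Agent.Lib.Helper5.EmbSheaf Groth.Agent.Lib.Helper5.TopLocal
  Groth.Agent.Lib.Helper5.CompactNbhd Groth.Agent.Lib.Helper5.CompactColim
  Groth.Agent.Lib.Helper5.CompactColimGen Groth.Agent.Lib.Helper5.SpecInter
  Groth.Agent.Lib.Helper5.ProQcSheaf Groth.Agent.Lib.Helper5.SpecGen
  Groth.Agent.Lib.Helper5.SpecShift

/-- the induction statement: vanishing of `H^q(Y, G)` for `q ≥ n` on spectral spaces of
dimension `< n`. -/
def P (n : ℕ) : Prop :=
  ∀ (Y : TopCat.{u}) [SpectralSpace Y], topologicalKrullDim Y < (n : WithBot ℕ∞) →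
    ∀ (G : CohTop.Ab Y) (q : ℕ), n ≤ q → ∀ x : Ext (free (⊤ : Opens Y)) G q, x = 0

theorem P_zero : P.{u} 0 := by
  intro Y _ hY G q _ x
  have hE : IsEmpty Y := SpecSub.isEmpty_of_dim_lt_zero hY
  have hG : IsZero G := by
    refine (TopCat.Sheaf.isZero_iff_stalkFunctor_obj_isZero (C := AddCommGrpCat.{u}) (X := Y) G).2 ?_
    intro y
    exact hE.elim y
  have h1 : x = x.comp (Ext.mk₀ (𝟙 G)) (add_zero q) := (Ext.comp_mk₀_id x).symm
  rw [h1, hG.eq_of_src (𝟙 G) 0, Ext.mk₀_zero, Ext.comp_zero]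

variable {X : TopCat.{u}} [SpectralSpace X]

theorem resSurj_of_P (n : ℕ) (hP : P.{u} n)
    (hX : topologicalKrullDim X < ((n + 1 : ℕ) : WithBot ℕ∞)) (F : CohTop.Ab X) : ResSurj F n := by
  intro U U' h hU hU' ξ
  let Z : Set X := (U : Set X) \ (U' : Set X)
  have hZc : IsCompact Z := hU.diff U'.isOpen
  let 𝒰 : Set (Opens X) := {O | ∃ V ∈ Uqc Z, O = V ⊓ U'}
  have htop : (⊤ : Opens X) ∈ Uqc Z := ⟨fun _ _ => trivial, isCompact_univ⟩
  have h𝒰 : ProQc 𝒰 :=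
    { nonempty := ⟨⊤ ⊓ U', ⊤, htop, rfl⟩
      isCompact := by
        rintro O ⟨V, hV, rfl⟩
        exact isCompact_inf hV.2 hU'
      directed := by
        rintro O₁ ⟨V₁, hV₁, rfl⟩ O₂ ⟨V₂, hV₂, rfl⟩
        exact ⟨(V₁ ⊓ V₂) ⊓ U', ⟨V₁ ⊓ V₂, ⟨fun x hx => ⟨hV₁.1 hx, hV₂.1 hx⟩,
          isCompact_inf hV₁.2 hV₂.2⟩, rfl⟩,
          fun x hx => ⟨⟨hx.1.1, hx.2⟩, ⟨hx.1.2, hx.2⟩⟩⟩ }
  have hKU' : inter 𝒰 ⊆ (U' : Set X) := fun x hx => (mem_inter.1 hx (⊤ ⊓ U') ⟨⊤, htop, rfl⟩).2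
  have hKgen : inter 𝒰 ⊆ Kgen Z := by
    intro x hx
    rw [Kgen_eq Z hZc, mem_inter]
    intro V hV
    exact (mem_inter.1 hx (V ⊓ U') ⟨V, hV, rfl⟩).1
  have : SpectralSpace (TopCat.of (inter 𝒰)) := SpecSub.spectralSpace h𝒰
  have hdim : topologicalKrullDim (TopCat.of (inter 𝒰)) < (n : WithBot ℕ∞) := by
    refine SpecSub.dim_lt (inter 𝒰) Z (fun x hx => hKgen hx) ?_ n hX
    intro z hz
    rw [Set.disjoint_left]
    intro x hx hxK
    exact closure_minimal (Set.singleton_subset_iff.2 hz.2) U'.isOpen.isClosed_compl hx (hKU' hxK)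
  have h0 : θ F hKU' n ξ = 0 := by
    apply (Groth.Agent.Lib.Helper13.ProfiniteAcyclic.HEquivHU
      (Opens.grothendieckTopology (TopCat.of (inter 𝒰))) isTerminalTop _ n).injective
    rw [map_zero]
    exact hP (TopCat.of (inter 𝒰)) hdim _ n le_rfl _
  obtain ⟨N, hKN, hNU', e⟩ := (surj_inj (hyp_of_proQc h𝒰 rfl) n F).2 U' hKU' ξ h0
  obtain ⟨O, ⟨V, hV, rfl⟩, hON⟩ := exists_le_of_inter_subset h𝒰 N hKN
  -- Mayer–Vietoris for `U = U' ∪ (V ∩ U)`
  let V₁ : Opens X := V ⊓ U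
  let sq : Square (Opens X) :=
    { X₁ := U' ⊓ V₁
      X₂ := U'
      X₃ := V₁
      X₄ := U
      f₁₂ := homOfLE inf_le_left
      f₁₃ := homOfLE inf_le_right
      f₂₄ := homOfLE h
      f₃₄ := homOfLE inf_le_right
      fac := Subsingleton.elim _ _ }
  have h₄ : sq.X₄ = sq.X₂ ⊔ sq.X₃ := by
    change U = U' ⊔ (V ⊓ U)
    apply le_antisymm
    · intro x hx
      by_cases hx' : x ∈ U'
      · exact Or.inl hx'
      · exact Or.inr ⟨hV.1 ⟨hx, hx'⟩, hx⟩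
    · exact sup_le h inf_le_right
  let S := Opens.mayerVietorisSquare' sq h₄ rfl
  have hex := (S.sequence_exact F n (n + 1) rfl).exact 0
  rw [ShortComplex.ab_exact_iff] at hex
  have hle : U' ⊓ V₁ ≤ N := fun x hx => hON ⟨hx.2.1, hx.1⟩
  have hzero : rs F (inf_le_left : U' ⊓ V₁ ≤ U') n ξ = 0 := by
    have := rs_rs F hNU' hle n ξ
    rw [e, map_zero] at this
    exact this.symm
  obtain ⟨y, hy⟩ := hex ((AddCommGrpCat.biprodIsoProd _ _).inv ⟨ξ, 0⟩) (by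
    refine (S.fromBiprod_biprodIsoProd_inv_apply F (n := n) ξ 0).trans ?_
    rw [map_zero, sub_zero]
    exact hzero)
  refine ⟨y, ?_⟩
  have h1 := (S.toBiprod_apply F (n := n) y).symm.trans hy
  have h2 := congrArg (AddCommGrpCat.biprodIsoProd _ _).hom h1
  rw [Iso.inv_hom_id_apply, Iso.inv_hom_id_apply] at h2
  exact congrArg Prod.fst h2

theorem P_succ (n : ℕ) (hP : P.{u} n) : P.{u} (n + 1) := by
  intro Y _ hY G q hq x
  exact shift n G (resSurj_of_P n hP hY G) q (by omega) x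

theorem P_all (n : ℕ) : P.{u} n := by
  induction n with
  | zero => exact P_zero
  | succ n ih => exact P_succ n ih

end Groth.Agent.Lib.Helper5.SpecVanish
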