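import Groth.Prelude.Def_DiffOp

/-!
Basic lemmas on `Diff16.IsDiffOpLE` (differential operators of order at most `n`).
-/

set_option autoImplicit false
universe u v

namespace Groth.Agent.Lib.Helper5

open Diff16

section

variable {A B : Type u} [CommRing A] [CommRing B] [Algebra A B]
variable {M N : Type v} [AddCommGroup M] [Module A M] [Module B M] [IsScalarTower A B M]
  [AddCommGroup N] [Module A N] [Module B N] [IsScalarTower A B N]

@[simp]
theorem commutator_apply (D : M →ₗ[A] N) (b : B) (m : M) :
    commutator A B M N D b m = D (b • m) - b • D m := by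
  simp [commutator]

@[simp]
theorem commutator_zero (b : B) : commutator A B M N 0 b = 0 := by
  ext m; simp

theorem commutator_add (D D' : M →ₗ[A] N) (b : B) :
    commutator A B M N (D + D') b = commutator A B M N D b + commutator A B M N D' b := by
  ext m; simp; abel

theorem commutator_neg (D : M →ₗ[A] N) (b : B) :
    commutator A B M N (-D) b = - commutator A B M N D b := by
  ext m; simp; abel

theorem commutator_sub (D D' : M →ₗ[A] N) (b : B) :
    commutator A B M N (D - D') b = commutator A B M N D b - commutator A B M N D' b := by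
  ext m; simp [smul_sub]; abel

theorem isDiffOpLE_zero_iff (D : M →ₗ[A] N) :
    IsDiffOpLE A B M N 0 D ↔ ∀ (b : B) (m : M), D (b • m) = b • D m := Iff.rfl

theorem isDiffOpLE_succ_iff (n : ℕ) (D : M →ₗ[A] N) :
    IsDiffOpLE A B M N (n + 1) D ↔ ∀ b : B, IsDiffOpLE A B M N n (commutator A B M N D b) :=
  Iff.rfl

theorem isDiffOpLE_zero (n : ℕ) : IsDiffOpLE A B M N n (0 : M →ₗ[A] N) := by
  induction n with
  | zero => intro b m; simp
  | succ n ih => intro b; rw [commutator_zero]; exact ih

theorem isDiffOpLE_add {n : ℕ} {D D' : M →ₗ[A] N} (h : IsDiffOpLE A B M N n D)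
    (h' : IsDiffOpLE A B M N n D') : IsDiffOpLE A B M N n (D + D') := by
  induction n generalizing D D' with
  | zero => intro b m; simp [h b m, h' b m]
  | succ n ih => intro b; rw [commutator_add]; exact ih (h b) (h' b)

theorem isDiffOpLE_neg {n : ℕ} {D : M →ₗ[A] N} (h : IsDiffOpLE A B M N n D) :
    IsDiffOpLE A B M N n (-D) := by
  induction n generalizing D with
  | zero => intro b m; simp [h b m]
  | succ n ih => intro b; rw [commutator_neg]; exact ih (h b)

theorem isDiffOpLE_sub {n : ℕ} {D D' : M →ₗ[A] N} (h : IsDiffOpLE A B M N n D)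
    (h' : IsDiffOpLE A B M N n D') : IsDiffOpLE A B M N n (D - D') := by
  rw [sub_eq_add_neg]; exact isDiffOpLE_add h (isDiffOpLE_neg h')

theorem isDiffOpLE_succ {n : ℕ} {D : M →ₗ[A] N} (h : IsDiffOpLE A B M N n D) :
    IsDiffOpLE A B M N (n + 1) D := by
  induction n generalizing D with
  | zero =>
    intro b
    have : commutator A B M N D b = 0 := by
      ext m; simp [h b m]
    rw [this]; exact isDiffOpLE_zero 0
  | succ n ih => intro b; exact ih (h b)

theorem isDiffOpLE_mono {n n' : ℕ} (hn : n ≤ n') {D : M →ₗ[A] N} (h : IsDiffOpLE A B M N n D) :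
    IsDiffOpLE A B M N n' D := by
  induction hn with
  | refl => exact h
  | step _ ih => exact isDiffOpLE_succ ih

end

section comp

variable {A B : Type u} [CommRing A] [CommRing B] [Algebra A B]
variable {M N P : Type v} [AddCommGroup M] [Module A M] [Module B M] [IsScalarTower A B M]
  [AddCommGroup N] [Module A N] [Module B N] [IsScalarTower A B N]
  [AddCommGroup P] [Module A P] [Module B P] [IsScalarTower A B P]

theorem commutator_comp (D : M →ₗ[A] N) (D' : N →ₗ[A] P) (b : B) :
    commutator A B M P (D' ∘ₗ D) b =
      D' ∘ₗ commutator A B M N D b + commutator A B N P D' b ∘ₗ D := by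
  ext m; simp

theorem isDiffOpLE_comp_aux (k : ℕ) : ∀ (n n' : ℕ), n + n' = k → ∀ (D : M →ₗ[A] N) (D' : N →ₗ[A] P),
    IsDiffOpLE A B M N n D → IsDiffOpLE A B N P n' D' →
    IsDiffOpLE A B M P k (D' ∘ₗ D) := by
  induction k with
  | zero =>
    intro n n' hnn' D D' hD hD'
    obtain ⟨rfl, rfl⟩ : n = 0 ∧ n' = 0 := by omega
    intro b m
    simp [hD b m, hD' b (D m)]
  | succ k ih =>
    intro n n' hnn' D D' hD hD' b
    rw [commutator_comp]
    apply isDiffOpLE_add
    · -- D' ∘ [D, b]
      rcases n with _ | n
      · have : commutator A B M N D b = 0 := by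
          ext m; simp [hD b m]
        rw [this, LinearMap.comp_zero]; exact isDiffOpLE_zero k
      · exact ih n n' (by omega) _ _ (hD b) hD'
    · rcases n' with _ | n'
      · have : commutator A B N P D' b = 0 := by
          ext m; simp [hD' b m]
        rw [this, LinearMap.zero_comp]; exact isDiffOpLE_zero k
      · exact ih n n' (by omega) _ _ hD (hD' b)

theorem isDiffOpLE_comp {n n' : ℕ} {D : M →ₗ[A] N} {D' : N →ₗ[A] P}
    (hD : IsDiffOpLE A B M N n D) (hD' : IsDiffOpLE A B N P n' D') :
    IsDiffOpLE A B M P (n + n') (D' ∘ₗ D) :=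
  isDiffOpLE_comp_aux (n + n') n n' rfl D D' hD hD'

end comp

section generators

variable {A B : Type u} [CommRing A] [CommRing B] [Algebra A B]
variable {M N : Type v} [AddCommGroup M] [Module A M] [Module B M] [IsScalarTower A B M]
  [AddCommGroup N] [Module A N] [Module B N] [IsScalarTower A B N]

/-- Multiplication by a scalar `c : B`, as an `A`-linear map. -/
noncomputable abbrev smulMap (M : Type v) [AddCommGroup M] [Module A M] [Module B M]
    [IsScalarTower A B M] (c : B) : M →ₗ[A] M :=
  (LinearMap.lsmul B M c).restrictScalars A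

theorem isDiffOpLE_smulMap (c : B) : IsDiffOpLE A B M M 0 (smulMap (A := A) M c) := by
  intro b m
  simp

theorem commutator_algebraMap (D : M →ₗ[A] N) (a : A) :
    commutator A B M N D (algebraMap A B a) = 0 := by
  ext m; simp [algebraMap_smul]

theorem commutator_add_right (D : M →ₗ[A] N) (b c : B) :
    commutator A B M N D (b + c) = commutator A B M N D b + commutator A B M N D c := by
  ext m; simp [add_smul]; abel

theorem commutator_mul_right (D : M →ₗ[A] N) (b c : B) :
    commutator A B M N D (b * c) =
      commutator A B M N D b ∘ₗ smulMap (A := A) M c +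
        smulMap (A := A) N b ∘ₗ commutator A B M N D c := by
  ext m; simp [mul_smul, smul_sub]

theorem isDiffOpLE_succ_of_generators (s : Set B) (hs : Algebra.adjoin A s = ⊤) (n : ℕ)
    (D : M →ₗ[A] N) (hD : ∀ g ∈ s, IsDiffOpLE A B M N n (commutator A B M N D g)) :
    IsDiffOpLE A B M N (n + 1) D := by
  intro b
  have hb : b ∈ Algebra.adjoin A s := by rw [hs]; trivial
  induction hb using Algebra.adjoin_induction with
  | mem x hx => exact hD x hx
  | algebraMap a => rw [commutator_algebraMap]; exact isDiffOpLE_zero n
  | add x y _ _ hx hy => rw [commutator_add_right]; exact isDiffOpLE_add hx hy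
  | mul x y _ _ hx hy =>
    rw [commutator_mul_right]
    apply isDiffOpLE_add
    · have := isDiffOpLE_comp (isDiffOpLE_smulMap (A := A) (M := M) y) hx
      simpa using this
    · have := isDiffOpLE_comp hy (isDiffOpLE_smulMap (A := A) (M := N) x)
      simpa using this

end generators

end Groth.Agent.Lib.Helper5
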