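import Groth.Agent.Lib.Helper5.ParaFBasic

/-!
# Helper5: invertible modules, isomorphisms of schemes, and local schemes

* `pushforwardIsoRestrictInv`, `isInvertible_pushforward_of_isIso`
* `PicTrivial.of_iso`
* `nonempty_restrict_iso_structureModule_of_forall_eq_top`: on a scheme with a point whose only
  open neighbourhood is the whole space (e.g. the spectrum of a local ring) every invertible
  module is trivial (on every open).
* `isIso_homOfLE_of_eq`
-/

set_option autoImplicit false
universe u

open CategoryTheory AlgebraicGeometry TopologicalSpace Opposite ParaF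

namespace Groth.Agent.Lib.Helper5

variable {U V : Scheme.{u}}

/-- Pushforward along an isomorphism is restriction along the inverse. -/
noncomputable def pushforwardIsoRestrictInv (j : U ⟶ V) [IsIso j] :
    Scheme.Modules.pushforward j ≅ Scheme.Modules.restrictFunctor (inv j) :=
  Adjunction.rightAdjointUniq (Scheme.Modules.restrictAdjunction j)
    (restrictEquivOfIsIso j).toAdjunction

theorem isInvertible_pushforward_of_isIso (j : U ⟶ V) [IsIso j] {L : U.Modules}
    (hL : PicF.IsInvertible L) : PicF.IsInvertible ((Scheme.Modules.pushforward j).obj L) :=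
  isInvertible_of_iso ((pushforwardIsoRestrictInv j).app L).symm (isInvertible_restrict hL (inv j))

theorem PicTrivial.of_iso (e : U ≅ V) (h : PicTrivial V) : PicTrivial U := by
  intro L hL
  obtain ⟨i⟩ := h (L.restrict e.inv) (isInvertible_restrict hL e.inv)
  exact ⟨(Scheme.Modules.restrictFunctorId.app L).symm ≪≫
    restrictCongrIso L (by simp : 𝟙 U = e.hom ≫ e.inv) ≪≫ restrictCompIso L e.hom e.inv ≪≫
    (Scheme.Modules.restrictFunctor e.hom).mapIso i ≪≫ Scheme.Modules.restrictUnitIso e.hom⟩

theorem isIso_homOfLE_of_eq {X : Scheme.{u}} {A B : X.Opens} (e : A = B) (h : A ≤ B) :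
    IsIso (X.homOfLE h) := by
  change IsIso (X.isoOfEq e).hom
  infer_instance

theorem nonempty_restrict_iso_structureModule_of_forall_eq_top {X : Scheme.{u}} (x : X)
    (hx : ∀ W : X.Opens, x ∈ W → W = ⊤) (L : X.Modules) (hL : PicF.IsInvertible L)
    (U : X.Opens) :
    Nonempty (L.restrict U.ι ≅ Coh.structureModule (U : Scheme.{u})) := by
  obtain ⟨W, hW, ⟨e⟩⟩ := hL x
  have hWtop : W = ⊤ := hx W hW
  subst hWtop
  exact ⟨restrictCongrIso L (X.homOfLE_ι (le_top : U ≤ ⊤)).symm ≪≫
    restrictCompIso L (X.homOfLE (le_top : U ≤ ⊤)) (⊤ : X.Opens).ι ≪≫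
    (Scheme.Modules.restrictFunctor _).mapIso e ≪≫ Scheme.Modules.restrictUnitIso _⟩

end Groth.Agent.Lib.Helper5
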