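import Mathlib

/-!
# Helper5: topology of irreducible spaces of dimension at most one

* `isClosed_singleton_of_dim_le_one`: in a T0 space of Krull dimension `≤ 1` with generic point `η`,
  every point other than `η` is closed.
* `finite_of_isClosed_of_forall_isClosed_singleton`: in a quasi-sober Noetherian space, a closed
  set all of whose points are closed is finite.
-/

set_option autoImplicit false

open TopologicalSpace

namespace Groth.Agent.Lib.Helper5

variable {T : Type*} [TopologicalSpace T]

theorem isClosed_singleton_of_dim_le_one [T0Space T] (hdim : topologicalKrullDim T ≤ 1)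
    {η x : T} (hη : IsGenericPoint η (Set.univ : Set T)) (hx : x ≠ η) : IsClosed ({x} : Set T) := by
  rw [← closure_subset_iff_isClosed]
  intro z hz
  rw [Set.mem_singleton_iff]
  let a : IrreducibleCloseds T := ⟨closure {z}, isIrreducible_singleton.closure, isClosed_closure⟩
  let b : IrreducibleCloseds T := ⟨closure {x}, isIrreducible_singleton.closure, isClosed_closure⟩
  let c : IrreducibleCloseds T := ⟨closure {η}, isIrreducible_singleton.closure, isClosed_closure⟩
  have hab : a ≤ b := by
    change closure {z} ⊆ closure {x}
    exact closure_minimal (Set.singleton_subset_iff.mpr hz) isClosed_closure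
  have hbc : b ≤ c := by
    change closure {x} ⊆ closure {η}
    rw [hη.def]
    exact Set.subset_univ _
  rcases (Order.krullDim_le_one_iff.mp hdim) b with hmin | hmax
  · have hba : b ≤ a := hmin hab
    have hxz : x ∈ closure {z} := hba (subset_closure (Set.mem_singleton x))
    have h1 : x ⤳ z := specializes_iff_mem_closure.mpr hz
    have h2 : z ⤳ x := specializes_iff_mem_closure.mpr hxz
    exact (h2.antisymm h1).eq
  · exfalso
    have hcb : c ≤ b := hmax hbc
    have : closure {x} = Set.univ := by
      apply Set.eq_univ_of_univ_subset
      rw [← hη.def]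
      exact hcb
    have hgen : IsGenericPoint x (Set.univ : Set T) := this
    exact hx (hgen.eq hη)

theorem finite_of_isClosed_of_forall_isClosed_singleton [QuasiSober T] [NoetherianSpace T]
    {Z : Set T} (hZ : IsClosed Z) (hpt : ∀ z ∈ Z, IsClosed ({z} : Set T)) : Z.Finite := by
  obtain ⟨S, hSf, hSc, hSi, rfl⟩ := NoetherianSpace.exists_finite_set_isClosed_irreducible hZ
  refine Set.Finite.sUnion hSf (fun t ht => ?_)
  obtain ⟨y, hy⟩ := QuasiSober.sober (hSi t ht) (hSc t ht)
  have hyt : y ∈ t := hy.mem
  have hcl : IsClosed ({y} : Set T) := hpt y ⟨t, ht, hyt⟩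
  have : t = {y} := by
    rw [← hy.def, hcl.closure_eq]
  rw [this]
  exact Set.finite_singleton y

end Groth.Agent.Lib.Helper5
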