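import Groth.Prelude.Def_CDiv
import Groth.Agent.Lib.Helper5.DimOneTop

/-!
# Helper5: basic API for Cartier divisors on integral schemes (`CDiv`)
-/

set_option autoImplicit false
universe u

open CategoryTheory AlgebraicGeometry TopologicalSpace CDiv

namespace Groth.Agent.Lib.Helper5

variable {X : Scheme.{u}} [IsIntegral X]

theorem germOf_eq_one_iff {x : X} {f : KUnits X} : germOf X x f = 1 ↔ f ∈ stalkUnits X x :=
  QuotientGroup.eq_one_iff f

theorem mem_stalkUnits_iff {x : X} {f : KUnits X} :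
    f ∈ stalkUnits X x ↔
      ∃ u : (X.presheaf.stalk x)ˣ,
        algebraMap (X.presheaf.stalk x) X.functionField (u : X.presheaf.stalk x) = (f : X.functionField) := by
  constructor
  · rintro ⟨u, rfl⟩
    exact ⟨u, rfl⟩
  · rintro ⟨u, hu⟩
    exact ⟨u, Units.ext hu⟩

theorem mem_stalkUnits_of_isUnit_section {V : X.Opens} [Nonempty V] (s : Γ(X, V)) (hs : IsUnit s)
    (f : KUnits X) (hf : X.germToFunctionField V s = (f : X.functionField)) {y : X} (hy : y ∈ V) :
    f ∈ stalkUnits X y := by
  rw [mem_stalkUnits_iff]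
  refine ⟨(hs.map (X.presheaf.germ V y hy).hom).unit, ?_⟩
  rw [IsUnit.unit_spec, Scheme.algebraMap_germ_eq_germToFunctionField, hf]

theorem exists_open_forall_mem_stalkUnits {x : X} {f : KUnits X} (hf : f ∈ stalkUnits X x) :
    ∃ V : X.Opens, x ∈ V ∧ ∀ y ∈ V, f ∈ stalkUnits X y := by
  obtain ⟨u, hu⟩ := mem_stalkUnits_iff.mp hf
  obtain ⟨W, hxW, s, hs⟩ := X.presheaf.exists_germ_eq (u : X.presheaf.stalk x)
  have hunit : IsUnit (X.presheaf.germ W x hxW s) := hs ▸ u.isUnit
  have hxV : x ∈ X.basicOpen s := (Scheme.mem_basicOpen X s x hxW).mpr hunit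
  have : Nonempty (X.basicOpen s) := ⟨⟨x, hxV⟩⟩
  refine ⟨X.basicOpen s, hxV, fun y hy =>
    mem_stalkUnits_of_isUnit_section (V := X.basicOpen s)
      (X.presheaf.map (X.basicOpen_le s).hom.op s) (X.toRingedSpace.isUnit_res_basicOpen s) f ?_ hy⟩
  rw [← Scheme.algebraMap_germ_eq_germToFunctionField X hxV,
    X.presheaf.germ_res_apply (X.basicOpen_le s).hom x hxV s, hs, hu]

/-- The support of a divisor is closed. -/
theorem isClosed_supp (D : Divisor X) : IsClosed (supp D) := by
  rw [← isOpen_compl_iff, isOpen_iff_forall_mem_open]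
  intro x hx
  have hx1 : D.1 x = 1 := by
    by_contra h
    exact hx h
  obtain ⟨U, f, hxU, hU⟩ := D.2 x
  have hf : f ∈ stalkUnits X x := germOf_eq_one_iff.mp ((hU x hxU).symm.trans hx1)
  obtain ⟨V, hxV, hV⟩ := exists_open_forall_mem_stalkUnits hf
  refine ⟨(U ⊓ V : X.Opens), ?_, (U ⊓ V).isOpen, ⟨hxU, hxV⟩⟩
  intro y hy hys
  exact hys ((hU y hy.1).trans (germOf_eq_one_iff.mpr (hV y hy.2)))

/-- Every nonzero rational function is a unit at the generic point. -/
theorem mem_stalkUnits_genericPoint (f : KUnits X) : f ∈ stalkUnits X (genericPoint X) := by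
  obtain ⟨U, -, f', hne, hf', hunit⟩ := exists_isUnit_germ_eq X (f : X.functionField) f.ne_zero
  exact mem_stalkUnits_of_isUnit_section f' hunit f hf'
    (((genericPoint_spec X).mem_open_set_iff U.isOpen).mpr (by simpa using hne))

theorem genericPoint_notMem_supp (D : Divisor X) : genericPoint X ∉ supp D := by
  intro h
  apply h
  obtain ⟨U, f, hxU, hU⟩ := D.2 (genericPoint X)
  rw [hU _ hxU]
  exact germOf_eq_one_iff.mpr (mem_stalkUnits_genericPoint f)

section DimOne

theorem isClosed_singleton_of_ne_genericPoint (hdim : topologicalKrullDim X ≤ 1) {x : X}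
    (hx : x ≠ genericPoint X) : IsClosed ({x} : Set X) :=
  isClosed_singleton_of_dim_le_one hdim (genericPoint_spec X) hx

/-- On a locally Noetherian integral scheme of dimension `≤ 1`, a closed subset not containing the
generic point is discrete: every point has a neighbourhood meeting it at most in that point. -/
theorem exists_open_inter_subset_singleton [IsLocallyNoetherian X]
    (hdim : topologicalKrullDim X ≤ 1) {Z : Set X} (hZ : IsClosed Z) (hη : genericPoint X ∉ Z)
    (x : X) : ∃ V : X.Opens, x ∈ V ∧ (V : Set X) ∩ Z ⊆ {x} := by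
  obtain ⟨_, ⟨U, hU, rfl⟩, hxU, -⟩ :=
    X.isBasis_affineOpens.exists_subset_of_mem_open (Set.mem_univ x) isOpen_univ
  have : IsNoetherianRing Γ(X, U) := IsLocallyNoetherian.component_noetherian ⟨U, hU⟩
  have : NoetherianSpace {y : X // y ∈ U} := noetherianSpace_of_isAffineOpen U hU
  have : QuasiSober {y : X // y ∈ U} := U.isOpenEmbedding'.quasiSober
  have hpt : ∀ z ∈ Z, IsClosed ({z} : Set X) := fun z hz =>
    isClosed_singleton_of_ne_genericPoint hdim (fun h => hη (h ▸ hz))
  have hfin : (Subtype.val ⁻¹' Z : Set {y : X // y ∈ U}).Finite := by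
    apply finite_of_isClosed_of_forall_isClosed_singleton (hZ.preimage continuous_subtype_val)
    intro z hz
    have := (hpt z.1 hz).preimage (continuous_subtype_val (p := fun y => y ∈ U))
    convert this using 1
    ext w
    constructor
    · intro h
      rw [Set.mem_singleton_iff] at h
      rw [h]
      rfl
    · intro h
      exact Subtype.ext h
  have hFfin : (Subtype.val '' (Subtype.val ⁻¹' Z : Set {y : X // y ∈ U})).Finite := hfin.image _
  have hFcl : IsClosed ((Subtype.val '' (Subtype.val ⁻¹' Z : Set {y : X // y ∈ U})) \ {x}) := by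
    have h1 : ((Subtype.val '' (Subtype.val ⁻¹' Z : Set {y : X // y ∈ U})) \ {x}) =
        ⋃ z ∈ ((Subtype.val '' (Subtype.val ⁻¹' Z : Set {y : X // y ∈ U})) \ {x}), {z} := by
      exact (Set.biUnion_of_singleton _).symm
    rw [h1]
    refine (hFfin.subset Set.sdiff_subset).isClosed_biUnion (fun z hz => hpt z ?_)
    obtain ⟨⟨w, hw, rfl⟩, -⟩ := hz
    exact hw
  refine ⟨⟨(U : Set X) ∩ ((Subtype.val '' (Subtype.val ⁻¹' Z : Set {y : X // y ∈ U})) \ {x})ᶜ,
    U.isOpen.inter hFcl.isOpen_compl⟩, ⟨hxU, fun h => h.2 rfl⟩, ?_⟩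
  rintro y ⟨⟨hyU, hyF⟩, hyZ⟩
  by_contra hne
  exact hyF ⟨⟨⟨y, hyU⟩, hyZ, rfl⟩, hne⟩

open Classical in
/-- On a locally Noetherian integral scheme of dimension `≤ 1`, germs prescribed on a closed
discrete set `E` extend (by the trivial germ outside `E`) to a divisor. -/
theorem exists_divisor_of_germs [IsLocallyNoetherian X] (hdim : topologicalKrullDim X ≤ 1)
    (E : Set X) (hE : IsClosed E) (hEd : DiscreteTopology ↥E) (d : ∀ x : X, Germ X x) :
    ∃ D : Divisor X, supp D ⊆ E ∧ (∀ x ∈ E, D.1 x = d x) ∧ (∀ x, x ∉ E → D.1 x = 1) := by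
  let D₀ : ∀ x : X, Germ X x := fun x => if x ∈ E then d x else 1
  have hD₀ : D₀ ∈ divisorGroup X := by
    intro x
    by_cases hx : x ∈ E
    · obtain ⟨t, ht, hteq⟩ := isOpen_induced_iff.mp
        (discreteTopology_iff_isOpen_singleton.mp hEd ⟨x, hx⟩)
      obtain ⟨h, hh⟩ : ∃ h : KUnits X, germOf X x h = d x := QuotientGroup.mk_surjective (d x)
      obtain ⟨W, -, f', hne, hf', hunit⟩ := exists_isUnit_germ_eq X (h : X.functionField) h.ne_zero
      have hηW : genericPoint X ∈ W :=
        ((genericPoint_spec X).mem_open_set_iff W.isOpen).mpr (by simpa using hne)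
      obtain ⟨V₂, hxV₂, hV₂⟩ := exists_open_inter_subset_singleton hdim
        (Z := (W : Set X)ᶜ) W.isOpen.isClosed_compl (fun hη => hη hηW) x
      have hxt : x ∈ t := by
        have : (⟨x, hx⟩ : ↥E) ∈ Subtype.val ⁻¹' t := by rw [hteq]; rfl
        exact this
      refine ⟨(⟨t, ht⟩ : X.Opens) ⊓ V₂, h, ⟨hxt, hxV₂⟩, ?_⟩
      rintro y ⟨hyt, hyV₂⟩
      by_cases hyx : y = x
      · subst hyx
        change (if y ∈ E then d y else 1) = _
        rw [if_pos hx, hh]
      · have hyE : y ∉ E := by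
          intro hyE
          have : (⟨y, hyE⟩ : ↥E) ∈ Subtype.val ⁻¹' t := hyt
          rw [hteq, Set.mem_singleton_iff] at this
          exact hyx (congrArg Subtype.val this)
        have hyW : y ∈ W := by
          by_contra hyW
          exact hyx (hV₂ ⟨hyV₂, hyW⟩)
        change (if y ∈ E then d y else 1) = _
        rw [if_neg hyE]
        exact (germOf_eq_one_iff.mpr (mem_stalkUnits_of_isUnit_section f' hunit h hf' hyW)).symm
    · refine ⟨⟨Eᶜ, hE.isOpen_compl⟩, 1, hx, ?_⟩
      intro y hy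
      change (if y ∈ E then d y else 1) = _
      rw [if_neg hy]
      exact (QuotientGroup.mk_one _).symm
  refine ⟨⟨D₀, hD₀⟩, ?_, ?_, ?_⟩
  · intro x hx
    by_contra hxE
    exact hx (if_neg hxE)
  · intro x hx
    exact if_pos hx
  · intro x hx
    exact if_neg hx

end DimOne

end Groth.Agent.Lib.Helper5
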