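import Groth.Agent.Lib.Helper5.DepthOne
import Groth.Agent.Lib.Helper5.CDivBasic
import Groth.Agent.Lib.Helper5.StalkKer

/-!
# Helper5: depth-one points of integral schemes, maximal points of closed sets
-/

set_option autoImplicit false
universe u

open CategoryTheory AlgebraicGeometry TopologicalSpace

namespace Groth.Agent.Lib.Helper5.CDivDepth

section MaxPoint

variable {X : Scheme.{u}}

/-- Every point of a closed subset of a scheme has a generization which is a maximal point of the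
closed subset. -/
theorem exists_maximal_point_of_isClosed {Z : Set X} (hZ : IsClosed Z) {x : X} (hx : x ∈ Z) :
    ∃ z ∈ Z, z ⤳ x ∧ ∀ z' ∈ Z, z' ⤳ z → z' = z := by
  obtain ⟨_, ⟨U₀, hU₀0, rfl⟩, hxU₀, -⟩ :=
    X.isBasis_affineOpens.exists_subset_of_mem_open (Set.mem_univ x) isOpen_univ
  have hU₀ : IsAffineOpen U₀ := hU₀0
  set T : Set (PrimeSpectrum Γ(X, U₀)) := hU₀.fromSpec ⁻¹' Z with hT
  have hTcl : IsClosed T := hZ.preimage hU₀.fromSpec.continuous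
  set I : Ideal Γ(X, U₀) := PrimeSpectrum.vanishingIdeal T with hI
  have hzero : PrimeSpectrum.zeroLocus (I : Set Γ(X, U₀)) = T := by
    rw [hI, PrimeSpectrum.zeroLocus_vanishingIdeal_eq_closure, hTcl.closure_eq]
  have hxz : hU₀.fromSpec (hU₀.primeIdealOf ⟨x, hxU₀⟩) = x :=
    hU₀.fromSpec_primeIdealOf ⟨x, hxU₀⟩
  have hPT : hU₀.primeIdealOf ⟨x, hxU₀⟩ ∈ T := by
    change hU₀.fromSpec (hU₀.primeIdealOf ⟨x, hxU₀⟩) ∈ Z
    rw [hxz]; exact hx
  have hIP : I ≤ (hU₀.primeIdealOf ⟨x, hxU₀⟩).asIdeal := by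
    rw [← hzero] at hPT
    exact hPT
  obtain ⟨Q, hQmin, hQP⟩ := Ideal.exists_minimalPrimes_le hIP
  have hQ : Q.IsPrime := hQmin.1.1
  have hQT : (⟨Q, hQ⟩ : PrimeSpectrum Γ(X, U₀)) ∈ T := by
    rw [← hzero]; exact hQmin.1.2
  have hzU₀ : hU₀.fromSpec ⟨Q, hQ⟩ ∈ U₀ := by
    have : hU₀.fromSpec ⟨Q, hQ⟩ ∈ Set.range hU₀.fromSpec := Set.mem_range_self _
    rwa [hU₀.range_fromSpec] at this
  refine ⟨hU₀.fromSpec ⟨Q, hQ⟩, hQT, ?_, ?_⟩
  · have := ((PrimeSpectrum.le_iff_specializes ⟨Q, hQ⟩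
      (hU₀.primeIdealOf ⟨x, hxU₀⟩)).mp hQP).map hU₀.fromSpec.continuous
    rwa [hxz] at this
  · intro z' hz'Z hz'z
    have hz'U₀ : z' ∈ U₀ := hz'z.mem_open U₀.isOpen hzU₀
    have hz'eq : hU₀.fromSpec (hU₀.primeIdealOf ⟨z', hz'U₀⟩) = z' :=
      hU₀.fromSpec_primeIdealOf ⟨z', hz'U₀⟩
    have hzeq : hU₀.primeIdealOf ⟨hU₀.fromSpec ⟨Q, hQ⟩, hzU₀⟩ = ⟨Q, hQ⟩ :=
      hU₀.fromSpec.isOpenEmbedding.injective (hU₀.fromSpec_primeIdealOf ⟨_, hzU₀⟩)
    have hle := StalkKer.primeIdealOf_le_of_specializes hU₀ hzU₀ hz'U₀ hz'z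
    rw [hzeq] at hle
    have hz'T : hU₀.primeIdealOf ⟨z', hz'U₀⟩ ∈ T := by
      change hU₀.fromSpec (hU₀.primeIdealOf ⟨z', hz'U₀⟩) ∈ Z
      rw [hz'eq]; exact hz'Z
    have hIQ' : I ≤ (hU₀.primeIdealOf ⟨z', hz'U₀⟩).asIdeal := by
      rw [← hzero] at hz'T
      exact hz'T
    have hge : Q ≤ (hU₀.primeIdealOf ⟨z', hz'U₀⟩).asIdeal :=
      hQmin.2 ⟨(hU₀.primeIdealOf ⟨z', hz'U₀⟩).isPrime, hIQ'⟩ hle
    have heq : hU₀.primeIdealOf ⟨z', hz'U₀⟩ = ⟨Q, hQ⟩ :=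
      PrimeSpectrum.ext (le_antisymm hle hge)
    rw [← hz'eq, heq]

end MaxPoint

section DepthOne

variable {X : Scheme.{u}} [IsIntegral X]

/-- A non-maximal prime `𝔭` of `O_{X,x}` gives a proper generization `z` of `x` such that every
element of `O_{X,z}` has a denominator in `O_{X,x} ∖ 𝔭`. -/
theorem exists_generization_of_prime (x : X) (𝔭 : Ideal (X.presheaf.stalk x)) (h𝔭 : 𝔭.IsPrime)
    (hne : 𝔭 ≠ IsLocalRing.maximalIdeal (X.presheaf.stalk x)) :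
    ∃ z : X, z ⤳ x ∧ z ≠ x ∧ ∀ v : X.presheaf.stalk z, ∃ s ∉ 𝔭,
      algebraMap (X.presheaf.stalk x) X.functionField s *
        algebraMap (X.presheaf.stalk z) X.functionField v ∈
          Set.range (algebraMap (X.presheaf.stalk x) X.functionField) := by
  obtain ⟨_, ⟨U₀, hU₀0, rfl⟩, hxU₀, -⟩ :=
    X.isBasis_affineOpens.exists_subset_of_mem_open (Set.mem_univ x) isOpen_univ
  have hU₀ : IsAffineOpen U₀ := hU₀0
  haveI : Nonempty U₀ := ⟨⟨x, hxU₀⟩⟩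
  letI algx := X.presheaf.algebra_section_stalk ⟨x, hxU₀⟩
  have locx := hU₀.isLocalization_stalk ⟨x, hxU₀⟩
  have hQ : (𝔭.comap (algebraMap Γ(X, U₀) (X.presheaf.stalk x))).IsPrime :=
    Ideal.comap_isPrime _ _
  have hQP : 𝔭.comap (algebraMap Γ(X, U₀) (X.presheaf.stalk x)) ≤
      (hU₀.primeIdealOf ⟨x, hxU₀⟩).asIdeal := by
    intro a ha
    by_contra haP
    have hunit : IsUnit (algebraMap Γ(X, U₀) (X.presheaf.stalk x) a) :=
      IsLocalization.map_units (X.presheaf.stalk x)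
        (⟨a, haP⟩ : (hU₀.primeIdealOf ⟨x, hxU₀⟩).asIdeal.primeCompl)
    exact h𝔭.ne_top (Ideal.eq_top_of_isUnit_mem _ ha hunit)
  have hQne : 𝔭.comap (algebraMap Γ(X, U₀) (X.presheaf.stalk x)) ≠
      (hU₀.primeIdealOf ⟨x, hxU₀⟩).asIdeal := by
    intro h
    apply hne
    calc 𝔭 = Ideal.map (algebraMap Γ(X, U₀) (X.presheaf.stalk x))
          (𝔭.comap (algebraMap Γ(X, U₀) (X.presheaf.stalk x))) :=
          (IsLocalization.map_under (hU₀.primeIdealOf ⟨x, hxU₀⟩).asIdeal.primeCompl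
            (X.presheaf.stalk x) 𝔭).symm
      _ = Ideal.map (algebraMap Γ(X, U₀) (X.presheaf.stalk x))
          (hU₀.primeIdealOf ⟨x, hxU₀⟩).asIdeal := by rw [h]
      _ = IsLocalRing.maximalIdeal _ := IsLocalization.AtPrime.map_eq_maximalIdeal _ _
  have hzU₀ : hU₀.fromSpec ⟨_, hQ⟩ ∈ U₀ := by
    have : hU₀.fromSpec ⟨_, hQ⟩ ∈ Set.range hU₀.fromSpec := Set.mem_range_self _
    rwa [hU₀.range_fromSpec] at this
  have hxz : hU₀.fromSpec (hU₀.primeIdealOf ⟨x, hxU₀⟩) = x :=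
    hU₀.fromSpec_primeIdealOf ⟨x, hxU₀⟩
  have hzx : hU₀.fromSpec ⟨_, hQ⟩ ⤳ x := by
    have := ((PrimeSpectrum.le_iff_specializes ⟨_, hQ⟩
      (hU₀.primeIdealOf ⟨x, hxU₀⟩)).mp hQP).map hU₀.fromSpec.continuous
    rwa [hxz] at this
  have hzne : hU₀.fromSpec ⟨_, hQ⟩ ≠ x := by
    intro h
    apply hQne
    have := hU₀.fromSpec.isOpenEmbedding.injective (h.trans hxz.symm)
    exact congrArg PrimeSpectrum.asIdeal this
  refine ⟨hU₀.fromSpec ⟨_, hQ⟩, hzx, hzne, fun v => ?_⟩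
  letI algz := X.presheaf.algebra_section_stalk ⟨hU₀.fromSpec ⟨_, hQ⟩, hzU₀⟩
  have locz : IsLocalization (𝔭.comap (algebraMap Γ(X, U₀) (X.presheaf.stalk x))).primeCompl
      (X.presheaf.stalk (hU₀.fromSpec ⟨_, hQ⟩)) := hU₀.isLocalization_stalk' ⟨_, hQ⟩ hzU₀
  obtain ⟨⟨γ, σ⟩, hγσ⟩ := IsLocalization.surj
    (𝔭.comap (algebraMap Γ(X, U₀) (X.presheaf.stalk x))).primeCompl v
  refine ⟨X.presheaf.germ U₀ x hxU₀ σ, σ.2, X.presheaf.germ U₀ x hxU₀ γ, ?_⟩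
  have hγσ' : v * X.presheaf.germ U₀ (hU₀.fromSpec ⟨_, hQ⟩) hzU₀ σ =
      X.presheaf.germ U₀ (hU₀.fromSpec ⟨_, hQ⟩) hzU₀ γ := hγσ
  rw [Scheme.algebraMap_germ_eq_germToFunctionField, Scheme.algebraMap_germ_eq_germToFunctionField,
    ← Scheme.algebraMap_germ_eq_germToFunctionField X hzU₀ γ,
    ← Scheme.algebraMap_germ_eq_germToFunctionField X hzU₀ σ, ← hγσ', map_mul, mul_comm]

/-- A point `x` of a locally Noetherian integral scheme at which some rational function is not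
regular, while being regular at all proper generizations of `x`, has a local ring of depth `1`. -/
theorem depth_eq_one_of_forall_generization [IsLocallyNoetherian X] (x : X) (g : X.functionField)
    (hg : g ∉ Set.range (algebraMap (X.presheaf.stalk x) X.functionField))
    (hgen : ∀ z : X, z ⤳ x → z ≠ x →
      g ∈ Set.range (algebraMap (X.presheaf.stalk z) X.functionField)) :
    LocCoh.depth (X.presheaf.stalk x) (X.presheaf.stalk x) = 1 := by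
  obtain ⟨b, hbm, hb0, hass⟩ := DepthOne.exists_mem_associatedPrimes g hg (by
    intro 𝔭 h𝔭 hne
    obtain ⟨z, hzx, hzne, hz⟩ := exists_generization_of_prime x 𝔭 h𝔭 hne
    obtain ⟨v, hv⟩ := hgen z hzx hzne
    obtain ⟨s, hs, hsv⟩ := hz v
    exact ⟨s, hs, hv ▸ hsv⟩)
  exact DepthOne.depth_eq_one b hbm hb0 hass

end DepthOne

end Groth.Agent.Lib.Helper5.CDivDepth
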