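import Groth.Agent.Lib.Helper5.NormalDepthOne
import Groth.Agent.Lib.Helper5.CDivDepth
import Groth.Prelude.Def_Pi1

/-!
# Helper5: rational functions on normal schemes and points of codimension one
-/

set_option autoImplicit false
universe u

open CategoryTheory AlgebraicGeometry TopologicalSpace

namespace Groth.Agent.Lib.Helper5.CodimOne

section Basic

variable {X : Scheme.{u}} [IsIntegral X]

theorem algebraMap_stalkSpecializes {x y : X} (h : x ⤳ y) (b : X.presheaf.stalk y) :
    algebraMap (X.presheaf.stalk x) X.functionField (X.presheaf.stalkSpecializes h b) =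
      algebraMap (X.presheaf.stalk y) X.functionField b := by
  simp [RingHom.algebraMap_toAlgebra, ← ConcreteCategory.comp_apply]

/-- The domain of definition of a rational function is open. -/
theorem exists_open_forall_mem_range {z : X} {g : X.functionField}
    (hg : g ∈ Set.range (algebraMap (X.presheaf.stalk z) X.functionField)) :
    ∃ W : X.Opens, z ∈ W ∧
      ∀ y ∈ W, g ∈ Set.range (algebraMap (X.presheaf.stalk y) X.functionField) := by
  obtain ⟨a, rfl⟩ := hg
  obtain ⟨W, hzW, α, hα⟩ := X.presheaf.exists_germ_eq a
  haveI : Nonempty W := ⟨⟨z, hzW⟩⟩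
  refine ⟨W, hzW, fun y hyW => ⟨X.presheaf.germ W y hyW α, ?_⟩⟩
  rw [← hα, Scheme.algebraMap_germ_eq_germToFunctionField,
    Scheme.algebraMap_germ_eq_germToFunctionField]

theorem mem_range_of_specializes {z z' : X} (h : z' ⤳ z) {g : X.functionField}
    (hg : g ∈ Set.range (algebraMap (X.presheaf.stalk z) X.functionField)) :
    g ∈ Set.range (algebraMap (X.presheaf.stalk z') X.functionField) := by
  obtain ⟨W, hzW, hW⟩ := exists_open_forall_mem_range hg
  exact hW z' (h.mem_open W.isOpen hzW)

theorem isClosed_setOf_notMem_range (g : X.functionField) :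
    IsClosed {z : X | g ∉ Set.range (algebraMap (X.presheaf.stalk z) X.functionField)} := by
  rw [← isOpen_compl_iff, isOpen_iff_forall_mem_open]
  intro z hz
  have hz' : g ∈ Set.range (algebraMap (X.presheaf.stalk z) X.functionField) := by
    by_contra h; exact hz h
  obtain ⟨W, hzW, hW⟩ := exists_open_forall_mem_range hz'
  exact ⟨W, fun y hy hny => hny (hW y hy), W.isOpen, hzW⟩

theorem mul_mem_range {z : X} {g g' : X.functionField}
    (hg : g ∈ Set.range (algebraMap (X.presheaf.stalk z) X.functionField))
    (hg' : g' ∈ Set.range (algebraMap (X.presheaf.stalk z) X.functionField)) :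
    g * g' ∈ Set.range (algebraMap (X.presheaf.stalk z) X.functionField) := by
  obtain ⟨a, rfl⟩ := hg
  obtain ⟨b, rfl⟩ := hg'
  exact ⟨a * b, map_mul _ _ _⟩

end Basic

section Normal

variable {X : Scheme.{u}} [IsIntegral X] [IsLocallyNoetherian X]

/-- At a depth-one point of a normal locally Noetherian integral scheme the point has
codimension one. -/
theorem coheight_eq_one_of_depth_eq_one (hX : Pi1.IsNormalScheme X) (x : X)
    (hd : LocCoh.depth (X.presheaf.stalk x) (X.presheaf.stalk x) = 1) :
    Order.coheight x = 1 := by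
  haveI : IsIntegrallyClosed (X.presheaf.stalk x) := (hX x).2
  have hdvr : IsDiscreteValuationRing (X.presheaf.stalk x) :=
    NormalDepthOne.isDiscreteValuationRing_of_depth_eq_one hd
  have h1 := IsDiscreteValuationRing.ringKrullDim_eq_one (X.presheaf.stalk x)
  rw [ringKrullDim_stalk_eq_coheight] at h1
  exact_mod_cast h1

/-- On a normal locally Noetherian integral scheme, a rational function which is regular at all
codimension-one generizations of `x` is regular at `x`. -/
theorem mem_range_of_forall_codim_one (hX : Pi1.IsNormalScheme X) (x : X) (g : X.functionField)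
    (h : ∀ z : X, z ⤳ x → Order.coheight z = 1 →
      g ∈ Set.range (algebraMap (X.presheaf.stalk z) X.functionField)) :
    g ∈ Set.range (algebraMap (X.presheaf.stalk x) X.functionField) := by
  by_contra hx
  obtain ⟨z, hzN, hzx, hzmax⟩ :=
    CDivDepth.exists_maximal_point_of_isClosed (isClosed_setOf_notMem_range g)
      (show x ∈ {z : X | g ∉ Set.range (algebraMap (X.presheaf.stalk z) X.functionField)} from hx)
  have hd := CDivDepth.depth_eq_one_of_forall_generization z g hzN (fun z' hz'z hne => by
    by_contra hnot
    exact hne (hzmax z' hnot hz'z))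
  exact hzN (h z hzx (coheight_eq_one_of_depth_eq_one hX z hd))

/-- The local ring at a codimension-one point of a normal scheme is a DVR. -/
theorem isDiscreteValuationRing_of_coheight_eq_one (hX : Pi1.IsNormalScheme X) {x : X}
    (hco : Order.coheight x = 1) : IsDiscreteValuationRing (X.presheaf.stalk x) := by
  haveI : IsIntegrallyClosed (X.presheaf.stalk x) := (hX x).2
  haveI : Ring.KrullDimLE 1 (X.presheaf.stalk x) := krullDimLE_of_coheight_le hco.le
  have h3 : IsIntegrallyClosed (X.presheaf.stalk x) ∧ ∀ P : Ideal (X.presheaf.stalk x),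
      P ≠ ⊥ → P.IsPrime → P = IsLocalRing.maximalIdeal (X.presheaf.stalk x) :=
    ⟨inferInstance, fun P hP hP' => IsLocalRing.eq_maximalIdeal (hP'.isMaximal_of_ne_bot hP)⟩
  have hPID : IsPrincipalIdealRing (X.presheaf.stalk x) :=
    ((tfae_of_isNoetherianRing_of_isLocalRing_of_isDomain (X.presheaf.stalk x)).out 3 0).mp h3
  refine { hPID with not_a_field' := fun hbot => ?_ }
  have hfield : IsField (X.presheaf.stalk x) := IsLocalRing.isField_iff_maximalIdeal_eq.mpr hbot
  have h0 := ringKrullDim_eq_zero_of_isField hfield
  rw [ringKrullDim_stalk_eq_coheight, hco] at h0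
  have h1 : (1 : ℕ∞) = 0 := by exact_mod_cast h0
  exact one_ne_zero h1

theorem zero_le_ord_iff (hX : Pi1.IsNormalScheme X) {x : X} (hco : Order.coheight x = 1)
    {f : X.functionField} (hf : f ≠ 0) :
    0 ≤ Scheme.ord f x ↔ f ∈ Set.range (algebraMap (X.presheaf.stalk x) X.functionField) := by
  have := isDiscreteValuationRing_of_coheight_eq_one hX hco
  have : Ring.KrullDimLE 1 (X.presheaf.stalk x) := krullDimLE_of_coheight_le hco.le
  rw [Scheme.le_ord_iff hco hf]
  change 1 ≤ Ring.ordFrac (X.presheaf.stalk x) f ↔ _
  constructor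
  · intro h
    exact NormalDepthOne.mem_range_of_one_le_ordFrac f hf h
  · rintro ⟨a, rfl⟩
    have ha0 : a ≠ 0 := by
      rintro rfl
      exact hf (map_zero _)
    exact Ring.ordFrac_ge_one_of_ne_zero ha0

theorem ord_one (x : X) : Scheme.ord (1 : X.functionField) x = 0 := by
  by_cases hco : Order.coheight x = 1
  · rw [Scheme.ord_eq_iff hco one_ne_zero]
    simp
  · exact Scheme.ord_eq_zero_of_coheight_neq_one hco _

theorem ord_inv (x : X) {f : X.functionField} (hf : f ≠ 0) :
    Scheme.ord f⁻¹ x = - Scheme.ord f x := by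
  have hmul := Scheme.ord_mul (x := x) hf (inv_ne_zero hf)
  rw [mul_inv_cancel₀ hf, ord_one] at hmul
  linarith

end Normal

end Groth.Agent.Lib.Helper5.CodimOne
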