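import Mathlib
import Groth.Prelude.Def_CohCx

set_option autoImplicit false
universe w v u
open CategoryTheory CategoryTheory.Limits CategoryTheory.Pretriangulated

noncomputable section
namespace Groth.Agent.Lib.Helper5.TruncRlim

section Generic

variable {A : Type u} [Category.{v} A] [Abelian A] [HasDerivedCategory.{w} A]

open DerivedCategory

/-- (L1) `H^j(mor₂)` is an isomorphism if `H^j` and `H^{j+1}` of the first object vanish -/
lemma isIso_homology_map_mor₂ (T : Triangle (DerivedCategory A)) (hT : T ∈ distTriang _) (j : ℤ)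
    (h0 : IsZero ((homologyFunctor A j).obj T.obj₁))
    (h1 : IsZero ((homologyFunctor A (j + 1)).obj T.obj₁)) :
    IsIso ((homologyFunctor A j).map T.mor₂) := by
  haveI : Mono ((homologyFunctor A j).map T.mor₂) :=
    ((homologyFunctor A 0).homologySequence_mono_shift_map_mor₂_iff T hT j).2 (h0.eq_of_src _ _)
  haveI : Epi ((homologyFunctor A j).map T.mor₂) :=
    ((homologyFunctor A 0).homologySequence_epi_shift_map_mor₂_iff T hT j (j + 1) rfl).2
      (h1.eq_of_tgt _ _)
  exact isIso_of_mono_of_epi _

/-- (L2) `H^j` of the first object vanishes if `H^{j-1}(mor₂)` is epi and `H^j(mor₂)` is mono -/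
lemma isZero_homology_obj₁ (T : Triangle (DerivedCategory A)) (hT : T ∈ distTriang _) (j j' : ℤ)
    (hj : j' + 1 = j)
    (h0 : Epi ((homologyFunctor A j').map T.mor₂))
    (h1 : Mono ((homologyFunctor A j).map T.mor₂)) :
    IsZero ((homologyFunctor A j).obj T.obj₁) := by
  have e1 := ((homologyFunctor A 0).homologySequence_epi_shift_map_mor₂_iff T hT j' j hj).1 h0
  have e2 := ((homologyFunctor A 0).homologySequence_mono_shift_map_mor₂_iff T hT j).1 h1
  exact ((homologyFunctor A 0).homologySequence_exact₁ T hT j' j hj).isZero_of_both_zeros e1 e2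

/-- `H^j(mor₁)` is an isomorphism if `H^{j-1}` and `H^j` of the third object vanish -/
lemma isIso_homology_map_mor₁ (T : Triangle (DerivedCategory A)) (hT : T ∈ distTriang _) (j j' : ℤ)
    (hj : j' + 1 = j)
    (h0 : IsZero ((homologyFunctor A j').obj T.obj₃))
    (h1 : IsZero ((homologyFunctor A j).obj T.obj₃)) :
    IsIso ((homologyFunctor A j).map T.mor₁) := by
  haveI : Mono ((homologyFunctor A j).map T.mor₁) :=
    ((homologyFunctor A 0).homologySequence_mono_shift_map_mor₁_iff T hT j' j hj).2
      (h0.eq_of_src _ _)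
  haveI : Epi ((homologyFunctor A j).map T.mor₁) :=
    ((homologyFunctor A 0).homologySequence_epi_shift_map_mor₁_iff T hT j).2 (h1.eq_of_tgt _ _)
  exact isIso_of_mono_of_epi _

/-- (F1) `E ⟶ τ_{≥ a} E` induces isomorphisms on `H^j` for `j ≥ a` -/
lemma isIso_homology_map_truncGEπ (E : DerivedCategory A) (a j : ℤ) (hj : a ≤ j) :
    IsIso ((homologyFunctor A j).map ((TStructure.t.truncGEπ a).app E)) := by
  have hT := TStructure.t.triangleLTGE_distinguished a E
  have hle : ((TStructure.t.triangleLTGE a).obj E).obj₁.IsLE (a - 1) := inferInstance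
  exact isIso_homology_map_mor₂ _ hT j (isZero_of_isLE _ (a - 1) j (by omega))
    (isZero_of_isLE _ (a - 1) (j + 1) (by omega))

end Generic

section Tower

variable {A : Type (u + 1)} [Category.{u} A] [Abelian A] [HasDerivedCategory.{w} A]
  (E : DerivedCategory A)

open DerivedCategory CohCx

lemma toTruncTower_comp_map (n : ℕ) :
    toTruncTower E (n + 1) ≫ truncTowerMap E n = toTruncTower E n :=
  TStructure.t.π_natTransTruncGEOfLE_app _ _ _ E

/-- (F2) -/
lemma isZero_homology_truncTower (n : ℕ) (j : ℤ) (hj : j < -(n : ℤ)) :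
    IsZero ((homologyFunctor A j).obj (truncTower E n)) :=
  isZero_of_isGE _ (-(n : ℤ)) j hj

lemma isIso_homology_map_toTruncTower (n : ℕ) (j : ℤ) (hj : -(n : ℤ) ≤ j) :
    IsIso ((homologyFunctor A j).map (toTruncTower E n)) :=
  isIso_homology_map_truncGEπ E _ j hj

/-- (F3) -/
lemma isIso_homology_map_truncTowerMap (n : ℕ) (j : ℤ) (hj : -(n : ℤ) ≤ j) :
    IsIso ((homologyFunctor A j).map (truncTowerMap E n)) := by
  haveI := isIso_homology_map_toTruncTower E n j hj
  haveI := isIso_homology_map_toTruncTower E (n + 1) j (by push_cast; omega)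
  have h : (homologyFunctor A j).map (toTruncTower E (n + 1)) ≫
      (homologyFunctor A j).map (truncTowerMap E n) = (homologyFunctor A j).map (toTruncTower E n) := by
    rw [← Functor.map_comp, toTruncTower_comp_map]
  exact IsIso.of_isIso_fac_left h

/-- (F4a) the fibre of the transition map has homology only in degree `-(n+1)` -/
lemma isZero_homology_fibre (n : ℕ) (N : DerivedCategory A) (f : N ⟶ truncTower E (n + 1))
    (δ : truncTower E n ⟶ N⟦(1 : ℤ)⟧)
    (hT : Triangle.mk f (truncTowerMap E n) δ ∈ distTriang _) (j : ℤ)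
    (hj : j ≠ -((n : ℤ) + 1)) : IsZero ((homologyFunctor A j).obj N) := by
  apply isZero_homology_obj₁ _ hT j (j - 1) (by omega)
  · -- epi in degree j - 1
    by_cases h : -(n : ℤ) ≤ j - 1
    · haveI := isIso_homology_map_truncTowerMap E n (j - 1) h
      change Epi ((homologyFunctor A (j - 1)).map (truncTowerMap E n))
      infer_instance
    · have hz := isZero_homology_truncTower E n (j - 1) (by omega)
      constructor
      intro Z g h' _
      exact hz.eq_of_src _ _
  · -- mono in degree j
    by_cases h : -(n : ℤ) ≤ j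
    · haveI := isIso_homology_map_truncTowerMap E n j h
      change Mono ((homologyFunctor A j).map (truncTowerMap E n))
      infer_instance
    · have hz := isZero_homology_truncTower E (n + 1) j (by push_cast; omega)
      constructor
      intro Z g h' _
      exact hz.eq_of_tgt _ _

/-- (F4b) -/
lemma isIso_homology_map_fibre (n : ℕ) (N : DerivedCategory A) (f : N ⟶ truncTower E (n + 1))
    (δ : truncTower E n ⟶ N⟦(1 : ℤ)⟧)
    (hT : Triangle.mk f (truncTowerMap E n) δ ∈ distTriang _) :
    IsIso ((homologyFunctor A (-((n : ℤ) + 1))).map f) :=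
  isIso_homology_map_mor₁ _ hT (-((n : ℤ) + 1)) (-((n : ℤ) + 1) - 1) (by omega)
    (isZero_homology_truncTower E n _ (by omega))
    (isZero_homology_truncTower E n _ (by omega))

/-- (F4) the fibre is the cohomology object `H^{-(n+1)}(E)` placed in degree `-(n+1)` -/
lemma nonempty_fibre_iso (n : ℕ) (N : DerivedCategory A) (f : N ⟶ truncTower E (n + 1))
    (δ : truncTower E n ⟶ N⟦(1 : ℤ)⟧)
    (hT : Triangle.mk f (truncTowerMap E n) δ ∈ distTriang _) :
    Nonempty (N ≅ (singleFunctor A (-((n : ℤ) + 1))).obj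
      ((homologyFunctor A (-((n : ℤ) + 1))).obj E)) := by
  haveI : N.IsGE (-((n : ℤ) + 1)) := (isGE_iff N _).2 (fun i hi =>
    isZero_homology_fibre E n N f δ hT i (by omega))
  haveI : N.IsLE (-((n : ℤ) + 1)) := (isLE_iff N _).2 (fun i hi =>
    isZero_homology_fibre E n N f δ hT i (by omega))
  obtain ⟨Y, ⟨e⟩⟩ := exists_iso_singleFunctor_obj_of_isGE_of_isLE N (-((n : ℤ) + 1))
  haveI := isIso_homology_map_fibre E n N f δ hT
  haveI := isIso_homology_map_toTruncTower E (n + 1) (-((n : ℤ) + 1)) (by push_cast; omega)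
  let e1 : Y ≅ (homologyFunctor A (-((n : ℤ) + 1))).obj E :=
    ((singleFunctorCompHomologyFunctorIso A (-((n : ℤ) + 1))).app Y).symm ≪≫
      (homologyFunctor A (-((n : ℤ) + 1))).mapIso e.symm ≪≫
      asIso ((homologyFunctor A (-((n : ℤ) + 1))).map f) ≪≫
      (asIso ((homologyFunctor A (-((n : ℤ) + 1))).map (toTruncTower E (n + 1)))).symm
  exact ⟨e ≪≫ (singleFunctor A (-((n : ℤ) + 1))).mapIso e1⟩

end Tower

end Groth.Agent.Lib.Helper5.TruncRlim
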