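import Mathlib

/-!
# The sobrification of a topological space as the space of points of its frame of opens (helper5)
-/

set_option autoImplicit false
universe u
open TopologicalSpace Topology

namespace Groth.Agent.Lib.Helper5.Sobrify

variable (X : Type u) [TopologicalSpace X]

/-- the sobrification. -/
abbrev Sob : Type u := Locale.PT (Opens X)

/-- the canonical map to the sobrification. -/
def j : X → Sob X := Locale.localePointOfSpacePoint X

variable {X}

/-- the open subset of the sobrification attached to an open subset. -/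
def O (U : Opens X) : Opens (Sob X) := ⟨{p | p U}, U, rfl⟩

lemma mem_O {U : Opens X} {p : Sob X} : p ∈ O U ↔ p U := Iff.rfl

lemma j_mem_O {U : Opens X} {x : X} : j X x ∈ O U ↔ x ∈ U := Iff.rfl

lemma exists_eq_O (V : Opens (Sob X)) : ∃ U : Opens X, V = O U := by
  obtain ⟨U, hU⟩ := V.isOpen
  exact ⟨U, Opens.ext hU.symm⟩

lemma isOpen_iff_exists (s : Set (Sob X)) : IsOpen s ↔ ∃ U : Opens X, s = (O U : Set (Sob X)) := by
  constructor
  · intro hs
    obtain ⟨U, hU⟩ := exists_eq_O ⟨s, hs⟩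
    exact ⟨U, congrArg (fun V : Opens (Sob X) => (V : Set (Sob X))) hU⟩
  · rintro ⟨U, rfl⟩
    exact (O U).isOpen

lemma continuous_j : Continuous (j X) := by
  rw [continuous_def]
  intro s hs
  obtain ⟨U, rfl⟩ := (isOpen_iff_exists s).1 hs
  exact U.isOpen

lemma preimage_O (U : Opens X) : j X ⁻¹' (O U : Set (Sob X)) = (U : Set X) := rfl

lemma O_mono {U V : Opens X} (h : U ≤ V) : O U ≤ O V := by
  intro p hp
  exact (OrderHomClass.mono p h) hp

lemma O_le_iff {U V : Opens X} : O U ≤ O V ↔ U ≤ V :=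
  ⟨fun h _ hx => h (j_mem_O.2 hx), O_mono⟩

lemma O_injective : Function.Injective (O (X := X)) := by
  intro U V h
  exact le_antisymm (O_le_iff.1 h.le) (O_le_iff.1 h.ge)

lemma O_inf (U V : Opens X) : O (U ⊓ V) = O U ⊓ O V := by
  ext p
  change p (U ⊓ V) ↔ p U ∧ p V
  rw [map_inf]
  rfl

instance : T0Space (Sob X) := by
  rw [t0Space_iff_inseparable]
  intro p q h
  apply DFunLike.ext
  intro U
  have := h.mem_open_iff (O U).isOpen
  exact propext this

instance : QuasiSober (Sob X) where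
  sober := by
    intro Z hirr hcl
    -- the generic point
    have hη_inf : ∀ U V : Opens X, (∃ p ∈ Z, p (U ⊓ V)) ↔ (∃ p ∈ Z, p U) ∧ (∃ p ∈ Z, p V) := by
      intro U V
      constructor
      · rintro ⟨p, hp, h⟩
        rw [map_inf] at h
        exact ⟨⟨p, hp, h.1⟩, ⟨p, hp, h.2⟩⟩
      · rintro ⟨⟨p, hp, hpU⟩, ⟨q, hq, hqV⟩⟩
        obtain ⟨r, hrZ, hrU, hrV⟩ := hirr.isPreirreducible (O U) (O V) (O U).isOpen (O V).isOpen
          ⟨p, hp, hpU⟩ ⟨q, hq, hqV⟩
        refine ⟨r, hrZ, ?_⟩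
        rw [map_inf]
        exact ⟨hrU, hrV⟩
    let η : Sob X :=
      { toFun := fun U => ∃ p ∈ Z, p U
        map_inf' := fun U V => propext (hη_inf U V)
        map_top' := by
          obtain ⟨p, hp⟩ := hirr.nonempty
          apply propext
          constructor
          · intro _
            trivial
          · intro _
            exact ⟨p, hp, by rw [map_top]; trivial⟩
        map_sSup' := by
          intro S
          apply propext
          constructor
          · rintro ⟨p, hp, h⟩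
            rw [map_sSup] at h
            simp only [sSup_Prop_eq, Set.mem_image] at h ⊢
            obtain ⟨_, ⟨U, hU, rfl⟩, hpU⟩ := h
            exact ⟨_, ⟨U, hU, rfl⟩, ⟨p, hp, hpU⟩⟩
          · intro h
            simp only [sSup_Prop_eq, Set.mem_image] at h
            obtain ⟨_, ⟨U, hU, rfl⟩, ⟨p, hp, hpU⟩⟩ := h
            refine ⟨p, hp, ?_⟩
            rw [map_sSup]
            simp only [sSup_Prop_eq, Set.mem_image]
            exact ⟨_, ⟨U, hU, rfl⟩, hpU⟩ }
    refine ⟨η, ?_⟩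
    change closure {η} = Z
    apply Set.Subset.antisymm
    · apply closure_minimal _ hcl
      rw [Set.singleton_subset_iff]
      -- η ∈ Z since Z is closed
      by_contra hηZ
      obtain ⟨U, hU⟩ := (isOpen_iff_exists Zᶜ).1 hcl.isOpen_compl
      have h1 : η ∈ (O U : Set (Sob X)) := by rw [← hU]; exact hηZ
      obtain ⟨p, hpZ, hpU⟩ : ∃ p ∈ Z, p U := h1
      have : p ∈ Zᶜ := by rw [hU]; exact hpU
      exact this hpZ
    · intro q hq
      rw [mem_closure_iff]
      intro s hs hqs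
      obtain ⟨U, rfl⟩ := (isOpen_iff_exists s).1 hs
      refine ⟨η, ?_, rfl⟩
      exact ⟨q, hq, hqs⟩

/-- preimage of an open, as a map of opens. -/
def pre (V : Opens (Sob X)) : Opens X := ⟨j X ⁻¹' V, V.isOpen.preimage continuous_j⟩

lemma pre_O (U : Opens X) : pre (O U) = U := rfl

lemma O_pre (V : Opens (Sob X)) : O (pre V) = V := by
  obtain ⟨U, rfl⟩ := exists_eq_O V
  rfl

lemma pre_strictMono : StrictMono (pre (X := X)) := by
  apply Monotone.strictMono_of_injective
  · intro V V' h x hx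
    exact h hx
  · intro V V' h
    rw [← O_pre V, ← O_pre V', h]

theorem noetherianSpace [NoetherianSpace X] : NoetherianSpace (Sob X) :=
  StrictMono.wellFoundedGT (f := pre (X := X)) pre_strictMono

theorem spectralSpace [NoetherianSpace X] : SpectralSpace (Sob X) := by
  have := noetherianSpace (X := X)
  exact {}

/-- the preimage of an irreducible closed subset of the sobrification is irreducible. -/
lemma isIrreducible_preimage {Z : Set (Sob X)} (hirr : IsIrreducible Z) (hcl : IsClosed Z) :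
    IsIrreducible (j X ⁻¹' Z) := by
  obtain ⟨U₀, hU₀⟩ := (isOpen_iff_exists Zᶜ).1 hcl.isOpen_compl
  have hmem : ∀ x : X, x ∈ j X ⁻¹' Z ↔ x ∉ U₀ := by
    intro x
    change j X x ∈ Z ↔ _
    rw [← not_iff_not, not_not, ← Set.mem_compl_iff, hU₀]
    rfl
  have key : ∀ W : Opens X, (Z ∩ (O W : Set (Sob X))).Nonempty → ∃ x ∈ W, x ∉ U₀ := by
    rintro W ⟨q, hqZ, hqW⟩
    by_contra hcon
    push Not at hcon
    have hle : W ≤ U₀ := fun x hx => hcon x hx
    have : q ∈ (O U₀ : Set (Sob X)) := O_mono hle hqW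
    rw [← hU₀] at this
    exact this hqZ
  constructor
  · obtain ⟨q, hq⟩ := hirr.nonempty
    obtain ⟨x, -, hx⟩ := key ⊤ ⟨q, hq, by change q ⊤; rw [map_top]; trivial⟩
    exact ⟨x, (hmem x).2 hx⟩
  · intro U V hU hV
    rintro ⟨x, hxT, hxU⟩ ⟨y, hyT, hyV⟩
    obtain ⟨q, hqZ, hqU, hqV⟩ := hirr.isPreirreducible (O ⟨U, hU⟩) (O ⟨V, hV⟩) (O _).isOpen (O _).isOpen
      ⟨j X x, hxT, hxU⟩ ⟨j X y, hyT, hyV⟩
    have hq : q ∈ (O (⟨U, hU⟩ ⊓ ⟨V, hV⟩) : Set (Sob X)) := by
      rw [O_inf]
      exact ⟨hqU, hqV⟩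
    obtain ⟨z, hzW, hz⟩ := key _ ⟨q, hqZ, hq⟩
    exact ⟨z, (hmem z).2 hz, hzW⟩

lemma preimage_injective_on_closed {Z Z' : Set (Sob X)} (hZ : IsClosed Z) (hZ' : IsClosed Z')
    (h : j X ⁻¹' Z = j X ⁻¹' Z') : Z = Z' := by
  obtain ⟨U, hU⟩ := (isOpen_iff_exists Zᶜ).1 hZ.isOpen_compl
  obtain ⟨U', hU'⟩ := (isOpen_iff_exists Z'ᶜ).1 hZ'.isOpen_compl
  have hUU' : U = U' := by
    ext x
    have h1 : x ∈ U ↔ j X x ∈ Zᶜ := by rw [hU]; rfl
    have h2 : x ∈ U' ↔ j X x ∈ Z'ᶜ := by rw [hU']; rfl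
    change x ∈ U ↔ x ∈ U'
    rw [h1, h2]
    change x ∉ j X ⁻¹' Z ↔ x ∉ j X ⁻¹' Z'
    rw [h]
  rw [← compl_compl Z, ← compl_compl Z', hU, hU', hUU']

theorem dim_le : topologicalKrullDim (Sob X) ≤ topologicalKrullDim X := by
  let Φ : IrreducibleCloseds (Sob X) → IrreducibleCloseds X := fun Z =>
    ⟨j X ⁻¹' (Z : Set (Sob X)), isIrreducible_preimage Z.isIrreducible Z.isClosed,
      Z.isClosed.preimage continuous_j⟩
  have hΦ : StrictMono Φ := by
    apply Monotone.strictMono_of_injective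
    · intro Z Z' h x hx
      exact h hx
    · intro Z Z' h
      apply IrreducibleCloseds.ext
      apply preimage_injective_on_closed Z.isClosed Z'.isClosed
      exact congrArg (fun T : IrreducibleCloseds X => (T : Set X)) h
  exact Order.krullDim_le_of_strictMono Φ hΦ

end Groth.Agent.Lib.Helper5.Sobrify
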