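import Mathlib
import Groth.Prelude.Def_CohTop
import Groth.Agent.Lib.Helper5.Sobrify
import Groth.Agent.Lib.Helper13.ClosedEmbPush

/-!
# Cohomology does not change under sobrification (helper5)
-/

set_option autoImplicit false
universe u
open CategoryTheory CategoryTheory.Limits Opposite CategoryTheory.Abelian TopologicalSpace
open Groth.Agent.Lib.Helper13.ExtAdj Groth.Agent.Lib.Helper13.ClosedEmbPush
open Groth.Agent.Lib.Helper13.SiteCohLocal Groth.Agent.Lib.Helper13.FlasqueBasic
  Groth.Agent.Lib.Helper13.ProfiniteAcyclic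
open Groth.Agent.Lib.Helper5.Sobrify

noncomputable section
namespace Groth.Agent.Lib.Helper5.SobCoh

variable (X : TopCat.{u})

/-- the sobrification as an object of `TopCat`. -/
abbrev S : TopCat.{u} := TopCat.of (Sob X)

/-- the canonical map. -/
def jj : X ⟶ S X := TopCat.ofHom ⟨j X, continuous_j⟩

variable {X}

instance : (CohTop.push (jj X)).Additive := CohTop.instAdditiveAbPush (jj X)

instance : PreservesFiniteLimits (CohTop.push (jj X)) := push_preservesFiniteLimits (jj X)

instance : (CohTop.pull (jj X)).PreservesMonomorphisms := pull_preservesMonomorphisms (jj X)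

theorem push_map_epi {G H : CohTop.Ab X} (φ : G ⟶ H) (hφ : Epi φ) :
    Epi ((CohTop.push (jj X)).map φ) := by
  rw [← Sheaf.isLocallySurjective_iff_epi' AddCommGrpCat.{u}]
  have hloc : Presheaf.IsLocallySurjective (Opens.grothendieckTopology X) φ.hom :=
    (Sheaf.isLocallySurjective_iff_epi' AddCommGrpCat.{u} φ).2 hφ
  constructor
  intro V s y hyV
  let 𝒮 : Set (Opens X) := {U' | ∃ (h : U' ≤ (Opens.map (jj X)).obj V) (t : G.obj.obj (op U')),
    (φ.hom.app (op U')).hom t = (H.obj.map (homOfLE h).op).hom s}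
  have hcov : (Opens.map (jj X)).obj V ≤ sSup 𝒮 := by
    intro x hx
    obtain ⟨U', g, ⟨t, ht⟩, hxU'⟩ := hloc.imageSieve_mem s x hx
    exact Opens.mem_sSup.2 ⟨U', ⟨g.le, t, ht⟩, hxU'⟩
  have hy : y ∈ O (sSup 𝒮) := by
    have h1 : O ((Opens.map (jj X)).obj V) ≤ O (sSup 𝒮) := O_mono hcov
    have h2 : O ((Opens.map (jj X)).obj V) = V := O_pre V
    rw [h2] at h1
    exact h1 hyV
  have hy' : y (sSup 𝒮) := hy
  rw [map_sSup] at hy'
  simp only [sSup_Prop_eq, Set.mem_image] at hy'
  obtain ⟨_, ⟨U', ⟨hU'V, t, ht⟩, rfl⟩, hyU'⟩ := hy'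
  have hV'V : O U' ≤ V := by
    have h1 : O U' ≤ O ((Opens.map (jj X)).obj V) := O_mono hU'V
    have h2 : O ((Opens.map (jj X)).obj V) = V := O_pre V
    rwa [h2] at h1
  have hle : (Opens.map (jj X)).obj (O U') ≤ U' := fun z hz => hz
  refine ⟨O U', homOfLE hV'V, ?_, hyU'⟩
  refine ⟨(G.obj.map (homOfLE hle).op).hom t, ?_⟩
  have h1 := ConcreteCategory.congr_hom (φ.hom.naturality (homOfLE hle).op) t
  refine h1.trans ?_
  change (H.obj.map (homOfLE hle).op).hom ((φ.hom.app (op U')).hom t) = _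
  rw [ht]
  have h3 : H.obj.map (homOfLE hU'V).op ≫ H.obj.map (homOfLE hle).op =
      ((CohTop.push (jj X)).obj H).obj.map (homOfLE hV'V).op := by
    rw [← H.obj.map_comp]
    rfl
  exact ConcreteCategory.congr_hom h3 s

theorem push_preservesFiniteColimits : PreservesFiniteColimits (CohTop.push (jj X)) :=
  preservesFiniteColimits_of_preservesEpi _ (fun φ hφ => push_map_epi φ hφ)

/-- `H^p(X, F) ≃ H^p(Sob X, j_* F)`. -/
def HEquivPush (F : CohTop.Ab X) (p : ℕ) :
    CohTop.H F p ≃+ CohTop.H ((CohTop.push (jj X)).obj F) p :=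
  have := push_preservesFiniteColimits (X := X)
  (extIsoLeft (pullConstIso (jj X)) F p).trans
    (extAdjEquiv' (adj (jj X)) (constZ
      (Opens.grothendieckTopology (S X))) F p)

end Groth.Agent.Lib.Helper5.SobCoh
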