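import Mathlib

/-!
# Helper5: rigidity of morphisms into unramified separated schemes, and a lemma on decomposition
groups.
-/

set_option autoImplicit false
universe u

open CategoryTheory CategoryTheory.Limits AlgebraicGeometry TopologicalSpace

namespace Groth.Agent.Lib.Helper5.Rigidity

/-- Rigidity: two `Y`-morphisms `a b : W ⟶ X` from a connected scheme, with `X ⟶ Y` separated and
with open diagonal (e.g. unramified), which agree on a nonempty scheme `T ⟶ W`, are equal. -/
theorem eq_of_comp_eq {X Y W T : Scheme.{u}} (p : X ⟶ Y) [IsOpenImmersion (pullback.diagonal p)]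
    [IsSeparated p] [PreconnectedSpace W] [Nonempty T] (a b : W ⟶ X) (hab : a ≫ p = b ≫ p)
    (ξ : T ⟶ W) (hξ : ξ ≫ a = ξ ≫ b) : a = b := by
  let ab : W ⟶ pullback p p := pullback.lift a b hab
  let ι : pullback ab (pullback.diagonal p) ⟶ W := pullback.fst ab (pullback.diagonal p)
  have h1 : IsOpenImmersion ι := inferInstance
  have h2 : IsClosedImmersion ι := inferInstance
  have hne : (Set.range ι).Nonempty := by
    let l : T ⟶ pullback ab (pullback.diagonal p) := pullback.lift ξ (ξ ≫ a) (by
      apply pullback.hom_ext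
      · rw [Category.assoc, Category.assoc, pullback.lift_fst, pullback.diagonal_fst,
          Category.comp_id]
      · rw [Category.assoc, Category.assoc, pullback.lift_snd, pullback.diagonal_snd,
          Category.comp_id, hξ])
    obtain ⟨t⟩ := ‹Nonempty T›
    exact ⟨ι (l t), l t, rfl⟩
  have hclopen : IsClopen (Set.range ι) :=
    ⟨ι.isClosedEmbedding.isClosed_range, ι.isOpenEmbedding.isOpen_range⟩
  have huniv : Set.range ι = Set.univ := hclopen.eq_univ hne
  have hiso : IsIso ι := by
    apply isIso_of_isOpenImmersion_of_opensRange_eq_top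
    exact TopologicalSpace.Opens.ext huniv
  rw [← cancel_epi ι]
  have hc := pullback.condition (f := ab) (g := pullback.diagonal p)
  have ha : ι ≫ a = pullback.snd ab (pullback.diagonal p) := by
    calc ι ≫ a = (ι ≫ ab) ≫ pullback.fst p p := by
          rw [Category.assoc, pullback.lift_fst]
      _ = pullback.snd ab (pullback.diagonal p) := by
          rw [hc, Category.assoc, pullback.diagonal_fst, Category.comp_id]
  have hb : ι ≫ b = pullback.snd ab (pullback.diagonal p) := by
    calc ι ≫ b = (ι ≫ ab) ≫ pullback.snd p p := by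
          rw [Category.assoc, pullback.lift_snd]
      _ = pullback.snd ab (pullback.diagonal p) := by
          rw [hc, Category.assoc, pullback.diagonal_snd, Category.comp_id]
  rw [ha, hb]

section Ring

open Pointwise

variable {A B G : Type*} [CommRing A] [CommRing B] [Algebra A B] [Group G] [Finite G]
  [MulSemiringAction G B] [SMulCommClass G A B] [Algebra.IsInvariant A B G]

/-- If `τ` is an `A = B^G`-automorphism of `B` fixing the prime `Q`, some element of the
decomposition group induces the same automorphism of `B ⧸ Q`. -/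
theorem exists_smul_sub_mem_of_comap_eq (Q : Ideal B) [Q.IsPrime] (τ : B ≃ₐ[A] B)
    (hτ : Q = Q.comap τ) : ∃ h : G, ∀ b : B, h • b - τ b ∈ Q := by
  haveI : Q.LiesOver (Q.under A) := ⟨rfl⟩
  obtain ⟨h, hh⟩ := Ideal.Quotient.stabilizerHom_surjective G (Q.under A) Q
    (Ideal.Quotient.algEquivOfEqComap (Q.under A) τ hτ)
  refine ⟨h.1, fun b => ?_⟩
  have := congr($hh (Ideal.Quotient.mk Q b))
  rw [Ideal.Quotient.stabilizerHom_apply, Ideal.Quotient.algEquivOfEqComap_apply] at this
  exact Ideal.Quotient.eq.mp this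

/-- Any `A = B^G`-automorphism of `B` agrees modulo a given prime `Q` with some element of `G`. -/
theorem exists_smul_sub_mem (Q : Ideal B) [Q.IsPrime] (τ : B ≃ₐ[A] B) :
    ∃ k : G, ∀ b : B, k • b - τ b ∈ Q := by
  have hQ' : (Q.comap τ).IsPrime := Ideal.comap_isPrime τ Q
  have hunder : (Q.comap τ).under A = Q.under A := by
    ext a
    simp only [Ideal.under, Ideal.mem_comap]
    rw [show τ (algebraMap A B a) = algebraMap A B a from τ.commutes a]
  obtain ⟨g₀, hg₀⟩ := Algebra.IsInvariant.exists_smul_of_under_eq A B G Q (Q.comap τ) hunder.symm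
  -- `Q.comap τ = g₀ • Q`
  let τ' : B ≃ₐ[A] B := (MulSemiringAction.toAlgEquiv A B g₀).trans τ
  have hτ' : Q = Q.comap τ' := by
    ext b
    simp only [Ideal.mem_comap]
    change b ∈ Q ↔ τ (g₀ • b) ∈ Q
    rw [← Ideal.mem_comap, hg₀, Ideal.smul_mem_pointwise_smul_iff]
  obtain ⟨h, hh⟩ := exists_smul_sub_mem_of_comap_eq (G := G) Q τ' hτ'
  refine ⟨h * g₀⁻¹, fun b => ?_⟩
  have := hh (g₀⁻¹ • b)
  change h • (g₀⁻¹ • b) - τ (g₀ • (g₀⁻¹ • b)) ∈ Q at this
  rwa [smul_inv_smul, ← mul_smul] at this

end Ring

end Groth.Agent.Lib.Helper5.Rigidity
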