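import Groth.Prelude.Def_SGA1
import Groth.Agent.Lib.Helper5.Rigidity
import Mathlib

/-!
# Helper5: quotients of schemes by finite groups (`SGA1.IsQuot`), affine-local structure

For `ρ : G →* Aut X` and an open `V` stable under `G`, the group acts on `Γ(X, V)`.
For a quotient `p : X ⟶ Y` and `U ⊆ Y` open, `Γ(Y, U)` is the ring of invariants of `Γ(X, p⁻¹U)`.
-/

set_option autoImplicit false
universe u

open CategoryTheory AlgebraicGeometry TopologicalSpace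

namespace Groth.Agent.Lib.Helper5.GroupQuot

variable {X Y : Scheme.{u}} {G : Type u} [Group G]

theorem appLE_congr_hom {X Y : Scheme.{u}} {f f' : X ⟶ Y} (h : f = f') (U : Y.Opens) (V : X.Opens)
    (e : V ≤ f ⁻¹ᵁ U) : f.appLE U V e = f'.appLE U V (h ▸ e) := by
  subst h; rfl

section Action

variable (ρ : G →* Aut X) (V : X.Opens) (hV : ∀ g : G, V ≤ (ρ g).hom ⁻¹ᵁ V)

/-- The ring endomorphism of `Γ(X, V)` induced by `g`. -/
noncomputable def sigma (g : G) : Γ(X, V) →+* Γ(X, V) := ((ρ g).hom.appLE V V (hV g)).hom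

theorem sigma_one : sigma ρ V hV 1 = RingHom.id _ := by
  have h1 : (ρ 1).hom = 𝟙 X := by rw [map_one]; rfl
  have h2 : (𝟙 X : X ⟶ X).appLE V V (h1 ▸ hV 1) = 𝟙 _ := by
    simp only [Scheme.Hom.appLE, Scheme.Hom.id_app, Category.id_comp]
    exact X.presheaf.map_id _
  unfold sigma
  rw [appLE_congr_hom h1, h2]
  rfl

theorem sigma_mul (g h : G) :
    sigma ρ V hV (g * h) = (sigma ρ V hV h).comp (sigma ρ V hV g) := by
  have h1 : (ρ (g * h)).hom = (ρ h).hom ≫ (ρ g).hom := by rw [map_mul]; rfl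
  unfold sigma
  rw [appLE_congr_hom h1, ← CommRingCat.hom_comp, Scheme.Hom.appLE_comp_appLE]

/-- The action of `G` on `Γ(X, V)`: `g • b = σ_{g⁻¹} b`. -/
@[instance_reducible]
noncomputable def mulSemiringAction : MulSemiringAction G Γ(X, V) where
  smul g b := sigma ρ V hV g⁻¹ b
  one_smul b := by
    change sigma ρ V hV (1 : G)⁻¹ b = b
    rw [inv_one, sigma_one]; rfl
  mul_smul g h b := by
    change sigma ρ V hV (g * h)⁻¹ b = sigma ρ V hV g⁻¹ (sigma ρ V hV h⁻¹ b)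
    rw [mul_inv_rev, sigma_mul]; rfl
  smul_zero g := map_zero _
  smul_add g := map_add _
  smul_one g := map_one _
  smul_mul g := map_mul _

theorem smul_def (g : G) (b : Γ(X, V)) :
    letI := mulSemiringAction ρ V hV
    g • b = sigma ρ V hV g⁻¹ b := rfl

end Action

section Quot

variable {ρ : G →* Aut X} {p : X ⟶ Y} (hp : SGA1.IsQuot ρ p) (U : Y.Opens)

/-- `G` acts on `Γ(X, p⁻¹U)`. -/
@[instance_reducible]
noncomputable def quotAction : MulSemiringAction G Γ(X, p ⁻¹ᵁ U) :=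
  mulSemiringAction ρ (p ⁻¹ᵁ U) (fun g => SGA1.preimage_le_of_inv ρ p hp.inv g U)

/-- `Γ(X, p⁻¹U)` as an algebra over `Γ(Y, U)`. -/
@[instance_reducible]
noncomputable def quotAlgebra : Algebra Γ(Y, U) Γ(X, p ⁻¹ᵁ U) := (p.app U).hom.toAlgebra

theorem sigma_app (g : G) (a : Γ(Y, U)) :
    sigma ρ (p ⁻¹ᵁ U) (fun g => SGA1.preimage_le_of_inv ρ p hp.inv g U) g ((p.app U).hom a) =
      (p.app U).hom a :=
  ((hp.range_iff U _).mp ⟨a, rfl⟩) g

theorem isInvariant :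
    letI := quotAction hp U
    letI := quotAlgebra (p := p) U
    Algebra.IsInvariant Γ(Y, U) Γ(X, p ⁻¹ᵁ U) G := by
  letI := quotAction hp U
  letI := quotAlgebra (p := p) U
  refine ⟨fun b hb => ?_⟩
  have : b ∈ Set.range (p.app U).hom := by
    rw [hp.range_iff U b]
    intro g
    have := hb g⁻¹
    rw [smul_def, inv_inv] at this
    exact this
  exact this

theorem smulCommClass :
    letI := quotAction hp U
    letI := quotAlgebra (p := p) U
    SMulCommClass G Γ(Y, U) Γ(X, p ⁻¹ᵁ U) := by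
  letI := quotAction hp U
  letI := quotAlgebra (p := p) U
  refine ⟨fun g a b => ?_⟩
  rw [Algebra.smul_def, Algebra.smul_def, smul_def, smul_def, map_mul]
  congr 1
  exact sigma_app hp U g⁻¹ a

end Quot

section Points

variable {ρ : G →* Aut X} {p : X ⟶ Y} (hp : SGA1.IsQuot ρ p)

include hp in
theorem isIntegral_app [Finite G] (U : Y.Opens) : (p.app U).hom.IsIntegral := by
  letI := quotAction hp U
  letI := quotAlgebra (p := p) U
  have := isInvariant hp U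
  have : Algebra.IsIntegral Γ(Y, U) Γ(X, p ⁻¹ᵁ U) :=
    Algebra.IsInvariant.isIntegral Γ(Y, U) Γ(X, p ⁻¹ᵁ U) G
  exact fun b => Algebra.IsIntegral.isIntegral b

theorem primeIdealOf_injective {V : X.Opens} (hV : IsAffineOpen V) {a b : X} (ha : a ∈ V)
    (hb : b ∈ V) (h : hV.primeIdealOf ⟨a, ha⟩ = hV.primeIdealOf ⟨b, hb⟩) : a = b := by
  have := congrArg (fun q => hV.fromSpec q) h
  simpa only [IsAffineOpen.fromSpec_primeIdealOf] using this

include hp in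
theorem surjective [Finite G] : Function.Surjective p := by
  have := hp.affine
  intro y
  obtain ⟨_, ⟨U, hU0, rfl⟩, hyU, -⟩ :=
    Y.isBasis_affineOpens.exists_subset_of_mem_open (Set.mem_univ y) isOpen_univ
  have hU : IsAffineOpen U := hU0
  have hV : IsAffineOpen (p ⁻¹ᵁ U) := hU.preimage p
  letI := quotAction hp U
  letI := quotAlgebra (p := p) U
  have := isInvariant hp U
  have : Algebra.IsIntegral Γ(Y, U) Γ(X, p ⁻¹ᵁ U) :=
    Algebra.IsInvariant.isIntegral Γ(Y, U) Γ(X, p ⁻¹ᵁ U) G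
  obtain ⟨P, -, hPprime, hPQ⟩ := Ideal.exists_ideal_over_prime_of_isIntegral
    (hU.primeIdealOf ⟨y, hyU⟩).asIdeal (⊥ : Ideal Γ(X, p ⁻¹ᵁ U)) (by
      change Ideal.comap (p.app U).hom ⊥ ≤ _
      rw [Ideal.comap_bot_of_injective _ (hp.injective U)]; exact bot_le)
  refine ⟨hV.fromSpec ⟨P, hPprime⟩, ?_⟩
  have h1 := IsAffineOpen.SpecMap_appLE_fromSpec p hU hV le_rfl
  have h2 := congr($(h1) ⟨P, hPprime⟩)
  rw [Scheme.Hom.comp_apply, Scheme.Hom.comp_apply] at h2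
  rw [← h2]
  have h3 : Spec.map (p.appLE U (p ⁻¹ᵁ U) le_rfl) ⟨P, hPprime⟩ = hU.primeIdealOf ⟨y, hyU⟩ := by
    apply PrimeSpectrum.ext
    rw [← hPQ, ← Scheme.Hom.app_eq_appLE]
    rfl
  rw [h3, IsAffineOpen.fromSpec_primeIdealOf]

include hp in
theorem exists_smul_eq_of_map_eq [Finite G] (x x' : X) (h : p x = p x') :
    ∃ g : G, (ρ g).hom x = x' := by
  have := hp.affine
  obtain ⟨_, ⟨U, hU0, rfl⟩, hyU, -⟩ :=
    Y.isBasis_affineOpens.exists_subset_of_mem_open (Set.mem_univ (p x)) isOpen_univ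
  have hU : IsAffineOpen U := hU0
  have hV : IsAffineOpen (p ⁻¹ᵁ U) := hU.preimage p
  have hxV : x ∈ p ⁻¹ᵁ U := hyU
  have hx'V : x' ∈ p ⁻¹ᵁ U := by
    change p x' ∈ U
    rw [← h]; exact hyU
  have hstab : ∀ g : G, p ⁻¹ᵁ U ≤ (ρ g).hom ⁻¹ᵁ (p ⁻¹ᵁ U) :=
    fun g => SGA1.preimage_le_of_inv ρ p hp.inv g U
  letI := quotAction hp U
  letI := quotAlgebra (p := p) U
  have := isInvariant hp U
  have := smulCommClass hp U
  have hP : (hV.primeIdealOf ⟨x, hxV⟩).asIdeal.under Γ(Y, U) =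
      (hU.primeIdealOf ⟨p x, hyU⟩).asIdeal := by
    have := IsAffineOpen.comap_primeIdealOf_appLE (f := p) U hU (p ⁻¹ᵁ U) hV le_rfl hxV
    rw [← Scheme.Hom.app_eq_appLE] at this
    exact congrArg PrimeSpectrum.asIdeal this
  have hP' : (hV.primeIdealOf ⟨x', hx'V⟩).asIdeal.under Γ(Y, U) =
      (hU.primeIdealOf ⟨p x', hx'V⟩).asIdeal := by
    have := IsAffineOpen.comap_primeIdealOf_appLE (f := p) U hU (p ⁻¹ᵁ U) hV le_rfl hx'V
    rw [← Scheme.Hom.app_eq_appLE] at this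
    exact congrArg PrimeSpectrum.asIdeal this
  have hPP' : (hV.primeIdealOf ⟨x, hxV⟩).asIdeal.under Γ(Y, U) =
      (hV.primeIdealOf ⟨x', hx'V⟩).asIdeal.under Γ(Y, U) := by
    rw [hP, hP']
    congr 3
  obtain ⟨g, hg⟩ := Algebra.IsInvariant.exists_smul_of_under_eq Γ(Y, U) Γ(X, p ⁻¹ᵁ U) G
    (hV.primeIdealOf ⟨x, hxV⟩).asIdeal (hV.primeIdealOf ⟨x', hx'V⟩).asIdeal hPP'
  refine ⟨g, ?_⟩
  have h3 := IsAffineOpen.comap_primeIdealOf_appLE (f := (ρ g).hom) (p ⁻¹ᵁ U) hV (p ⁻¹ᵁ U) hV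
    (hstab g) hxV
  have h4 : hV.primeIdealOf ⟨(ρ g).hom x, hstab g hxV⟩ = hV.primeIdealOf ⟨x', hx'V⟩ := by
    rw [← h3]
    apply PrimeSpectrum.ext
    rw [hg]
    ext c
    rw [Ideal.mem_pointwise_smul_iff_inv_smul_mem, smul_def, inv_inv]
    rfl
  exact primeIdealOf_injective hV _ _ h4

include hp in
theorem isIntegralHom [Finite G] : IsIntegralHom p :=
  { toIsAffineHom := hp.affine
    isIntegral_app := fun U _ => isIntegral_app hp U }

include hp in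
theorem map_smul_eq (g : G) (x : X) : p ((ρ g).hom x) = p x := by
  rw [← Scheme.Hom.comp_apply, hp.inv g]

include hp in
theorem map_eq_iff [Finite G] (x x' : X) : p x = p x' ↔ ∃ g : G, (ρ g).hom x = x' :=
  ⟨exists_smul_eq_of_map_eq hp x x', fun ⟨g, hg⟩ => by rw [← hg, map_smul_eq hp]⟩

include hp in
theorem isClosedMap [Finite G] : IsClosedMap p := by
  have := isIntegralHom hp
  exact p.isClosedMap

include hp in
theorem isQuotientMap [Finite G] : Topology.IsQuotientMap p :=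
  (isClosedMap hp).isQuotientMap p.continuous (surjective hp)

end Points


section Affine

variable {ρ : G →* Aut X} {p : X ⟶ Y} (hp : SGA1.IsQuot ρ p)

theorem fromSpec_mem {V : X.Opens} (hV : IsAffineOpen V) (Q : Spec Γ(X, V)) :
    hV.fromSpec Q ∈ V := by
  have : hV.fromSpec Q ∈ Set.range hV.fromSpec := Set.mem_range_self Q
  rwa [hV.range_fromSpec] at this

theorem mem_basicOpen_fromSpec_iff {V : X.Opens} (hV : IsAffineOpen V) (Q : Spec Γ(X, V))
    (a : Γ(X, V)) : hV.fromSpec Q ∈ X.basicOpen a ↔ a ∉ Q.asIdeal := by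
  have : hV.fromSpec Q ∈ X.basicOpen a ↔ Q ∈ hV.fromSpec ⁻¹ᵁ X.basicOpen a := Iff.rfl
  rw [this, hV.fromSpec_preimage_basicOpen]
  rfl

include hp in
/-- The action of `g` on the primes of `Γ(X, p⁻¹V)` is the action on points. -/
theorem fromSpec_smul (V : Y.Opens) (hV : IsAffineOpen (p ⁻¹ᵁ V)) (g : G)
    (Q : Spec Γ(X, p ⁻¹ᵁ V)) :
    hV.fromSpec (Spec.map ((ρ g).hom.appLE (p ⁻¹ᵁ V) (p ⁻¹ᵁ V)
      (SGA1.preimage_le_of_inv ρ p hp.inv g V)) Q) = (ρ g).hom (hV.fromSpec Q) := by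
  have h1 := IsAffineOpen.SpecMap_appLE_fromSpec (ρ g).hom hV hV
    (SGA1.preimage_le_of_inv ρ p hp.inv g V)
  have h2 := congr($(h1) Q)
  rwa [Scheme.Hom.comp_apply, Scheme.Hom.comp_apply] at h2

include hp in
theorem exists_smul_fromSpec_eq [Finite G] (V : Y.Opens) (hV : IsAffineOpen (p ⁻¹ᵁ V))
    (Q Q' : Spec Γ(X, p ⁻¹ᵁ V))
    (h : Q.asIdeal.comap (p.app V).hom = Q'.asIdeal.comap (p.app V).hom) :
    ∃ g : G, (ρ g).hom (hV.fromSpec Q) = hV.fromSpec Q' := by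
  letI := quotAction hp V
  letI := quotAlgebra (p := p) V
  have := isInvariant hp V
  have := smulCommClass hp V
  obtain ⟨g, hg⟩ := Algebra.IsInvariant.exists_smul_of_under_eq Γ(Y, V) Γ(X, p ⁻¹ᵁ V) G
    Q.asIdeal Q'.asIdeal h
  refine ⟨g, ?_⟩
  rw [← fromSpec_smul hp V hV g Q]
  congr 1
  apply PrimeSpectrum.ext
  rw [hg]
  ext c
  rw [Ideal.mem_pointwise_smul_iff_inv_smul_mem, smul_def, inv_inv]
  rfl

include hp in
theorem exists_basicOpen_le [Finite G] (V : Y.Opens) (hV : IsAffineOpen (p ⁻¹ᵁ V))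
    (Q : Spec Γ(X, p ⁻¹ᵁ V)) (U : Y.Opens) (hy : p (hV.fromSpec Q) ∈ U) :
    ∃ b : Γ(Y, V), (p.app V).hom b ∉ Q.asIdeal ∧ Y.basicOpen b ≤ U := by
  letI := quotAction hp V
  letI := quotAlgebra (p := p) V
  have := isInvariant hp V
  have : Algebra.IsIntegral Γ(Y, V) Γ(X, p ⁻¹ᵁ V) :=
    Algebra.IsInvariant.isIntegral Γ(Y, V) Γ(X, p ⁻¹ᵁ V) G
  set W : Set (PrimeSpectrum Γ(X, p ⁻¹ᵁ V)) :=
    {Q' : Spec Γ(X, p ⁻¹ᵁ V) | p (hV.fromSpec Q') ∈ U} with hW
  have hWopen : IsOpen W := (hV.fromSpec ⁻¹ᵁ (p ⁻¹ᵁ U)).isOpen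
  set I : Ideal Γ(X, p ⁻¹ᵁ V) := PrimeSpectrum.vanishingIdeal Wᶜ with hI
  have hzero : PrimeSpectrum.zeroLocus (I : Set Γ(X, p ⁻¹ᵁ V)) = Wᶜ := by
    rw [hI, PrimeSpectrum.zeroLocus_vanishingIdeal_eq_closure, IsClosed.closure_eq]
    exact hWopen.isClosed_compl
  have hnot : ¬ I.comap (algebraMap Γ(Y, V) Γ(X, p ⁻¹ᵁ V)) ≤ Q.asIdeal.under Γ(Y, V) := by
    intro hle
    obtain ⟨Q', hQ'I, hQ'prime, hQ'⟩ :=
      Ideal.exists_ideal_over_prime_of_isIntegral (Q.asIdeal.under Γ(Y, V)) I hle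
    obtain ⟨g, hg⟩ := exists_smul_fromSpec_eq hp V hV Q ⟨Q', hQ'prime⟩ hQ'.symm
    have h1 : (⟨Q', hQ'prime⟩ : PrimeSpectrum _) ∈
        PrimeSpectrum.zeroLocus (I : Set Γ(X, p ⁻¹ᵁ V)) := hQ'I
    rw [hzero] at h1
    apply h1
    change p (hV.fromSpec ⟨Q', hQ'prime⟩) ∈ U
    rw [← hg, map_smul_eq hp]; exact hy
  obtain ⟨b, hbI, hbQ⟩ := SetLike.not_le_iff_exists.mp hnot
  refine ⟨b, hbQ, ?_⟩
  intro y' hy'
  have hy'V : y' ∈ V := Y.basicOpen_le b hy'
  obtain ⟨x', rfl⟩ := surjective hp y'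
  have hx'V : x' ∈ p ⁻¹ᵁ V := hy'V
  by_contra hnU
  set Q'' := hV.primeIdealOf ⟨x', hx'V⟩ with hQ''
  have hx' : hV.fromSpec Q'' = x' := hV.fromSpec_primeIdealOf ⟨x', hx'V⟩
  have h2 : Q'' ∈ Wᶜ := by
    intro hmem
    apply hnU
    have : p (hV.fromSpec Q'') ∈ U := hmem
    rwa [hx'] at this
  rw [← hzero] at h2
  have h3 : (p.app V).hom b ∈ Q''.asIdeal := h2 hbI
  have h4 : hV.fromSpec Q'' ∈ X.basicOpen ((p.app V).hom b) := by
    rw [hx']
    have : x' ∈ p ⁻¹ᵁ Y.basicOpen b := hy'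
    rwa [Scheme.preimage_basicOpen] at this
  exact (mem_basicOpen_fromSpec_iff hV Q'' _).mp h4 h3

include hp in
/-- If the preimage of an open `V` of the quotient is affine, then `V` is affine. -/
theorem isAffineOpen_of_preimage [Finite G] (V : Y.Opens) (hV : IsAffineOpen (p ⁻¹ᵁ V)) :
    IsAffineOpen V := by
  letI := quotAction hp V
  letI := quotAlgebra (p := p) V
  have := isInvariant hp V
  have : Algebra.IsIntegral Γ(Y, V) Γ(X, p ⁻¹ᵁ V) :=
    Algebra.IsInvariant.isIntegral Γ(Y, V) Γ(X, p ⁻¹ᵁ V) G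
  apply isAffineOpen_of_isAffineOpen_basicOpen V {b | IsAffineOpen (Y.basicOpen b)} ?_
    (fun b hb => hb)
  by_contra hne
  obtain ⟨m, hm, hle⟩ := Ideal.exists_le_maximal _ hne
  have hmp : m.IsPrime := hm.isPrime
  obtain ⟨Q, -, hQprime, hQm⟩ := Ideal.exists_ideal_over_prime_of_isIntegral m
    (⊥ : Ideal Γ(X, p ⁻¹ᵁ V)) (by
      change Ideal.comap (p.app V).hom ⊥ ≤ _
      rw [Ideal.comap_bot_of_injective _ (hp.injective V)]; exact bot_le)
  have hxV : p (hV.fromSpec ⟨Q, hQprime⟩) ∈ V := fromSpec_mem hV _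
  obtain ⟨_, ⟨U, hU0, rfl⟩, hyU, hUV⟩ :=
    Y.isBasis_affineOpens.exists_subset_of_mem_open hxV V.isOpen
  have hU : IsAffineOpen U := hU0
  have hUV' : U ≤ V := hUV
  obtain ⟨b, hbQ, hbU⟩ := exists_basicOpen_le hp V hV ⟨Q, hQprime⟩ U hyU
  have hb : IsAffineOpen (Y.basicOpen b) := by
    have h1 := hU.basicOpen (Y.presheaf.map (homOfLE hUV').op b)
    rwa [Y.basicOpen_res, inf_eq_right.mpr hbU] at h1
  have hbm : b ∈ m := hle (Ideal.subset_span hb)
  apply hbQ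
  rw [← hQm] at hbm
  exact hbm

end Affine

section Over

variable {Z : Scheme.{u}} {ρ : G →* Aut X} {p : X ⟶ Y} (hp : SGA1.IsQuot ρ p)

include hp in
theorem isAffineHom_of_comp [Finite G] (q : Y ⟶ Z) [IsAffineHom (p ≫ q)] : IsAffineHom q := by
  refine ⟨fun W hW => ?_⟩
  apply isAffineOpen_of_preimage hp
  rw [← Scheme.Hom.comp_preimage]
  exact hW.preimage (p ≫ q)

include hp in
theorem isSeparated_of_comp [Finite G] (q : Y ⟶ Z) [IsSeparated (p ≫ q)] : IsSeparated q := by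
  have hint : IsIntegralHom p := isIntegralHom hp
  let pp : Limits.pullback (p ≫ q) (p ≫ q) ⟶ Limits.pullback q q :=
    Limits.pullback.map (p ≫ q) (p ≫ q) q q p p (𝟙 Z) ((Category.comp_id _).trans rfl)
      ((Category.comp_id _).trans rfl)
  have hpp : IsIntegralHom pp :=
    MorphismProperty.pullbackMap (P := @IsIntegralHom) hint hint rfl rfl
  have hcomm : Limits.pullback.diagonal (p ≫ q) ≫ pp = p ≫ Limits.pullback.diagonal q := by
    apply Limits.pullback.hom_ext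
    · simp only [pp, Category.assoc, Limits.pullback.lift_fst, Limits.pullback.diagonal_fst,
        Limits.pullback.diagonal_fst_assoc, Category.comp_id]
    · simp only [pp, Category.assoc, Limits.pullback.lift_snd, Limits.pullback.diagonal_snd,
        Limits.pullback.diagonal_snd_assoc, Category.comp_id]
  have hrange : Set.range (Limits.pullback.diagonal q) =
      pp '' Set.range (Limits.pullback.diagonal (p ≫ q)) := by
    have h1 : Set.range (Limits.pullback.diagonal q) =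
        Set.range (p ≫ Limits.pullback.diagonal q) := by
      rw [Scheme.Hom.comp_base, TopCat.coe_comp, Set.range_comp,
        (surjective hp).range_eq, Set.image_univ]
    rw [h1, ← hcomm, Scheme.Hom.comp_base, TopCat.coe_comp, Set.range_comp]
  have hclosed : IsClosed (Set.range (Limits.pullback.diagonal q)) := by
    rw [hrange]
    exact pp.isClosedMap _ (Limits.pullback.diagonal (p ≫ q)).isClosedEmbedding.isClosed_range
  exact ⟨IsClosedImmersion.of_isPreimmersion _ hclosed⟩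

include hp in
theorem isFinite_of_comp [Finite G] (q : Y ⟶ Z) [LocallyOfFiniteType (p ≫ q)] : IsFinite p :=
  (IsFinite.iff_isIntegralHom_and_locallyOfFiniteType p).mpr
    ⟨isIntegralHom hp, locallyOfFiniteType_of_comp p q⟩

include hp in
theorem quasiCompact_of_comp [Finite G] (q : Y ⟶ Z) [QuasiCompact (p ≫ q)] : QuasiCompact q := by
  refine ⟨fun U hU hUc => ?_⟩
  have h1 : (q ⁻¹' U : Set Y) = p '' ((p ≫ q) ⁻¹' U) := by
    rw [Scheme.Hom.comp_base, TopCat.coe_comp, Set.preimage_comp,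
      Set.image_preimage_eq _ (surjective hp)]
  rw [h1]
  exact (QuasiCompact.isCompact_preimage (f := p ≫ q) U hU hUc).image p.continuous

/-- Artin–Tate for ring homomorphisms. -/
theorem _root_.RingHom.FiniteType.of_comp_of_isIntegral_of_injective {R B A : Type u} [CommRing R]
    [CommRing B] [CommRing A] [IsNoetherianRing R] (φ : R →+* B) (ψ : B →+* A)
    (h : (ψ.comp φ).FiniteType) (hinj : Function.Injective ψ) (hint : ψ.IsIntegral) :
    φ.FiniteType := by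
  have hfin : ψ.Finite := hint.to_finite (RingHom.FiniteType.of_comp_finiteType h)
  algebraize [φ, ψ, ψ.comp φ]
  have hAC : (⊤ : Subalgebra R A).FG := (‹Algebra.FiniteType R A›).out
  have hBC : (⊤ : Submodule B A).FG := (‹Module.Finite B A›).fg_top
  exact ⟨fg_of_fg_of_fg R B A hAC hBC hinj⟩

include hp in
theorem locallyOfFiniteType_of_comp [Finite G] [IsLocallyNoetherian Z] (q : Y ⟶ Z)
    [LocallyOfFiniteType (p ≫ q)] : LocallyOfFiniteType q := by
  have := hp.affine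
  rw [HasRingHomProperty.iff_exists_appLE (P := @LocallyOfFiniteType)
    (RingHom.finiteType_stableUnderComposition.stableUnderCompositionWithLocalizationAway
      RingHom.finiteType_holdsForLocalizationAway).left]
  intro y
  obtain ⟨_, ⟨U, hU0, rfl⟩, hyU, -⟩ :=
    Z.isBasis_affineOpens.exists_subset_of_mem_open (Set.mem_univ (q y)) isOpen_univ
  have hU : IsAffineOpen U := hU0
  obtain ⟨_, ⟨V, hV0, rfl⟩, hyV, hVU⟩ :=
    Y.isBasis_affineOpens.exists_subset_of_mem_open (show y ∈ q ⁻¹ᵁ U from hyU) (q ⁻¹ᵁ U).isOpen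
  have hV : IsAffineOpen V := hV0
  have hVU' : V ≤ q ⁻¹ᵁ U := hVU
  refine ⟨⟨U, hU⟩, ⟨V, hV⟩, hyV, hVU', ?_⟩
  have hV' : IsAffineOpen (p ⁻¹ᵁ V) := hV.preimage p
  have e' : p ⁻¹ᵁ V ≤ (p ≫ q) ⁻¹ᵁ U := by
    rw [Scheme.Hom.comp_preimage]
    exact p.preimage_mono hVU'
  have h1 : ((p ≫ q).appLE U (p ⁻¹ᵁ V) e').hom.FiniteType :=
    (p ≫ q).finiteType_appLE hU hV' e'
  have h2 : (p ≫ q).appLE U (p ⁻¹ᵁ V) e' = q.appLE U V hVU' ≫ p.app V := by
    rw [Scheme.Hom.app_eq_appLE, Scheme.Hom.appLE_comp_appLE]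
  rw [h2, CommRingCat.hom_comp] at h1
  have : IsNoetherianRing Γ(Z, U) := IsLocallyNoetherian.component_noetherian ⟨U, hU⟩
  exact RingHom.FiniteType.of_comp_of_isIntegral_of_injective _ _ h1 (hp.injective V)
    (isIntegral_app hp V)

end Over

section AutOver

/-- The group of automorphisms of `X` over `Y`. -/
def autOver (p : X ⟶ Y) : Subgroup (Aut X) where
  carrier := {w | w.hom ≫ p = p}
  mul_mem' := by
    intro a b ha hb
    change (b.hom ≫ a.hom) ≫ p = p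
    rw [Category.assoc, ha, hb]
  one_mem' := by
    change 𝟙 X ≫ p = p
    rw [Category.id_comp]
  inv_mem' := by
    intro a ha
    change a.inv ≫ p = p
    calc a.inv ≫ p = a.inv ≫ a.hom ≫ p := by rw [ha]
      _ = p := by rw [Iso.inv_hom_id_assoc]

theorem sigma_app_of_inv (ρ : G →* Aut X) (p : X ⟶ Y) (hinv : ∀ g, (ρ g).hom ≫ p = p)
    (U : Y.Opens) (g : G) (a : Γ(Y, U)) :
    sigma ρ (p ⁻¹ᵁ U) (fun g => SGA1.preimage_le_of_inv ρ p hinv g U) g ((p.app U).hom a) =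
      (p.app U).hom a := by
  unfold sigma
  rw [← CommRingCat.comp_apply, Scheme.Hom.app_eq_appLE, Scheme.Hom.appLE_comp_appLE,
    appLE_congr_hom (hinv g)]

variable {ρ : G →* Aut X} {p : X ⟶ Y} (hp : SGA1.IsQuot ρ p)

include hp in
/-- Every automorphism of `X` over the quotient `Y = X/G` comes from `G`, when `X` is connected and
`p` has open diagonal (e.g. is unramified). -/
theorem exists_map_eq_of_autOver [Finite G] [IsOpenImmersion (Limits.pullback.diagonal p)]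
    [PreconnectedSpace X] [Nonempty X] (u : Aut X) (hu : u.hom ≫ p = p) : ∃ g : G, ρ g = u := by
  have := hp.affine
  obtain ⟨x⟩ := ‹Nonempty X›
  obtain ⟨_, ⟨U, hU0, rfl⟩, hyU, -⟩ :=
    Y.isBasis_affineOpens.exists_subset_of_mem_open (Set.mem_univ (p x)) isOpen_univ
  have hU : IsAffineOpen U := hU0
  have hV : IsAffineOpen (p ⁻¹ᵁ U) := hU.preimage p
  have hxV : x ∈ p ⁻¹ᵁ U := hyU
  letI := quotAction hp U
  letI := quotAlgebra (p := p) U
  have := isInvariant hp U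
  have := smulCommClass hp U
  let ρ' : autOver p →* Aut X := (autOver p).subtype
  have hinv' : ∀ w : autOver p, (ρ' w).hom ≫ p = p := fun w => w.2
  have hst : ∀ w : autOver p, p ⁻¹ᵁ U ≤ (ρ' w).hom ⁻¹ᵁ (p ⁻¹ᵁ U) :=
    fun w => SGA1.preimage_le_of_inv ρ' p hinv' w U
  let w : autOver p := ⟨u, hu⟩
  have h1 : (sigma ρ' (p ⁻¹ᵁ U) hst w).comp (sigma ρ' (p ⁻¹ᵁ U) hst w⁻¹) = RingHom.id _ := by
    rw [← sigma_mul, inv_mul_cancel, sigma_one]
  have h2 : (sigma ρ' (p ⁻¹ᵁ U) hst w⁻¹).comp (sigma ρ' (p ⁻¹ᵁ U) hst w) = RingHom.id _ := by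
    rw [← sigma_mul, mul_inv_cancel, sigma_one]
  let τ : Γ(X, p ⁻¹ᵁ U) ≃ₐ[Γ(Y, U)] Γ(X, p ⁻¹ᵁ U) :=
    AlgEquiv.ofRingEquiv (f := RingEquiv.ofRingHom (sigma ρ' (p ⁻¹ᵁ U) hst w)
      (sigma ρ' (p ⁻¹ᵁ U) hst w⁻¹) h1 h2) (fun a => sigma_app_of_inv ρ' p hinv' U w a)
  have hQ : (hV.primeIdealOf ⟨x, hxV⟩).asIdeal.IsPrime := (hV.primeIdealOf ⟨x, hxV⟩).isPrime
  obtain ⟨k, hk⟩ := Rigidity.exists_smul_sub_mem (G := G) (hV.primeIdealOf ⟨x, hxV⟩).asIdeal τ
  refine ⟨k⁻¹, ?_⟩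
  apply Iso.ext
  have hnt : Nontrivial (Γ(X, p ⁻¹ᵁ U) ⧸ (hV.primeIdealOf ⟨x, hxV⟩).asIdeal) :=
    Ideal.Quotient.nontrivial_iff.mpr hQ.ne_top
  have hne : Nonempty (Spec (CommRingCat.of
      (Γ(X, p ⁻¹ᵁ U) ⧸ (hV.primeIdealOf ⟨x, hxV⟩).asIdeal))) :=
    (inferInstance : Nonempty (PrimeSpectrum _))
  refine Rigidity.eq_of_comp_eq p (ρ k⁻¹).hom u.hom ((hp.inv k⁻¹).trans hu.symm)
    (Spec.map (CommRingCat.ofHom
      (Ideal.Quotient.mk (hV.primeIdealOf ⟨x, hxV⟩).asIdeal)) ≫ hV.fromSpec) ?_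
  have e1 := IsAffineOpen.SpecMap_appLE_fromSpec (ρ k⁻¹).hom hV hV
    (SGA1.preimage_le_of_inv ρ p hp.inv k⁻¹ U)
  have e2 := IsAffineOpen.SpecMap_appLE_fromSpec u.hom hV hV (hst w)
  rw [Category.assoc, Category.assoc, ← e1, ← e2, ← Category.assoc, ← Category.assoc,
    ← Spec.map_comp, ← Spec.map_comp]
  congr 2
  ext b
  exact Ideal.Quotient.eq.mpr (hk b)

end AutOver

end Groth.Agent.Lib.Helper5.GroupQuot
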