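import Mathlib
import Groth.Prelude.Def_CohCx
import Groth.Prelude.Def_CohSite
import Groth.Prelude.Def_CohTop
import Groth.Agent.Lib.Helper13.DerivedCommute
import Groth.Agent.Lib.Helper13.DerivedPush
import Groth.Agent.Lib.Helper2.GSS.NatDerived
import Groth.Agent.Lib.Helper2.GSS.DerivedDFun

/-!
# Higher direct images and colimits (helper5)

* `rightDerivedCompExactIso`: `Rⁿ(F ⋙ G) ≅ RⁿF ⋙ G` as functors, for `G` exact;
* `RpushNatIso`: `R^i f_* ≅ a ∘ (- ∘ u) ∘ R^i(sheaves ⊆ presheaves)` as functors;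
* `nonempty_rightDerived_eval_iso`: `R^i(sheaves ⊆ presheaves)(-)(X) ≅ H^i(X, -)` as functors;
* `isIso_sheafify_map_of_cover`, `preservesColimit_comp_sheafify`;
* `main`: S0882.
-/

set_option autoImplicit false
open CategoryTheory CategoryTheory.Limits

noncomputable section
namespace Groth.Agent.Lib.Helper5.RpushColim

open Groth.Agent.Lib.Helper13.DerivedCommute

universe v v' v'' u u' u''

section CompExact

variable {C : Type u} [Category.{v} C] [Abelian C] [HasInjectiveResolutions C]
  {D : Type u'} [Category.{v'} D] [Abelian D]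
  {E : Type u''} [Category.{v''} E] [Abelian E]
  (F : C ⥤ D) [F.Additive] (G : D ⥤ E) [G.Additive]
  [PreservesFiniteLimits G] [PreservesFiniteColimits G]

lemma mapHomologyObjIso_hom_naturality {ι : Type*} {c : ComplexShape ι}
    {L L' : HomologicalComplex D c} (ψ : L ⟶ L') (n : ι) :
    HomologicalComplex.homologyMap ((G.mapHomologicalComplex c).map ψ) n ≫
      (mapHomologyObjIso G L' n).hom =
    (mapHomologyObjIso G L n).hom ≫ G.map (HomologicalComplex.homologyMap ψ n) :=
  ShortComplex.mapHomologyIso_hom_naturality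
    ((HomologicalComplex.shortComplexFunctor D c n).map ψ) G

lemma compExact_naturality (n : ℕ) {X Y : C} (f : X ⟶ Y) :
    ((F ⋙ G).rightDerived n).map f ≫ (rightDerivedCompExactObjIso F G n Y).hom =
      (rightDerivedCompExactObjIso F G n X).hom ≫ G.map ((F.rightDerived n).map f) := by
  let φ := InjectiveResolution.desc f (injectiveResolution Y) (injectiveResolution X)
  let iX : ((F ⋙ G).rightDerived n).obj X ≅ ((G.mapHomologicalComplex _).obj
      ((F.mapHomologicalComplex _).obj (injectiveResolution X).cocomplex)).homology n :=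
    (injectiveResolution X).isoRightDerivedObj (F ⋙ G) n
  let iY : ((F ⋙ G).rightDerived n).obj Y ≅ ((G.mapHomologicalComplex _).obj
      ((F.mapHomologicalComplex _).obj (injectiveResolution Y).cocomplex)).homology n :=
    (injectiveResolution Y).isoRightDerivedObj (F ⋙ G) n
  let rX : (F.rightDerived n).obj X ≅
      ((F.mapHomologicalComplex _).obj (injectiveResolution X).cocomplex).homology n :=
    (injectiveResolution X).isoRightDerivedObj F n
  let rY : (F.rightDerived n).obj Y ≅
      ((F.mapHomologicalComplex _).obj (injectiveResolution Y).cocomplex).homology n :=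
    (injectiveResolution Y).isoRightDerivedObj F n
  have h1 : ((F ⋙ G).rightDerived n).map f ≫ iY.hom =
      iX.hom ≫ HomologicalComplex.homologyMap ((G.mapHomologicalComplex _).map
          ((F.mapHomologicalComplex _).map φ)) n :=
    InjectiveResolution.isoRightDerivedObj_hom_naturality f (injectiveResolution X)
      (injectiveResolution Y) φ (InjectiveResolution.desc_commutes_zero f _ _) (F ⋙ G) n
  have h2 : rX.inv ≫ (F.rightDerived n).map f =
      HomologicalComplex.homologyMap ((F.mapHomologicalComplex _).map φ) n ≫ rY.inv :=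
    InjectiveResolution.isoRightDerivedObj_inv_naturality f (injectiveResolution X)
      (injectiveResolution Y) φ (InjectiveResolution.desc_commutes_zero f _ _) F n
  have h3 := mapHomologyObjIso_hom_naturality G ((F.mapHomologicalComplex _).map φ) n
  change ((F ⋙ G).rightDerived n).map f ≫ (iY.hom ≫
      (mapHomologyObjIso G ((F.mapHomologicalComplex _).obj (injectiveResolution Y).cocomplex) n).hom ≫
        G.map rY.inv) =
    (iX.hom ≫
      (mapHomologyObjIso G ((F.mapHomologicalComplex _).obj (injectiveResolution X).cocomplex) n).hom ≫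
        G.map rX.inv) ≫ G.map ((F.rightDerived n).map f)
  rw [← Category.assoc, h1, Category.assoc, ← Category.assoc (HomologicalComplex.homologyMap _ n),
    h3, Category.assoc, Category.assoc, Category.assoc, ← G.map_comp, ← G.map_comp, h2]

/-- `Rⁿ(F ⋙ G) ≅ RⁿF ⋙ G` as functors, for `G` exact -/
def rightDerivedCompExactIso (n : ℕ) : (F ⋙ G).rightDerived n ≅ F.rightDerived n ⋙ G :=
  NatIso.ofComponents (fun X => rightDerivedCompExactObjIso F G n X)
    (fun f => compExact_naturality F G n f)

end CompExact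

section Rpush

universe w

variable {C D : Type w} [SmallCategory C] [SmallCategory D] (J : GrothendieckTopology C)
  (K : GrothendieckTopology D) (u : D ⥤ C) [u.IsContinuous K J]

open Groth.Agent.Lib.Helper2.NatDerived

/-- `R^i f_* ≅ a ∘ (- ∘ u) ∘ R^i(sheaves ⊆ presheaves)`, as functors -/
def RpushNatIso (i : ℕ) :
    CohSite.Rpush J K u i ≅ (sheafToPresheaf J AddCommGrpCat.{w}).rightDerived i ⋙
      (Functor.whiskeringLeft Dᵒᵖ Cᵒᵖ AddCommGrpCat.{w}).obj u.op ⋙
        presheafToSheaf K AddCommGrpCat.{w} :=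
  let push := CohSite.push J K u
  let ΨD := sheafToPresheaf K AddCommGrpCat.{w}
  let ΨC := sheafToPresheaf J AddCommGrpCat.{w}
  let a := presheafToSheaf K AddCommGrpCat.{w}
  let W := (Functor.whiskeringLeft Dᵒᵖ Cᵒᵖ AddCommGrpCat.{w}).obj u.op
  let e1 : push ≅ (push ⋙ ΨD) ⋙ a :=
    (Functor.rightUnitor push).symm ≪≫
      Functor.isoWhiskerLeft push (asIso (sheafificationAdjunction K AddCommGrpCat.{w}).counit).symm
      ≪≫ (Functor.associator _ _ _).symm
  let e2 : push ⋙ ΨD ≅ ΨC ⋙ W := NatIso.ofComponents (fun _ => Iso.refl _)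
  rightDerivedNatIso e1 i ≪≫ rightDerivedCompExactIso (push ⋙ ΨD) a i ≪≫
    Functor.isoWhiskerRight (rightDerivedNatIso e2 i ≪≫ rightDerivedCompExactIso ΨC W i) a ≪≫
      Functor.associator _ _ _

open Opposite in
/-- sections over `X` as `Hom(ℤ_X, -)` -/
def sectIsoHomF (X : C) :
    sheafToPresheaf J AddCommGrpCat.{w} ⋙ (evaluation Cᵒᵖ AddCommGrpCat.{w}).obj (op X) ≅
      Groth.Agent.Lib.Helper2.GSS.homF (CohCx.freeSheaf J X) :=
  NatIso.ofComponents (fun F => (CohFree.homEquivSect J X F).symm.toAddCommGrpIso) (by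
    intro F G φ
    ext s
    change CohFree.ofSect J X G ((φ.hom.app (op X)).hom s) = CohFree.ofSect J X F s ≫ φ
    apply (CohFree.homEquivSect J X G).injective
    rw [CohFree.homEquivSect_apply, CohFree.homEquivSect_apply, CohFree.evalGen_ofSect]
    change _ = (φ.hom.app (op X)).hom (CohFree.evalGen J X F (CohFree.ofSect J X F s))
    rw [CohFree.evalGen_ofSect])

open Opposite in
/-- `R^i(sheaves ⊆ presheaves)` evaluated at `X` is `H^i(X, -)`, as functors -/
theorem nonempty_rightDerived_eval_iso (X : C) (i : ℕ) :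
    Nonempty ((sheafToPresheaf J AddCommGrpCat.{w}).rightDerived i ⋙
        (evaluation Cᵒᵖ AddCommGrpCat.{w}).obj (op X) ≅
      (Sheaf.cohomologyPresheafFunctor J i).flip.obj (op X)) := by
  obtain ⟨e⟩ := Groth.Agent.Lib.Helper2.DerivedDFun.nonempty_rightDerived_iso_ext
    (CohCx.freeSheaf J X)
    (sheafToPresheaf J AddCommGrpCat.{w} ⋙ (evaluation Cᵒᵖ AddCommGrpCat.{w}).obj (op X))
    (sectIsoHomF J X) i
  let e' : (CategoryTheory.Abelian.extFunctor i).obj (op (CohCx.freeSheaf J X)) ≅
      (Sheaf.cohomologyPresheafFunctor J i).flip.obj (op X) :=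
    NatIso.ofComponents (fun _ => Iso.refl _)
  exact ⟨(rightDerivedCompExactIso (sheafToPresheaf J AddCommGrpCat.{w})
    ((evaluation Cᵒᵖ AddCommGrpCat.{w}).obj (op X)) i).symm ≪≫ e ≪≫ e'⟩

end Rpush

section Abstract

universe w

open Opposite

variable {D : Type w} [SmallCategory D] (K : GrothendieckTopology D)

/-- a morphism of presheaves of abelian groups which is bijective on the members of a covering
class of objects becomes an isomorphism after sheafification -/
lemma isIso_sheafify_map_of_cover {P Q : Dᵒᵖ ⥤ AddCommGrpCat.{w}} (δ : P ⟶ Q)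
    (h : ∀ V : D, ∃ (κ : Type w) (Y : κ → D) (g : ∀ k, Y k ⟶ V), Sieve.ofArrows Y g ∈ K V ∧
      ∀ k, Function.Bijective (δ.app (op (Y k)))) :
    IsIso ((presheafToSheaf K AddCommGrpCat.{w}).map δ) := by
  rw [← GrothendieckTopology.W_iff]
  haveI : Presheaf.IsLocallyInjective K δ := by
    refine ⟨fun {X} x y hxy => ?_⟩
    obtain ⟨κ, Y, g, hcov, hb⟩ := h X.unop
    refine K.superset_covering ?_ hcov
    intro W f hf
    obtain ⟨W', g', k, ⟨i⟩, rfl⟩ := hf
    apply Sieve.downward_closed
    apply (hb i).1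
    have e1 := ConcreteCategory.congr_hom (δ.naturality (g i).op) x
    have e2 := ConcreteCategory.congr_hom (δ.naturality (g i).op) y
    refine e1.trans ?_
    refine Eq.trans ?_ e2.symm
    change (Q.map (g i).op) (δ.app X x) = (Q.map (g i).op) (δ.app X y)
    rw [hxy]
  haveI : Presheaf.IsLocallySurjective K δ := by
    refine ⟨fun {U} s => ?_⟩
    obtain ⟨κ, Y, g, hcov, hb⟩ := h U
    refine K.superset_covering ?_ hcov
    intro W f hf
    obtain ⟨W', g', k, ⟨i⟩, rfl⟩ := hf
    apply Sieve.downward_closed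
    obtain ⟨t, ht⟩ := (hb i).2 (Q.map (g i).op s)
    exact ⟨t, ht⟩
  exact GrothendieckTopology.W_of_isLocallyBijective K δ

/-- a functor to presheaves followed by sheafification preserves a colimit as soon as its
evaluations on a covering class of objects do -/
theorem preservesColimit_comp_sheafify {𝒮 : Type*} [Category 𝒮] {ι : Type w} [SmallCategory ι]
    (F : ι ⥤ 𝒮) (H : 𝒮 ⥤ Dᵒᵖ ⥤ AddCommGrpCat.{w})
    (h : ∀ V : D, ∃ (κ : Type w) (Y : κ → D) (g : ∀ k, Y k ⟶ V), Sieve.ofArrows Y g ∈ K V ∧
      ∀ k, PreservesColimit F (H ⋙ (evaluation Dᵒᵖ AddCommGrpCat.{w}).obj (op (Y k)))) :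
    PreservesColimit F (H ⋙ presheafToSheaf K AddCommGrpCat.{w}) := by
  refine ⟨fun {c} hc => ⟨?_⟩⟩
  let a := presheafToSheaf K AddCommGrpCat.{w}
  let c' := colimit.cocone (F ⋙ H)
  let hc' : IsColimit c' := colimit.isColimit (F ⋙ H)
  let δ : c'.pt ⟶ H.obj c.pt := hc'.desc (H.mapCocone c)
  have hfac : ∀ j, c'.ι.app j ≫ δ = H.map (c.ι.app j) := fun j => hc'.fac (H.mapCocone c) j
  haveI : IsIso (a.map δ) := by
    apply isIso_sheafify_map_of_cover
    intro V
    obtain ⟨κ, Y, g, hcov, hp⟩ := h V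
    refine ⟨κ, Y, g, hcov, fun k => ?_⟩
    haveI := hp k
    let ev := (evaluation Dᵒᵖ AddCommGrpCat.{w}).obj (op (Y k))
    let f : ev.mapCocone c' ⟶ (H ⋙ ev).mapCocone c :=
      { hom := ev.map δ
        w := fun j => by
          change ev.map (c'.ι.app j) ≫ ev.map δ = ev.map (H.map (c.ι.app j))
          rw [← ev.map_comp, hfac] }
    haveI : IsIso f := IsColimit.hom_isIso (isColimitOfPreserves ev hc')
      (isColimitOfPreserves (H ⋙ ev) hc) f
    haveI : IsIso (δ.app (op (Y k))) :=
      inferInstanceAs (IsIso ((Cocone.forget _).map f))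
    exact ConcreteCategory.bijective_of_isIso (δ.app (op (Y k)))
  refine IsColimit.ofIsoColimit (isColimitOfPreserves a hc')
    (Cocone.ext (asIso (a.map δ)) (fun j => ?_))
  change a.map (c'.ι.app j) ≫ a.map δ = a.map (H.map (c.ι.app j))
  rw [← a.map_comp, hfac]

end Abstract

section Main

universe w

open Opposite

/-- S0882 in library form -/
theorem main {C D : Type w} [SmallCategory C] [SmallCategory D] (J : GrothendieckTopology C)
    (K : GrothendieckTopology D) (u : D ⥤ C) [u.IsContinuous K J]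
    {ι : Type w} [SmallCategory ι] (F : ι ⥤ Sheaf J AddCommGrpCat.{w}) (p : ℕ)
    (h : ∀ V : D, ∃ (κ : Type w) (Y : κ → D) (g : ∀ k, Y k ⟶ V), Sieve.ofArrows Y g ∈ K V ∧
      ∀ k, PreservesColimit F ((Sheaf.cohomologyPresheafFunctor J p).flip.obj (op (u.obj (Y k))))) :
    PreservesColimit F (CohSite.Rpush J K u p) := by
  let ΨC := sheafToPresheaf J AddCommGrpCat.{w}
  let W := (Functor.whiskeringLeft Dᵒᵖ Cᵒᵖ AddCommGrpCat.{w}).obj u.op
  haveI : PreservesColimit F ((ΨC.rightDerived p ⋙ W) ⋙ presheafToSheaf K AddCommGrpCat.{w}) := by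
    apply preservesColimit_comp_sheafify K F (ΨC.rightDerived p ⋙ W)
    intro V
    obtain ⟨κ, Y, g, hcov, hp⟩ := h V
    refine ⟨κ, Y, g, hcov, fun k => ?_⟩
    haveI := hp k
    obtain ⟨e⟩ := nonempty_rightDerived_eval_iso J (u.obj (Y k)) p
    let e' : (ΨC.rightDerived p ⋙ W) ⋙ (evaluation Dᵒᵖ AddCommGrpCat.{w}).obj (op (Y k)) ≅
        ΨC.rightDerived p ⋙ (evaluation Cᵒᵖ AddCommGrpCat.{w}).obj (op (u.obj (Y k))) :=
      NatIso.ofComponents (fun _ => Iso.refl _)
    exact preservesColimit_of_natIso F (e' ≪≫ e).symm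
  exact preservesColimit_of_natIso F
    ((RpushNatIso J K u p) ≪≫ (Functor.associator _ _ _).symm).symm

end Main

end Groth.Agent.Lib.Helper5.RpushColim
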