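import Mathlib
import Groth.Prelude
import Groth.Agent.S0862

/-!
# Cohomology over quasi-compact quasi-separated opens commutes with filtered colimits (helper5)
-/

set_option autoImplicit false
universe u

open CategoryTheory CategoryTheory.Limits Opposite TopologicalSpace

namespace Groth.Agent.Lib.Helper5.TopColim

/-- the class of quasi-compact quasi-separated opens -/
def B (X : TopCat.{u}) : Set (Opens X) := {V | IsCompact (V : Set X) ∧ IsQuasiSeparated (V : Set X)}

/-- finite covers by quasi-compact quasi-separated opens -/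
def Cov (X : TopCat.{u}) : ∀ (V : Opens X) (κ : Type u), (κ → Over V) → Prop := fun V κ Y =>
  Finite κ ∧ V ∈ B X ∧ (∀ k, IsCompact ((Y k).left : Set X)) ∧
    Sieve.ofArrows (fun i => (Y i).left) (fun i => (Y i).hom) ∈ Opens.grothendieckTopology X V

lemma h1 (X : TopCat.{u}) (V : Opens X) (κ : Type u) (Y : κ → Over V) (h : Cov X V κ Y) :
    Finite κ ∧ V ∈ B X ∧
      Sieve.ofArrows (fun i => (Y i).left) (fun i => (Y i).hom) ∈ Opens.grothendieckTopology X V ∧
      ∀ (p : ℕ) (a : Fin (p + 1) → κ), (∏ᶜ fun k => Y (a k)).left ∈ B X := by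
  obtain ⟨hfin, hV, hY, hcov⟩ := h
  refine ⟨hfin, hV, hcov, fun p a => ?_⟩
  have hW : (∏ᶜ fun k => Y (a k)).left = ⨅ k, (Y (a k)).left := by
    apply le_antisymm
    · exact le_iInf fun k => leOfHom (Pi.π (fun k => Y (a k)) k).left
    · have h : (⨅ k, (Y (a k)).left) ≤ V := (iInf_le _ 0).trans (leOfHom (Y (a 0)).hom)
      let Z : Over V := Over.mk (homOfLE h)
      let φ : Z ⟶ ∏ᶜ fun k => Y (a k) :=
        Pi.lift (fun k => Over.homMk (homOfLE (iInf_le _ k)) (Subsingleton.elim _ _))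
      exact leOfHom φ.left
  have hsub : ∀ k, ((Y (a k)).left : Set X) ⊆ V := fun k => leOfHom (Y (a k)).hom
  have hle : ((∏ᶜ fun k => Y (a k)).left : Set X) ⊆ V := leOfHom (∏ᶜ fun k => Y (a k)).hom
  refine ⟨?_, hV.2.of_subset hle⟩
  show IsCompact (((∏ᶜ fun k => Y (a k)).left : Opens X) : Set X)
  rw [hW, Opens.coe_iInf]
  -- finite nonempty intersection of compact opens inside the quasi-separated `V`
  have key : ∀ (n : ℕ) (W : Fin (n + 1) → Opens X), (∀ k, IsCompact (W k : Set X)) →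
      (∀ k, (W k : Set X) ⊆ V) → IsCompact (⋂ k, (W k : Set X)) ∧ IsOpen (⋂ k, (W k : Set X)) := by
    intro n
    induction n with
    | zero =>
      intro W hc _
      have : (⋂ k, (W k : Set X)) = (W 0 : Set X) := by
        ext x; simp only [Set.mem_iInter]
        exact ⟨fun h => h 0, fun h k => by rwa [(Fin.fin_one_eq_zero k : k = 0)]⟩
      rw [this]; exact ⟨hc 0, (W 0).isOpen⟩
    | succ n ih =>
      intro W hc hs
      have : (⋂ k, (W k : Set X)) = (W 0 : Set X) ∩ ⋂ k : Fin (n + 1), (W k.succ : Set X) := by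
        ext x; simp only [Set.mem_iInter, Set.mem_inter_iff]
        constructor
        · intro h; exact ⟨h 0, fun k => h k.succ⟩
        · rintro ⟨h0, hs⟩ k
          refine Fin.cases h0 hs k
      rw [this]
      obtain ⟨ihc, iho⟩ := ih (fun k => W k.succ) (fun k => hc _) (fun k => hs _)
      refine ⟨hV.2 _ _ (hs 0) (W 0).isOpen (hc 0)
        ((Set.iInter_subset _ 0).trans (hs (Fin.succ 0))) iho ihc, (W 0).isOpen.inter iho⟩
  exact (key p (fun k => (Y (a k)).left) (fun k => hY (a k)) hsub).1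

lemma h2 (X : TopCat.{u}) [PrespectralSpace X] (V : Opens X) (hV : V ∈ B X)
    (T : Sieve V) (hT : T ∈ Opens.grothendieckTopology X V) :
    ∃ (κ : Type u) (Y : κ → Over V), Cov X V κ Y ∧ ∀ i, T.arrows (Y i).hom := by
  classical
  have hx : ∀ x : V, ∃ W : Opens X, ∃ hW : W ≤ V, IsCompact (W : Set X) ∧
      T.arrows (homOfLE hW) ∧ (x : X) ∈ W := by
    intro x
    obtain ⟨W, f, hf, hxW⟩ := hT x.1 x.2
    obtain ⟨W', ⟨hW'o, hW'c⟩, hxW', hW'W⟩ :=
      PrespectralSpace.isTopologicalBasis.exists_subset_of_mem_open hxW W.isOpen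
    have hle : (⟨W', hW'o⟩ : Opens X) ≤ W := hW'W
    refine ⟨⟨W', hW'o⟩, hle.trans (leOfHom f), hW'c, ?_, hxW'⟩
    have := T.downward_closed hf (homOfLE hle)
    exact this
  choose W hWV hWc hWT hxW using hx
  obtain ⟨t, ht⟩ := hV.1.elim_finite_subcover (fun x : V => (W x : Set X))
    (fun x => (W x).isOpen) (fun y hy => Set.mem_iUnion.2 ⟨⟨y, hy⟩, hxW ⟨y, hy⟩⟩)
  refine ⟨t, fun k => Over.mk (homOfLE (hWV k.1)), ⟨inferInstance, hV, fun k => hWc k.1, ?_⟩,
    fun k => hWT k.1⟩
  intro y hy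
  obtain ⟨x, hxt, hyx⟩ := Set.mem_iUnion₂.1 (ht hy)
  exact ⟨W x, homOfLE (hWV x), Sieve.ofArrows_mk _ _ (⟨x, hxt⟩ : t), hyx⟩

/-- **`H^q(U, -)` commutes with filtered colimits** for a quasi-compact quasi-separated open `U` of a
prespectral space. -/
theorem preservesColimit_H_of_qcqs {X : TopCat.{u}} [PrespectralSpace X] (U : Opens X)
    (hU : IsCompact (U : Set X)) (hU' : IsQuasiSeparated (U : Set X)) (q : ℕ)
    (I : Type u) [SmallCategory I] [IsFiltered I] (F : I ⥤ CohTop.Ab X) :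
    PreservesColimit F
      ((Sheaf.cohomologyPresheafFunctor (Opens.grothendieckTopology X) q).flip.obj (op U)) :=
  Groth.Agent.S0862.result (Opens.grothendieckTopology X) (B X) (Cov X) (h1 X)
    (fun V hV T hT => h2 X V hV T hT) U ⟨hU, hU'⟩ q I F

end Groth.Agent.Lib.Helper5.TopColim
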