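import Mathlib

/-!
# Helper5: extension by zero along `Over.map f` for abelian presheaves, and restriction to a
localised site preserves injective abelian sheaves

For `f : X ⟶ Y` in a small category `C` and `P` an abelian presheaf on `Over X` we build
`ext0 f P` on `Over Y` with sections `⨁_{φ : V ⟶ X, φ ≫ f = V.hom} P(φ)`, the maps between
`Hom(ext0 P, Q)` and `Hom(P, (Over.map f)^* Q)` that are needed, and deduce that `(Over.map f)^*`
preserves injective presheaves and injective sheaves.
-/

set_option autoImplicit false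
universe u
open CategoryTheory CategoryTheory.Limits Opposite DirectSum

noncomputable section
open Classical

namespace Groth.Agent.Lib.Helper5.OverExtZero

variable {C : Type u} [SmallCategory C] {X Y : C} (f : X ⟶ Y)

/-- lifts of `V → Y` through `f`. -/
abbrev Idx (V : Over Y) : Type u := {φ : V.left ⟶ X // φ ≫ f = V.hom}

variable (P : (Over X)ᵒᵖ ⥤ AddCommGrpCat.{u})

/-- The component at a lift. -/
abbrev cmp {V : Over Y} (φ : Idx f V) : AddCommGrpCat.{u} := P.obj (op (Over.mk φ.1))

/-- The total group. -/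
abbrev Tot (V : Over Y) : Type u := ⨁ φ : Idx f V, cmp f P φ

/-- pull back an index along `k : V' ⟶ V`. -/
abbrev idxMap {V V' : Over Y} (k : V' ⟶ V) (φ : Idx f V) : Idx f V' :=
  ⟨k.left ≫ φ.1, by rw [Category.assoc, φ.2, Over.w k]⟩

/-- restriction of a component. -/
def res {V V' : Over Y} (k : V' ⟶ V) (φ : Idx f V) : cmp f P φ →+ cmp f P (idxMap f k φ) :=
  (P.map (Over.homMk k.left rfl : Over.mk (k.left ≫ φ.1) ⟶ Over.mk φ.1).op).hom

/-- restriction of the total group. -/
def totMap {V V' : Over Y} (k : V' ⟶ V) : Tot f P V →+ Tot f P V' :=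
  DirectSum.toAddMonoid (fun φ : Idx f V =>
    (DirectSum.of (fun ψ : Idx f V' => cmp f P ψ) (idxMap f k φ)).comp (res f P k φ))

lemma totMap_of {V V' : Over Y} (k : V' ⟶ V) (φ : Idx f V) (x : cmp f P φ) :
    totMap f P k (DirectSum.of (fun φ : Idx f V => cmp f P φ) φ x) =
      DirectSum.of (fun ψ : Idx f V' => cmp f P ψ) (idxMap f k φ) (res f P k φ x) := by
  simp [totMap]

lemma key {V V' : Over Y} (k : V' ⟶ V) (φ : Idx f V) (ψ : Idx f V') (h : k.left ≫ φ.1 = ψ.1)
    (x : cmp f P φ) :
    DirectSum.of (fun ψ : Idx f V' => cmp f P ψ) (idxMap f k φ) (res f P k φ x) =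
      DirectSum.of (fun ψ : Idx f V' => cmp f P ψ) ψ
        ((P.map (Over.homMk k.left h : Over.mk ψ.1 ⟶ Over.mk φ.1).op).hom x) := by
  obtain ⟨ψ1, hψ⟩ := ψ
  dsimp only at h
  subst h
  rfl

lemma totMap_id (V : Over Y) (t : Tot f P V) : totMap f P (𝟙 V) t = t := by
  induction t using DirectSum.induction_on with
  | zero => simp
  | of φ x =>
    rw [totMap_of]
    have h := key f P (𝟙 V) φ φ (Category.id_comp _) x
    refine h.trans ?_
    have e : (Over.homMk (Over.Hom.left (f := V) (g := V) (𝟙 V)) (Category.id_comp _) :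
        Over.mk φ.1 ⟶ Over.mk φ.1) = 𝟙 _ := by
      ext; rfl
    have e' : P.map (Over.homMk (Over.Hom.left (f := V) (g := V) (𝟙 V)) (Category.id_comp _) :
        Over.mk φ.1 ⟶ Over.mk φ.1).op = 𝟙 _ := by
      rw [e, op_id]; exact P.map_id _
    rw [e']
    rfl
  | add a b ha hb => rw [map_add, ha, hb]

lemma totMap_comp {V V' V'' : Over Y} (k : V' ⟶ V) (k' : V'' ⟶ V') (t : Tot f P V) :
    totMap f P (k' ≫ k) t = totMap f P k' (totMap f P k t) := by
  induction t using DirectSum.induction_on with
  | zero => simp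
  | of φ x =>
    rw [totMap_of, totMap_of, totMap_of]
    have h := key f P (k' ≫ k) φ (idxMap f k' (idxMap f k φ)) (by simp) x
    refine h.trans ?_
    have e : (Over.homMk (k' ≫ k).left (by simp) :
          Over.mk (idxMap f k' (idxMap f k φ)).1 ⟶ Over.mk φ.1) =
        (Over.homMk k'.left rfl : Over.mk (k'.left ≫ (idxMap f k φ).1) ⟶ Over.mk (idxMap f k φ).1) ≫
          (Over.homMk k.left rfl : Over.mk (k.left ≫ φ.1) ⟶ Over.mk φ.1) := by
      ext; rfl
    rw [e, op_comp, P.map_comp]
    rfl
  | add a b ha hb => rw [map_add, map_add, map_add, ha, hb]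

/-- Extension by zero of an abelian presheaf along `Over.map f`. -/
def ext0 : (Over Y)ᵒᵖ ⥤ AddCommGrpCat.{u} where
  obj W := AddCommGrpCat.of (Tot f P W.unop)
  map g := AddCommGrpCat.ofHom (totMap f P g.unop)
  map_id W := AddCommGrpCat.hom_ext (AddMonoidHom.ext fun t => totMap_id f P W.unop t)
  map_comp g g' :=
    AddCommGrpCat.hom_ext (AddMonoidHom.ext fun t => totMap_comp f P g.unop g'.unop t)

/-- the index of `W` in `(Over.map f).obj W`. -/
abbrev selfIdx (W : Over X) : Idx f ((Over.map f).obj W) := ⟨W.hom, rfl⟩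

/-- The inclusion of the tautological summand. -/
def inj (W : Over X) : P.obj (op W) →+ Tot f P ((Over.map f).obj W) :=
  DirectSum.of (fun φ : Idx f ((Over.map f).obj W) => cmp f P φ) (selfIdx f W)

lemma totMap_inj {W' W : Over X} (a : W' ⟶ W) (x : P.obj (op W)) :
    totMap f P ((Over.map f).map a) (inj f P W x) = inj f P W' ((P.map a.op).hom x) := by
  refine (totMap_of f P ((Over.map f).map a) (selfIdx f W) x).trans ?_
  refine (key f P ((Over.map f).map a) (selfIdx f W) (selfIdx f W') (Over.w a) x).trans ?_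
  have e : (Over.homMk ((Over.map f).map a).left (Over.w a) :
      Over.mk (selfIdx f W').1 ⟶ Over.mk (selfIdx f W).1) = a := by
    ext; rfl
  rw [e]
  rfl

variable {P} {Q : (Over Y)ᵒᵖ ⥤ AddCommGrpCat.{u}}

/-- the canonical map `V ⟶ (Over.map f).obj (Over.mk φ)`. -/
def toMap {V : Over Y} (φ : Idx f V) : V ⟶ (Over.map f).obj (Over.mk φ.1) :=
  Over.homMk (𝟙 V.left) (by simpa using φ.2)

/-- The map `⨁ P(φ) → Q(V)` induced by `β : P ⟶ (Over.map f)^* Q`. -/
def desc (β : P ⟶ (Over.map f).op ⋙ Q) (V : Over Y) : Tot f P V →+ Q.obj (op V) :=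
  DirectSum.toAddMonoid (fun φ : Idx f V =>
    ((Q.map (toMap f φ).op).hom).comp (β.app (op (Over.mk φ.1))).hom)

lemma desc_of (β : P ⟶ (Over.map f).op ⋙ Q) {V : Over Y} (φ : Idx f V) (x : cmp f P φ) :
    desc f β V (DirectSum.of (fun φ : Idx f V => cmp f P φ) φ x) =
      (Q.map (toMap f φ).op).hom ((β.app (op (Over.mk φ.1))).hom x) :=
  DirectSum.toAddMonoid_of _ _ _

lemma desc_inj (β : P ⟶ (Over.map f).op ⋙ Q) (W : Over X) (x : P.obj (op W)) :
    desc f β ((Over.map f).obj W) (inj f P W x) = (β.app (op W)).hom x := by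
  refine (desc_of f β (selfIdx f W) x).trans ?_
  have e : toMap f (selfIdx f W) = 𝟙 _ := by
    ext; rfl
  have e' : Q.map (toMap f (selfIdx f W)).op = 𝟙 _ := by
    rw [e, op_id]; exact Q.map_id _
  rw [e']
  rfl

lemma desc_totMap (β : P ⟶ (Over.map f).op ⋙ Q) {V V' : Over Y} (k : V' ⟶ V) (t : Tot f P V) :
    desc f β V' (totMap f P k t) = (Q.map k.op).hom (desc f β V t) := by
  induction t using DirectSum.induction_on with
  | zero => simp
  | of φ x =>
    rw [totMap_of, desc_of, desc_of]
    have hn : (β.app (op (Over.mk (k.left ≫ φ.1)))).hom (res f P k φ x) =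
        (Q.map ((Over.map f).map
          (Over.homMk k.left rfl : Over.mk (k.left ≫ φ.1) ⟶ Over.mk φ.1)).op).hom
          ((β.app (op (Over.mk φ.1))).hom x) :=
      ConcreteCategory.congr_hom (β.naturality
        (Over.homMk k.left rfl : Over.mk (k.left ≫ φ.1) ⟶ Over.mk φ.1).op) x
    have e : toMap f (idxMap f k φ) ≫ (Over.map f).map
        (Over.homMk k.left rfl : Over.mk (k.left ≫ φ.1) ⟶ Over.mk φ.1) = k ≫ toMap f φ := by
      ext
      simp [toMap]
    have e2 : Q.map ((Over.map f).map
          (Over.homMk k.left rfl : Over.mk (k.left ≫ φ.1) ⟶ Over.mk φ.1)).op ≫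
        Q.map (toMap f (idxMap f k φ)).op = Q.map (toMap f φ).op ≫ Q.map k.op := by
      rw [← Q.map_comp, ← Q.map_comp, ← op_comp, ← op_comp, e]
    have e3 := ConcreteCategory.congr_hom e2 ((β.app (op (Over.mk φ.1))).hom x)
    refine Eq.trans ?_ e3
    exact congrArg (fun t => (Q.map (toMap f (idxMap f k φ)).op).hom t) hn
  | add a b ha hb => rw [map_add, map_add, map_add, map_add, ha, hb]

/-- `ext0 P ⟶ Q` from `P ⟶ (Over.map f)^* Q`. -/
def descHom (β : P ⟶ (Over.map f).op ⋙ Q) : ext0 f P ⟶ Q where
  app W := AddCommGrpCat.ofHom (desc f β W.unop)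
  naturality W W' g :=
    AddCommGrpCat.hom_ext (AddMonoidHom.ext fun t => desc_totMap f β g.unop t)

/-- `P ⟶ (Over.map f)^* Q` from `ext0 P ⟶ Q`. -/
def restrHom (α : ext0 f P ⟶ Q) : P ⟶ (Over.map f).op ⋙ Q where
  app W := AddCommGrpCat.ofHom ((α.app (op ((Over.map f).obj W.unop))).hom.comp (inj f P W.unop))
  naturality W W' a := by
    apply AddCommGrpCat.hom_ext
    apply AddMonoidHom.ext
    intro x
    have h : (α.app (op ((Over.map f).obj W'.unop))).hom
        (totMap f P ((Over.map f).map a.unop) (inj f P W.unop x)) =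
        (Q.map ((Over.map f).map a.unop).op).hom
          ((α.app (op ((Over.map f).obj W.unop))).hom (inj f P W.unop x)) :=
      ConcreteCategory.congr_hom (α.naturality ((Over.map f).map a.unop).op)
        (inj f P W.unop x)
    rw [totMap_inj] at h
    exact h

variable {P' : (Over X)ᵒᵖ ⥤ AddCommGrpCat.{u}}

/-- the componentwise map. -/
def totMapOf (m : P ⟶ P') (V : Over Y) : Tot f P V →+ Tot f P' V :=
  DirectSum.map (fun φ : Idx f V =>
    ((m.app (op (Over.mk φ.1))).hom : cmp f P φ →+ cmp f P' φ))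

lemma totMapOf_of (m : P ⟶ P') {V : Over Y} (φ : Idx f V) (x : cmp f P φ) :
    totMapOf f m V (DirectSum.of (fun φ : Idx f V => cmp f P φ) φ x) =
      DirectSum.of (fun φ : Idx f V => cmp f P' φ) φ ((m.app (op (Over.mk φ.1))).hom x) :=
  DirectSum.map_of _ _ _

lemma totMapOf_totMap (m : P ⟶ P') {V V' : Over Y} (k : V' ⟶ V) (t : Tot f P V) :
    totMapOf f m V' (totMap f P k t) = totMap f P' k (totMapOf f m V t) := by
  induction t using DirectSum.induction_on with
  | zero => simp
  | of φ x =>
    rw [totMap_of, totMapOf_of, totMapOf_of, totMap_of]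
    congr 1
    exact ConcreteCategory.congr_hom (m.naturality
      (Over.homMk k.left rfl : Over.mk (k.left ≫ φ.1) ⟶ Over.mk φ.1).op) x
  | add a b ha hb => rw [map_add, map_add, map_add, map_add, ha, hb]

/-- functoriality of `ext0` on a morphism. -/
def ext0Map (m : P ⟶ P') : ext0 f P ⟶ ext0 f P' where
  app W := AddCommGrpCat.ofHom (totMapOf f m W.unop)
  naturality W W' g :=
    AddCommGrpCat.hom_ext (AddMonoidHom.ext fun t => totMapOf_totMap f m g.unop t)

lemma ext0Map_inj (m : P ⟶ P') (W : Over X) (x : P.obj (op W)) :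
    ((ext0Map f m).app (op ((Over.map f).obj W))).hom (inj f P W x) =
      inj f P' W ((m.app (op W)).hom x) :=
  totMapOf_of f m (selfIdx f W) x

instance mono_ext0Map (m : P ⟶ P') [Mono m] : Mono (ext0Map f m) := by
  rw [NatTrans.mono_iff_mono_app]
  intro W
  rw [AddCommGrpCat.mono_iff_injective]
  have hm : ∀ V, Function.Injective (m.app V).hom := fun V =>
    (AddCommGrpCat.mono_iff_injective _).1 ((NatTrans.mono_iff_mono_app m).1 inferInstance V)
  exact (DirectSum.map_injective _).2 (fun φ => hm (op (Over.mk φ.1)))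

variable (Q)

/-- Restriction along `Over.map f` preserves injective abelian presheaves. -/
theorem injective_restr [Injective Q] : Injective ((Over.map f).op ⋙ Q) where
  factors {P P'} g m _ := by
    obtain ⟨h, hh⟩ := Injective.factors (descHom f g) (ext0Map f m)
    refine ⟨restrHom f h, ?_⟩
    ext W x
    have h1 := ConcreteCategory.congr_hom (congrArg (fun t => t.app (op ((Over.map f).obj W.unop))) hh)
      (inj f P W.unop x)
    change (h.app (op ((Over.map f).obj W.unop))).hom
      (inj f P' W.unop ((m.app W).hom x)) = _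
    rw [← ext0Map_inj]
    refine h1.trans ?_
    exact desc_inj f g W.unop x

section Sheaf

variable {D : Type u} [SmallCategory D] (K : GrothendieckTopology D)

/-- An injective abelian sheaf is injective as a presheaf. -/
theorem injective_presheaf_of_injective_sheaf (I : Sheaf K AddCommGrpCat.{u}) [Injective I] :
    Injective I.obj :=
  Injective.injective_of_adjoint (sheafificationAdjunction K AddCommGrpCat.{u}) I

/-- A sheaf which is injective as a presheaf is an injective sheaf. -/
theorem injective_sheaf_of_injective_presheaf (A : Sheaf K AddCommGrpCat.{u})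
    (hA : Injective A.obj) : Injective A where
  factors {S T} g m _ := by
    haveI : Mono ((sheafToPresheaf K AddCommGrpCat.{u}).map m) := inferInstance
    obtain ⟨h, hh⟩ := hA.factors ((sheafToPresheaf K AddCommGrpCat.{u}).map g)
      ((sheafToPresheaf K AddCommGrpCat.{u}).map m)
    exact ⟨⟨h⟩, Sheaf.hom_ext hh⟩

end Sheaf

/-- Restriction to a localised site along `Over.map f` preserves injective abelian sheaves. -/
theorem injective_push (J' : GrothendieckTopology C) (I : Sheaf (J'.over Y) AddCommGrpCat.{u})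
    [Injective I] :
    Injective (((Over.map f).sheafPushforwardContinuous AddCommGrpCat.{u}
      (J'.over X) (J'.over Y)).obj I) := by
  have h1 := injective_presheaf_of_injective_sheaf (J'.over Y) I
  have h2 : Injective (((Over.map f).sheafPushforwardContinuous AddCommGrpCat.{u}
      (J'.over X) (J'.over Y)).obj I).obj := injective_restr f I.obj
  exact injective_sheaf_of_injective_presheaf (J'.over X) _ h2

end Groth.Agent.Lib.Helper5.OverExtZero
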