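import Mathlib
import Groth.Prelude.Def_CohSite
import Groth.Agent.Lib.Helper13.DerivedPush
import Groth.Agent.Lib.Helper13.DerivedExact
import Groth.Agent.Lib.Helper5.OverExtZero

/-!
# Helper5: killing an equalized cohomology class on a covering of the base (S9075)
-/

set_option autoImplicit false
universe u
open CategoryTheory CategoryTheory.Limits Opposite

noncomputable section

namespace Groth.Agent.Lib.Helper5.SiteCmpKill

open Groth.Agent.Lib.Helper13.DerivedPush Groth.Agent.Lib.Helper13.DerivedCommute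
  Groth.Agent.Lib.Helper13.DerivedExact Groth.Agent.Lib.Helper5.OverExtZero

section General

variable {D : Type u} [SmallCategory D] (K : GrothendieckTopology D)

/-- separatedness of an abelian sheaf, in elementwise form. -/
lemma eq_zero_of_cover (P : Dᵒᵖ ⥤ AddCommGrpCat.{u}) (hP : Presheaf.IsSheaf K P) {V : D}
    (S : Sieve V) (hS : S ∈ K V) (t : P.obj (op V))
    (h : ∀ ⦃W : D⦄ (g : W ⟶ V), S g → (P.map g.op).hom t = 0) : t = 0 := by
  have hP' := (Presheaf.isSheaf_iff_isSheaf_forget K P (forget AddCommGrpCat.{u})).1 hP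
  have hsep := (Presieve.IsSheaf.isSeparated ((isSheaf_iff_isSheaf_of_type K _).1 hP')) S hS
  refine hsep.ext (t₁ := t) (t₂ := (0 : P.obj (op V))) ?_
  intro W g hg
  change (P.map g.op).hom t = (P.map g.op).hom 0
  rw [h g hg, map_zero]

lemma res_comp (F : Sheaf K AddCommGrpCat.{u}) (q : ℕ) {U V W : D} (g : W ⟶ V) (h : V ⟶ U)
    (η : CohSite.HU F q U) :
    CohSite.res F q (g ≫ h) η = CohSite.res F q g (CohSite.res F q h η) := by
  change ((Sheaf.cohomologyPresheaf.{u} F q).map (g ≫ h).op).hom η = _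
  rw [op_comp, Functor.map_comp]
  rfl

/-- Cohomology classes of positive degree die locally. -/
theorem exists_cover_res_eq_zero (F : Sheaf K AddCommGrpCat.{u}) (q : ℕ) (V : D)
    (η : CohSite.HU F (q + 1) V) :
    ∃ S ∈ K V, ∀ ⦃W : D⦄ (g : W ⟶ V), S g → CohSite.res F (q + 1) g η = 0 := by
  let P : Dᵒᵖ ⥤ AddCommGrpCat.{u} := (𝟭 D).op ⋙ F.cohomologyPresheaf (q + 1)
  haveI : PreservesFiniteColimits (CohSite.push K K (𝟭 D)) :=
    preservesFiniteColimits_of_natIso (Functor.sheafPushforwardContinuousId _ _).symm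
  have hz : IsZero ((presheafToSheaf K AddCommGrpCat.{u}).obj P) :=
    IsZero.of_iso (isZero_rightDerived_succ_of_exact (CohSite.push K K (𝟭 D)) q F)
      (RpushIso K K (𝟭 D) F (q + 1)).symm
  have hz' : IsZero (((presheafToSheaf K AddCommGrpCat.{u}).obj P).obj.obj (op V)) :=
    Functor.map_isZero (sheafToPresheaf K AddCommGrpCat.{u} ⋙
      (evaluation Dᵒᵖ AddCommGrpCat.{u}).obj (op V)) hz
  haveI := AddCommGrpCat.subsingleton_of_isZero hz'
  have h0 : (toSheafify K P).app (op V) η = (toSheafify K P).app (op V) (0 : P.obj (op V)) :=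
    Subsingleton.elim _ _
  have hmem := Presheaf.equalizerSieve_mem K (toSheafify K P) η (0 : P.obj (op V)) h0
  refine ⟨_, hmem, fun W g hg => ?_⟩
  have hg' : (P.map g.op).hom η = (P.map g.op).hom 0 := hg
  rw [map_zero] at hg'
  exact hg'

end General

section Over

variable {C : Type u} [SmallCategory C] (J' : GrothendieckTopology C) {X Y : C} (f : X ⟶ Y)

/-- restriction to the localised site. -/
abbrev jinv : Sheaf (J'.over Y) AddCommGrpCat.{u} ⥤ Sheaf (J'.over X) AddCommGrpCat.{u} :=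
  CohSite.push (J'.over Y) (J'.over X) (Over.map f)

/-- the relocalisation pushforward. -/
abbrev fstar : Sheaf (J'.over X) AddCommGrpCat.{u} ⥤ Sheaf (J'.over Y) AddCommGrpCat.{u} :=
  (Over.map f).sheafPushforwardCocontinuous AddCommGrpCat.{u} (J'.over X) (J'.over Y)

/-- the adjunction between them. -/
def adjJF : jinv J' f ⊣ fstar J' f :=
  (Over.map f).sheafAdjunctionCocontinuous AddCommGrpCat.{u} (J'.over X) (J'.over Y)

instance : PreservesFiniteColimits (jinv J' f) := by
  have : PreservesColimitsOfSize.{0, 0} (jinv J' f) := (adjJF J' f).leftAdjoint_preservesColimits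
  exact PreservesColimitsOfSize.preservesFiniteColimits.{0, 0} _

instance : PreservesFiniteLimits (fstar J' f) := by
  have : PreservesLimitsOfSize.{0, 0} (fstar J' f) := (adjJF J' f).rightAdjoint_preservesLimits
  exact PreservesLimitsOfSize.preservesFiniteLimits.{0, 0} _

variable [HasPullbacksAlong f]

instance isContinuous_pullback : (Over.pullback f).IsContinuous (J'.over Y) (J'.over X) :=
  (Over.mapPullbackAdj f).isContinuous_of_isCocontinuous _ _

instance isContinuous_pullback_map :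
    (Over.pullback f ⋙ Over.map f).IsContinuous (J'.over Y) (J'.over Y) :=
  Functor.isContinuous_comp _ _ _ (J'.over X) _

/-- `f_*` is precomposition with the pullback functor. -/
def fstarIso : fstar J' f ≅ CohSite.push (J'.over X) (J'.over Y) (Over.pullback f) :=
  (adjJF J' f).rightAdjointUniq
    ((Over.mapPullbackAdj f).sheafPushforwardContinuous (E := AddCommGrpCat.{u})
      (J'.over X) (J'.over Y))

/-- `j⁻¹ ⋙ f_*` is precomposition with `Z ↦ Z ×_Y X`. -/
def compIso : jinv J' f ⋙ fstar J' f ≅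
    CohSite.push (J'.over Y) (J'.over Y) (Over.pullback f ⋙ Over.map f) :=
  Functor.isoWhiskerLeft (jinv J' f) (fstarIso J' f) ≪≫
    Functor.sheafPushforwardContinuousComp (Over.pullback f) (Over.map f) AddCommGrpCat.{u}
      (J'.over Y) (J'.over X) (J'.over Y)

instance additive_fstar : (fstar J' f).Additive := (adjJF J' f).right_adjoint_additive

variable (F' : Sheaf (J'.over Y) AddCommGrpCat.{u}) (n : ℕ)

/-- the presheaf `Z ↦ H^n(Z ×_Y X, F')` on `Over Y`. -/
abbrev T : (Over Y)ᵒᵖ ⥤ AddCommGrpCat.{u} :=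
  (Over.pullback f ⋙ Over.map f).op ⋙ F'.cohomologyPresheaf n

/-- `R^n f_* (j⁻¹ F')` is the sheafification of `T`. -/
def GshIso : ((fstar J' f).rightDerived n).obj ((jinv J' f).obj F') ≅
    (presheafToSheaf (J'.over Y) AddCommGrpCat.{u}).obj (T J' f F' n) :=
  (rightDerivedExactCompObjIso (jinv J' f) (fun I hI => by
      haveI := hI
      exact injective_push f J' I) (fstar J' f) n F').symm ≪≫
    rightDerivedObjIsoOfNatIso (compIso J' f) n F' ≪≫
    RpushIso (J'.over Y) (J'.over Y) (Over.pullback f ⋙ Over.map f) F' n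

/-- the comparison map from `T` to `R^n f_* (j⁻¹ F')`. -/
def cmap : T J' f F' n ⟶ (((fstar J' f).rightDerived n).obj ((jinv J' f).obj F')).obj :=
  toSheafify (J'.over Y) (T J' f F' n) ≫ (GshIso J' f F' n).inv.hom

lemma cmap_eq_zero {Z : Over Y} (t : (T J' f F' n).obj (op Z))
    (h : ((cmap J' f F' n).app (op Z)).hom t = 0) :
    ((toSheafify (J'.over Y) (T J' f F' n)).app (op Z)).hom t = 0 := by
  have h1 := congrArg (fun s => ((GshIso J' f F' n).hom.hom.app (op Z)).hom s) h
  have h2 : (GshIso J' f F' n).inv.hom.app (op Z) ≫ (GshIso J' f F' n).hom.hom.app (op Z) = 𝟙 _ := by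
    rw [← NatTrans.comp_app, ← ObjectProperty.FullSubcategory.comp_hom, Iso.inv_hom_id]
    rfl
  have h3 := ConcreteCategory.congr_hom h2
    (((toSheafify (J'.over Y) (T J' f F' n)).app (op Z)).hom t)
  simp only [map_zero] at h1
  exact h3.symm.trans h1

/-- the projection `Z ×_Y X → X` as a morphism over `Y`. -/
def aZ (Z : Over Y) : (Over.pullback f ⋙ Over.map f).obj Z ⟶ Over.mk f :=
  Over.homMk (pullback.snd Z.hom f) (by simp)

lemma map_aZ {Z Z' : Over Y} (u : Z' ⟶ Z) :
    (Over.pullback f ⋙ Over.map f).map u ≫ aZ f Z = aZ f Z' := by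
  ext
  simp only [aZ, Functor.comp_obj, Functor.comp_map, Over.comp_left, Over.map_map_left,
    Over.pullback_map_left, Over.homMk_left]
  exact pullback.lift_snd _ _ _

variable {J' f F'}

/-- the pulled back classes `θ_Z ∈ H^n(Z ×_Y X, F')`. -/
def θZ {n : ℕ} (θ : CohSite.HU F' n (Over.mk f)) (Z : Over Y) : (T J' f F' n).obj (op Z) :=
  CohSite.res F' n (aZ f Z) θ

lemma T_map_θZ {n : ℕ} (θ : CohSite.HU F' n (Over.mk f)) {Z Z' : Over Y} (u : Z' ⟶ Z) :
    ((T J' f F' n).map u.op).hom (θZ θ Z) = θZ θ Z' := by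
  change CohSite.res F' n ((Over.pullback f ⋙ Over.map f).map u) (CohSite.res F' n (aZ f Z) θ) = _
  rw [← res_comp, map_aZ]
  rfl

variable (J' f F')

/-- classes pulled back from the base are killed by the comparison map. -/
lemma cmap_res_counit (Z : Over Y) (η : CohSite.HU F' (n + 1) Z) :
    ((cmap J' f F' (n + 1)).app (op Z)).hom
      (CohSite.res F' (n + 1) ((Over.mapPullbackAdj f).counit.app Z) η) = 0 := by
  obtain ⟨S, hS, hη⟩ := exists_cover_res_eq_zero (J'.over Y) F' n Z η
  refine eq_zero_of_cover (J'.over Y) _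
    (((fstar J' f).rightDerived (n + 1)).obj ((jinv J' f).obj F')).property S hS _
    (fun Z' u hu => ?_)
  have nat := ConcreteCategory.congr_hom ((cmap J' f F' (n + 1)).naturality u.op)
    (CohSite.res F' (n + 1) ((Over.mapPullbackAdj f).counit.app Z) η)
  refine nat.symm.trans ?_
  have h0 : ((T J' f F' (n + 1)).map u.op).hom
      (CohSite.res F' (n + 1) ((Over.mapPullbackAdj f).counit.app Z) η) = 0 := by
    change CohSite.res F' (n + 1) ((Over.pullback f ⋙ Over.map f).map u)
      (CohSite.res F' (n + 1) ((Over.mapPullbackAdj f).counit.app Z) η) = 0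
    rw [← res_comp]
    have hn := (Over.mapPullbackAdj f).counit.naturality u
    rw [hn, res_comp]
    have := hη u hu
    change CohSite.res F' (n + 1) ((Over.mapPullbackAdj f).counit.app Z')
      (CohSite.res F' (n + 1) u η) = 0
    rw [this, map_zero]
  change ((cmap J' f F' (n + 1)).app (op Z')).hom (((T J' f F' (n + 1)).map u.op).hom _) = 0
  rw [h0, map_zero]

variable {J' f F'} in
lemma θZ_self {n : ℕ} (θ : CohSite.HU F' n (Over.mk f))
    (hθ : ∀ (W : C) (p q : W ⟶ X) (hW : IsPullback p q f f),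
      CohSite.res F' n (Over.homMk p rfl : Over.mk (p ≫ f) ⟶ Over.mk f) θ =
        CohSite.res F' n (Over.homMk q hW.w.symm : Over.mk (p ≫ f) ⟶ Over.mk f) θ) :
    θZ (J' := J') θ (Over.mk f) =
      CohSite.res F' n ((Over.mapPullbackAdj f).counit.app (Over.mk f)) θ := by
  have hW : IsPullback (pullback.fst f f) (pullback.snd f f) f f := IsPullback.of_hasPullback f f
  let ι₀ : (Over.pullback f ⋙ Over.map f).obj (Over.mk f) ⟶ Over.mk (pullback.fst f f ≫ f) :=
    Over.homMk (𝟙 _) (by simpa using pullback.condition)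
  have e1 : aZ f (Over.mk f) = ι₀ ≫ (Over.homMk (pullback.snd f f) hW.w.symm :
      Over.mk (pullback.fst f f ≫ f) ⟶ Over.mk f) := by
    ext
    simp [aZ, ι₀]
  have e2 : (Over.mapPullbackAdj f).counit.app (Over.mk f) =
      ι₀ ≫ (Over.homMk (pullback.fst f f) rfl : Over.mk (pullback.fst f f ≫ f) ⟶ Over.mk f) := by
    ext
    simp [ι₀]
  change CohSite.res F' n (aZ f (Over.mk f)) θ = _
  rw [e1, e2, res_comp, res_comp, hθ _ _ _ hW]

/-- the comparison map kills the class `θ` over the final object. -/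
lemma cmap_θ_top (J : GrothendieckTopology C)
    (hcov : Sieve.ofArrows (fun _ : PUnit.{u + 1} => X) (fun _ => f) ∈ J Y)
    (hsep : Presheaf.IsSheaf (J.over Y)
      (((fstar J' f).rightDerived (n + 1)).obj ((jinv J' f).obj F')).obj)
    (θ : CohSite.HU F' (n + 1) (Over.mk f))
    (hθ : ∀ (W : C) (p q : W ⟶ X) (hW : IsPullback p q f f),
      CohSite.res F' (n + 1) (Over.homMk p rfl : Over.mk (p ≫ f) ⟶ Over.mk f) θ =
        CohSite.res F' (n + 1) (Over.homMk q hW.w.symm : Over.mk (p ≫ f) ⟶ Over.mk f) θ) :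
    ((cmap J' f F' (n + 1)).app (op (Over.mk (𝟙 Y)))).hom
      (θZ (J' := J') θ (Over.mk (𝟙 Y))) = 0 := by
  let fX : Over.mk f ⟶ Over.mk (𝟙 Y) := Over.homMk f (by simp)
  let S : Sieve (Over.mk (𝟙 Y)) :=
    Sieve.ofArrows (fun _ : PUnit.{u + 1} => Over.mk f) (fun _ => fX)
  have hS : S ∈ (J.over Y) (Over.mk (𝟙 Y)) := by
    rw [GrothendieckTopology.mem_over_iff, Sieve.overEquiv_ofArrows]
    exact hcov
  refine eq_zero_of_cover (J.over Y) _ hsep S hS _ (fun Z' u hu => ?_)
  obtain ⟨_, v, rfl⟩ := (Sieve.mem_ofArrows_iff _ _ _).1 hu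
  have nat := ConcreteCategory.congr_hom ((cmap J' f F' (n + 1)).naturality fX.op)
    (θZ (J' := J') θ (Over.mk (𝟙 Y)))
  have h1 : ((((fstar J' f).rightDerived (n + 1)).obj ((jinv J' f).obj F')).obj.map fX.op).hom
      (((cmap J' f F' (n + 1)).app (op (Over.mk (𝟙 Y)))).hom
        (θZ (J' := J') θ (Over.mk (𝟙 Y)))) = 0 := by
    refine nat.symm.trans ?_
    change ((cmap J' f F' (n + 1)).app (op (Over.mk f))).hom
      (((T J' f F' (n + 1)).map fX.op).hom (θZ (J' := J') θ (Over.mk (𝟙 Y)))) = 0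
    rw [T_map_θZ, θZ_self θ hθ, cmap_res_counit]
  rw [op_comp, Functor.map_comp]
  change ((((fstar J' f).rightDerived (n + 1)).obj ((jinv J' f).obj F')).obj.map v.op).hom
    (((((fstar J' f).rightDerived (n + 1)).obj ((jinv J' f).obj F')).obj.map fX.op).hom _) = 0
  rw [h1, map_zero]

/-- **Main theorem**: a class on `X` whose two pull-backs to `X ×_Y X` agree dies on
`Y_i ×_Y X` for the members of a `J'`-covering of `Y`, provided `R^{n+1} f_*` is separated for the
finer topology and `X → Y` covers for it. -/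
theorem main (J : GrothendieckTopology C)
    (hcov : Sieve.ofArrows (fun _ : PUnit.{u + 1} => X) (fun _ => f) ∈ J Y)
    (hsep : Presheaf.IsSheaf (J.over Y)
      (((fstar J' f).rightDerived (n + 1)).obj ((jinv J' f).obj F')).obj)
    (θ : CohSite.HU F' (n + 1) (Over.mk f))
    (hθ : ∀ (W : C) (p q : W ⟶ X) (hW : IsPullback p q f f),
      CohSite.res F' (n + 1) (Over.homMk p rfl : Over.mk (p ≫ f) ⟶ Over.mk f) θ =
        CohSite.res F' (n + 1) (Over.homMk q hW.w.symm : Over.mk (p ≫ f) ⟶ Over.mk f) θ) :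
    ∃ (ι : Type u) (Z : ι → C) (g : ∀ i, Z i ⟶ Y), Sieve.ofArrows Z g ∈ J' Y ∧
      ∀ (i : ι) (W : C) (p : W ⟶ Z i) (q : W ⟶ X), IsPullback p q (g i) f →
        CohSite.res F' (n + 1) (Over.homMk q rfl : Over.mk (q ≫ f) ⟶ Over.mk f) θ = 0 := by
  have h0 := cmap_θ_top J' f F' n J hcov hsep θ hθ
  have h1 := cmap_eq_zero J' f F' (n + 1) _ h0
  have hmem := Presheaf.equalizerSieve_mem (J'.over Y)
    (toSheafify (J'.over Y) (T J' f F' (n + 1))) (θZ (J' := J') θ (Over.mk (𝟙 Y)))
    (0 : (T J' f F' (n + 1)).obj (op (Over.mk (𝟙 Y)))) (by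
      refine h1.trans ?_
      exact (map_zero ((toSheafify (J'.over Y) (T J' f F' (n + 1))).app
        (op (Over.mk (𝟙 Y)))).hom).symm)
  refine ⟨{Z : Over Y // θZ (J' := J') θ Z = 0}, fun i => i.1.left, fun i => i.1.hom, ?_, ?_⟩
  · have h2 := (GrothendieckTopology.mem_over_iff J' _).1 hmem
    refine J'.superset_covering ?_ h2
    intro W g hg
    rw [Sieve.overEquiv_iff] at hg
    have hg' : ((T J' f F' (n + 1)).map
        (Over.homMk g : Over.mk (g ≫ (Over.mk (𝟙 Y)).hom) ⟶ Over.mk (𝟙 Y)).op).hom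
        (θZ (J' := J') θ (Over.mk (𝟙 Y))) =
        ((T J' f F' (n + 1)).map
          (Over.homMk g : Over.mk (g ≫ (Over.mk (𝟙 Y)).hom) ⟶ Over.mk (𝟙 Y)).op).hom 0 := hg
    rw [T_map_θZ, map_zero] at hg'
    have := Sieve.ofArrows_mk (fun i : {Z : Over Y // θZ (J' := J') θ Z = 0} => i.1.left)
      (fun i => i.1.hom) ⟨Over.mk (g ≫ (Over.mk (𝟙 Y)).hom), hg'⟩
    simpa using this
  · rintro ⟨Z, hZ⟩ W p q hpb
    let b : Over.mk (q ≫ f) ⟶ (Over.pullback f ⋙ Over.map f).obj Z :=
      Over.homMk hpb.isoPullback.hom (by simp)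
    have e : b ≫ aZ f Z = (Over.homMk q rfl : Over.mk (q ≫ f) ⟶ Over.mk f) := by
      ext
      simp [b, aZ]
    rw [← e, res_comp]
    change CohSite.res F' (n + 1) b (θZ (J' := J') θ Z) = 0
    rw [hZ, map_zero]

end Over

end Groth.Agent.Lib.Helper5.SiteCmpKill
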