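import Groth.Agent.Lib.Helper5.ParaFBasic
import Groth.Prelude.Def_FlatMod2

/-!
# Helper5: sections of finite locally free modules

Generalisation of `InvModSections` from invertible to finite locally free modules
(`FlatMod.IsFinLocFree`).
-/

set_option autoImplicit false
universe u

open CategoryTheory CategoryTheory.Limits AlgebraicGeometry TopologicalSpace Opposite

namespace Groth.Agent.Lib.Helper5

variable {X : Scheme.{u}}

theorem isFinLocFree_of_iso {M M' : X.Modules} (e : M ≅ M') (h : FlatMod.IsFinLocFree M) :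
    FlatMod.IsFinLocFree M' := by
  intro x
  obtain ⟨U, n, hx, ⟨i⟩⟩ := h x
  exact ⟨U, n, hx, ⟨(Scheme.Modules.restrictFunctor U.ι).mapIso e.symm ≪≫ i⟩⟩

/-- Step 1, general form: if `L|_W ≅ N` and the restriction maps of `N` are bijective, so are
those of `L` on opens contained in `W`. -/
theorem bijective_map_of_restrict_iso {U : X.Opens} (L : X.Modules) (W : X.Opens)
    (N : (W : Scheme.{u}).Modules) (e : L.restrict W.ι ≅ N)
    (hN : ∀ (A' B' : (W : Scheme.{u}).Opens) (h : A' ≤ B'), W.ι ''ᵁ A' = W.ι ''ᵁ B' ⊓ U →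
      Function.Bijective (N.presheaf.map (homOfLE h).op))
    (A B : X.Opens) (hAB : A ≤ B) (hBW : B ≤ W) (hA : A = B ⊓ U) :
    Function.Bijective (L.presheaf.map (homOfLE hAB).op) := by
  obtain ⟨A', rfl⟩ : ∃ A' : (W : Scheme.{u}).Opens, A = W.ι ''ᵁ A' :=
    ⟨W.ι ⁻¹ᵁ A, by
      rw [Scheme.Hom.image_preimage_eq_opensRange_inf, Scheme.Opens.opensRange_ι,
        inf_eq_right.mpr (hAB.trans hBW)]⟩
  obtain ⟨B', rfl⟩ : ∃ B' : (W : Scheme.{u}).Opens, B = W.ι ''ᵁ B' :=
    ⟨W.ι ⁻¹ᵁ B, by
      rw [Scheme.Hom.image_preimage_eq_opensRange_inf, Scheme.Opens.opensRange_ι,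
        inf_eq_right.mpr hBW]⟩
  have hA'B' : A' ≤ B' := by
    intro x hx
    obtain ⟨y, hy, hxy⟩ := hAB ⟨x, hx, rfl⟩
    have : y = x := W.ι.isOpenEmbedding.injective hxy
    exact this ▸ hy
  have hnat := e.hom.mapPresheaf.naturality (homOfLE hA'B').op
  simp only [Scheme.Modules.mapPresheaf_app] at hnat
  have hbot : Function.Bijective (N.presheaf.map (homOfLE hA'B').op) := hN _ _ hA'B' hA
  have hcomp : Function.Bijective ((e.hom.app A') ∘
      ((L.restrict W.ι).presheaf.map (homOfLE hA'B').op)) := by
    have : ((e.hom.app A') ∘ ((L.restrict W.ι).presheaf.map (homOfLE hA'B').op)) =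
        (N.presheaf.map (homOfLE hA'B').op) ∘ (e.hom.app B') := by
      funext x
      exact congr($hnat x)
    rw [this]
    exact hbot.comp (ConcreteCategory.bijective_of_isIso _)
  exact (Function.Bijective.of_comp_iff' (ConcreteCategory.bijective_of_isIso (e.hom.app A')) _).mp
    hcomp

/-- Evaluation of morphisms of modules on sections, as an additive map. -/
noncomputable def appAddHom (M N : X.Modules) (B : X.Opens) :
    (M ⟶ N) →+ (Γ(M, B) →+ Γ(N, B)) where
  toFun φ := (φ.app B).hom
  map_zero' := rfl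
  map_add' _ _ := rfl

theorem sum_app_apply {M N : X.Modules} {ι : Type*} (s : Finset ι) (φ : ι → (M ⟶ N))
    (B : X.Opens) (x : Γ(M, B)) :
    (∑ i ∈ s, φ i).app B x = ∑ i ∈ s, (φ i).app B x := by
  have h1 : (appAddHom M N B) (∑ i ∈ s, φ i) x = ∑ i ∈ s, (appAddHom M N B (φ i)) x := by
    rw [map_sum, AddMonoidHom.finsetSum_apply]
  exact h1

/-- If the identity of `M` is a finite sum of morphisms factoring through modules whose restriction
maps are bijective, then the restriction maps of `M` are bijective. -/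
theorem bijective_map_of_decomposition {M : X.Modules} {ι : Type*} [Fintype ι]
    (N : ι → X.Modules) (inj : ∀ i, N i ⟶ M) (proj : ∀ i, M ⟶ N i)
    (htotal : ∑ i, proj i ≫ inj i = 𝟙 M) {A B : X.Opens} (hAB : A ≤ B)
    (hN : ∀ i, Function.Bijective ((N i).presheaf.map (homOfLE hAB).op)) :
    Function.Bijective (M.presheaf.map (homOfLE hAB).op) := by
  have hdecomp : ∀ (D : X.Opens) (x : Γ(M, D)), x = ∑ i, (inj i).app D ((proj i).app D x) := by
    intro D x
    have := sum_app_apply Finset.univ (fun i => proj i ≫ inj i) D x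
    rw [htotal] at this
    simpa using this
  constructor
  · intro x y hxy
    rw [hdecomp B x, hdecomp B y]
    refine Finset.sum_congr rfl (fun i _ => ?_)
    congr 1
    apply (hN i).1
    rw [app_naturality_apply, app_naturality_apply, hxy]
  · intro y
    choose z hz using fun i => (hN i).2 ((proj i).app A y)
    refine ⟨∑ i, (inj i).app B (z i), ?_⟩
    rw [map_sum, hdecomp A y]
    refine Finset.sum_congr rfl (fun i _ => ?_)
    rw [app_naturality_apply, hz]

/-- Restriction maps of the free module of rank `n` are bijective when those of the structure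
sheaf are. -/
theorem bijective_map_freeMod {Y : Scheme.{u}} (n : ℕ) {A B : Y.Opens} (hAB : A ≤ B)
    (hO : Function.Bijective (Y.presheaf.map (homOfLE hAB).op)) :
    Function.Bijective ((FlatMod.freeMod Y n).presheaf.map (homOfLE hAB).op) := by
  let f : Fin n → Y.Modules := fun _ => Coh.structureModule Y
  have : HasFiniteBiproducts Y.Modules := Abelian.hasFiniteBiproducts
  let c : ∐ f ≅ ⨁ f := (biproduct.isoCoproduct f).symm
  refine bijective_map_of_decomposition (fun i => f i) (fun i => biproduct.ι f i ≫ c.inv)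
    (fun i => c.hom ≫ biproduct.π f i) ?_ hAB (fun i => hO)
  calc ∑ i, (c.hom ≫ biproduct.π f i) ≫ (biproduct.ι f i ≫ c.inv)
      = c.hom ≫ (∑ i, biproduct.π f i ≫ biproduct.ι f i) ≫ c.inv := by
        simp only [Preadditive.comp_sum, Preadditive.sum_comp, Category.assoc]
    _ = 𝟙 _ := by rw [biproduct.total]; simp

/-- Lemma A for finite locally free modules. -/
theorem bijective_map_of_isFinLocFree {U : X.Opens} (hO : FunResBij X U) (E : X.Modules)
    (hE : FlatMod.IsFinLocFree E) (A B : X.Opens) (hAB : A ≤ B) (hA : A = B ⊓ U) :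
    Function.Bijective (E.presheaf.map (homOfLE hAB).op) := by
  subst hA
  choose W n hW e using hE
  exact bijective_res_of_locally ⟨E.presheaf, E.isSheaf⟩ U W
    (fun i A B hAB hB hA => bijective_map_of_restrict_iso E (W i) _ (e i).some
      (fun A' B' h hA' => bijective_map_freeMod (n i) h
        (hO _ _ ((W i).ι.image_mono h) hA')) A B hAB hB hA) B
    (fun x _ => Opens.mem_iSup.mpr ⟨x, hW x⟩)

/-- The unit `L ⟶ j_* j^* L` is an isomorphism as soon as the restriction maps
`L(B) → L(B ⊓ j(U'))` are bijective. -/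
theorem isIso_unit_of_bijective_map {U' : Scheme.{u}} (j : U' ⟶ X) [IsOpenImmersion j]
    (L : X.Modules)
    (hL : ∀ (A B : X.Opens) (hAB : A ≤ B), A = B ⊓ j.opensRange →
      Function.Bijective (L.presheaf.map (homOfLE hAB).op)) :
    IsIso ((Scheme.Modules.restrictAdjunction j).unit.app L) := by
  rw [Scheme.Modules.Hom.isIso_iff_isIso_app]
  intro V
  rw [Scheme.Modules.restrictAdjunction_unit_app_app, ConcreteCategory.isIso_iff_bijective]
  apply hL
  rw [Scheme.Hom.image_preimage_eq_opensRange_inf, inf_comm]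

theorem isIso_unit_of_isFinLocFree {U' : Scheme.{u}} (j : U' ⟶ X) [IsOpenImmersion j]
    (hO : FunResBij X j.opensRange) (E : X.Modules) (hE : FlatMod.IsFinLocFree E) :
    IsIso ((Scheme.Modules.restrictAdjunction j).unit.app E) :=
  isIso_unit_of_bijective_map j E (bijective_map_of_isFinLocFree hO E hE)

end Groth.Agent.Lib.Helper5
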