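import Groth.Agent.Lib.Helper5.SheafGlue

/-!
# Helper5: sheaf-theoretic gluing lemmas, covering version

Injectivity / bijectivity of `F(V) → F(V ⊓ U)` can be checked on a cover of `V`.
-/

set_option autoImplicit false

open CategoryTheory CategoryTheory.Limits TopologicalSpace Opposite TopCat TopCat.Presheaf

namespace Groth.Agent.Lib.Helper5

universe x

variable {C : Type*} [Category C] {FC : C → C → Type*} {CC : C → Type*}
variable [∀ X Y, FunLike (FC X Y) (CC X) (CC Y)] [ConcreteCategory C FC]
variable [HasLimitsOfSize.{x, x} C] [(CategoryTheory.forget C).ReflectsIsomorphisms]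
variable [PreservesLimitsOfSize.{x, x} (CategoryTheory.forget C)]
variable {X : TopCat.{x}} (F : TopCat.Sheaf C X)

theorem injective_res_of_cover (U : Opens X) {ι : Type*} (W : ι → Opens X) (V : Opens X)
    (hWV : ∀ i, W i ≤ V) (hV : V ≤ iSup W)
    (hloc : ∀ i, Function.Injective (res F (inf_le_left : W i ⊓ U ≤ W i))) :
    Function.Injective (res F (inf_le_left : V ⊓ U ≤ V)) := by
  intro s t hst
  refine F.eq_of_locally_eq' W V (fun i => homOfLE (hWV i)) hV s t (fun i => ?_)
  apply hloc i
  change res F _ (res F _ s) = res F _ (res F _ t)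
  have hle : W i ⊓ U ≤ V ⊓ U := inf_le_inf_right U (hWV i)
  rw [res_res, res_res, ← res_res F hle inf_le_left, ← res_res F hle inf_le_left, hst]

theorem bijective_res_of_cover (U : Opens X) {ι : Type*} (W : ι → Opens X) (V : Opens X)
    (hWV : ∀ i, W i ≤ V) (hV : V ≤ iSup W)
    (hloc : ∀ i, Function.Bijective (res F (inf_le_left : W i ⊓ U ≤ W i)))
    (hinj : ∀ i j, Function.Injective (res F (inf_le_left : W i ⊓ W j ⊓ U ≤ W i ⊓ W j))) :
    Function.Bijective (res F (inf_le_left : V ⊓ U ≤ V)) := by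
  refine ⟨injective_res_of_cover F U W V hWV hV (fun i => (hloc i).1), ?_⟩
  have hle : ∀ i, W i ⊓ U ≤ V ⊓ U := fun i => inf_le_inf_right U (hWV i)
  have hcovU : V ⊓ U ≤ ⨆ i, W i ⊓ U := by
    rw [← iSup_inf_eq]; exact inf_le_inf_right _ hV
  intro t
  choose sf hsf using fun i => (hloc i).2 (res F (hle i) t)
  have hcompat : IsCompatible F.1 W sf := by
    intro i j
    apply hinj i j
    change res F _ (res F inf_le_left (sf i)) = res F _ (res F inf_le_right (sf j))
    rw [res_res, res_res]
    have e1 : res F ((inf_le_left : W i ⊓ W j ⊓ U ≤ _).trans inf_le_left) (sf i) =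
        res F (inf_le_inf_right U (inf_le_left.trans (hWV i))) t := by
      rw [← res_res F (inf_le_inf_right U inf_le_left : W i ⊓ W j ⊓ U ≤ W i ⊓ U) inf_le_left,
        hsf, res_res]
    have e2 : res F ((inf_le_left : W i ⊓ W j ⊓ U ≤ _).trans inf_le_right) (sf j) =
        res F (inf_le_inf_right U (inf_le_left.trans (hWV i))) t := by
      rw [← res_res F (inf_le_inf_right U inf_le_right : W i ⊓ W j ⊓ U ≤ W j ⊓ U) inf_le_left,
        hsf, res_res]
    rw [e1, e2]
  obtain ⟨s, hs, -⟩ := F.existsUnique_gluing' W V (fun i => homOfLE (hWV i)) hV sf hcompat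
  refine ⟨s, ?_⟩
  refine F.eq_of_locally_eq' (fun i => W i ⊓ U) (V ⊓ U) (fun i => homOfLE (hle i)) hcovU _ _
    (fun i => ?_)
  change res F _ (res F _ s) = res F _ t
  rw [res_res, ← res_res F (inf_le_left : W i ⊓ U ≤ W i) (hWV i)]
  have : res F (hWV i) s = sf i := hs i
  rw [this, hsf]

end Groth.Agent.Lib.Helper5
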