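import Mathlib
import Groth.Prelude.Def_EtCech
import Groth.Agent.Lib.Helper15.CechGen
import Groth.Agent.Lib.Helper2.GSS.DerivedDFun

/-!
# Helper5: Čech cohomology of presheaves as the right derived functors of `Ȟ⁰`

Universe-general version: `C` any category, family indexed by `ι : Type w`, coefficients in
`AddCommGrpCat.{w}`.
-/

set_option autoImplicit false
universe w v u u'

namespace Groth.Agent.Lib.Helper5.CechDerived

open CategoryTheory CategoryTheory.Limits Opposite
open Groth.Agent.Lib.Helper15.CechGen Groth.Agent.Lib.Helper13.DeltaFun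

noncomputable section

section LES

variable {D : Type u'} [Category.{v} D] [HasFiniteProducts D] {κ : Type w} (Y : κ → D)

lemma map_proj_apply {P P' : Dᵒᵖ ⥤ AddCommGrpCat.{w}} (τ : P ⟶ P') (n : ℕ)
    (i : Fin (n + 1) → κ) (x : (cx Y P).X n) :
    (proj Y P' n i).hom ((((cechComplexFunctor Y).map τ).f n).hom x) =
      (τ.app (op (∏ᶜ (Y ∘ i)))).hom ((proj Y P n i).hom x) :=
  ConcreteCategory.congr_hom (map_proj Y τ n i) x

lemma map_zero' (P P' : Dᵒᵖ ⥤ AddCommGrpCat.{w}) :
    (cechComplexFunctor Y).map (0 : P ⟶ P') = 0 := by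
  ext n : 1
  apply AddCommGrpCat.hom_ext
  ext x
  apply ext_elem
  intro i
  rw [map_proj_apply]
  simp

instance : (cechComplexFunctor (A := AddCommGrpCat.{w}) Y).PreservesZeroMorphisms :=
  ⟨fun P P' => map_zero' Y P P'⟩

/-- the short complex of Čech complexes attached to a short complex of presheaves. -/
def cechSC (S : ShortComplex (Dᵒᵖ ⥤ AddCommGrpCat.{w})) :
    ShortComplex (CochainComplex AddCommGrpCat.{w} ℕ) :=
  ShortComplex.mk ((cechComplexFunctor Y).map S.f) ((cechComplexFunctor Y).map S.g) (by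
    rw [← Functor.map_comp, S.zero, map_zero'])

/-- sectionwise short exactness on the iterated products of the members of the family. -/
structure SectionwiseExact (S : ShortComplex (Dᵒᵖ ⥤ AddCommGrpCat.{w})) : Prop where
  inj : ∀ (n : ℕ) (i : Fin (n + 1) → κ) (x : S.X₁.obj (op (∏ᶜ (Y ∘ i)))),
    (S.f.app _).hom x = 0 → x = 0
  ex : ∀ (n : ℕ) (i : Fin (n + 1) → κ) (x : S.X₂.obj (op (∏ᶜ (Y ∘ i)))),
    (S.g.app _).hom x = 0 → ∃ y, (S.f.app _).hom y = x
  surj : ∀ (n : ℕ) (i : Fin (n + 1) → κ) (z : S.X₃.obj (op (∏ᶜ (Y ∘ i)))),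
    ∃ x, (S.g.app _).hom x = z

variable {Y} {S : ShortComplex (Dᵒᵖ ⥤ AddCommGrpCat.{w})} (hS : SectionwiseExact Y S)
include hS

lemma cechSC_shortExact : (cechSC Y S).ShortExact := by
  apply HomologicalComplex.shortExact_of_degreewise_shortExact
  intro n
  have hmono : Mono (((cechComplexFunctor Y).map S.f).f n) := by
    rw [AddCommGrpCat.mono_iff_injective, injective_iff_map_eq_zero]
    intro x hx
    apply ext_elem
    intro i
    rw [map_zero]
    apply hS.inj n i
    rw [← map_proj_apply, hx, map_zero]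
  have hepi : Epi (((cechComplexFunctor Y).map S.g).f n) := by
    rw [AddCommGrpCat.epi_iff_surjective]
    intro z
    choose x hx using fun i => hS.surj n i ((proj Y S.X₃ n i).hom z)
    refine ⟨mk Y S.X₂ x, ?_⟩
    apply ext_elem
    intro i
    rw [map_proj_apply, proj_mk, hx]
  refine { exact := ?_, mono_f := hmono, epi_g := hepi }
  rw [ShortComplex.ab_exact_iff]
  intro x hx
  have h : ∀ i, ∃ y, (S.f.app _).hom y = (proj Y S.X₂ n i).hom x := by
    intro i
    apply hS.ex n i
    have := map_proj_apply Y S.g n i x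
    rw [← this]
    exact (congrArg _ hx).trans (map_zero _)
  choose y hy using h
  refine ⟨mk Y S.X₁ y, ?_⟩
  apply ext_elem
  intro i
  exact (map_proj_apply Y S.f n i _).trans (by rw [proj_mk, hy])

end LES

section Presheaf

variable {C : Type u} [Category.{v} C]

section PresheafExact

variable {X : ShortComplex (Cᵒᵖ ⥤ AddCommGrpCat.{w})} (hX : X.ShortExact)
include hX

lemma app_shortExact (V : Cᵒᵖ) :
    (X.map ((evaluation Cᵒᵖ AddCommGrpCat.{w}).obj V)).ShortExact :=
  hX.map_of_exact _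

lemma app_injective (V : Cᵒᵖ) (x : X.X₁.obj V) (hx : (X.f.app V).hom x = 0) : x = 0 := by
  have h := (AddCommGrpCat.mono_iff_injective _).1 (app_shortExact hX V).mono_f
  exact h (hx.trans (map_zero _).symm)

lemma app_surjective (V : Cᵒᵖ) (z : X.X₃.obj V) : ∃ x : X.X₂.obj V, (X.g.app V).hom x = z :=
  (AddCommGrpCat.epi_iff_surjective _).1 (app_shortExact hX V).epi_g z

lemma app_exact (V : Cᵒᵖ) (x : X.X₂.obj V) (hx : (X.g.app V).hom x = 0) :
    ∃ y : X.X₁.obj V, (X.f.app V).hom y = x := by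
  have h := (app_shortExact hX V).exact
  rw [ShortComplex.ab_exact_iff] at h
  exact h x hx

end PresheafExact

variable {U : C} [HasFiniteProducts (Over U)] {ι : Type w} (Uf : ι → Over U)

/-- the Čech complex functor on abelian presheaves on `C`. -/
abbrev K : (Cᵒᵖ ⥤ AddCommGrpCat.{w}) ⥤ CochainComplex AddCommGrpCat.{w} ℕ :=
  (Functor.whiskeringLeft (Over U)ᵒᵖ Cᵒᵖ AddCommGrpCat.{w}).obj (Over.forget U).op ⋙
    cechComplexFunctor Uf

instance : (K (C := C) Uf).PreservesZeroMorphisms := ⟨fun P P' => by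
  change (cechComplexFunctor Uf).map (Functor.whiskerLeft (Over.forget U).op (0 : P ⟶ P')) = 0
  have h : Functor.whiskerLeft (Over.forget U).op (0 : P ⟶ P') = 0 := by
    ext V
    rfl
  rw [h, map_zero']⟩

/-- the Čech complex functor is exact on abelian presheaves. -/
lemma K_shortExact (X : ShortComplex (Cᵒᵖ ⥤ AddCommGrpCat.{w})) (hX : X.ShortExact) :
    (X.map (K Uf)).ShortExact := by
  have h : SectionwiseExact Uf
      (X.map ((Functor.whiskeringLeft _ _ AddCommGrpCat.{w}).obj (Over.forget U).op)) :=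
    { inj := fun n i x hx => app_injective hX _ x hx
      ex := fun n i x hx => app_exact hX _ x hx
      surj := fun n i z => app_surjective hX _ z }
  exact cechSC_shortExact h

/-- Čech cohomology with respect to `Uf` as a δ-functor on abelian presheaves. -/
def cechDelta : DFun.{w} (Cᵒᵖ ⥤ AddCommGrpCat.{w}) where
  obj P n := ((K Uf).obj P).homology n
  map φ n := (HomologicalComplex.homologyMap ((K Uf).map φ) n).hom
  δ X hX n := ((K_shortExact Uf X hX).δ n (n + 1) rfl).hom
  map_id P n x := by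
    rw [CategoryTheory.Functor.map_id, HomologicalComplex.homologyMap_id]
    rfl
  δ_nat {X X'} φ hX hX' n x := by
    have h := HomologicalComplex.HomologySequence.δ_naturality
      ((K Uf).mapShortComplex.map φ) (K_shortExact Uf X hX)
      (K_shortExact Uf X' hX') n (n + 1) rfl
    exact (ConcreteCategory.congr_hom h x).symm
  δ_map X hX n x := ConcreteCategory.congr_hom ((K_shortExact Uf X hX).comp_δ n (n + 1) rfl) x
  exact₃ X hX n y hy := by
    have h := (K_shortExact Uf X hX).homology_exact₃ n (n + 1) rfl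
    rw [ShortComplex.ab_exact_iff] at h
    exact h y hy
  exact₁ X hX n y hy := by
    have h := (K_shortExact Uf X hX).homology_exact₁ n (n + 1) rfl
    rw [ShortComplex.ab_exact_iff] at h
    exact h y hy

/-- `Ȟ⁰` is left exact. -/
lemma mono_homologyMap_zero {K₁ K₂ : CochainComplex AddCommGrpCat.{w} ℕ} (φ : K₁ ⟶ K₂)
    [Mono (φ.f 0)] : Mono (HomologicalComplex.homologyMap φ 0) := by
  have h1 : Mono (HomologicalComplex.cyclesMap φ 0) := by
    have : Mono (HomologicalComplex.cyclesMap φ 0 ≫ K₂.iCycles 0) := by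
      rw [HomologicalComplex.cyclesMap_i]
      infer_instance
    exact mono_of_mono _ (K₂.iCycles 0)
  have h2 : HomologicalComplex.homologyMap φ 0 =
      K₁.isoHomologyπ₀.inv ≫ HomologicalComplex.cyclesMap φ 0 ≫ K₂.isoHomologyπ₀.hom := by
    rw [← CochainComplex.isoHomologyπ₀_inv_naturality_assoc, Iso.inv_hom_id, Category.comp_id]
  rw [h2]
  infer_instance

instance preservesFiniteLimits_cechH0 [(EtCech.cechHFunctor (C := C) Uf 0).Additive] :
    PreservesFiniteLimits (EtCech.cechHFunctor (C := C) Uf 0) := by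
  rw [Functor.preservesFiniteLimits_iff_forall_exact_map_and_mono]
  intro S hS
  have hK := K_shortExact Uf S hS
  constructor
  · exact hK.homology_exact₂ 0
  · haveI : Mono (((K Uf).map S.f).f 0) := by
      have : Mono (S.map (K Uf)).f := hK.mono_f
      have h3 : Mono ((S.map (K Uf)).f.f 0) := inferInstance
      exact h3
    exact mono_homologyMap_zero ((K Uf).map S.f)

section Main

open Groth.Agent.Lib.Helper2.DerivedDFun

variable [EnoughInjectives (Cᵒᵖ ⥤ AddCommGrpCat.{w})]
  [(EtCech.cechHFunctor (C := C) Uf 0).Additive]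

lemma cechDelta_effaceable
    (h : ∀ (I : Cᵒᵖ ⥤ AddCommGrpCat.{w}) [Injective I] (p : ℕ),
      IsZero (EtCech.cechH Uf I (p + 1))) : Effaceable (cechDelta Uf) := by
  intro I _ n x
  exact (AddCommGrpCat.subsingleton_of_isZero (h I n)).elim x 0

/-- the comparison in degree `0`. -/
def e0 (P : Cᵒᵖ ⥤ AddCommGrpCat.{w}) :
    (cechDelta Uf).obj P 0 →+ (rdDFun (EtCech.cechHFunctor (C := C) Uf 0)).obj P 0 :=
  ((EtCech.cechHFunctor (C := C) Uf 0).rightDerivedZeroIsoSelf.inv.app P).hom

lemma e0_bijective (P : Cᵒᵖ ⥤ AddCommGrpCat.{w}) : Function.Bijective (e0 Uf P) :=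
  ConcreteCategory.bijective_of_isIso
    ((EtCech.cechHFunctor (C := C) Uf 0).rightDerivedZeroIsoSelf.inv.app P)

lemma e0_natural {P Q : Cᵒᵖ ⥤ AddCommGrpCat.{w}} (φ : P ⟶ Q) (x : (cechDelta Uf).obj P 0) :
    e0 Uf Q ((cechDelta Uf).map φ 0 x) =
      (rdDFun (EtCech.cechHFunctor (C := C) Uf 0)).map φ 0 (e0 Uf P x) :=
  ConcreteCategory.congr_hom
    ((EtCech.cechHFunctor (C := C) Uf 0).rightDerivedZeroIsoSelf.inv.naturality φ) x

theorem nonempty_iso_rightDerived
    (h : ∀ (I : Cᵒᵖ ⥤ AddCommGrpCat.{w}) [Injective I] (p : ℕ),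
      IsZero (EtCech.cechH Uf I (p + 1))) (p : ℕ) :
    Nonempty (EtCech.cechHFunctor (C := C) Uf p ≅
      (EtCech.cechHFunctor (C := C) Uf 0).rightDerived p) := by
  obtain ⟨e, he, -, hb⟩ := bijective_of_zero (cechDelta_effaceable Uf h)
    (effaceable_rdDFun (EtCech.cechHFunctor (C := C) Uf 0))
    (e0 Uf) (e0_natural Uf) (e0_bijective Uf)
  refine ⟨NatIso.ofComponents
    (fun P => (AddEquiv.ofBijective (e P p) (hb P p)).toAddCommGrpIso) ?_⟩
  intro P Q φ
  ext x
  exact he.natural φ p x

end Main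

end Presheaf

end

end Groth.Agent.Lib.Helper5.CechDerived
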