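import Mathlib
import Groth.Agent.Lib.Helper15.CechGen

/-!
# (helper5) universe-generalised copy of `Helper13.CechLow`

# Čech complexes in low degrees: augmentation, gluing, `Ȟ¹ = 0 ⇒` lifting of sections

General setting: `D` with finite products, a family `Y : κ → D`, an object `B` with maps
`b j : Y j ⟶ B` which agree on the pairwise products (`Aug`).
-/
set_option autoImplicit false
universe w v u'
open CategoryTheory CategoryTheory.Limits Opposite

noncomputable section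

namespace Groth.Agent.Lib.Helper5.CechLowGen

open Groth.Agent.Lib.Helper15.CechGen

variable {D : Type u'} [Category.{v} D] [HasFiniteProducts D] {κ : Type w} (Y : κ → D)

/-- exactness of the Čech complex in degree `n + 1`, in terms of elements. -/
def CechExact (P : Dᵒᵖ ⥤ AddCommGrpCat.{w}) (n : ℕ) : Prop :=
  ∀ c : (cx Y P).X (n + 1), ((cx Y P).d (n + 1) (n + 2)).hom c = 0 →
    ∃ b : (cx Y P).X n, ((cx Y P).d n (n + 1)).hom b = c

lemma cechExact_iff (P : Dᵒᵖ ⥤ AddCommGrpCat.{w}) (n : ℕ) :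
    CechExact Y P n ↔ IsZero ((cx Y P).homology (n + 1)) := by
  rw [← HomologicalComplex.exactAt_iff_isZero_homology,
    HomologicalComplex.exactAt_iff' _ n (n + 1) (n + 2) (by simp) (by simp),
    ShortComplex.ab_exact_iff]
  rfl

/-- the constant index `Fin 1 → κ`. -/
abbrev single (j : κ) : Fin 1 → κ := fun _ => j

/-- `Y j ⟶ ∏ (Y ∘ single j)`. -/
def toSingle (j : κ) : Y j ⟶ ∏ᶜ (Y ∘ single j) := Pi.lift (fun _ => 𝟙 (Y j))

@[reassoc (attr := simp)]
lemma toSingle_π (j : κ) : toSingle Y j ≫ Pi.π (Y ∘ single j) 0 = 𝟙 (Y j) :=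
  Pi.lift_π _ _

@[reassoc (attr := simp)]
lemma π_toSingle (j : κ) : Pi.π (Y ∘ single j) 0 ≫ toSingle Y j = 𝟙 (∏ᶜ (Y ∘ single j)) := by
  apply Pi.hom_ext
  intro a
  obtain rfl : a = 0 := Subsingleton.elim _ _
  rw [Category.assoc, toSingle_π, Category.id_comp]
  exact Category.comp_id _

variable (P : Dᵒᵖ ⥤ AddCommGrpCat.{w})

/-- the component at `j : κ` of a `0`-cochain. -/
def at0 (b : (cx Y P).X 0) (j : κ) : P.obj (op (Y j)) :=
  (P.map (toSingle Y j).op).hom ((proj Y P 0 (single j)).hom b)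

omit [HasFiniteProducts D] in
lemma map_map_apply {A B C : D} (f : A ⟶ B) (g : B ⟶ C) (x : P.obj (op C)) :
    (P.map f.op).hom ((P.map g.op).hom x) = (P.map (f ≫ g).op).hom x := by
  rw [op_comp, P.map_comp]
  rfl

omit [HasFiniteProducts D] in
lemma map_id_apply {A : D} (x : P.obj (op A)) : (P.map (𝟙 A).op).hom x = x := by
  rw [op_id, P.map_id]
  rfl

lemma proj_zero (b : (cx Y P).X 0) (i : Fin 1 → κ) :
    (proj Y P 0 i).hom b = (P.map (Pi.π (Y ∘ i) 0).op).hom (at0 Y P b (i 0)) := by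
  obtain ⟨j, rfl⟩ : ∃ j, i = single j :=
    ⟨i 0, funext fun a => by rw [Subsingleton.elim a 0]⟩
  change _ = (P.map (Pi.π (Y ∘ single j) 0).op).hom
    ((P.map (toSingle Y j).op).hom ((proj Y P 0 (single j)).hom b))
  rw [map_map_apply, π_toSingle, map_id_apply]

/-- the `0`-cochain with given components. -/
def mk0 (s : ∀ j, P.obj (op (Y j))) : (cx Y P).X 0 :=
  mk Y P (fun i => (P.map (Pi.π (Y ∘ i) 0).op).hom (s (i 0)))

@[simp]
lemma at0_mk0 (s : ∀ j, P.obj (op (Y j))) (j : κ) : at0 Y P (mk0 Y P s) j = s j := by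
  change (P.map (toSingle Y j).op).hom ((proj Y P 0 (single j)).hom (mk0 Y P s)) = s j
  rw [mk0, proj_mk]
  change (P.map (toSingle Y j).op).hom ((P.map (Pi.π (Y ∘ single j) 0).op).hom (s j)) = s j
  rw [map_map_apply, toSingle_π, map_id_apply]

lemma ext0 {b b' : (cx Y P).X 0} (h : ∀ j, at0 Y P b j = at0 Y P b' j) : b = b' := by
  apply ext_elem
  intro i
  rw [proj_zero, proj_zero, h]

lemma face_map_apply {n : ℕ} (i : Fin (n + 2) → κ) (k : Fin (n + 2)) (a : Fin (n + 1))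
    (x : P.obj (op (Y (i (k.succAbove a))))) :
    (P.map (face Y i k).op).hom ((P.map (Pi.π (Y ∘ (i ∘ k.succAbove)) a).op).hom x) =
      (P.map (Pi.π (Y ∘ i) (k.succAbove a)).op).hom x := by
  rw [map_map_apply, face_π]

lemma d0_proj (b : (cx Y P).X 0) (i : Fin 2 → κ) :
    (proj Y P 1 i).hom (((cx Y P).d 0 1).hom b) =
      (P.map (Pi.π (Y ∘ i) 1).op).hom (at0 Y P b (i 1)) -
        (P.map (Pi.π (Y ∘ i) 0).op).hom (at0 Y P b (i 0)) := by
  rw [d_apply, Fin.sum_univ_two, proj_zero, proj_zero, face_map_apply, face_map_apply]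
  simp only [Fin.val_zero, pow_zero, one_smul, Fin.val_one, pow_one, neg_smul]
  exact (sub_eq_add_neg _ _).symm

lemma d1_proj (c : (cx Y P).X 1) (i : Fin 3 → κ) :
    (proj Y P 2 i).hom (((cx Y P).d 1 2).hom c) =
      (P.map (face Y i 0).op).hom ((proj Y P 1 (i ∘ Fin.succAbove 0)).hom c) -
        (P.map (face Y i 1).op).hom ((proj Y P 1 (i ∘ Fin.succAbove 1)).hom c) +
        (P.map (face Y i 2).op).hom ((proj Y P 1 (i ∘ Fin.succAbove 2)).hom c) := by
  rw [d_apply, Fin.sum_univ_three]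
  simp only [Fin.val_zero, pow_zero, one_smul, Fin.val_one, pow_one, neg_smul, Fin.val_two,
    even_two, Even.neg_pow, one_pow]
  abel

omit [HasFiniteProducts D] in
lemma nat_apply {P P' : Dᵒᵖ ⥤ AddCommGrpCat.{w}} (τ : P ⟶ P') {W W' : D} (f : W ⟶ W')
    (x : P.obj (op W')) : (τ.app (op W)).hom ((P.map f.op).hom x) =
      (P'.map f.op).hom ((τ.app (op W')).hom x) :=
  ConcreteCategory.congr_hom (τ.naturality f.op) x

/-- An augmentation of the family `Y`: an object `B` with maps `Y j ⟶ B` which agree on the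
pairwise products. -/
structure Aug (B : D) where
  /-- the maps to the base -/
  b : ∀ j, Y j ⟶ B
  /-- compatibility on products -/
  compat : ∀ i : Fin 2 → κ, Pi.π (Y ∘ i) 0 ≫ b (i 0) = Pi.π (Y ∘ i) 1 ≫ b (i 1)

variable {Y} {B : D} (A : Aug Y B)

/-- the gluing (sheaf) condition of a presheaf with respect to the augmented family. -/
structure IsGluing : Prop where
  /-- separatedness -/
  sep : ∀ s s' : P.obj (op B), (∀ j, (P.map (A.b j).op).hom s = (P.map (A.b j).op).hom s') → s = s'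
  /-- gluing -/
  glue : ∀ t : ∀ j, P.obj (op (Y j)),
    (∀ i : Fin 2 → κ, (P.map (Pi.π (Y ∘ i) 0).op).hom (t (i 0)) =
      (P.map (Pi.π (Y ∘ i) 1).op).hom (t (i 1))) →
    ∃ s : P.obj (op B), ∀ j, (P.map (A.b j).op).hom s = t j

/-- the augmentation map `P(B) → Č⁰(P)`, on elements. -/
def εfun (s : P.obj (op B)) : (cx Y P).X 0 := mk0 Y P (fun j => (P.map (A.b j).op).hom s)

@[simp]
lemma at0_εfun (s : P.obj (op B)) (j : κ) : at0 Y P (εfun P A s) j = (P.map (A.b j).op).hom s :=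
  at0_mk0 _ _ _ _

lemma d_εfun (s : P.obj (op B)) : ((cx Y P).d 0 1).hom (εfun P A s) = 0 := by
  apply ext_elem
  intro i
  rw [d0_proj, at0_εfun, at0_εfun, map_map_apply, map_map_apply, A.compat, sub_self, map_zero]

/-- a `0`-cocycle of a presheaf satisfying the gluing condition comes from a section over `B`. -/
lemma exists_εfun_eq (hP : IsGluing P A) (z : (cx Y P).X 0)
    (hz : ((cx Y P).d 0 1).hom z = 0) : ∃ s : P.obj (op B), εfun P A s = z := by
  obtain ⟨s, hs⟩ := hP.glue (at0 Y P z) (fun i => by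
    have h := congrArg (fun c => (proj Y P 1 i).hom c) hz
    simp only [d0_proj, map_zero] at h
    exact (sub_eq_zero.1 h).symm)
  refine ⟨s, ?_⟩
  apply ext0
  intro j
  rw [at0_εfun, hs]

lemma εfun_injective (hP : IsGluing P A) (s s' : P.obj (op B)) (h : εfun P A s = εfun P A s') :
    s = s' := by
  apply hP.sep
  intro j
  rw [← at0_εfun, ← at0_εfun, h]

variable {P}

/-- **Lifting sections when `Ȟ¹ = 0`.**  Let `φ : P₁ ⟶ P₂`, `ψ : P₂ ⟶ P₃` be morphisms of
presheaves with `φ` injective and `ker ψ = im φ` sectionwise, `P₂` satisfying gluing and `P₃`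
separated, and assume that `Ȟ¹(Y, P₁) = 0`.  Then a section of `P₃` over `B` which lifts to `P₂`
over each `Y j` lifts to `P₂` over `B`. -/
theorem exists_lift_of_cechExact {P₁ P₂ P₃ : Dᵒᵖ ⥤ AddCommGrpCat.{w}} (φ : P₁ ⟶ P₂) (ψ : P₂ ⟶ P₃)
    (hφ : ∀ (W : D) (x : P₁.obj (op W)), (φ.app (op W)).hom x = 0 → x = 0)
    (hex : ∀ (W : D) (x : P₂.obj (op W)), (ψ.app (op W)).hom x = 0 →
      ∃ y : P₁.obj (op W), (φ.app (op W)).hom y = x)
    (hφψ : ∀ (W : D) (y : P₁.obj (op W)), (ψ.app (op W)).hom ((φ.app (op W)).hom y) = 0)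
    (h₂ : IsGluing P₂ A) (h₃ : IsGluing P₃ A) (h₁ : CechExact Y P₁ 0)
    (s : P₃.obj (op B)) (t : ∀ j, P₂.obj (op (Y j)))
    (ht : ∀ j, (ψ.app (op (Y j))).hom (t j) = (P₃.map (A.b j).op).hom s) :
    ∃ t' : P₂.obj (op B), (ψ.app (op B)).hom t' = s := by
  have nat := @nat_apply D _
  -- the 1-cochain of differences
  have hγ : ∀ i : Fin 2 → κ, ∃ y : P₁.obj (op (∏ᶜ (Y ∘ i))), (φ.app _).hom y =
      (P₂.map (Pi.π (Y ∘ i) 1).op).hom (t (i 1)) - (P₂.map (Pi.π (Y ∘ i) 0).op).hom (t (i 0)) := by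
    intro i
    apply hex
    have e : ∀ a : Fin 2, (ψ.app (op (∏ᶜ (Y ∘ i)))).hom ((P₂.map (Pi.π (Y ∘ i) a).op).hom (t (i a))) =
        (P₃.map (Pi.π (Y ∘ i) a ≫ A.b (i a)).op).hom s := by
      intro a
      rw [← map_map_apply, ← ht]
      exact nat ψ _ _
    rw [map_sub, e 1, e 0, A.compat, sub_self]
  choose γ hγ using hγ
  have hc : ((cx Y P₁).d 1 2).hom (mk Y P₁ γ) = 0 := by
    apply ext_elem
    intro i
    rw [map_zero]
    apply hφ
    rw [d1_proj]
    simp only [proj_mk, map_add, map_sub, nat φ, hγ]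
    simp only [face_map_apply]
    have e01 : (0 : Fin 3).succAbove (1 : Fin 2) = 2 := by decide
    have e00 : (0 : Fin 3).succAbove (0 : Fin 2) = 1 := by decide
    have e11 : (1 : Fin 3).succAbove (1 : Fin 2) = 2 := by decide
    have e10 : (1 : Fin 3).succAbove (0 : Fin 2) = 0 := by decide
    have e21 : (2 : Fin 3).succAbove (1 : Fin 2) = 1 := by decide
    have e20 : (2 : Fin 3).succAbove (0 : Fin 2) = 0 := by decide
    let u : Fin 3 → P₂.obj (op (∏ᶜ (Y ∘ i))) := fun a => (P₂.map (Pi.π (Y ∘ i) a).op).hom (t (i a))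
    change u ((0 : Fin 3).succAbove 1) - u ((0 : Fin 3).succAbove 0) -
      (u ((1 : Fin 3).succAbove 1) - u ((1 : Fin 3).succAbove 0)) +
      (u ((2 : Fin 3).succAbove 1) - u ((2 : Fin 3).succAbove 0)) = 0
    rw [e01, e00, e11, e10, e21, e20]
    abel
  obtain ⟨b, hb⟩ := h₁ _ hc
  -- corrected local lifts
  obtain ⟨t', ht'⟩ := h₂.glue (fun j => t j - (φ.app _).hom (at0 Y P₁ b j)) (fun i => by
    have h1 : (proj Y P₁ 1 i).hom (((cx Y P₁).d 0 1).hom b) = γ i := by rw [hb, proj_mk]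
    rw [d0_proj] at h1
    have h2 := congrArg (fun y => (φ.app _).hom y) h1
    simp only [map_sub, nat φ, hγ] at h2
    simp only [map_sub]
    rw [sub_eq_sub_iff_add_eq_add] at h2 ⊢
    exact (add_comm _ _).trans h2)
  refine ⟨t', ?_⟩
  apply h₃.sep
  intro j
  rw [← nat ψ, ht', map_sub, hφψ, sub_zero, ht]

section Pair

variable {D : Type u'} [Category.{v} D] [HasFiniteProducts D] {κ : Type w} (Y : κ → D)

/-- the morphism to a binary iterated product determined by its two components. -/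
def pairLift (i : Fin 2 → κ) {Z : D} (f0 : Z ⟶ Y (i 0)) (f1 : Z ⟶ Y (i 1)) : Z ⟶ ∏ᶜ (Y ∘ i) :=
  Pi.lift (fun a => Fin.cases (motive := fun a => Z ⟶ Y (i a)) f0
    (fun a' => Fin.cases (motive := fun a' : Fin 1 => Z ⟶ Y (i a'.succ)) f1
      (fun a'' => a''.elim0) a') a)

@[reassoc (attr := simp)]
lemma pairLift_π₀ (i : Fin 2 → κ) {Z : D} (f0 : Z ⟶ Y (i 0)) (f1 : Z ⟶ Y (i 1)) :
    pairLift Y i f0 f1 ≫ Pi.π (Y ∘ i) 0 = f0 :=
  Pi.lift_π _ _

@[reassoc (attr := simp)]
lemma pairLift_π₁ (i : Fin 2 → κ) {Z : D} (f0 : Z ⟶ Y (i 0)) (f1 : Z ⟶ Y (i 1)) :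
    pairLift Y i f0 f1 ≫ Pi.π (Y ∘ i) 1 = f1 :=
  Pi.lift_π _ _

end Pair

section Site

universe u

variable {C : Type u} [Category.{v} C] {J : GrothendieckTopology C}
  {U : C} [HasFiniteProducts (Over U)] {ι : Type w} (Y : ι → Over U)

/-- the augmentation of a family of objects over `U` towards the terminal object of `C/U`. -/
def siteAug : Aug Y (Over.mk (𝟙 U)) where
  b j := Over.homMk (Y j).hom
  compat _ := Over.mkIdTerminal.hom_ext _ _

variable (hY : Sieve.ofArrows (fun i => (Y i).left) (fun i => (Y i).hom) ∈ J U)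
include hY

lemma isGluing_site (G : Cᵒᵖ ⥤ AddCommGrpCat.{w})
    (hG : Presieve.IsSheaf J (G ⋙ forget AddCommGrpCat.{w})) :
    IsGluing ((Over.forget U).op ⋙ G) (siteAug Y) := by
  have h1 : (Presieve.ofArrows (fun i => (Y i).left) (fun i => (Y i).hom)).IsSheafFor
      (G ⋙ forget AddCommGrpCat.{w}) :=
    (Presieve.isSheafFor_iff_generate _).2 (hG _ hY)
  rw [Presieve.isSheafFor_arrows_iff] at h1
  constructor
  · intro s s' h
    have hc : Presieve.Arrows.Compatible (G ⋙ forget AddCommGrpCat.{w})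
        (fun i => (Y i).hom) (fun j => (G.map (Y j).hom.op).hom s) := by
      intro i j Z gi gj hij
      let s₀ : G.obj (op U) := s
      change (G.map gi.op).hom ((G.map (Y i).hom.op).hom s₀) =
        (G.map gj.op).hom ((G.map (Y j).hom.op).hom s₀)
      exact (map_map_apply G gi (Y i).hom s₀).trans
        ((congrArg (fun f => (G.map f.op).hom s₀) hij).trans
          (map_map_apply G gj (Y j).hom s₀).symm)
    obtain ⟨t, -, ht⟩ := h1 _ hc
    rw [ht s (fun _ => rfl), ht s' (fun j => (h j).symm)]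
  · intro t ht
    have hc : Presieve.Arrows.Compatible (G ⋙ forget AddCommGrpCat.{w})
        (fun i => (Y i).hom) t := by
      intro i j Z gi gj hij
      let Z' : Over U := Over.mk (gi ≫ (Y i).hom)
      let k : Fin 2 → ι := ![i, j]
      let ρ : Z' ⟶ ∏ᶜ (Y ∘ k) :=
        pairLift Y k (Over.homMk gi rfl : Z' ⟶ Y i) (Over.homMk gj hij.symm : Z' ⟶ Y j)
      have h := congrArg (fun y => (G.map ρ.left.op).hom y) (ht k)
      let ti : G.obj (op (Y i).left) := t i
      let tj : G.obj (op (Y j).left) := t j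
      change (G.map ρ.left.op).hom ((G.map (Pi.π (Y ∘ k) 0).left.op).hom ti) =
        (G.map ρ.left.op).hom ((G.map (Pi.π (Y ∘ k) 1).left.op).hom tj) at h
      have e0 : ρ.left ≫ (Pi.π (Y ∘ k) 0).left = gi :=
        congrArg (fun f => f.left) (pairLift_π₀ Y k (Over.homMk gi rfl : Z' ⟶ Y i)
          (Over.homMk gj hij.symm : Z' ⟶ Y j))
      have e1 : ρ.left ≫ (Pi.π (Y ∘ k) 1).left = gj :=
        congrArg (fun f => f.left) (pairLift_π₁ Y k (Over.homMk gi rfl : Z' ⟶ Y i)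
          (Over.homMk gj hij.symm : Z' ⟶ Y j))
      have h0 := map_map_apply G ρ.left (Pi.π (Y ∘ k) 0).left ti
      have h1' := map_map_apply G ρ.left (Pi.π (Y ∘ k) 1).left tj
      rw [e0] at h0
      rw [e1] at h1'
      exact h0.symm.trans (h.trans h1')
    obtain ⟨s, hs, -⟩ := h1 t hc
    exact ⟨s, hs⟩

end Site

end Groth.Agent.Lib.Helper5.CechLowGen
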