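import Mathlib
import Groth.Prelude.Def_EtCech
import Groth.Agent.Lib.Helper5.CechLowGen
import Groth.Agent.Lib.Helper5.CechDerived

/-!
# Helper5: Čech-flasque abelian sheaves on the small étale site: two out of three
-/

set_option autoImplicit false
universe u

namespace Groth.Agent.Lib.Helper5.EtCechFlasque

open CategoryTheory CategoryTheory.Limits Opposite AlgebraicGeometry
open Groth.Agent.Lib.Helper15.CechGen Groth.Agent.Lib.Helper5.CechLowGen
open Groth.Agent.Lib.Helper5.CechDerived

noncomputable section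

variable {X : Scheme.{u}}

/-- the sections functor. -/
abbrev Γ (W : X.Etale) : EtCoh.Ab X ⥤ AddCommGrpCat.{u + 1} :=
  sheafToPresheaf X.smallEtaleTopology AddCommGrpCat.{u + 1} ⋙
    (evaluation X.Etaleᵒᵖ AddCommGrpCat.{u + 1}).obj (op W)

section Sections

variable {S : ShortComplex (EtCoh.Ab X)} (hS : S.ShortExact)
include hS

lemma sections_injective (W : X.Etale) (x : S.X₁.obj.obj (op W))
    (hx : (S.f.hom.app (op W)).hom x = 0) : x = 0 := by
  have := hS.mono_f
  have h : Mono ((Γ W).map S.f) := inferInstance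
  rw [AddCommGrpCat.mono_iff_injective] at h
  exact h (hx.trans (map_zero _).symm)

lemma sections_exact (W : X.Etale) (x : S.X₂.obj.obj (op W))
    (hx : (S.g.hom.app (op W)).hom x = 0) : ∃ y : S.X₁.obj.obj (op W),
      (S.f.hom.app (op W)).hom y = x := by
  have h := hS.exact.map_of_mono_of_preservesKernel (Γ W) hS.mono_f inferInstance
  rw [ShortComplex.ab_exact_iff] at h
  exact h x hx

lemma sections_zero (W : X.Etale) (y : S.X₁.obj.obj (op W)) :
    (S.g.hom.app (op W)).hom ((S.f.hom.app (op W)).hom y) = 0 := by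
  have h : (Γ W).map S.f ≫ (Γ W).map S.g = 0 := by
    rw [← Functor.map_comp, S.zero, Functor.map_zero]
  exact ConcreteCategory.congr_hom h y

end Sections

lemma isSheaf_type (G : EtCoh.Ab X) :
    Presieve.IsSheaf X.smallEtaleTopology (G.obj ⋙ forget AddCommGrpCat.{u + 1}) :=
  (isSheaf_iff_isSheaf_of_type _ _).1
    ((Presheaf.isSheaf_iff_isSheaf_forget _ G.obj (forget AddCommGrpCat.{u + 1})).1 G.2)

/-- the covering condition of the statements, as a covering sieve. -/
lemma ofArrows_mem_of_surj {U : X.Etale} {ι : Type (u + 1)} (Uf : ι → Over U)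
    (hU : ∀ x : ↥(U.left), ∃ (i : ι) (y : ↥((Uf i).left.left)), (Uf i).hom.left.base y = x) :
    Sieve.ofArrows (fun i => (Uf i).left) (fun i => (Uf i).hom) ∈ X.smallEtaleTopology U := by
  rw [Scheme.ofArrows_mem_smallEtaleTopology_iff]
  ext x
  simp only [Set.mem_iUnion, Set.mem_range, Set.mem_univ, iff_true]
  obtain ⟨i, y, hy⟩ := hU x
  exact ⟨i, y, hy⟩

lemma surj_of_ofArrows_mem {U : X.Etale} {ι : Type (u + 1)} (Uf : ι → Over U)
    (h : Sieve.ofArrows (fun i => (Uf i).left) (fun i => (Uf i).hom) ∈ X.smallEtaleTopology U) :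
    ∀ x : ↥(U.left), ∃ (i : ι) (y : ↥((Uf i).left.left)), (Uf i).hom.left.base y = x := by
  rw [Scheme.ofArrows_mem_smallEtaleTopology_iff] at h
  intro x
  have hx : x ∈ ⋃ i, Set.range (Uf i).hom.left := by
    rw [h]
    exact Set.mem_univ x
  simp only [Set.mem_iUnion, Set.mem_range] at hx
  obtain ⟨i, y, hy⟩ := hx
  exact ⟨i, y, hy⟩

variable [∀ U : X.Etale, HasFiniteProducts (Over U)]

/-- the Čech-flasque condition of the statements. -/
def CechFlasque (F : EtCoh.Ab X) : Prop :=
  ∀ (U : X.Etale) (ι : Type (u + 1)) (Uf : ι → Over U),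
    (∀ x : ↥(U.left), ∃ (i : ι) (y : ↥((Uf i).left.left)), (Uf i).hom.left.base y = x) →
    ∀ p : ℕ, 0 < p → IsZero (EtCech.cechH Uf F.obj p)

/-- if `F'` is Čech-flasque, then `F → F''` is surjective on sections. -/
theorem surj_sections {S : ShortComplex (EtCoh.Ab X)} (hS : S.ShortExact)
    (h1 : CechFlasque S.X₁) (V : X.Etale) (s : S.X₃.obj.obj (op V)) :
    ∃ t : S.X₂.obj.obj (op V), (S.g.hom.app (op V)).hom t = s := by
  have hepi : Epi S.g := hS.epi_g
  have hls : Sheaf.IsLocallySurjective S.g :=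
    (Sheaf.isLocallySurjective_iff_epi' _ _).2 hepi
  have himg : Presheaf.imageSieve S.g.hom s ∈ X.smallEtaleTopology V :=
    Presheaf.imageSieve_mem _ _ s
  let κ : Type (u + 1) := Σ V' : X.Etale, {f : V' ⟶ V // (Presheaf.imageSieve S.g.hom s) f}
  let Y : κ → Over V := fun k => Over.mk k.2.1
  have hY : Sieve.ofArrows (fun k => (Y k).left) (fun k => (Y k).hom) ∈
      X.smallEtaleTopology V := by
    refine X.smallEtaleTopology.superset_covering ?_ himg
    intro W f hf
    exact Sieve.ofArrows_mk (fun k => (Y k).left) (fun k => (Y k).hom) (⟨W, f, hf⟩ : κ)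
  choose t ht using fun k : κ => k.2.2
  exact exists_lift_of_cechExact (siteAug Y)
    (Functor.whiskerLeft (Over.forget V).op S.f.hom)
    (Functor.whiskerLeft (Over.forget V).op S.g.hom)
    (fun W x hx => sections_injective hS W.left x hx)
    (fun W x hx => sections_exact hS W.left x hx)
    (fun W y => sections_zero hS W.left y)
    (isGluing_site Y hY S.X₂.obj (isSheaf_type S.X₂))
    (isGluing_site Y hY S.X₃.obj (isSheaf_type S.X₃))
    ((cechExact_iff Y _ 0).2 (h1 V κ Y (surj_of_ofArrows_mem Y hY) 1 Nat.one_pos)) s t ht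

/-- the short complex of presheaves on `Over U` attached to a short complex of sheaves. -/
def SP (S : ShortComplex (EtCoh.Ab X)) (U : X.Etale) :
    ShortComplex ((Over U)ᵒᵖ ⥤ AddCommGrpCat.{u + 1}) :=
  ShortComplex.mk (Functor.whiskerLeft (Over.forget U).op S.f.hom)
    (Functor.whiskerLeft (Over.forget U).op S.g.hom) (by
      ext W
      exact ConcreteCategory.congr_hom
        (congrArg (fun φ => φ.hom.app (op W.unop.left)) S.zero) _)

lemma sectionwiseExact {S : ShortComplex (EtCoh.Ab X)} (hS : S.ShortExact)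
    (h1 : CechFlasque S.X₁) (U : X.Etale) {ι : Type (u + 1)} (Uf : ι → Over U) :
    SectionwiseExact Uf (SP S U) where
  inj n i x hx := sections_injective hS _ x hx
  ex n i x hx := sections_exact hS _ x hx
  surj n i z := surj_sections hS h1 _ z

/-- **two out of three for Čech-flasque sheaves.** -/
theorem cechFlasque_X₃ {S : ShortComplex (EtCoh.Ab X)} (hS : S.ShortExact)
    (h1 : CechFlasque S.X₁) (h2 : CechFlasque S.X₂) : CechFlasque S.X₃ := by
  intro U ι Uf hU p hp
  have hSC := cechSC_shortExact (sectionwiseExact hS h1 U Uf)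
  have hex := hSC.homology_exact₃ p (p + 1) rfl
  have z2 : IsZero (EtCech.cechH Uf S.X₂.obj p) := h2 U ι Uf hU p hp
  have z1 : IsZero (EtCech.cechH Uf S.X₁.obj (p + 1)) := h1 U ι Uf hU (p + 1) (Nat.succ_pos p)
  exact hex.isZero_of_both_zeros (z2.eq_of_src _ _) (z1.eq_of_tgt _ _)

end

end Groth.Agent.Lib.Helper5.EtCechFlasque
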