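import Mathlib

/-!
# Composition isomorphisms of left adjoints from those of right adjoints (helper5)
-/

set_option autoImplicit false

namespace Groth.Agent.Lib.Helper5.AdjComp

open CategoryTheory

universe v u s t

variable {𝒮 : Type t} [Category.{s} 𝒮] (A : 𝒮 → Type u) [∀ X, Category.{v} (A X)]
  (L : ∀ ⦃X Y : 𝒮⦄ (_ : X ⟶ Y), A Y ⥤ A X) (R : ∀ ⦃X Y : 𝒮⦄ (_ : X ⟶ Y), A X ⥤ A Y)
  (adj : ∀ ⦃X Y : 𝒮⦄ (f : X ⟶ Y), L f ⊣ R f)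
  (ρ : ∀ ⦃X Y Z : 𝒮⦄ (f : X ⟶ Y) (g : Y ⟶ Z) (fg : X ⟶ Z) (_ : f ≫ g = fg), R f ⋙ R g ≅ R fg)

/-- The composition isomorphism of the left adjoints. -/
noncomputable def c ⦃X Y Z : 𝒮⦄ (f : X ⟶ Y) (g : Y ⟶ Z) (fg : X ⟶ Z) (h : f ≫ g = fg) :
    L g ⋙ L f ≅ L fg :=
  ((adj g).comp (adj f)).leftAdjointUniq ((adj fg).ofNatIsoRight (ρ f g fg h).symm)

lemma c_char ⦃X Y Z : 𝒮⦄ (f : X ⟶ Y) (g : Y ⟶ Z) (fg : X ⟶ Z) (h : f ≫ g = fg)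
    (M : A Z) (N : A X) (ψ : (L fg).obj M ⟶ N) :
    (adj g).homEquiv _ _ ((adj f).homEquiv _ _ ((c A L R adj ρ f g fg h).hom.app M ≫ ψ)) =
      (adj fg).homEquiv _ _ ψ ≫ (ρ f g fg h).inv.app N := by
  have h1 := Adjunction.homEquiv_leftAdjointUniq_hom_app ((adj g).comp (adj f))
    ((adj fg).ofNatIsoRight (ρ f g fg h).symm) M
  have h2 : ((adj g).comp (adj f)).homEquiv _ _ ((c A L R adj ρ f g fg h).hom.app M ≫ ψ) =
      (adj g).homEquiv _ _ ((adj f).homEquiv _ _ ((c A L R adj ρ f g fg h).hom.app M ≫ ψ)) := by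
    rw [Adjunction.comp_homEquiv]
    rfl
  rw [← h2, Adjunction.homEquiv_naturality_right]
  change ((adj g).comp (adj f)).homEquiv _ _
    ((((adj g).comp (adj f)).leftAdjointUniq
      ((adj fg).ofNatIsoRight (ρ f g fg h).symm)).hom.app M) ≫ _ = _
  rw [h1]
  simp [Adjunction.homEquiv_unit]


variable (hρ : ∀ ⦃X Y Z W : 𝒮⦄ (f : X ⟶ Y) (g : Y ⟶ Z) (l : Z ⟶ W) (fg : X ⟶ Z) (gl : Y ⟶ W)
    (fgl : X ⟶ W) (h1 : f ≫ g = fg) (h2 : g ≫ l = gl) (h3 : fg ≫ l = fgl) (h4 : f ≫ gl = fgl)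
    (N : A X),
    (R l).map ((ρ f g fg h1).hom.app N) ≫ (ρ fg l fgl h3).hom.app N =
      (ρ g l gl h2).hom.app ((R f).obj N) ≫ (ρ f gl fgl h4).hom.app N)

include hρ in
lemma ρ_inv_cocycle ⦃X Y Z W : 𝒮⦄ (f : X ⟶ Y) (g : Y ⟶ Z) (l : Z ⟶ W) (fg : X ⟶ Z) (gl : Y ⟶ W)
    (fgl : X ⟶ W) (h1 : f ≫ g = fg) (h2 : g ≫ l = gl) (h3 : fg ≫ l = fgl) (h4 : f ≫ gl = fgl)
    (N : A X) :
    (ρ fg l fgl h3).inv.app N ≫ (R l).map ((ρ f g fg h1).inv.app N) =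
      (ρ f gl fgl h4).inv.app N ≫ (ρ g l gl h2).inv.app ((R f).obj N) := by
  have h := hρ f g l fg gl fgl h1 h2 h3 h4 N
  rw [← cancel_mono ((R l).map ((ρ f g fg h1).hom.app N) ≫ (ρ fg l fgl h3).hom.app N)]
  conv_rhs => rw [h]
  simp only [Category.assoc, Iso.inv_hom_id_app_assoc, Iso.inv_hom_id_app]
  rw [← Functor.map_comp_assoc, Iso.inv_hom_id_app]
  simp

include hρ in
lemma c_cocycle ⦃X Y Z W : 𝒮⦄ (f : X ⟶ Y) (g : Y ⟶ Z) (l : Z ⟶ W) (fg : X ⟶ Z) (gl : Y ⟶ W)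
    (fgl : X ⟶ W) (h1 : f ≫ g = fg) (h2 : g ≫ l = gl) (h3 : fg ≫ l = fgl) (h4 : f ≫ gl = fgl)
    (M : A W) :
    (c A L R adj ρ f g fg h1).hom.app ((L l).obj M) ≫ (c A L R adj ρ fg l fgl h3).hom.app M =
      (L f).map ((c A L R adj ρ g l gl h2).hom.app M) ≫ (c A L R adj ρ f gl fgl h4).hom.app M := by
  apply ((adj f).homEquiv _ _).injective
  apply ((adj g).homEquiv _ _).injective
  apply ((adj l).homEquiv _ _).injective
  rw [c_char A L R adj ρ f g fg h1, Adjunction.homEquiv_naturality_right,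
    ← Category.comp_id ((c A L R adj ρ fg l fgl h3).hom.app M),
    c_char A L R adj ρ fg l fgl h3, Adjunction.homEquiv_naturality_left,
    c_char A L R adj ρ g l gl h2,
    ← Category.comp_id ((c A L R adj ρ f gl fgl h4).hom.app M),
    c_char A L R adj ρ f gl fgl h4, Category.assoc, Category.assoc,
    ρ_inv_cocycle A R ρ hρ f g l fg gl fgl h1 h2 h3 h4]

end Groth.Agent.Lib.Helper5.AdjComp
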