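import Mathlib
import Groth.Agent.Lib.Helper2.EtMV.ExtNat

/-!
# `Ext` groups along a pseudo-functor of exact pullbacks (helper5)

Given abelian categories `A T` indexed by the objects of a category, exact "pullback" functors
`P h : A T ⥤ A T'` for `h : T' ⟶ T`, composition isomorphisms `κ`, and coherent families of
objects `Z T`, `G T`, the groups `Ext^n (Z T) (G T)` form a functor in `T`.
-/

set_option autoImplicit false

namespace Groth.Agent.Lib.Helper5.ExtPsi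

open CategoryTheory CategoryTheory.Limits CategoryTheory.Abelian Opposite

universe w v u s t

section Basic

variable {C : Type u} [Category.{v} C] [Abelian C] [HasExt.{w} C]

/-- Precomposition with a morphism. -/
noncomputable def pre {X' X : C} (f : X' ⟶ X) {Y : C} {n : ℕ} (e : Ext.{w} X Y n) : Ext.{w} X' Y n :=
  (Ext.mk₀ f).comp e (zero_add n)

/-- Postcomposition with a morphism. -/
noncomputable def post {X Y Y' : C} {n : ℕ} (e : Ext.{w} X Y n) (g : Y ⟶ Y') : Ext.{w} X Y' n :=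
  e.comp (Ext.mk₀ g) (add_zero n)

lemma pre_pre {X'' X' X Y : C} (f' : X'' ⟶ X') (f : X' ⟶ X) {n : ℕ} (e : Ext.{w} X Y n) :
    pre f' (pre f e) = pre (f' ≫ f) e := by
  dsimp only [pre]
  rw [Ext.mk₀_comp_mk₀_assoc]

lemma post_post {X Y Y' Y'' : C} {n : ℕ} (e : Ext.{w} X Y n) (g : Y ⟶ Y') (g' : Y' ⟶ Y'') :
    post (post e g) g' = post e (g ≫ g') := by
  dsimp only [post]
  rw [Ext.comp_assoc_of_third_deg_zero, Ext.mk₀_comp_mk₀]

lemma pre_post {X' X Y Y' : C} (f : X' ⟶ X) {n : ℕ} (e : Ext.{w} X Y n) (g : Y ⟶ Y') :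
    pre f (post e g) = post (pre f e) g := by
  dsimp only [pre, post]
  rw [Ext.comp_assoc _ _ _ (zero_add n) (add_zero n) (by omega)]

lemma pre_id {X Y : C} {n : ℕ} (e : Ext.{w} X Y n) : pre (𝟙 X) e = e := by
  dsimp only [pre]
  rw [Ext.mk₀_id_comp]

lemma post_id {X Y : C} {n : ℕ} (e : Ext.{w} X Y n) : post e (𝟙 Y) = e := by
  dsimp only [post]
  rw [Ext.comp_mk₀_id]

lemma pre_add {X' X Y : C} (f : X' ⟶ X) {n : ℕ} (e e' : Ext.{w} X Y n) :
    pre f (e + e') = pre f e + pre f e' := Ext.comp_add _ _ _ _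

lemma post_add {X Y Y' : C} {n : ℕ} (e e' : Ext.{w} X Y n) (g : Y ⟶ Y') :
    post (e + e') g = post e g + post e' g := Ext.add_comp _ _ _ _

variable {D : Type u} [Category.{v} D] [Abelian D] [HasExt.{w} D]
  (F : C ⥤ D) [F.Additive] [PreservesFiniteLimits F] [PreservesFiniteColimits F]

lemma map_pre {X' X Y : C} (f : X' ⟶ X) {n : ℕ} (e : Ext.{w} X Y n) :
    (pre f e).mapExactFunctor F = pre (F.map f) (e.mapExactFunctor F) := by
  dsimp only [pre]
  rw [Ext.mapExactFunctor_comp, Ext.mapExactFunctor_mk₀]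

lemma map_post {X Y Y' : C} {n : ℕ} (e : Ext.{w} X Y n) (g : Y ⟶ Y') :
    (post e g).mapExactFunctor F = post (e.mapExactFunctor F) (F.map g) := by
  dsimp only [post]
  rw [Ext.mapExactFunctor_comp, Ext.mapExactFunctor_mk₀]

end Basic

section Nat

variable {C : Type u} [Category.{v} C] [Abelian C] [HasExt.{w} C] [EnoughInjectives C]
  {D : Type u} [Category.{v} D] [Abelian D] [HasExt.{w} D]
  {E : Type u} [Category.{v} E] [Abelian E] [HasExt.{w} E]
  (F₁ : C ⥤ D) [F₁.Additive] [PreservesFiniteLimits F₁] [PreservesFiniteColimits F₁]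
  (F₂ : D ⥤ E) [F₂.Additive] [PreservesFiniteLimits F₂] [PreservesFiniteColimits F₂]
  (G : C ⥤ E) [G.Additive] [PreservesFiniteLimits G] [PreservesFiniteColimits G]
  (κ : F₁ ⋙ F₂ ⟶ G)

lemma map_map_post {X Y : C} {n : ℕ} (e : Ext.{w} X Y n) :
    post ((e.mapExactFunctor F₁).mapExactFunctor F₂) (κ.app Y) =
      pre (κ.app X) (e.mapExactFunctor G) :=
  Groth.Agent.Lib.Helper2.EtMV.mapExact_nat F₁ F₂ G κ n e

end Nat


section Psi

variable {𝒯 : Type t} [Category.{s} 𝒯] (A : 𝒯 → Type u) [∀ T, Category.{v} (A T)]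
  [∀ T, Abelian (A T)] [∀ T, HasExt.{w} (A T)] [∀ T, EnoughInjectives (A T)]
  (P : ∀ ⦃T' T : 𝒯⦄, (T' ⟶ T) → (A T ⥤ A T'))
  [∀ ⦃T' T : 𝒯⦄ (h : T' ⟶ T), (P h).Additive]
  [∀ ⦃T' T : 𝒯⦄ (h : T' ⟶ T), PreservesFiniteLimits (P h)]
  [∀ ⦃T' T : 𝒯⦄ (h : T' ⟶ T), PreservesFiniteColimits (P h)]
  (Z G : ∀ T, A T)
  (a : ∀ ⦃T' T : 𝒯⦄ (h : T' ⟶ T), Z T' ⟶ (P h).obj (Z T))
  (b : ∀ ⦃T' T : 𝒯⦄ (h : T' ⟶ T), (P h).obj (G T) ⟶ G T')
  (κ : ∀ ⦃T'' T' T : 𝒯⦄ (k : T'' ⟶ T') (h : T' ⟶ T), P h ⋙ P k ≅ P (k ≫ h))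
  (ε : ∀ T, P (𝟙 T) ≅ 𝟭 (A T))
  (ha : ∀ ⦃T'' T' T : 𝒯⦄ (k : T'' ⟶ T') (h : T' ⟶ T),
    a k ≫ (P k).map (a h) ≫ (κ k h).hom.app (Z T) = a (k ≫ h))
  (hb : ∀ ⦃T'' T' T : 𝒯⦄ (k : T'' ⟶ T') (h : T' ⟶ T),
    (κ k h).hom.app (G T) ≫ b (k ≫ h) = (P k).map (b h) ≫ b k)
  (ha' : ∀ T, IsIso (a (𝟙 T))) (hb' : ∀ T, IsIso (b (𝟙 T)))

/-- The transition map of the `Ext` groups. -/
noncomputable def psiMap ⦃T' T : 𝒯⦄ (h : T' ⟶ T) (n : ℕ) (e : Ext.{w} (Z T) (G T) n) :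
    Ext.{w} (Z T') (G T') n :=
  pre (a h) (post (e.mapExactFunctor (P h)) (b h))

omit [∀ T, EnoughInjectives (A T)] in
lemma psiMap_add ⦃T' T : 𝒯⦄ (h : T' ⟶ T) (n : ℕ) (e e' : Ext.{w} (Z T) (G T) n) :
    psiMap A P Z G a b h n (e + e') = psiMap A P Z G a b h n e + psiMap A P Z G a b h n e' := by
  dsimp only [psiMap]
  rw [Ext.mapExactFunctor_add, post_add, pre_add]

include ha hb in
lemma psiMap_comp ⦃T'' T' T : 𝒯⦄ (k : T'' ⟶ T') (h : T' ⟶ T) (n : ℕ)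
    (e : Ext.{w} (Z T) (G T) n) :
    psiMap A P Z G a b (k ≫ h) n e = psiMap A P Z G a b k n (psiMap A P Z G a b h n e) := by
  dsimp only [psiMap]
  rw [map_pre, map_post, ← pre_post, pre_pre, post_post, ← hb k h, ← post_post,
    map_map_post (P h) (P k) (P (k ≫ h)) (κ k h).hom e, ← pre_post, pre_pre,
    Category.assoc, ha k h]

include ha hb ε ha' hb' in
lemma psiMap_id (T : 𝒯) (n : ℕ) (e : Ext.{w} (Z T) (G T) n) :
    psiMap A P Z G a b (𝟙 T) n e = e := by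
  have hidem : ∀ e : Ext.{w} (Z T) (G T) n,
      psiMap A P Z G a b (𝟙 T) n (psiMap A P Z G a b (𝟙 T) n e) =
        psiMap A P Z G a b (𝟙 T) n e := by
    intro e
    rw [← psiMap_comp A P Z G a b κ ha hb]
    exact congrArg (fun h => psiMap A P Z G a b h n e) (Category.comp_id (𝟙 T))
  have hinj : Function.Injective (psiMap A P Z G a b (𝟙 T) n) := by
    haveI : (P (𝟙 T)).Full := Functor.Full.of_iso (ε T).symm
    haveI : (P (𝟙 T)).Faithful := Functor.Faithful.of_iso (ε T).symm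
    haveI : (P (𝟙 T)).PreservesInjectiveObjects :=
      ⟨fun {X} hX => Injective.of_iso ((ε T).app X).symm hX⟩
    have h1 := ((P (𝟙 T)).mapExt_bijective_of_preservesInjectiveObjects (Z T) (G T) n).1
    haveI := ha' T
    haveI := hb' T
    intro e e' hee'
    apply h1
    unfold psiMap at hee'
    have h2 : post (pre (inv (a (𝟙 T))) (pre (a (𝟙 T))
        (post (Ext.mapExactFunctor (P (𝟙 T)) e) (b (𝟙 T))))) (inv (b (𝟙 T))) =
        post (pre (inv (a (𝟙 T))) (pre (a (𝟙 T))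
        (post (Ext.mapExactFunctor (P (𝟙 T)) e') (b (𝟙 T))))) (inv (b (𝟙 T))) :=
      congrArg (fun x => post (pre (inv (a (𝟙 T))) x) (inv (b (𝟙 T)))) hee'
    rw [pre_pre, pre_pre, IsIso.inv_hom_id, pre_id, pre_id, post_post, post_post,
      IsIso.hom_inv_id, post_id, post_id] at h2
    exact h2
  exact hinj (hidem e)

/-- The functor `T ↦ Ext^n (Z T) (G T)`. -/
noncomputable def psi (n : ℕ) : 𝒯ᵒᵖ ⥤ AddCommGrpCat.{w} where
  obj T := AddCommGrpCat.of (Ext.{w} (Z T.unop) (G T.unop) n)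
  map {T T'} h := AddCommGrpCat.ofHom
    { toFun := psiMap A P Z G a b h.unop n
      map_zero' := by
        have := psiMap_add A P Z G a b h.unop n 0 0
        rw [add_zero] at this
        exact left_eq_add.1 this
      map_add' := psiMap_add A P Z G a b h.unop n }
  map_id T := by
    ext e
    exact psiMap_id A P Z G a b κ ε ha hb ha' hb' T.unop n e
  map_comp {T T' T''} h k := by
    ext e
    exact psiMap_comp A P Z G a b κ ha hb k.unop h.unop n e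

end Psi

end Groth.Agent.Lib.Helper5.ExtPsi
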