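import Mathlib
import Groth.Agent.Lib.Helper5.AdjComp
import Groth.Agent.Lib.Helper5.ExtPsi

/-!
# Cohomology of pulled back coefficients as a functor on `Over S` (helper5)
-/

set_option autoImplicit false

namespace Groth.Agent.Lib.Helper5.OverPsi

open CategoryTheory CategoryTheory.Limits CategoryTheory.Abelian Opposite
open Groth.Agent.Lib.Helper5

universe w v u s t

variable {𝒮 : Type t} [Category.{s} 𝒮] (A : 𝒮 → Type u) [∀ X, Category.{v} (A X)]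
  [∀ X, Abelian (A X)] [∀ X, HasExt.{w} (A X)] [∀ X, EnoughInjectives (A X)]
  (L : ∀ ⦃X Y : 𝒮⦄ (_ : X ⟶ Y), A Y ⥤ A X) (R : ∀ ⦃X Y : 𝒮⦄ (_ : X ⟶ Y), A X ⥤ A Y)
  [∀ ⦃X Y : 𝒮⦄ (f : X ⟶ Y), (L f).Additive]
  [∀ ⦃X Y : 𝒮⦄ (f : X ⟶ Y), PreservesFiniteLimits (L f)]
  [∀ ⦃X Y : 𝒮⦄ (f : X ⟶ Y), PreservesFiniteColimits (L f)]
  (adj : ∀ ⦃X Y : 𝒮⦄ (f : X ⟶ Y), L f ⊣ R f)
  (ρ : ∀ ⦃X Y Z : 𝒮⦄ (f : X ⟶ Y) (g : Y ⟶ Z) (fg : X ⟶ Z) (_ : f ≫ g = fg), R f ⋙ R g ≅ R fg)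
  (hρ : ∀ ⦃X Y Z W : 𝒮⦄ (f : X ⟶ Y) (g : Y ⟶ Z) (l : Z ⟶ W) (fg : X ⟶ Z) (gl : Y ⟶ W)
    (fgl : X ⟶ W) (h1 : f ≫ g = fg) (h2 : g ≫ l = gl) (h3 : fg ≫ l = fgl) (h4 : f ≫ gl = fgl)
    (N : A X),
    (R l).map ((ρ f g fg h1).hom.app N) ≫ (ρ fg l fgl h3).hom.app N =
      (ρ g l gl h2).hom.app ((R f).obj N) ≫ (ρ f gl fgl h4).hom.app N)
  (ρ₀ : ∀ X : 𝒮, R (𝟙 X) ≅ 𝟭 (A X))
  (S : 𝒮) (Zs F : A S)

/-- The base change isomorphism `h^* g_T^* M ≅ g_{T'}^* M`. -/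
noncomputable def β ⦃T' T : Over S⦄ (h : T' ⟶ T) (M : A S) :
    (L h.left).obj ((L T.hom).obj M) ≅ (L T'.hom).obj M :=
  (AdjComp.c A L R adj ρ h.left T.hom T'.hom (Over.w h)).app M

omit [∀ X, Abelian (A X)] [∀ X, HasExt.{w} (A X)] [∀ X, EnoughInjectives (A X)]
  [∀ ⦃X Y : 𝒮⦄ (f : X ⟶ Y), (L f).Additive]
  [∀ ⦃X Y : 𝒮⦄ (f : X ⟶ Y), PreservesFiniteLimits (L f)]
  [∀ ⦃X Y : 𝒮⦄ (f : X ⟶ Y), PreservesFiniteColimits (L f)] in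
include hρ in
lemma β_cocycle ⦃T'' T' T : Over S⦄ (k : T'' ⟶ T') (h : T' ⟶ T) (M : A S) :
    (AdjComp.c A L R adj ρ k.left h.left (k ≫ h).left rfl).hom.app ((L T.hom).obj M) ≫
        (β A L R adj ρ S (k ≫ h) M).hom =
      (L k.left).map (β A L R adj ρ S h M).hom ≫ (β A L R adj ρ S k M).hom :=
  AdjComp.c_cocycle A L R adj ρ hρ k.left h.left T.hom (k ≫ h).left T'.hom T''.hom rfl
    (Over.w h) (Over.w (k ≫ h)) (Over.w k) M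

/-- The functor `T ↦ Ext^n (g_T^* Zs) (g_T^* F)` on `Over S`. -/
noncomputable def overPsi (n : ℕ) : (Over S)ᵒᵖ ⥤ AddCommGrpCat.{w} :=
  ExtPsi.psi (𝒯 := Over S) (fun T => A T.left) (fun _ _ h => L h.left)
    (fun T => (L T.hom).obj Zs) (fun T => (L T.hom).obj F)
    (fun _ _ h => (β A L R adj ρ S h Zs).inv) (fun _ _ h => (β A L R adj ρ S h F).hom)
    (fun _ _ _ k h => AdjComp.c A L R adj ρ k.left h.left (k ≫ h).left rfl)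
    (fun T => (adj (𝟙 T.left)).leftAdjointUniq
      (Adjunction.id.ofNatIsoRight (ρ₀ T.left).symm))
    (by
      intro T'' T' T k h
      have hc := β_cocycle A L R adj ρ hρ S k h Zs
      rw [← cancel_mono (β A L R adj ρ S (k ≫ h) Zs).hom, Category.assoc, Category.assoc, hc,
        Iso.inv_hom_id, ← Functor.map_comp_assoc, Iso.inv_hom_id, CategoryTheory.Functor.map_id, Category.id_comp,
        Iso.inv_hom_id])
    (by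
      intro T'' T' T k h
      exact β_cocycle A L R adj ρ hρ S k h F)
    (fun _ => inferInstance) (fun _ => inferInstance) n

lemma overPsi_obj (n : ℕ) (T : Over S) :
    (overPsi A L R adj ρ hρ ρ₀ S Zs F n).obj (op T) =
      AddCommGrpCat.of (Ext.{w} ((L T.hom).obj Zs) ((L T.hom).obj F) n) := rfl

end Groth.Agent.Lib.Helper5.OverPsi
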