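import Mathlib

set_option autoImplicit false

namespace Groth.Agent.Lib.Helper5.PullbackCompCocycle

open CategoryTheory CategoryTheory.Limits

universe v u

section Plain

variable {T : Type u} [Category.{v} T] [HasPullbacks T]
  {X Y Z W A : T} (f : X ⟶ Y) (g : Y ⟶ Z) (l : Z ⟶ W) (a : A ⟶ W)

lemma plain (h₁ : a ≫ 𝟙 W = 𝟙 A ≫ a) (h₂ : ((f ≫ g) ≫ l) ≫ 𝟙 W = 𝟙 X ≫ (f ≫ g ≫ l))
    (h₃ : (pullback.fst (pullback.snd a (g ≫ l)) f ≫ (pullbackLeftPullbackSndIso a l g).inv) ≫
      pullback.snd (pullback.snd a l) g = pullback.snd (pullback.snd a (g ≫ l)) f ≫ f) :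
    (pullbackLeftPullbackSndIso a l (f ≫ g)).inv ≫
        (pullbackLeftPullbackSndIso (pullback.snd a l) g f).inv =
      (pullback.map a ((f ≫ g) ≫ l) a (f ≫ g ≫ l) (𝟙 A) (𝟙 X) (𝟙 W) h₁ h₂ ≫
          (pullbackLeftPullbackSndIso a (g ≫ l) f).inv) ≫
        pullback.lift
          (pullback.fst (pullback.snd a (g ≫ l)) f ≫ (pullbackLeftPullbackSndIso a l g).inv)
          (pullback.snd (pullback.snd a (g ≫ l)) f) h₃ := by
  apply pullback.hom_ext
  · apply pullback.hom_ext
    · apply pullback.hom_ext
      · simp only [Category.assoc, pullback.lift_fst_assoc, pullback.lift_snd_assoc,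
          pullback.lift_fst, pullback.lift_snd]
        unfold pullback.map
        simp only [pullback.lift_fst, pullback.lift_snd, pullback.lift_fst_assoc,
          pullback.lift_snd_assoc, Category.comp_id, Category.id_comp, Category.assoc,
          pullbackLeftPullbackSndIso_inv_fst, pullbackLeftPullbackSndIso_inv_fst_assoc,
          pullbackLeftPullbackSndIso_inv_snd_snd, pullbackLeftPullbackSndIso_inv_snd_snd_assoc,
          pullbackLeftPullbackSndIso_inv_fst_snd, pullbackLeftPullbackSndIso_inv_fst_snd_assoc]
      · simp only [Category.assoc, pullback.lift_fst_assoc, pullback.lift_snd_assoc,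
          pullback.lift_fst, pullback.lift_snd]
        unfold pullback.map
        simp only [pullback.lift_fst, pullback.lift_snd, pullback.lift_fst_assoc,
          pullback.lift_snd_assoc, Category.comp_id, Category.id_comp, Category.assoc,
          pullbackLeftPullbackSndIso_inv_fst, pullbackLeftPullbackSndIso_inv_fst_assoc,
          pullbackLeftPullbackSndIso_inv_snd_snd, pullbackLeftPullbackSndIso_inv_snd_snd_assoc,
          pullbackLeftPullbackSndIso_inv_fst_snd, pullbackLeftPullbackSndIso_inv_fst_snd_assoc]
    · simp only [Category.assoc, pullback.lift_fst_assoc, pullback.lift_snd_assoc,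
        pullback.lift_fst, pullback.lift_snd]
      unfold pullback.map
      simp only [pullback.lift_fst, pullback.lift_snd, pullback.lift_fst_assoc,
        pullback.lift_snd_assoc, Category.comp_id, Category.id_comp, Category.assoc,
          pullbackLeftPullbackSndIso_inv_fst, pullbackLeftPullbackSndIso_inv_fst_assoc,
          pullbackLeftPullbackSndIso_inv_snd_snd, pullbackLeftPullbackSndIso_inv_snd_snd_assoc,
          pullbackLeftPullbackSndIso_inv_fst_snd, pullbackLeftPullbackSndIso_inv_fst_snd_assoc]
  · simp only [Category.assoc, pullback.lift_fst_assoc, pullback.lift_snd_assoc,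
      pullback.lift_fst, pullback.lift_snd]
    unfold pullback.map
    simp only [pullback.lift_fst, pullback.lift_snd, pullback.lift_fst_assoc,
      pullback.lift_snd_assoc, Category.comp_id, Category.id_comp, Category.assoc,
          pullbackLeftPullbackSndIso_inv_fst, pullbackLeftPullbackSndIso_inv_fst_assoc,
          pullbackLeftPullbackSndIso_inv_snd_snd, pullbackLeftPullbackSndIso_inv_snd_snd_assoc,
          pullbackLeftPullbackSndIso_inv_fst_snd, pullbackLeftPullbackSndIso_inv_fst_snd_assoc]

end Plain

variable {T : Type u} [Category.{v} T] {P Q : MorphismProperty T}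
  [P.IsStableUnderBaseChange] [Q.IsStableUnderBaseChange] [Q.IsMultiplicative] [Q.RespectsIso]
  [HasPullbacks T]
  {X Y Z W : T} (f : X ⟶ Y) (g : Y ⟶ Z) (l : Z ⟶ W)

lemma cocycle (A : P.Over Q W) :
    (MorphismProperty.Over.pullbackComp (P := P) (Q := Q) (f ≫ g) l).hom.app A ≫
      (MorphismProperty.Over.pullbackComp (P := P) (Q := Q) f g).hom.app
        ((MorphismProperty.Over.pullback P Q l).obj A) =
    (MorphismProperty.Over.pullbackComp (P := P) (Q := Q) f (g ≫ l) ((f ≫ g) ≫ l)
        (Category.assoc f g l)).hom.app A ≫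
      (MorphismProperty.Over.pullback P Q f).map
        ((MorphismProperty.Over.pullbackComp (P := P) (Q := Q) g l).hom.app A) := by
  ext
  simp
  exact plain f g l A.hom _ _ _

end Groth.Agent.Lib.Helper5.PullbackCompCocycle
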