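import Mathlib
import Groth.Prelude.Def_EtCore
import Groth.Agent.Lib.Helper5.OverPsi
import Groth.Agent.Lib.Helper5.PullbackCompCocycle
import Groth.Agent.Lib.Helper13.FlatPullback

set_option autoImplicit false

namespace Groth.Agent.Lib.Helper5.EtPsi

open CategoryTheory CategoryTheory.Limits CategoryTheory.Abelian Opposite AlgebraicGeometry
open Groth.Agent.Lib.Helper5

universe u

/-- Base change functors compose. -/
noncomputable def bcComp ⦃X Y Z : Scheme.{u}⦄ (f : X ⟶ Y) (g : Y ⟶ Z) (fg : X ⟶ Z)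
    (h : f ≫ g = fg) : EtCoh.bc fg ≅ EtCoh.bc g ⋙ EtCoh.bc f :=
  MorphismProperty.Over.pullbackComp (P := EtCoh.etaleMP) (Q := ⊤) f g fg h.symm

lemma bcComp_cocycle ⦃X Y Z W : Scheme.{u}⦄ (f : X ⟶ Y) (g : Y ⟶ Z) (l : Z ⟶ W) (fg : X ⟶ Z)
    (gl : Y ⟶ W) (fgl : X ⟶ W) (h1 : f ≫ g = fg) (h2 : g ≫ l = gl) (h3 : fg ≫ l = fgl)
    (h4 : f ≫ gl = fgl) (V : W.Etale) :
    (bcComp fg l fgl h3).hom.app V ≫ (bcComp f g fg h1).hom.app ((EtCoh.bc l).obj V) =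
      (bcComp f gl fgl h4).hom.app V ≫ (EtCoh.bc f).map ((bcComp g l gl h2).hom.app V) := by
  subst h1 h2
  subst h3
  exact PullbackCompCocycle.cocycle (P := EtCoh.etaleMP) (Q := ⊤) f g l V


/-- Pushforwards compose. -/
noncomputable def ρ ⦃X Y Z : Scheme.{u}⦄ (f : X ⟶ Y) (g : Y ⟶ Z) (fg : X ⟶ Z) (h : f ≫ g = fg) :
    EtCoh.push f ⋙ EtCoh.push g ≅ EtCoh.push fg :=
  Functor.sheafPushforwardContinuousComp' (F := EtCoh.bc g) (G := EtCoh.bc f) (FG := EtCoh.bc fg)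
    (bcComp f g fg h).symm AddCommGrpCat.{u + 1} Z.smallEtaleTopology Y.smallEtaleTopology
    X.smallEtaleTopology

lemma hρ ⦃X Y Z W : Scheme.{u}⦄ (f : X ⟶ Y) (g : Y ⟶ Z) (l : Z ⟶ W) (fg : X ⟶ Z) (gl : Y ⟶ W)
    (fgl : X ⟶ W) (h1 : f ≫ g = fg) (h2 : g ≫ l = gl) (h3 : fg ≫ l = fgl) (h4 : f ≫ gl = fgl)
    (N : EtCoh.Ab X) :
    (EtCoh.push l).map ((ρ f g fg h1).hom.app N) ≫ (ρ fg l fgl h3).hom.app N =
      (ρ g l gl h2).hom.app ((EtCoh.push f).obj N) ≫ (ρ f gl fgl h4).hom.app N := by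
  ext V : 3
  have hc := bcComp_cocycle f g l fg gl fgl h1 h2 h3 h4 V.unop
  change N.obj.map ((bcComp f g fg h1).hom.app ((EtCoh.bc l).obj V.unop)).op ≫
      N.obj.map ((bcComp fg l fgl h3).hom.app V.unop).op =
    N.obj.map ((EtCoh.bc f).map ((bcComp g l gl h2).hom.app V.unop)).op ≫
      N.obj.map ((bcComp f gl fgl h4).hom.app V.unop).op
  rw [← Functor.map_comp, ← Functor.map_comp, ← op_comp, ← op_comp, hc]


/-- Base change along the identity. -/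
noncomputable def bcId (X : Scheme.{u}) : EtCoh.bc (𝟙 X) ≅ 𝟭 X.Etale :=
  NatIso.ofComponents
    (fun V => MorphismProperty.Over.isoMk
      (@asIso _ _ _ _ (pullback.fst V.hom (𝟙 X)) (pullback_fst_iso_of_right_iso V.hom (𝟙 X)))
      (by
        change pullback.fst V.hom (𝟙 X) ≫ V.hom = pullback.snd V.hom (𝟙 X)
        exact pullback.condition.trans (Category.comp_id _)))
    (by
      intro V V' φ
      apply MorphismProperty.Over.Hom.ext
      change ((EtCoh.bc (𝟙 X)).map φ).left ≫ pullback.fst V'.hom (𝟙 X) =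
        pullback.fst V.hom (𝟙 X) ≫ φ.left
      exact pullback.lift_fst _ _ _)

/-- Pushforward along the identity. -/
noncomputable def ρ₀ (X : Scheme.{u}) : EtCoh.push (𝟙 X) ≅ 𝟭 (EtCoh.Ab X) :=
  Functor.sheafPushforwardContinuousId' (bcId X) AddCommGrpCat.{u + 1} X.smallEtaleTopology


open Groth.Agent.Lib.Helper13.FlatPullback in
/-- The functor `T ↦ H^n(T_et, g_T^* F)` on schemes over `S`. -/
noncomputable def Ψ (S : Scheme.{u}) (F : EtCoh.Ab S) (n : ℕ) :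
    (Over S)ᵒᵖ ⥤ AddCommGrpCat.{u + 1} :=
  OverPsi.overPsi (𝒮 := Scheme.{u}) (fun X => EtCoh.Ab X) (fun _ _ f => EtCoh.pull f)
    (fun _ _ f => EtCoh.push f) (fun _ _ f => EtCoh.pullPushAdj f) ρ hρ ρ₀ S
    (EtCoh.const S ℤ) F n

open Groth.Agent.Lib.Helper13.ExtAdj in
/-- The values of `Ψ`. -/
noncomputable def ΨObjIso (S : Scheme.{u}) (F : EtCoh.Ab S) (n : ℕ) (T : Over S) :
    (Ψ S F n).obj (op T) ≅ AddCommGrpCat.of (EtCoh.H T.left ((EtCoh.pull T.hom).obj F) n) :=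
  AddEquiv.toAddCommGrpIso
    (show Ext.{u + 1} ((EtCoh.pull T.hom).obj (EtCoh.const S ℤ))
        ((EtCoh.pull T.hom).obj F) n ≃+ EtCoh.H T.left ((EtCoh.pull T.hom).obj F) n from
      (extIsoLeft (EtCore.pullConst T.hom ℤ) ((EtCoh.pull T.hom).obj F) n).symm)

end Groth.Agent.Lib.Helper5.EtPsi
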