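import Mathlib

/-!
# Properties of objects stable under fibre products pass to finite products in slice categories
-/

set_option autoImplicit false
universe v u
open CategoryTheory CategoryTheory.Limits

namespace Groth.Agent.Lib.Helper5.OverProdProp

variable {𝒞 : Type u} [Category.{v} 𝒞] [HasPullbacks 𝒞] (P : 𝒞 → Prop)
  (hPiso : ∀ ⦃A B : 𝒞⦄, (A ≅ B) → P A → P B)
  (hPpb : ∀ ⦃A B C : 𝒞⦄ (f : A ⟶ C) (g : B ⟶ C), P A → P B → P C → P (pullback f g))

include hPiso hPpb in
/-- If `P` is stable under isomorphisms and fibre products, then finite products in `Over U` of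
objects with `P` (over `U` with `P`) have `P`. -/
theorem prod_left (U : 𝒞) (hU : P U) [HasFiniteProducts (Over U)] :
    ∀ (n : ℕ) (Z : Fin n → Over U), (∀ k, P (Z k).left) → P (∏ᶜ Z).left := by
  intro n
  induction n with
  | zero =>
    intro Z _
    have hterm : IsTerminal (∏ᶜ Z) :=
      IsTerminal.ofUniqueHom (fun W => Pi.lift (fun k => k.elim0))
        (fun W m => Pi.hom_ext _ _ (fun k => k.elim0))
    have e : ∏ᶜ Z ≅ Over.mk (𝟙 U) := hterm.uniqueUpToIso Over.mkIdTerminal
    exact hPiso ((Over.forget U).mapIso e).symm hU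
  | succ n ih =>
    intro Z hZ
    let tail : Fin n → Over U := fun i => Z i.succ
    have h1 : P (∏ᶜ tail).left := ih tail (fun k => hZ _)
    let c₁ : Fan tail := Fan.mk (∏ᶜ tail) (Pi.π tail)
    have t₁ : IsLimit c₁ := productIsProduct tail
    let c₂ : BinaryFan (Z 0) c₁.pt := BinaryFan.mk prod.fst prod.snd
    have t₂ : IsLimit c₂ := prodIsProd (Z 0) (∏ᶜ tail)
    have e : (Z 0 ⨯ ∏ᶜ tail) ≅ ∏ᶜ Z :=
      (extendFanIsLimit Z t₁ t₂).conePointUniqueUpToIso (productIsProduct Z)
    have h2 : P (Z 0 ⨯ ∏ᶜ tail).left :=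
      hPiso (Over.prodLeftIsoPullback (Z 0) (∏ᶜ tail)).symm
        (hPpb _ _ (hZ 0) h1 hU)
    exact hPiso ((Over.forget U).mapIso e) h2

end Groth.Agent.Lib.Helper5.OverProdProp
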