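import Mathlib
import Groth.Agent.S0862

/-!
# Cohomology on a large site via a small model

Transfer of `S0862` (cohomology commutes with filtered colimits on "coherent" small sites) to sites
`E : Type (v+1)` with `Category.{v} E` (such as the small étale site of a scheme), through the
small model `ULiftHom E`.
-/

set_option autoImplicit false
universe w v₁ v₂ u₁ u₂ v
open CategoryTheory CategoryTheory.Limits Opposite Abelian

namespace Groth.Agent.Lib.Helper5.SmallModelH

section ExtTransfer

variable {𝒜 : Type u₁} [Category.{v₁} 𝒜] [Abelian 𝒜] {ℬ : Type u₂} [Category.{v₂} ℬ] [Abelian ℬ]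
  [HasExt.{w} 𝒜] [HasExt.{w} ℬ] (Φ : 𝒜 ≌ ℬ) [Φ.functor.Additive] [EnoughInjectives 𝒜]

include Φ in
lemma preservesInjectiveObjects_functor : Φ.functor.PreservesInjectiveObjects :=
  Functor.preservesInjectiveObjects_of_adjunction_of_preservesMonomorphisms Φ.symm.toAdjunction

/-- Precomposition with an isomorphism, on `Ext`. -/
noncomputable def precompIso {ℬ : Type u₂} [Category.{v₂} ℬ] [Abelian ℬ] [HasExt.{w} ℬ]
    {M M' : ℬ} (a : M' ≅ M) (G : ℬ) (n : ℕ) : Ext.{w} M G n ≃+ Ext.{w} M' G n where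
  toFun x := (Ext.mk₀ a.hom).comp x (zero_add n)
  invFun x := (Ext.mk₀ a.inv).comp x (zero_add n)
  left_inv x := by
    dsimp only
    rw [Ext.mk₀_comp_mk₀_assoc, a.inv_hom_id, Ext.mk₀_id_comp]
  right_inv x := by
    dsimp only
    rw [Ext.mk₀_comp_mk₀_assoc, a.hom_inv_id, Ext.mk₀_id_comp]
  map_add' x y := Ext.comp_add _ _ _ _

/-- The comparison of `Ext` groups under an equivalence. -/
noncomputable def extEquiv (M : 𝒜) (M' : ℬ) (a : M' ≅ Φ.functor.obj M) (n : ℕ) (F : 𝒜) :
    Ext.{w} M F n ≃+ Ext.{w} M' (Φ.functor.obj F) n :=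
  haveI := preservesInjectiveObjects_functor Φ
  (AddEquiv.ofBijective (Φ.functor.mapExtAddHom M F n)
    (Functor.mapExt_bijective_of_preservesInjectiveObjects Φ.functor M F n)).trans
    (precompIso a (Φ.functor.obj F) n)

lemma extEquiv_apply (M : 𝒜) (M' : ℬ) (a : M' ≅ Φ.functor.obj M) (n : ℕ) (F : 𝒜)
    (x : Ext.{w} M F n) :
    extEquiv Φ M M' a n F x =
      (Ext.mk₀ a.hom).comp (x.mapExactFunctor Φ.functor) (zero_add n) := rfl

/-- An equivalence of abelian categories identifies the `Ext` functors. -/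
noncomputable def extIso (M : 𝒜) (M' : ℬ) (a : M' ≅ Φ.functor.obj M) (n : ℕ) :
    extFunctorObj.{w} M n ≅ Φ.functor ⋙ extFunctorObj.{w} M' n :=
  NatIso.ofComponents (fun F => AddEquiv.toAddCommGrpIso (extEquiv Φ M M' a n F))
    (fun {F G} f => by
      ext (x : Ext.{w} M F n)
      change extEquiv Φ M M' a n G (x.comp (Ext.mk₀ f) (add_zero n)) =
        (extEquiv Φ M M' a n F x).comp (Ext.mk₀ (Φ.functor.map f)) (add_zero n)
      rw [extEquiv_apply, extEquiv_apply, Ext.mapExactFunctor_comp, Ext.mapExactFunctor_mk₀,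
        Ext.comp_assoc_of_third_deg_zero])

end ExtTransfer

section Site

variable (E : Type (v + 1)) [Category.{v} E]

/-- The small model of `E`. -/
abbrev Sm := ULiftHom.{v + 1} E

/-- The equivalence with the small model. -/
abbrev eqv : E ≌ Sm E := ULiftHom.equiv

variable {E} (J : GrothendieckTopology E)

/-- The transported topology. -/
abbrev K : GrothendieckTopology (Sm E) := (eqv E).inverse.inducedTopology J

/-- The equivalence of categories of abelian sheaves. -/
noncomputable abbrev Φ : Sheaf J AddCommGrpCat.{v + 1} ≌ Sheaf (K J) AddCommGrpCat.{v + 1} :=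
  (eqv E).sheafCongr J (K J) _

/-- The constant sheaf `ℤ`. -/
noncomputable abbrev constZ : Sheaf J AddCommGrpCat.{v + 1} :=
  (constantSheaf J AddCommGrpCat.{v + 1}).obj (AddCommGrpCat.of (ULift.{v + 1} ℤ))

variable {T : E} (hT : IsTerminal T)

/-- Maps out of the constant sheaf `ℤ` are sections over the terminal object. -/
noncomputable def sec (G : Sheaf J AddCommGrpCat.{v + 1}) : (constZ J ⟶ G) ≃ G.obj.obj (op T) :=
  ((constantSheafAdj J AddCommGrpCat.{v + 1} hT).homEquiv _ G).trans
    (AddCommGrpCat.uliftZMultiplesAddEquiv _).toEquiv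

lemma sec_comp {G G' : Sheaf J AddCommGrpCat.{v + 1}} (y : constZ J ⟶ G) (k : G ⟶ G') :
    sec J hT G' (y ≫ k) = (k.hom.app (op T)).hom (sec J hT G y) := by
  unfold sec
  simp only [Equiv.trans_apply]
  rw [Adjunction.homEquiv_naturality_right]
  rfl

/-- Maps out of `Φ ℤ` are sections over the image of the terminal object. -/
noncomputable def kap (Z : Sheaf (K J) AddCommGrpCat.{v + 1}) :
    ((Φ J).functor.obj (constZ J) ⟶ Z) ≃ Z.obj.obj (op ((eqv E).functor.obj T)) :=
  ((Φ J).toAdjunction.homEquiv (constZ J) Z).trans (sec J hT ((Φ J).inverse.obj Z))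

lemma kap_comp {Z Z' : Sheaf (K J) AddCommGrpCat.{v + 1}}
    (g : (Φ J).functor.obj (constZ J) ⟶ Z) (h : Z ⟶ Z') :
    kap J hT Z' (g ≫ h) = (h.hom.app (op ((eqv E).functor.obj T))).hom (kap J hT Z g) := by
  change sec J hT ((Φ J).inverse.obj Z') ((Φ J).toAdjunction.homEquiv _ _ (g ≫ h)) =
    (h.hom.app _).hom (sec J hT ((Φ J).inverse.obj Z) ((Φ J).toAdjunction.homEquiv _ _ g))
  rw [Adjunction.homEquiv_naturality_right, sec_comp]
  rfl

/-- The free abelian sheaf on the terminal object of the small model is the transported constant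
sheaf. -/
noncomputable def freeIso :
    CohCx.freeSheaf (K J) ((eqv E).functor.obj T) ≅ (Φ J).functor.obj (constZ J) :=
  Coyoneda.ext _ _
    (fun {Z} f => (kap J hT Z).symm (CohFree.evalGen (K J) _ Z f))
    (fun {Z} g => CohFree.ofSect (K J) _ Z (kap J hT Z g))
    (fun {Z} f => by
      rw [Equiv.apply_symm_apply]
      exact CohFree.ofSect_evalGen (K J) _ Z f)
    (fun {Z} g => by
      rw [CohFree.evalGen_ofSect, Equiv.symm_apply_apply])
    (fun {Z Z'} g h => by
      apply (CohFree.homEquivSect (K J) _ Z').injective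
      rw [CohFree.homEquivSect_apply, CohFree.evalGen_ofSect, kap_comp]
      change _ = (h.hom.app _).hom (CohFree.evalGen (K J) _ Z (CohFree.ofSect (K J) _ Z _))
      rw [CohFree.evalGen_ofSect])

end Site

section Main

/-- Slice categories of a category with pullbacks have finite products. -/
instance hasFiniteProducts_over {E : Type (v + 1)} [Category.{v} E] [HasPullbacks E] (U : E) :
    HasFiniteProducts (Over U) :=
  have : HasBinaryProducts (Over U) := Over.ConstructProducts.over_binaryProduct_of_pullback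
  have : HasTerminal (Over U) := Over.over_hasTerminal U
  hasFiniteProducts_of_has_binary_and_terminal

variable {E : Type (v + 1)} [Category.{v} E] [HasPullbacks E] (J : GrothendieckTopology E)

instance : HasPullbacks (Sm E) :=
  Adjunction.hasLimitsOfShape_of_equivalence (eqv E).inverse

variable (B : Set E) (Cov : ∀ (U : E) (ι : Type (v + 1)), (ι → Over U) → Prop)

/-- The transported class of objects. -/
def B' : Set (Sm E) := {U' | (eqv E).inverse.obj U' ∈ B}

/-- The transported class of coverings. -/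
def Cov' (U' : Sm E) (ι : Type (v + 1)) (Y' : ι → Over U') : Prop :=
  Cov ((eqv E).inverse.obj U') ι (fun i => (Over.post (eqv E).inverse).obj (Y' i))

variable (hBiso : ∀ ⦃U V : E⦄, (U ≅ V) → U ∈ B → V ∈ B)
  (h1 : ∀ (U : E) (ι : Type (v + 1)) (Y : ι → Over U), Cov U ι Y → Finite ι ∧ U ∈ B ∧
    Sieve.ofArrows (fun i => (Y i).left) (fun i => (Y i).hom) ∈ J U ∧
    ∀ (p : ℕ) (a : Fin (p + 1) → ι), (∏ᶜ fun k => Y (a k)).left ∈ B)
  (h2 : ∀ U ∈ B, ∀ S ∈ J U, ∃ (ι : Type (v + 1)) (Y : ι → Over U), Cov U ι Y ∧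
    ∀ i, S.arrows (Y i).hom)

include hBiso h1 in
lemma h1' (U' : Sm E) (ι : Type (v + 1)) (Y' : ι → Over U') (hY' : Cov' Cov U' ι Y') :
    Finite ι ∧ U' ∈ B' B ∧
      Sieve.ofArrows (fun i => (Y' i).left) (fun i => (Y' i).hom) ∈ K J U' ∧
      ∀ (p : ℕ) (a : Fin (p + 1) → ι), (∏ᶜ fun k => Y' (a k)).left ∈ B' B := by
  obtain ⟨hfin, hU, hcov, hprod⟩ := h1 _ ι _ hY'
  refine ⟨hfin, hU, ?_, ?_⟩
  · rw [← Functor.functorPushforward_mem_iff (G := (eqv E).inverse) (J := K J) (K := J)]
    refine J.superset_covering ?_ hcov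
    rintro V g ⟨W, h, k, ⟨i⟩, rfl⟩
    exact Sieve.downward_closed _
      (Sieve.image_mem_functorPushforward (eqv E).inverse
        (Sieve.ofArrows (fun i => (Y' i).left) (fun i => (Y' i).hom))
        (Sieve.ofArrows_mk (fun i => (Y' i).left) (fun i => (Y' i).hom) i)) h
  · intro p a
    have e : (Over.post (X := U') (eqv E).inverse).obj (∏ᶜ fun k => Y' (a k)) ≅
        ∏ᶜ fun k => (Over.post (X := U') (eqv E).inverse).obj (Y' (a k)) :=
      PreservesProduct.iso (Over.post (X := U') (eqv E).inverse) _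
    exact hBiso ((Over.forget _).mapIso e).symm (hprod p a)

include h2 in
lemma h2' (U' : Sm E) (hU' : U' ∈ B' B) (S' : Sieve U') (hS' : S' ∈ K J U') :
    ∃ (ι : Type (v + 1)) (Y' : ι → Over U'), Cov' Cov U' ι Y' ∧ ∀ i, S'.arrows (Y' i).hom := by
  have hS : S'.functorPushforward (eqv E).inverse ∈ J ((eqv E).inverse.obj U') :=
    (Functor.functorPushforward_mem_iff (G := (eqv E).inverse) (J := K J) (K := J)).2 hS'
  obtain ⟨ι, Y, hY, hYS⟩ := h2 _ hU' _ hS
  let Y' : ι → Over U' := fun i =>
    Over.mk (Y := ULiftHom.objUp (Y i).left) (ULiftHom.up.map (Y i).hom : _ ⟶ U')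
  refine ⟨ι, Y', hY, ?_⟩
  intro i
  obtain ⟨W, g, h, hg, hh⟩ := hYS i
  have : (Y' i).hom = (ULiftHom.up.map h : ULiftHom.objUp (Y i).left ⟶ W) ≫ g := by
    change ULiftHom.up.map (Y i).hom = _
    rw [hh]
    rfl
  rw [this]
  exact S'.downward_closed hg _

instance : ((Φ J).functor).Additive where
  map_add := rfl

variable {T : E} (hT : IsTerminal T) (hTB : T ∈ B)
  [HasSheafify J AddCommGrpCat.{v + 1}]
  [HasExt.{v + 1} (Sheaf J AddCommGrpCat.{v + 1})]
  [EnoughInjectives (Sheaf J AddCommGrpCat.{v + 1})]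

include hBiso h1 h2 hT hTB in
/-- **Transfer of S0862 to large sites**: on a site `E : Type (v+1)` with `Category.{v} E`, with a
terminal object in a class `B` of "coherent" objects, `Ext^p(ℤ, -)` commutes with filtered
colimits. -/
theorem preservesColimitsOfShape_ext (p : ℕ) (I : Type (v + 1)) [SmallCategory I] [IsFiltered I] :
    PreservesColimitsOfShape I (extFunctorObj.{v + 1} (constZ J) p) := by
  have hsmall : PreservesColimitsOfShape I
      ((Sheaf.cohomologyPresheafFunctor (K J) p).flip.obj (op ((eqv E).functor.obj T))) :=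
    ⟨fun {F'} => Groth.Agent.S0862.result (K J) (B' B) (Cov' Cov)
      (h1' J B Cov hBiso h1) (h2' J B Cov h2) ((eqv E).functor.obj T) hTB p I F'⟩
  let e' : extFunctorObj.{v + 1} (CohCx.freeSheaf (K J) ((eqv E).functor.obj T)) p ≅
      (Sheaf.cohomologyPresheafFunctor (K J) p).flip.obj (op ((eqv E).functor.obj T)) :=
    NatIso.ofComponents (fun _ => Iso.refl _)
  haveI : PreservesColimitsOfShape I
      (extFunctorObj.{v + 1} (CohCx.freeSheaf (K J) ((eqv E).functor.obj T)) p) :=
    preservesColimitsOfShape_of_natIso e'.symm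
  exact preservesColimitsOfShape_of_natIso
    (extIso (Φ J) (constZ J) _ (freeIso J hT) p).symm

include hBiso h1 h2 hT hTB in
/-- The same for Mathlib's `Sheaf.functorH`. -/
theorem preservesColimitsOfShape_functorH (p : ℕ) (I : Type (v + 1)) [SmallCategory I]
    [IsFiltered I] :
    PreservesColimitsOfShape I
      (Sheaf.functorH J p : Sheaf J AddCommGrpCat.{v + 1} ⥤ AddCommGrpCat.{v + 1}) := by
  haveI := preservesColimitsOfShape_ext J B Cov hBiso h1 h2 hT hTB p I
  let e' : extFunctorObj.{v + 1} (constZ J) p ≅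
      (Sheaf.functorH J p : Sheaf J AddCommGrpCat.{v + 1} ⥤ AddCommGrpCat.{v + 1}) :=
    NatIso.ofComponents (fun _ => Iso.refl _)
  exact preservesColimitsOfShape_of_natIso e'

end Main

end Groth.Agent.Lib.Helper5.SmallModelH
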