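import Mathlib
import Groth.Prelude.Def_EtBase
import Groth.Agent.S14627
import Groth.Agent.S14631
import Groth.Agent.Lib.Helper5.OverProdProp
import Groth.Agent.Lib.Helper5.SmallModelH

/-!
# The qcqs objects of the small étale site

The class of quasi-compact quasi-separated étale `X`-schemes, with finite étale coverings by such,
satisfies the hypotheses of `S0862` / `SmallModelH`.
-/

set_option autoImplicit false
universe u
open CategoryTheory CategoryTheory.Limits AlgebraicGeometry Opposite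

namespace Groth.Agent.Lib.Helper5.EtaleQcqs

variable (X : Scheme.{u})

/-- The quasi-compact quasi-separated objects. -/
def Bq : Set X.Etale := {U | CompactSpace U.left ∧ QuasiSeparatedSpace U.left}

/-- The forgetful functor to schemes. -/
abbrev toSch : X.Etale ⥤ Scheme.{u} := Scheme.Etale.forget X ⋙ Over.forget X

variable {X}

lemma Bq_iso ⦃U V : X.Etale⦄ (e : U ≅ V) (h : U ∈ Bq X) : V ∈ Bq X := by
  obtain ⟨h1, h2⟩ := h
  let e' : U.left ≅ V.left := (toSch X).mapIso e
  let t : (U.left : Type u) ≃ₜ (V.left : Type u) := Scheme.homeoOfIso e'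
  exact ⟨t.compactSpace, (quasiSeparatedSpace_congr t).1 h2⟩

lemma Bq_pullback ⦃A B C : X.Etale⦄ (f : A ⟶ C) (g : B ⟶ C) (hA : A ∈ Bq X) (hB : B ∈ Bq X)
    (hC : C ∈ Bq X) : pullback f g ∈ Bq X := by
  obtain ⟨hA1, hA2⟩ := hA
  obtain ⟨hB1, hB2⟩ := hB
  obtain ⟨hC1, hC2⟩ := hC
  let e : (pullback f g).left ≅ pullback f.left g.left :=
    PreservesPullback.iso (toSch X) f g
  let t : ((pullback f g).left : Type u) ≃ₜ (↑(pullback f.left g.left) : Type u) :=
    Scheme.homeoOfIso e
  haveI : QuasiCompact f.left := inferInstance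
  haveI : QuasiSeparated f.left := inferInstance
  haveI : CompactSpace ↑(pullback f.left g.left) := inferInstance
  haveI : QuasiSeparatedSpace ↑(pullback f.left g.left) :=
    quasiSeparatedSpace_of_quasiSeparated (pullback.snd f.left g.left)
  exact ⟨t.symm.compactSpace, (quasiSeparatedSpace_congr t).2 inferInstance⟩

variable (X)

/-- Finite étale coverings of qcqs objects by qcqs objects. -/
def Cov (U : X.Etale) (ι : Type (u + 1)) (Y : ι → Over U) : Prop :=
  Finite ι ∧ U ∈ Bq X ∧ (∀ i, (Y i).left ∈ Bq X) ∧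
    Sieve.ofArrows (fun i => (Y i).left) (fun i => (Y i).hom) ∈ X.smallEtaleTopology U

open Groth.Agent.Lib.Helper5.SmallModelH in
lemma h1 (U : X.Etale) (ι : Type (u + 1)) (Y : ι → Over U) (h : Cov X U ι Y) :
    Finite ι ∧ U ∈ Bq X ∧
      Sieve.ofArrows (fun i => (Y i).left) (fun i => (Y i).hom) ∈ X.smallEtaleTopology U ∧
      ∀ (p : ℕ) (a : Fin (p + 1) → ι), (∏ᶜ fun k => Y (a k)).left ∈ Bq X := by
  obtain ⟨hf, hU, hY, hc⟩ := h
  refine ⟨hf, hU, hc, fun p a => ?_⟩
  exact OverProdProp.prod_left (· ∈ Bq X) Bq_iso Bq_pullback U hU (p + 1) (fun k => Y (a k))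
    (fun k => hY _)

lemma top_mem [CompactSpace X] [QuasiSeparatedSpace X] : EtCoh.top X ∈ Bq X :=
  ⟨‹_›, ‹_›⟩

set_option backward.isDefEq.respectTransparency.types false in
lemma h2 [CompactSpace X] [QuasiSeparatedSpace X] (U : X.Etale) (hU : U ∈ Bq X) (S : Sieve U)
    (hS : S ∈ X.smallEtaleTopology U) :
    ∃ (ι : Type (u + 1)) (Y : ι → Over U), Cov X U ι Y ∧ ∀ i, S.arrows (Y i).hom := by
  have eX : X.smallEtaleTopology =
      (X.smallPretopology (P := EtCoh.etaleMP) (Q := EtCoh.etaleMP)).toGrothendieck :=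
    Scheme.smallGrothendieckTopology_eq_toGrothendieck_smallPretopology X le_rfl
  rw [eX] at hS
  replace hS := (Scheme.mem_toGrothendieck_smallPretopology U S).1 hS
  choose V g v hg _ hv using hS
  have h31 := fun x => Groth.Agent.S14631.result X (V x)
  choose κ W hW hWs using h31
  let ι₀ : Type (u + 1) := ULift.{u + 1} (Σ x : U.left, κ x)
  let Y₀ : ι₀ → Over U := fun i => Over.mk ((W i.down.1 i.down.2).hom ≫ g i.down.1)
  obtain ⟨hU1, hU2⟩ := hU
  have : QuasiCompact U.hom := @quasiCompact_of_compactSpace U.left X U.hom hU1 ‹_›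
  have hsurj : ∀ x : ↥(U.left), ∃ (i : ι₀) (y : ↥((Y₀ i).left.left)),
      (Y₀ i).hom.left.base y = x := by
    intro x
    obtain ⟨k, y, hy⟩ := hWs x (v x)
    refine ⟨⟨⟨x, k⟩⟩, y, ?_⟩
    change ((W x k).hom ≫ g x).left.base y = x
    have e : ((W x k).hom ≫ g x).left = (W x k).hom.left ≫ (g x).left := rfl
    rw [e, Scheme.Hom.comp_base, TopCat.comp_app, hy]
    exact hv x
  obtain ⟨t, ht⟩ := Groth.Agent.S14627.result X U ι₀ Y₀ hsurj
  refine ⟨↥t, fun i => Y₀ i.1, ⟨inferInstance, ⟨hU1, hU2⟩, ?_, ?_⟩, ?_⟩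
  · intro i
    obtain ⟨q1, q2⟩ := hW i.1.down.1 i.1.down.2
    exact ⟨@QuasiCompact.compactSpace_of_compactSpace _ X (W i.1.down.1 i.1.down.2).left.hom q1 ‹_›,
      @quasiSeparatedSpace_of_quasiSeparated _ X (W i.1.down.1 i.1.down.2).left.hom ‹_› q2⟩
  · rw [Scheme.ofArrows_mem_smallEtaleTopology_iff]
    ext x
    simp only [Set.mem_iUnion, Set.mem_range, Set.mem_univ, iff_true]
    obtain ⟨i, hi, y, hy⟩ := ht x
    exact ⟨⟨i, hi⟩, y, hy⟩
  · intro i
    exact S.downward_closed (hg i.1.down.1) _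

/-- `X` itself is the terminal object of the small étale site. -/
noncomputable def topIsTerminal : IsTerminal (EtCoh.top X) :=
  MorphismProperty.Over.mkIdTerminal EtCoh.etaleMP X

end Groth.Agent.Lib.Helper5.EtaleQcqs
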