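import Mathlib
import Groth.Agent.Lib.Helper5.FiltFin

/-!
# Sections of a filtered colimit of sheaves of sets over "quasi-compact" objects (helper5)

`C` is a (large) site with pullbacks, `B` a class of objects stable under fibre products such that
every covering sieve of a member of `B` contains a finite covering family by members of `B`.
For `V ∈ B` the functor `F ↦ F(V)` on sheaves of sets commutes with filtered colimits.
-/

set_option autoImplicit false
universe u

open CategoryTheory CategoryTheory.Limits Opposite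

noncomputable section

namespace Groth.Agent.Lib.Helper5.SiteColimSectionsType

variable {C : Type (u + 1)} [Category.{u} C] {J : GrothendieckTopology C}
  {I : Type (u + 1)} [SmallCategory I] [IsFiltered I] (F : I ⥤ Sheaf J (Type (u + 1)))

/-- the underlying diagram of presheaves -/
abbrev Fp : I ⥤ (Cᵒᵖ ⥤ Type (u + 1)) := F ⋙ sheafToPresheaf J (Type (u + 1))

/-- the presheaf colimit -/
abbrev P : Cᵒᵖ ⥤ Type (u + 1) := colimit (Fp F)

/-- the canonical map `F_i(V) → P(V)` -/
def inP (i : I) (V : C) : (F.obj i).obj.obj (op V) → (P F).obj (op V) :=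
  (colimit.ι (Fp F) i).app (op V)

omit [IsFiltered I] in
lemma inP_res (i : I) {V W : C} (g : W ⟶ V) (t : (F.obj i).obj.obj (op V)) :
    (P F).map g.op (inP F i V t) = inP F i W ((F.obj i).obj.map g.op t) :=
  (ConcreteCategory.congr_hom ((colimit.ι (Fp F) i).naturality g.op) t).symm

omit [IsFiltered I] in
lemma inP_map {i j : I} (f : i ⟶ j) (V : C) (t : (F.obj i).obj.obj (op V)) :
    inP F j V ((F.map f).hom.app (op V) t) = inP F i V t := by
  have := colimit.w (Fp F) f
  exact ConcreteCategory.congr_hom (NatTrans.congr_app this (op V)) t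

omit [IsFiltered I] in
lemma inP_surj (V : C) (s : (P F).obj (op V)) :
    ∃ (i : I) (t : (F.obj i).obj.obj (op V)), inP F i V t = s := by
  have hc := isColimitOfPreserves ((evaluation Cᵒᵖ (Type (u + 1))).obj (op V))
    (colimit.isColimit (Fp F))
  obtain ⟨i, t, ht⟩ := Types.jointly_surjective_of_isColimit hc s
  exact ⟨i, t, ht⟩

lemma inP_eq (i : I) (V : C) (t t' : (F.obj i).obj.obj (op V)) (h : inP F i V t = inP F i V t') :
    ∃ (j : I) (f : i ⟶ j), (F.map f).hom.app (op V) t = (F.map f).hom.app (op V) t' := by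
  have hc := isColimitOfPreserves ((evaluation Cᵒᵖ (Type (u + 1))).obj (op V))
    (colimit.isColimit (Fp F))
  exact (Types.FilteredColimit.isColimit_eq_iff' hc t t').1 h

omit [IsFiltered I] in
lemma map_comp_apply {i j k : I} (f : i ⟶ j) (g : j ⟶ k) (V : C) (t : (F.obj i).obj.obj (op V)) :
    (F.map (f ≫ g)).hom.app (op V) t =
      (F.map g).hom.app (op V) ((F.map f).hom.app (op V) t) := by
  rw [F.map_comp]; rfl

omit [IsFiltered I] in
lemma map_res {i j : I} (f : i ⟶ j) {V W : C} (g : W ⟶ V) (t : (F.obj i).obj.obj (op V)) :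
    (F.obj j).obj.map g.op ((F.map f).hom.app (op V) t) =
      (F.map f).hom.app (op W) ((F.obj i).obj.map g.op t) :=
  (ConcreteCategory.congr_hom ((F.map f).hom.naturality g.op) t).symm

/-- two sections of the presheaf colimit come from a common stage. -/
lemma inP_surj₂ (V : C) (s s' : (P F).obj (op V)) :
    ∃ (i : I) (t t' : (F.obj i).obj.obj (op V)), inP F i V t = s ∧ inP F i V t' = s' := by
  obtain ⟨i, t, rfl⟩ := inP_surj F V s
  obtain ⟨i', t', rfl⟩ := inP_surj F V s'
  refine ⟨IsFiltered.max i i', (F.map (IsFiltered.leftToMax i i')).hom.app (op V) t,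
    (F.map (IsFiltered.rightToMax i i')).hom.app (op V) t', inP_map F _ V t, inP_map F _ V t'⟩


section SheafAPI

variable {V : C} {ι : Type (u + 1)} (Y : ι → C) (f : ∀ i, Y i ⟶ V)
  (hY : Sieve.ofArrows Y f ∈ J V)

omit [IsFiltered I] in
include hY in
lemma isSheafFor_ofArrows (G : Sheaf J (Type (u + 1))) :
    (Presieve.ofArrows Y f).IsSheafFor G.obj := by
  rw [Presieve.isSheafFor_iff_generate]
  exact ((isSheaf_iff_isSheaf_of_type J G.obj).1 G.property) _ hY

omit [IsFiltered I] in
include hY in
lemma sheaf_ext (G : Sheaf J (Type (u + 1))) (t t' : G.obj.obj (op V))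
    (h : ∀ i, G.obj.map (f i).op t = G.obj.map (f i).op t') : t = t' := by
  apply (isSheafFor_ofArrows Y f hY G).isSeparatedFor.ext
  rintro W g ⟨i⟩
  exact h i

omit [IsFiltered I] in
include hY in
lemma sheaf_glue [HasPullbacks C] (G : Sheaf J (Type (u + 1))) (x : ∀ i, G.obj.obj (op (Y i)))
    (hx : ∀ i j, G.obj.map (pullback.fst (f i) (f j)).op (x i) =
      G.obj.map (pullback.snd (f i) (f j)).op (x j)) :
    ∃ t : G.obj.obj (op V), ∀ i, G.obj.map (f i).op t = x i := by
  obtain ⟨t, ht, -⟩ := ((Presieve.isSheafFor_arrows_iff_pullbacks G.obj f).1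
    (isSheafFor_ofArrows Y f hY G)) x hx
  exact ⟨t, ht⟩

end SheafAPI

/-- **Lemma A**: the presheaf colimit is separated for finite covering families. -/
lemma P_sep {V : C} {ι : Type (u + 1)} [Finite ι] (Y : ι → C) (f : ∀ i, Y i ⟶ V)
    (hY : Sieve.ofArrows Y f ∈ J V) (s s' : (P F).obj (op V))
    (hs : ∀ i, (P F).map (f i).op s = (P F).map (f i).op s') : s = s' := by
  obtain ⟨j, t, t', rfl, rfl⟩ := inP_surj₂ F V s s'
  have h : ∀ i, ∃ (k : I) (g : j ⟶ k), (F.map g).hom.app (op (Y i)) ((F.obj j).obj.map (f i).op t) =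
      (F.map g).hom.app (op (Y i)) ((F.obj j).obj.map (f i).op t') := by
    intro i
    apply inP_eq
    rw [← inP_res, ← inP_res]
    exact hs i
  obtain ⟨k, g, hg⟩ := FiltFin.exists_common j
    (fun i k g => (F.map g).hom.app (op (Y i)) ((F.obj j).obj.map (f i).op t) =
      (F.map g).hom.app (op (Y i)) ((F.obj j).obj.map (f i).op t'))
    (fun i k g l g' hp => by
      change (F.map (g ≫ g')).hom.app _ _ = (F.map (g ≫ g')).hom.app _ _
      rw [map_comp_apply, map_comp_apply, hp]) h
  have h0 : (F.map g).hom.app (op V) t = (F.map g).hom.app (op V) t' := by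
    apply sheaf_ext Y f hY (F.obj k)
    intro i
    rw [map_res, map_res]
    exact hg i
  rw [← inP_map F g, ← inP_map F g V t', h0]


omit [IsFiltered I] in
lemma η_res {V W : C} (g : W ⟶ V) (x : (P F).obj (op V)) :
    (toSheafify J (P F)).app (op W) ((P F).map g.op x) =
      (sheafify J (P F)).map g.op ((toSheafify J (P F)).app (op V) x) :=
  ConcreteCategory.congr_hom ((toSheafify J (P F)).naturality g.op) x

variable [HasPullbacks C] (B : Set C)
  (hpb : ∀ ⦃A A' V : C⦄ (f : A ⟶ V) (g : A' ⟶ V), A ∈ B → A' ∈ B → V ∈ B → pullback f g ∈ B)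
  (h2 : ∀ V ∈ B, ∀ T ∈ J V, ∃ (ι : Type (u + 1)) (_ : Finite ι) (Y : ι → C) (f : ∀ i, Y i ⟶ V),
    (∀ i, Y i ∈ B) ∧ Sieve.ofArrows Y f ∈ J V ∧ ∀ i, T.arrows (f i))

include h2 in
/-- **Lemma B**: `P → P^#` is injective on sections over members of `B`. -/
lemma toSheafify_inj {V : C} (hV : V ∈ B) (s s' : (P F).obj (op V))
    (hs : (toSheafify J (P F)).app (op V) s = (toSheafify J (P F)).app (op V) s') : s = s' := by
  have hmem := Presheaf.equalizerSieve_mem J (toSheafify J (P F)) (X := op V) s s' hs
  obtain ⟨ι, hfin, Y, f, -, hcov, hYT⟩ := h2 V hV _ hmem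
  haveI := hfin
  exact P_sep F Y f hcov s s' (fun i => hYT i)

include hpb h2 in
/-- **Lemma C**: `P → P^#` is surjective on sections over members of `B`. -/
lemma toSheafify_surj {V : C} (hV : V ∈ B) (g : (sheafify J (P F)).obj (op V)) :
    ∃ s : (P F).obj (op V), (toSheafify J (P F)).app (op V) s = g := by
  have hmem := Presheaf.imageSieve_mem J (toSheafify J (P F)) (U := op V) g
  obtain ⟨ι, hfin, Y, f, hYB, hcov, hYT⟩ := h2 V hV _ hmem
  haveI := hfin
  choose s hs using hYT
  have hs' : ∀ i, (toSheafify J (P F)).app (op (Y i)) (s i) =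
      (sheafify J (P F)).map (f i).op g := hs
  choose j0 t0 ht0 using fun i => inP_surj F (Y i) (s i)
  obtain ⟨k, hk⟩ := FiltFin.exists_bound j0
  let t : ∀ i, (F.obj k).obj.obj (op (Y i)) :=
    fun i => (F.map (hk i).some).hom.app _ (t0 i)
  have ht : ∀ i, inP F k _ (t i) = s i := fun i => by rw [inP_map]; exact ht0 i
  -- the two restrictions to the fibre products agree in `P`
  have hu : ∀ a : ι × ι, inP F k _ ((F.obj k).obj.map (pullback.fst (f a.1) (f a.2)).op (t a.1)) =
      inP F k _ ((F.obj k).obj.map (pullback.snd (f a.1) (f a.2)).op (t a.2)) := by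
    intro a
    apply toSheafify_inj F B h2 (hpb (f a.1) (f a.2) (hYB a.1) (hYB a.2) hV)
    rw [← inP_res, ← inP_res, ht, ht, η_res, η_res, hs', hs', ← FunctorToTypes.map_comp_apply,
      ← FunctorToTypes.map_comp_apply, ← op_comp, ← op_comp, pullback.condition]
  obtain ⟨l, φ, hφ⟩ := FiltFin.exists_common k
    (fun (a : ι × ι) l φ => (F.map φ).hom.app _
        ((F.obj k).obj.map (pullback.fst (f a.1) (f a.2)).op (t a.1)) =
      (F.map φ).hom.app _ ((F.obj k).obj.map (pullback.snd (f a.1) (f a.2)).op (t a.2)))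
    (fun a l φ m ψ hp => by
      change (F.map (φ ≫ ψ)).hom.app _ _ = (F.map (φ ≫ ψ)).hom.app _ _
      rw [map_comp_apply, map_comp_apply, hp])
    (fun a => inP_eq F k _ _ _ (hu a))
  let t' : ∀ i, (F.obj l).obj.obj (op (Y i)) := fun i => (F.map φ).hom.app _ (t i)
  obtain ⟨tt, htt⟩ := sheaf_glue Y f hcov (F.obj l) t' (fun i i' => by
    have e1 := map_res F φ (pullback.fst (f i) (f i')) (t i)
    have e2 := map_res F φ (pullback.snd (f i) (f i')) (t i')
    exact e1.trans ((hφ (i, i')).trans e2.symm))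
  refine ⟨inP F l V tt, ?_⟩
  apply sheaf_ext Y f hcov ((presheafToSheaf J (Type (u + 1))).obj (P F))
  intro i
  change (sheafify J (P F)).map (f i).op _ = (sheafify J (P F)).map (f i).op g
  rw [← η_res, inP_res, htt i, inP_map, ht, hs']

/-- the standard colimit cocone (sheafification of the presheaf colimit) -/
abbrev stdCocone : Cocone F := Sheaf.sheafifyCocone (colimit.cocone (Fp F))

/-- the standard cocone is a colimit -/
def stdIsColimit : IsColimit (stdCocone F) :=
  Sheaf.isColimitSheafifyCocone _ (colimit.isColimit _)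

omit [IsFiltered I] [HasPullbacks C] in
lemma std_ι_apply (i : I) (V : C) (t : (F.obj i).obj.obj (op V)) :
    ((stdCocone F).ι.app i).hom.app (op V) t =
      (toSheafify J (P F)).app (op V) (inP F i V t) := by
  have := Sheaf.sheafifyCocone_ι_app_val (colimit.cocone (Fp F)) i
  exact ConcreteCategory.congr_hom (NatTrans.congr_app this (op V)) t

include hpb h2 in
/-- sections over a member of `B` commute with filtered colimits of sheaves of sets. -/
theorem preservesColimit_sections {V : C} (hV : V ∈ B) :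
    PreservesColimit F (sheafToPresheaf J (Type (u + 1)) ⋙
      (evaluation Cᵒᵖ (Type (u + 1))).obj (op V)) := by
  apply preservesColimit_of_preserves_colimit_cocone (stdIsColimit F)
  refine Types.FilteredColimit.isColimitOf' _ _ ?_ ?_
  · intro x
    obtain ⟨s, hs⟩ := toSheafify_surj F B hpb h2 hV x
    obtain ⟨i, t, rfl⟩ := inP_surj F V s
    exact ⟨i, t, hs.symm.trans (std_ι_apply F i V t).symm⟩
  · intro i t t' h
    apply inP_eq
    apply toSheafify_inj F B h2 hV
    rw [← std_ι_apply, ← std_ι_apply]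
    exact h

end Groth.Agent.Lib.Helper5.SiteColimSectionsType
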