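import Mathlib
import Groth.Prelude.Def_ProEtS
import Groth.Agent.Lib.Helper5.OverProdProp
import Groth.Agent.Lib.Helper5.SmallModelH

set_option autoImplicit false
universe u
open CategoryTheory CategoryTheory.Limits AlgebraicGeometry Opposite

/-!
# The qcqs objects of the small pro-étale site
-/

namespace Groth.Agent.Lib.Helper5.ProEtQcqs

variable (X : Scheme.{u})

/-- The morphism property "weakly étale", as a term. -/
abbrev weMP : MorphismProperty Scheme.{u} := @WeaklyEtale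

/-- The quasi-compact quasi-separated objects. -/
def Bq : Set X.ProEt := {U | CompactSpace U.left ∧ QuasiSeparatedSpace U.left}

/-- The forgetful functor to schemes. -/
abbrev toSch : X.ProEt ⥤ Scheme.{u} := Scheme.ProEt.forget X ⋙ Over.forget X

variable {X}

lemma Bq_iso ⦃U V : X.ProEt⦄ (e : U ≅ V) (h : U ∈ Bq X) : V ∈ Bq X := by
  obtain ⟨h1, h2⟩ := h
  let e' : U.left ≅ V.left := (toSch X).mapIso e
  let t : (U.left : Type u) ≃ₜ (V.left : Type u) := Scheme.homeoOfIso e'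
  exact ⟨t.compactSpace, (quasiSeparatedSpace_congr t).1 h2⟩

lemma Bq_pullback ⦃A B C : X.ProEt⦄ (f : A ⟶ C) (g : B ⟶ C) (hA : A ∈ Bq X) (hB : B ∈ Bq X)
    (hC : C ∈ Bq X) : pullback f g ∈ Bq X := by
  obtain ⟨hA1, hA2⟩ := hA
  obtain ⟨hB1, hB2⟩ := hB
  obtain ⟨hC1, hC2⟩ := hC
  let e : (pullback f g).left ≅ pullback f.left g.left :=
    PreservesPullback.iso (toSch X) f g
  let t : ((pullback f g).left : Type u) ≃ₜ (↑(pullback f.left g.left) : Type u) :=
    Scheme.homeoOfIso e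
  haveI : QuasiCompact f.left := inferInstance
  haveI : QuasiSeparated f.left := inferInstance
  haveI : CompactSpace ↑(pullback f.left g.left) := inferInstance
  haveI : QuasiSeparatedSpace ↑(pullback f.left g.left) :=
    quasiSeparatedSpace_of_quasiSeparated (pullback.snd f.left g.left)
  exact ⟨t.symm.compactSpace, (quasiSeparatedSpace_congr t).2 inferInstance⟩

variable (X)

/-- Finite pro-étale coverings of qcqs objects by qcqs objects. -/
def Cov (U : X.ProEt) (ι : Type (u + 1)) (Y : ι → Over U) : Prop :=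
  Finite ι ∧ U ∈ Bq X ∧ (∀ i, (Y i).left ∈ Bq X) ∧
    Sieve.ofArrows (fun i => (Y i).left) (fun i => (Y i).hom) ∈ Scheme.ProEt.topology X U

open Groth.Agent.Lib.Helper5.SmallModelH in
lemma h1 (U : X.ProEt) (ι : Type (u + 1)) (Y : ι → Over U) (h : Cov X U ι Y) :
    Finite ι ∧ U ∈ Bq X ∧
      Sieve.ofArrows (fun i => (Y i).left) (fun i => (Y i).hom) ∈ Scheme.ProEt.topology X U ∧
      ∀ (p : ℕ) (a : Fin (p + 1) → ι), (∏ᶜ fun k => Y (a k)).left ∈ Bq X := by
  obtain ⟨hf, hU, hY, hc⟩ := h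
  refine ⟨hf, hU, hc, fun p a => ?_⟩
  exact OverProdProp.prod_left (· ∈ Bq X) Bq_iso Bq_pullback U hU (p + 1) (fun k => Y (a k))
    (fun k => hY _)

set_option backward.isDefEq.respectTransparency.types false in
lemma h2a (U : X.ProEt) (S : Sieve U)
    (hS : S ∈ Scheme.ProEt.topology X U) :
    ∃ R ∈ Scheme.ProEt.precoverage X U, R ≤ S.arrows := by
  haveI : (Scheme.ProEt.precoverage X).IsStableUnderComposition := by
    unfold Scheme.ProEt.precoverage; infer_instance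
  haveI : (Scheme.ProEt.precoverage X).IsStableUnderBaseChange := by
    unfold Scheme.ProEt.precoverage; infer_instance
  haveI : (Scheme.ProEt.precoverage X).HasIsos := by
    unfold Scheme.ProEt.precoverage; infer_instance
  exact Precoverage.mem_toGrothendieck_iff_of_isStableUnderComposition.1 hS

set_option backward.isDefEq.respectTransparency.types false in
lemma h2b (U : X.ProEt) [CompactSpace U.left] (R : Presieve U)
    (hR : R ∈ Scheme.ProEt.precoverage X U) :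
    ∃ (𝒰 : Scheme.Cover.{u + 1} (Scheme.precoverage weMP.{u}) U.left)
      (𝒱 : Scheme.AffineCover.{u + 1} weMP.{u} U.left) (f : 𝒱.cover ⟶ 𝒰),
      Finite 𝒱.I₀ ∧ R.map (toSch X) = 𝒰.presieve₀ := by
  have hR' : R.map (toSch X) ∈ Scheme.propQCPrecoverage weMP.{u} U.left := hR
  obtain ⟨𝒰, h𝒰, heq⟩ := Scheme.mem_propQCPrecoverage_iff_exists_quasiCompactCover.1 hR'
  obtain ⟨𝒱, f, hfin, -⟩ := QuasiCompactCover.exists_hom.{u + 1} 𝒰
  exact ⟨𝒰, 𝒱, f, hfin, heq⟩

lemma eqToHom_aux {C : Type*} [Category C] {A B B' D : C} (p : A ⟶ B) (h : B' = B) (q : B ⟶ D) :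
    (p ≫ eqToHom h.symm) ≫ (eqToHom h ≫ q) = p ≫ q := by
  subst h
  simp

set_option backward.isDefEq.respectTransparency.types false in
lemma h2 (U : X.ProEt) (hU : U ∈ Bq X) (S : Sieve U)
    (hS : S ∈ Scheme.ProEt.topology X U) :
    ∃ (ι : Type (u + 1)) (Y : ι → Over U), Cov X U ι Y ∧ ∀ i, S.arrows (Y i).hom := by
  obtain ⟨hU1, hU2⟩ := hU
  obtain ⟨R, hR, hle⟩ := h2a X U S hS
  obtain ⟨𝒰, 𝒱, f, hfin, heq⟩ := h2b X U R hR
  have hmem : ∀ i : 𝒰.I₀, ∃ (Z : X.ProEt) (h : (toSch X).obj Z = 𝒰.X i) (g : Z ⟶ U),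
      R g ∧ (toSch X).map g = eqToHom h ≫ 𝒰.f i := by
    intro i
    have : (R.map (toSch X)) (𝒰.f i) := by
      rw [heq]
      exact ⟨i⟩
    exact Presieve.map_iff.1 this
  choose Z hZ g hg1 hg2 using hmem
  haveI : ∀ j, WeaklyEtale (𝒱.f j) := fun j => 𝒱.map_prop j
  let W : 𝒱.I₀ → X.ProEt := fun j => Scheme.ProEt.mk (𝒱.f j ≫ U.hom)
  let a : ∀ j, W j ⟶ U := fun j => MorphismProperty.Over.homMk (𝒱.f j) rfl trivial
  refine ⟨𝒱.I₀, fun j => Over.mk (a j), ⟨hfin, ⟨hU1, hU2⟩, ?_, ?_⟩, ?_⟩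
  · intro j
    change CompactSpace (Spec (𝒱.X j)) ∧ QuasiSeparatedSpace (Spec (𝒱.X j))
    exact ⟨inferInstance, inferInstance⟩
  · apply Precoverage.generate_mem_toGrothendieck
    change (Presieve.ofArrows (fun j => W j) a).map (toSch X) ∈
      Scheme.proetalePrecoverage U.left
    rw [Presieve.map_ofArrows]
    haveI : ∀ j, QuasiCompact (𝒱.cover.f j) := fun j =>
      @quasiCompact_of_compactSpace (Spec (𝒱.X j)) U.left (𝒱.f j) inferInstance hU2
    haveI : Finite 𝒱.cover.I₀ := hfin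
    have hqc : QuasiCompactCover 𝒱.cover.toPreZeroHypercover := QuasiCompactCover.of_finite
    exact ⟨Scheme.presieve₀_mem_qcPrecoverage_iff.2 hqc, 𝒱.cover.mem₀⟩
  · intro j
    have hw : f.h₀ j ≫ 𝒰.f (f.s₀ j) = 𝒱.f j := f.w₀ j
    have hgl : (g (f.s₀ j)).left = eqToHom (hZ (f.s₀ j)) ≫ 𝒰.f (f.s₀ j) := hg2 (f.s₀ j)
    have hZhom : (g (f.s₀ j)).left ≫ U.hom = (Z (f.s₀ j)).hom :=
      MorphismProperty.Over.w (g (f.s₀ j))
    have key : (f.h₀ j ≫ eqToHom (hZ (f.s₀ j)).symm) ≫ (g (f.s₀ j)).left = 𝒱.f j := by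
      rw [hgl]
      exact (eqToHom_aux (f.h₀ j) (hZ (f.s₀ j)) (𝒰.f (f.s₀ j))).trans hw
    let k : W j ⟶ Z (f.s₀ j) :=
      MorphismProperty.Over.homMk (f.h₀ j ≫ eqToHom (hZ (f.s₀ j)).symm) (by
        change (f.h₀ j ≫ eqToHom _) ≫ (Z (f.s₀ j)).hom = 𝒱.f j ≫ U.hom
        rw [← hZhom, ← Category.assoc]
        exact congrArg (fun t => t ≫ U.hom) key) trivial
    have hak : a j = k ≫ g (f.s₀ j) := by
      apply MorphismProperty.Over.Hom.ext
      exact key.symm
    change S.arrows (a j)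
    rw [hak]
    exact S.downward_closed (hle _ _ (hg1 _)) k

/-- `X` itself as an object of the pro-étale site. -/
noncomputable def top : X.ProEt := Scheme.ProEt.mk (𝟙 X)

/-- `X` is the terminal object of its pro-étale site. -/
noncomputable def topIsTerminal : IsTerminal (top X) :=
  MorphismProperty.Over.mkIdTerminal weMP.{u} X

lemma top_mem [CompactSpace X] [QuasiSeparatedSpace X] : top X ∈ Bq X :=
  ⟨‹_›, ‹_›⟩

end Groth.Agent.Lib.Helper5.ProEtQcqs
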