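import Groth.Agent.Lib.Helper5.SheafGlue2

/-!
# Helper5: extension of sections of the structure sheaf (Hartogs), affine algebraic core

If `V` is an affine open of a scheme, `a, b ∈ Γ(V)` with `a` a nonzerodivisor and `b` a
nonzerodivisor modulo `a`, and `U` an open containing `D(a)` and `D(b)`, then
`Γ(V) → Γ(V ⊓ U)` is bijective.
-/

set_option autoImplicit false
universe u

open CategoryTheory AlgebraicGeometry TopologicalSpace Opposite

namespace Groth.Agent.Lib.Helper5.Hartogs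

variable {X : Scheme.{u}}

/-- Restriction of sections of the structure sheaf. -/
noncomputable abbrev rs {V W : X.Opens} (h : W ≤ V) : Γ(X, V) →+* Γ(X, W) :=
  (X.presheaf.map (homOfLE h).op).hom

theorem rs_rs {V W W' : X.Opens} (h1 : W ≤ V) (h2 : W' ≤ W) (s : Γ(X, V)) :
    rs h2 (rs h1 s) = rs (h2.trans h1) s := by
  simp only [rs]
  rw [← CommRingCat.comp_apply, ← Functor.map_comp]; rfl

section Affine

variable {V : X.Opens} (hV : IsAffineOpen V)

include hV in
theorem rs_basicOpen_eq_zero_iff (f s : Γ(X, V)) :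
    rs (X.basicOpen_le f) s = 0 ↔ ∃ n : ℕ, f ^ n * s = 0 := by
  have := hV.isLocalization_basicOpen f
  have h := IsLocalization.map_eq_zero_iff (Submonoid.powers f) Γ(X, X.basicOpen f) s
  change rs (X.basicOpen_le f) s = 0 ↔ _ at h
  rw [h]
  constructor
  · rintro ⟨⟨_, n, rfl⟩, hn⟩
    exact ⟨n, hn⟩
  · rintro ⟨n, hn⟩
    exact ⟨⟨f ^ n, n, rfl⟩, hn⟩

include hV in
theorem exists_rs_basicOpen (f : Γ(X, V)) (t : Γ(X, X.basicOpen f)) :
    ∃ (n : ℕ) (x : Γ(X, V)), t * rs (X.basicOpen_le f) (f ^ n) = rs (X.basicOpen_le f) x := by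
  have := hV.isLocalization_basicOpen f
  obtain ⟨⟨x, ⟨_, n, rfl⟩⟩, h⟩ := IsLocalization.surj (Submonoid.powers f) t
  exact ⟨n, x, h⟩

theorem isUnit_rs_basicOpen (f : Γ(X, V)) : IsUnit (rs (X.basicOpen_le f) f) :=
  X.toRingedSpace.isUnit_res_basicOpen f

end Affine

section Alg

variable {A : Type*} [CommRing A] {a b : A}

theorem pow_mul_eq_zero (ha : ∀ z, a * z = 0 → z = 0) (n : ℕ) (z : A) (h : a ^ n * z = 0) :
    z = 0 := by
  induction n with
  | zero => simpa using h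
  | succ n ih =>
    apply ih
    apply ha
    rw [← mul_assoc, ← pow_succ']
    exact h

theorem pow_dvd_of_pow_dvd_mul (ha : ∀ z, a * z = 0 → z = 0) (hb : ∀ z, a ∣ b * z → a ∣ z)
    (n : ℕ) : ∀ z, a ^ n ∣ b * z → a ^ n ∣ z := by
  induction n with
  | zero => intro z _; rw [pow_zero]; exact one_dvd z
  | succ n ih =>
    intro z hz
    have h1 : a ∣ b * z := dvd_trans (dvd_pow_self a (Nat.succ_ne_zero n)) hz
    obtain ⟨z', rfl⟩ := hb z h1
    obtain ⟨w, hw⟩ := hz
    have h2 : b * z' = a ^ n * w := by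
      have : a * (b * z' - a ^ n * w) = 0 := by
        rw [mul_sub, ← mul_assoc a (a ^ n), ← pow_succ', ← hw]; ring
      exact sub_eq_zero.mp (ha _ this)
    obtain ⟨v, hv⟩ := ih z' ⟨w, h2⟩
    exact ⟨v, by rw [hv, pow_succ']; ring⟩

theorem pow_dvd_of_pow_dvd_pow_mul (ha : ∀ z, a * z = 0 → z = 0) (hb : ∀ z, a ∣ b * z → a ∣ z)
    (n j : ℕ) : ∀ z, a ^ n ∣ b ^ j * z → a ^ n ∣ z := by
  induction j with
  | zero => intro z hz; simpa using hz
  | succ j ih =>
    intro z hz
    apply ih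
    apply pow_dvd_of_pow_dvd_mul ha hb n
    rw [← mul_assoc, ← pow_succ']
    exact hz

end Alg

section Main

variable {V U : X.Opens} (hV : IsAffineOpen V) {a b : Γ(X, V)}

include hV in
/-- A nonzerodivisor on `Γ(V)` stays a nonzerodivisor on `Γ(D(f))`. -/
theorem rs_mul_eq_zero (ha : ∀ z, a * z = 0 → z = 0) (f : Γ(X, V)) (z' : Γ(X, X.basicOpen f))
    (h : rs (X.basicOpen_le f) a * z' = 0) : z' = 0 := by
  obtain ⟨n, x, hx⟩ := exists_rs_basicOpen hV f z'
  have h1 : rs (X.basicOpen_le f) (a * x) = 0 := by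
    rw [map_mul, ← hx, ← mul_assoc, h, zero_mul]
  obtain ⟨k, hk⟩ := (rs_basicOpen_eq_zero_iff hV f (a * x)).mp h1
  have h2 : f ^ k * x = 0 := by
    apply ha
    rw [← hk]; ring
  have h3 : rs (X.basicOpen_le f) x = 0 := (rs_basicOpen_eq_zero_iff hV f x).mpr ⟨k, h2⟩
  rw [h3, map_pow] at hx
  exact ((isUnit_rs_basicOpen f).pow n).mul_left_eq_zero.mp hx

include hV in
/-- A section over an open subset `W` of the affine `V` which vanishes on `D(a)`, `a` a
nonzerodivisor, is zero. -/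
theorem eq_zero_of_rs_basicOpen_eq_zero (ha : ∀ z, a * z = 0 → z = 0) {W : X.Opens} (hWV : W ≤ V)
    (haW : X.basicOpen a ≤ W) (d : Γ(X, W)) (hd : rs haW d = 0) : d = 0 := by
  have hcov : ∀ w : W, ∃ f : Γ(X, V), X.basicOpen f ≤ W ∧ (w : X) ∈ X.basicOpen f :=
    fun w => hV.exists_basicOpen_le w (hWV w.2)
  choose f hfW hwf using hcov
  refine X.sheaf.eq_of_locally_eq' (fun w : W => X.basicOpen (f w)) W
    (fun w => homOfLE (hfW w)) (fun x hx => ?_) d 0 (fun w => ?_)
  · exact Opens.mem_iSup.mpr ⟨⟨x, hx⟩, hwf ⟨x, hx⟩⟩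
  · change rs (hfW w) d = rs (hfW w) 0
    rw [map_zero]
    have hVf : IsAffineOpen (X.basicOpen (f w)) := hV.basicOpen (f w)
    have hle : X.basicOpen (rs (X.basicOpen_le (f w)) a) ≤ X.basicOpen a := by
      rw [Scheme.basicOpen_res]; exact inf_le_right
    have h0 : rs (X.basicOpen_le (rs (X.basicOpen_le (f w)) a)) (rs (hfW w) d) = 0 := by
      rw [rs_rs, ← rs_rs haW hle, hd, map_zero]
    obtain ⟨N, hN⟩ := (rs_basicOpen_eq_zero_iff hVf _ _).mp h0
    exact pow_mul_eq_zero (rs_mul_eq_zero hV ha (f w)) N _ hN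

include hV in
/-- **Hartogs extension, affine core.** -/
theorem bijective_of_regular (ha : ∀ z, a * z = 0 → z = 0) (hb : ∀ z, a ∣ b * z → a ∣ z)
    (haU : X.basicOpen a ≤ U) (hbU : X.basicOpen b ≤ U) :
    Function.Bijective (rs (inf_le_left : V ⊓ U ≤ V)) := by
  have hDa : X.basicOpen a ≤ V ⊓ U := le_inf (X.basicOpen_le a) haU
  have hDb : X.basicOpen b ≤ V ⊓ U := le_inf (X.basicOpen_le b) hbU
  constructor
  · rw [injective_iff_map_eq_zero]
    intro s hs
    have h1 : rs (X.basicOpen_le a) s = 0 := by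
      rw [← rs_rs inf_le_left hDa, hs, map_zero]
    obtain ⟨n, hn⟩ := (rs_basicOpen_eq_zero_iff hV a s).mp h1
    exact pow_mul_eq_zero ha n s hn
  · intro t
    obtain ⟨n, x, hx⟩ := exists_rs_basicOpen hV a (rs hDa t)
    obtain ⟨m, y, hy⟩ := exists_rs_basicOpen hV b (rs hDb t)
    have hab_a : X.basicOpen (a * b) ≤ X.basicOpen a := by
      rw [Scheme.basicOpen_mul]; exact inf_le_left
    have hab_b : X.basicOpen (a * b) ≤ X.basicOpen b := by
      rw [Scheme.basicOpen_mul]; exact inf_le_right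
    -- compare on `D(ab)`
    have hx' := congrArg (rs hab_a) hx
    have hy' := congrArg (rs hab_b) hy
    rw [map_mul, rs_rs, rs_rs, rs_rs] at hx' hy'
    have h1 : rs (X.basicOpen_le (a * b)) (x * b ^ m - y * a ^ n) = 0 := by
      rw [map_sub, map_mul, map_mul]
      have e1 : rs ((hab_a.trans (X.basicOpen_le a))) x = rs (X.basicOpen_le (a * b)) x := rfl
      have e2 : rs ((hab_b.trans (X.basicOpen_le b))) y = rs (X.basicOpen_le (a * b)) y := rfl
      have e3 : rs (hab_a.trans hDa) t = rs (hab_b.trans hDb) t := rfl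
      have e4 : rs ((hab_a.trans (X.basicOpen_le a))) (a ^ n) =
          rs (X.basicOpen_le (a * b)) (a ^ n) := rfl
      have e5 : rs ((hab_b.trans (X.basicOpen_le b))) (b ^ m) =
          rs (X.basicOpen_le (a * b)) (b ^ m) := rfl
      rw [e1, e4] at hx'
      rw [e2, e5, ← e3] at hy'
      rw [← hx', ← hy']
      ring
    obtain ⟨k, hk⟩ := (rs_basicOpen_eq_zero_iff hV (a * b) _).mp h1
    have h2 : b ^ (k + m) * x = a ^ n * (b ^ k * y) := by
      have : a ^ k * (b ^ (k + m) * x - a ^ n * (b ^ k * y)) = 0 := by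
        rw [← hk, mul_pow, pow_add]; ring
      exact sub_eq_zero.mp (pow_mul_eq_zero ha k _ this)
    obtain ⟨r, hr⟩ := pow_dvd_of_pow_dvd_pow_mul ha hb n (k + m) x ⟨_, h2⟩
    -- `t` and `r` agree on `D(a)`
    have h3 : rs hDa t = rs (X.basicOpen_le a) r := by
      have hu : IsUnit (rs (X.basicOpen_le a) (a ^ n)) := by
        rw [map_pow]; exact (isUnit_rs_basicOpen a).pow n
      apply hu.mul_left_injective
      change rs hDa t * _ = rs (X.basicOpen_le a) r * _
      rw [hx, hr, map_mul, mul_comm]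
    refine ⟨r, ?_⟩
    have h4 : rs hDa (rs (inf_le_left : V ⊓ U ≤ V) r - t) = 0 := by
      rw [map_sub, rs_rs, h3]
      exact sub_self _
    exact sub_eq_zero.mp
      (eq_zero_of_rs_basicOpen_eq_zero hV ha (inf_le_left : V ⊓ U ≤ V) hDa _ h4)

end Main

end Groth.Agent.Lib.Helper5.Hartogs
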