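import Groth.Agent.Lib.Helper2.DCoprod
import Mathlib.Algebra.Homology.DerivedCategory.HomologySequence

/-!
# Homology commutes with coproducts in the derived category (helper5)

For an abelian category `A` with exact coproducts of shape `J`:
* `isColimitHomologySigmaSC`: homology of a coproduct of short complexes;
* `preservesColimit_homologyFunctor_complex`: `H^n` on cochain complexes preserves coproducts;
* `preservesColimit_homologyFunctor`: `H^n : D(A) ⥤ A` preserves coproducts.
-/

set_option autoImplicit false
universe w v u
open CategoryTheory CategoryTheory.Limits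

namespace Groth.Agent.Lib.Helper5.DHomCoprod

open Groth.Agent.Lib.Helper2.DCoprod

section SC

variable {A : Type u} [Category.{v} A] [Abelian A] {J : Type w}
  [HasColimitsOfShape (Discrete J) A] [HasExactColimitsOfShape (Discrete J) A]

/-- the natural transformation `ev_j ⟶ colim` given by the coprojections -/
noncomputable def ιNat (j : J) :
    (evaluation (Discrete J) A).obj ⟨j⟩ ⟶ (colim : (Discrete J ⥤ A) ⥤ A) where
  app G := colimit.ι G ⟨j⟩
  naturality G G' f := by
    simp

/-- the inclusion `S j ⟶ ∐ S` of short complexes -/
noncomputable def ιSigmaSC (S : J → ShortComplex A) (j : J) :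
    (famSC S).map ((evaluation (Discrete J) A).obj ⟨j⟩) ⟶ sigmaSC S :=
  (famSC S).mapNatTrans (ιNat j)

/-- homology commutes with exact coproducts of short complexes -/
noncomputable def isColimitHomologySigmaSC (S : J → ShortComplex A) :
    IsColimit (Cofan.mk (sigmaSC S).homology
      (fun j => ShortComplex.homologyMap (ιSigmaSC S j))) := by
  haveI : (colim : (Discrete J ⥤ A) ⥤ A).PreservesHomology := inferInstance
  let T := famSC S
  let e : Discrete.functor (fun j => (T.map ((evaluation (Discrete J) A).obj ⟨j⟩)).homology) ≅
      T.homology :=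
    Discrete.natIso (fun j => T.mapHomologyIso ((evaluation (Discrete J) A).obj ⟨j.as⟩))
  have hc := (IsColimit.precomposeHomEquiv e _).symm (colimit.isColimit T.homology)
  refine IsColimit.ofIsoColimit hc (Cocone.ext (T.mapHomologyIso colim).symm ?_)
  rintro ⟨j⟩
  have h := ShortComplex.homologyMap_mapNatTrans T (ιNat j)
  change (e.hom.app ⟨j⟩ ≫ colimit.ι T.homology ⟨j⟩) ≫ (T.mapHomologyIso colim).inv =
    ShortComplex.homologyMap (T.mapNatTrans (ιNat j))
  rw [h, Category.assoc]
  rfl

end SC

section Complexes

variable {A : Type u} [Category.{v} A] [Abelian A] {J : Type w}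
  [HasColimitsOfShape (Discrete J) A] [HasExactColimitsOfShape (Discrete J) A]

lemma shortComplexFunctor_map_ι (L : J → CochainComplex A ℤ) (n : ℤ) (j : J) :
    (HomologicalComplex.shortComplexFunctor A (ComplexShape.up ℤ) n).map (Sigma.ι L j) =
      ιSigmaSC (fun j => (L j).sc n) j ≫ (scIso L n).hom := by
  apply ShortComplex.hom_ext
  · exact (ι_cmp L _ j).symm
  · exact (ι_cmp L _ j).symm
  · exact (ι_cmp L _ j).symm

/-- `H^n` of a coproduct of cochain complexes is the coproduct of the `H^n`. -/
noncomputable def isColimitHomologySigma (L : J → CochainComplex A ℤ) (n : ℤ) :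
    IsColimit (Cofan.mk ((∐ L).homology n)
      (fun j => HomologicalComplex.homologyMap (Sigma.ι L j) n)) := by
  have hc := isColimitHomologySigmaSC (fun j => (L j).sc n)
  refine IsColimit.ofIsoColimit hc
    (Cocone.ext (ShortComplex.homologyMapIso (scIso L n)) ?_)
  rintro ⟨j⟩
  change ShortComplex.homologyMap (ιSigmaSC (fun j => (L j).sc n) j) ≫
    ShortComplex.homologyMap (scIso L n).hom =
    ShortComplex.homologyMap
      ((HomologicalComplex.shortComplexFunctor A (ComplexShape.up ℤ) n).map (Sigma.ι L j))
  rw [shortComplexFunctor_map_ι]
  exact (ShortComplex.homologyMap_comp _ _).symm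

instance preservesColimit_homologyFunctor_complex (L : J → CochainComplex A ℤ) (n : ℤ) :
    PreservesColimit (Discrete.functor L)
      (HomologicalComplex.homologyFunctor A (ComplexShape.up ℤ) n) := by
  refine preservesColimit_of_preserves_colimit_cocone (coproductIsCoproduct L) ?_
  exact (isColimitMapCoconeCofanMkEquiv _ _ _).symm (isColimitHomologySigma L n)

end Complexes

section Derived

variable {A : Type u} [Category.{v} A] [Abelian A] [HasDerivedCategory.{w} A] {J : Type w}
  [HasColimitsOfShape (Discrete J) A] [HasExactColimitsOfShape (Discrete J) A]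

open DerivedCategory

instance preservesColimit_Q (L : J → CochainComplex A ℤ) :
    PreservesColimit (Discrete.functor L) (Q (C := A)) :=
  preservesColimit_of_preserves_colimit_cocone (coproductIsCoproduct L)
    ((isColimitMapCoconeCofanMkEquiv _ _ _).symm (isColimitCofanQ L))

/-- if `F` and `F ⋙ G` preserve the colimit of `K`, then `G` preserves the colimit of `K ⋙ F` -/
lemma preservesColimit_of_comp {C D E I : Type*} [Category C] [Category D] [Category E]
    [Category I] (K : I ⥤ C) (F : C ⥤ D) (G : D ⥤ E) [HasColimit K]
    [PreservesColimit K F] [PreservesColimit K (F ⋙ G)] : PreservesColimit (K ⋙ F) G := by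
  refine preservesColimit_of_preserves_colimit_cocone
    (isColimitOfPreserves F (colimit.isColimit K)) ?_
  exact isColimitOfPreserves (F ⋙ G) (colimit.isColimit K)

instance preservesColimit_homologyFunctor_comp_Q (L : J → CochainComplex A ℤ) (n : ℤ) :
    PreservesColimit (Discrete.functor L ⋙ Q) (homologyFunctor A n) := by
  haveI : PreservesColimit (Discrete.functor L) (Q ⋙ homologyFunctor A n) :=
    preservesColimit_of_natIso _ (homologyFunctorFactors A n).symm
  exact preservesColimit_of_comp _ _ _

/-- `H^n : D(A) ⥤ A` preserves coproducts. -/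
instance preservesColimit_homologyFunctor (y : J → DerivedCategory A) (n : ℤ) :
    PreservesColimit (Discrete.functor y) (homologyFunctor A n) := by
  let L : J → CochainComplex A ℤ := fun j => Q.objPreimage (y j)
  have e : Discrete.functor L ⋙ Q ≅ Discrete.functor y :=
    Discrete.natIso (fun j => Q.objObjPreimageIso (y j.as))
  exact preservesColimit_of_iso_diagram _ e

instance preservesColimitsOfShape_homologyFunctor (n : ℤ) :
    PreservesColimitsOfShape (Discrete J) (homologyFunctor A n) :=
  ⟨fun {F} => preservesColimit_of_iso_diagram _ (Discrete.natIsoFunctor (F := F)).symm⟩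

/-- variant for an index type in another universe -/
lemma preservesColimitsOfShape_homologyFunctor_of_equiv {J' : Type*} (e : J ≃ J') (n : ℤ) :
    PreservesColimitsOfShape (Discrete J') (homologyFunctor A n) :=
  preservesColimitsOfShape_of_equiv (Discrete.equivalence e) _

/-- `singleFunctor A n : A ⥤ D(A)` preserves coproducts. -/
instance preservesColimit_singleFunctor (E : J → A) (n : ℤ) :
    PreservesColimit (Discrete.functor E) (DerivedCategory.singleFunctor A n) := by
  haveI : PreservesColimit (Discrete.functor E ⋙ CochainComplex.singleFunctor A n) (Q (C := A)) :=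
    preservesColimit_of_iso_diagram _
      (Discrete.compNatIsoDiscrete E (CochainComplex.singleFunctor A n)).symm
  haveI : PreservesColimitsOfShape (Discrete J) (CochainComplex.singleFunctor A n) :=
    inferInstanceAs (PreservesColimitsOfShape (Discrete J)
      (HomologicalComplex.single A (ComplexShape.up ℤ) n))
  haveI : PreservesColimit (Discrete.functor E) (CochainComplex.singleFunctor A n ⋙ Q) :=
    comp_preservesColimit _ _
  exact preservesColimit_of_natIso _ (singleFunctorIsoCompQ A n).symm

instance preservesColimitsOfShape_singleFunctor (n : ℤ) :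
    PreservesColimitsOfShape (Discrete J) (DerivedCategory.singleFunctor A n) :=
  ⟨fun {F} => preservesColimit_of_iso_diagram _ (Discrete.natIsoFunctor (F := F)).symm⟩

end Derived

section Nat

variable {A : Type u} [Category.{v} A] [Abelian A] [HasDerivedCategory.{w} A]
  [HasColimitsOfShape (Discrete (ULift.{w} ℕ)) A]
  [HasExactColimitsOfShape (Discrete (ULift.{w} ℕ)) A]

lemma preservesColimitsOfShape_nat_homologyFunctor (n : ℤ) :
    PreservesColimitsOfShape (Discrete ℕ) (DerivedCategory.homologyFunctor A n) :=
  preservesColimitsOfShape_homologyFunctor_of_equiv (J := ULift.{w} ℕ) Equiv.ulift n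

end Nat

end Groth.Agent.Lib.Helper5.DHomCoprod
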