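import Mathlib
import Groth.Prelude.Def_CohDer
import Groth.Agent.Lib.Helper2.CompactEnv
import Groth.Agent.Lib.Helper5.DHomCoprod

/-!
# Finite support of maps into coproducts: dévissage along distinguished triangles
-/

set_option autoImplicit false
universe v u
open CategoryTheory CategoryTheory.Limits CategoryTheory.Pretriangulated
open Groth.Agent.Lib.Helper2.CompactEnv

namespace Groth.Agent.Lib.Helper5.CompactBdd

section General

variable {D : Type u} [Category.{v} D] [Preadditive D] {κ : Type v}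
  {X X' : κ → D} [HasCoproduct X] [HasCoproduct X']

lemma IsFin.comp_sigmaMap (f : ∀ k, X k ⟶ X' k) {C : D} {φ : C ⟶ ∐ X} (h : IsFin X φ) :
    IsFin X' (φ ≫ Limits.Sigma.map f) := by
  unfold IsFin at h
  induction h using AddSubgroup.closure_induction with
  | mem ψ hψ =>
    obtain ⟨k, g, rfl⟩ := hψ
    rw [Category.assoc, Limits.Sigma.ι_map, ← Category.assoc]
    exact isFin_comp_ι k _
  | zero => rw [zero_comp]; exact zero_mem _
  | add a b _ _ ha hb => rw [Preadditive.add_comp]; exact add_mem ha hb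
  | neg a _ ha => rw [Preadditive.neg_comp]; exact neg_mem ha

lemma sigmaMap_sigmaπ (f : ∀ k, X k ⟶ X' k) (k : κ) :
    Limits.Sigma.map f ≫ sigmaπ X' k = sigmaπ X k ≫ f k := by
  classical
  apply Sigma.hom_ext
  intro j
  rw [Limits.Sigma.ι_map_assoc]
  by_cases h : j = k
  · subst h
    rw [ι_sigmaπ_self, ι_sigmaπ_self_assoc, Category.comp_id]
  · rw [ι_sigmaπ_of_ne X' h, ι_sigmaπ_of_ne_assoc X h, comp_zero, zero_comp]

lemma sigmaMap_compl (f : ∀ k, X k ⟶ X' k) (F : Finset κ) :
    Limits.Sigma.map f ≫ Groth.Agent.Lib.Helper2.CompactEnv.compl X' F =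
      Groth.Agent.Lib.Helper2.CompactEnv.compl X F ≫ Limits.Sigma.map f := by
  classical
  unfold Groth.Agent.Lib.Helper2.CompactEnv.compl
  rw [Preadditive.comp_sub, Preadditive.sub_comp, Category.comp_id, Category.id_comp,
    Preadditive.comp_sum, Preadditive.sum_comp]
  congr 1
  refine Finset.sum_congr rfl (fun k _ => ?_)
  rw [← Category.assoc, sigmaMap_sigmaπ, Category.assoc, Category.assoc, Limits.Sigma.ι_map]

open Classical in
/-- Finite support of all maps into a coproduct gives bijectivity of the comparison map. -/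
lemma bijective_of_isFin {C : D} (h : ∀ φ : C ⟶ ∐ X, IsFin X φ) :
    Function.Bijective (CohDer.homSumToHomCoprod C X) := by
  constructor
  · rw [injective_iff_map_eq_zero]
    intro x hx
    refine DFinsupp.ext (fun j => ?_)
    rw [← homSumToHomCoprod_comp_sigmaπ, hx, zero_comp]
    rfl
  · intro φ
    have hle : AddSubgroup.closure
        {ψ : C ⟶ ∐ X | ∃ (k : κ) (g : C ⟶ X k), ψ = g ≫ Sigma.ι X k} ≤
        (CohDer.homSumToHomCoprod C X).range := by
      rw [AddSubgroup.closure_le]
      rintro _ ⟨k, g, rfl⟩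
      exact ⟨DirectSum.of _ k g, homSumToHomCoprod_of C X k g⟩
    exact hle (h φ)

end General

section Triangulated

variable {D : Type u} [Category.{v} D] [Preadditive D] [HasZeroObject D] [HasShift D ℤ]
  [∀ n : ℤ, (shiftFunctor D n).Additive] [Pretriangulated D] {κ : Type v}

/-- Dévissage: finite support of maps into the coproducts of the outer terms of a family of
distinguished triangles implies it for the middle terms. -/
lemma isFin_of_triangles (T : κ → Triangle D) (hT : ∀ j, T j ∈ distTriang D)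
    [HasCoproduct (fun j => (T j).obj₁)] [HasCoproduct (fun j => (T j).obj₂)]
    [HasCoproduct (fun j => (T j).obj₃)] (Y : D)
    (h₁ : ∀ φ : Y ⟶ ∐ (fun j => (T j).obj₁), IsFin _ φ)
    (h₃ : ∀ φ : Y ⟶ ∐ (fun j => (T j).obj₃), IsFin _ φ)
    (φ : Y ⟶ ∐ (fun j => (T j).obj₂)) : IsFin _ φ := by
  classical
  obtain ⟨F, hF⟩ := (h₃ (φ ≫ Limits.Sigma.map (fun j => (T j).mor₂))).exists_finset
  rw [Category.assoc, sigmaMap_compl, ← Category.assoc] at hF
  -- complete the coproduct of the first maps to a distinguished triangle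
  obtain ⟨Z, f₂, f₃, hT'⟩ := distinguished_cocone_triangle
    (Limits.Sigma.map (fun j => (T j).mor₁))
  let T' := Triangle.mk (Limits.Sigma.map (fun j => (T j).mor₁)) f₂ f₃
  have hcomm : ∀ j, (T j).mor₁ ≫ Sigma.ι (fun j => (T j).obj₂) j =
      Sigma.ι (fun j => (T j).obj₁) j ≫ Limits.Sigma.map (fun j => (T j).mor₁) := by
    intro j
    rw [Limits.Sigma.ι_map]
  let ψ : ∀ j, T j ⟶ T' := fun j => completeDistinguishedTriangleMorphism _ _ (hT j) hT'
    (Sigma.ι (fun j => (T j).obj₁) j) (Sigma.ι (fun j => (T j).obj₂) j) (hcomm j)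
  let c : ∀ j, (T j).obj₃ ⟶ Z := fun j => (ψ j).hom₃
  have hc : Limits.Sigma.map (fun j => (T j).mor₂) ≫ Sigma.desc c = f₂ := by
    apply Sigma.hom_ext
    intro j
    rw [Limits.Sigma.ι_map_assoc, Sigma.ι_desc]
    exact (ψ j).comm₂
  have h0 : (φ ≫ Groth.Agent.Lib.Helper2.CompactEnv.compl _ F) ≫ f₂ = 0 := by
    rw [← hc, ← Category.assoc, hF, zero_comp]
  obtain ⟨ψ', hψ'⟩ := T'.coyoneda_exact₂ hT' _ h0
  apply isFin_of_comp_compl_isFin (F := F)
  rw [hψ']
  exact IsFin.comp_sigmaMap (fun j => (T j).mor₁) (h₁ ψ')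

end Triangulated

section Derived

open DerivedCategory

universe w

variable {A : Type u} [Category.{v} A] [Abelian A] [HasDerivedCategory.{w} A]
  [∀ κ : Type w, HasColimitsOfShape (Discrete κ) A]
  [∀ κ : Type w, HasExactColimitsOfShape (Discrete κ) A]

lemma isZero_sigma {𝒞 : Type*} [Category 𝒞] [HasZeroMorphisms 𝒞] {κ : Type*} (Z : κ → 𝒞)
    [HasCoproduct Z] (h : ∀ k, IsZero (Z k)) : IsZero (∐ Z) := by
  rw [IsZero.iff_id_eq_zero]
  apply Sigma.hom_ext
  intro k
  exact (h k).eq_of_src _ _

lemma isGE_sigma {κ : Type w} (M : κ → DerivedCategory A) (n : ℤ) (h : ∀ k, (M k).IsGE n) :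
    (∐ M).IsGE n := by
  rw [isGE_iff]
  intro i hi
  refine IsZero.of_iso ?_ (PreservesCoproduct.iso (homologyFunctor A i) M)
  exact isZero_sigma _ (fun k => (M k).isZero_of_isGE n i hi)

lemma isLE_sigma {κ : Type w} (M : κ → DerivedCategory A) (n : ℤ) (h : ∀ k, (M k).IsLE n) :
    (∐ M).IsLE n := by
  rw [isLE_iff]
  intro i hi
  refine IsZero.of_iso ?_ (PreservesCoproduct.iso (homologyFunctor A i) M)
  exact isZero_sigma _ (fun k => (M k).isZero_of_isLE n i hi)

variable (X : DerivedCategory A)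

/-- Base case: families concentrated in a single degree. -/
lemma isFin_of_single
    (hE : ∀ (b : ℤ) (κ : Type w) (B : κ → A)
      (φ : X ⟶ ∐ fun i => (singleFunctor A b).obj (B i)), IsFin _ φ)
    (b : ℤ) {κ : Type w} (M : κ → DerivedCategory A) (h₁ : ∀ k, (M k).IsGE b)
    (h₂ : ∀ k, (M k).IsLE b) (φ : X ⟶ ∐ M) : IsFin M φ := by
  have key := fun k => exists_iso_singleFunctor_obj_of_isGE_of_isLE (M k) b
  choose B e using key
  have h := hE b κ B (φ ≫ Limits.Sigma.map (fun k => (e k).some.hom))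
  have h' := IsFin.comp_sigmaMap (fun k => (e k).some.inv) h
  have : (φ ≫ Limits.Sigma.map (fun k => (e k).some.hom)) ≫
      Limits.Sigma.map (fun k => (e k).some.inv) = φ := by
    rw [Category.assoc]
    have h2 : Limits.Sigma.map (fun k => (e k).some.hom) ≫
        Limits.Sigma.map (fun k => (e k).some.inv) = 𝟙 _ := by
      apply Sigma.hom_ext
      intro k
      rw [Limits.Sigma.ι_map_assoc, Limits.Sigma.ι_map, Iso.hom_inv_id_assoc, Category.comp_id]
    rw [h2, Category.comp_id]
  rwa [this] at h'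

/-- Bounded case, by induction on the amplitude. -/
lemma isFin_of_bounded
    (hE : ∀ (b : ℤ) (κ : Type w) (B : κ → A)
      (φ : X ⟶ ∐ fun i => (singleFunctor A b).obj (B i)), IsFin _ φ)
    (n : ℕ) : ∀ (a : ℤ) {κ : Type w} (M : κ → DerivedCategory A) (_ : ∀ k, (M k).IsGE a)
      (_ : ∀ k, (M k).IsLE (a + n)) (φ : X ⟶ ∐ M), IsFin M φ := by
  induction n with
  | zero =>
    intro a κ M h₁ h₂ φ
    exact isFin_of_single X hE a M h₁ (fun k => by simpa using h₂ k) φ
  | succ n ih =>
    intro a κ M h₁ h₂ φ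
    let T : κ → Pretriangulated.Triangle (DerivedCategory A) :=
      fun k => (TStructure.t.triangleLEGE (a + n) (a + n + 1) rfl).obj (M k)
    have hT : ∀ k, T k ∈ distTriang _ :=
      fun k => TStructure.t.triangleLEGE_distinguished (a + n) (a + n + 1) rfl (M k)
    refine isFin_of_triangles T hT X ?_ ?_ φ
    · intro ψ
      refine ih a (fun k => (T k).obj₁) (fun k => ?_) (fun k => ?_) ψ
      · haveI := h₁ k
        change TStructure.t.IsGE ((TStructure.t.truncLE (a + n)).obj (M k)) a
        infer_instance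
      · change TStructure.t.IsLE ((TStructure.t.truncLE (a + n)).obj (M k)) (a + n)
        infer_instance
    · intro ψ
      refine isFin_of_single X hE (a + n + 1) (fun k => (T k).obj₃) (fun k => ?_) (fun k => ?_) ψ
      · change TStructure.t.IsGE ((TStructure.t.truncGE (a + n + 1)).obj (M k)) (a + n + 1)
        infer_instance
      · haveI : TStructure.t.IsLE (M k) (a + n + 1) := by
          have := h₂ k
          simpa [add_assoc] using this
        change TStructure.t.IsLE ((TStructure.t.truncGE (a + n + 1)).obj (M k)) (a + n + 1)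
        infer_instance

/-- Uniformly bounded below families. -/
theorem isFin_of_isGE [X.IsLE 0]
    (hE : ∀ (b : ℤ) (κ : Type w) (B : κ → A)
      (φ : X ⟶ ∐ fun i => (singleFunctor A b).obj (B i)), IsFin _ φ)
    (a : ℤ) {κ : Type w} (M : κ → DerivedCategory A) (h₁ : ∀ k, (M k).IsGE a)
    (φ : X ⟶ ∐ M) : IsFin M φ := by
  let T : κ → Pretriangulated.Triangle (DerivedCategory A) :=
    fun k => (TStructure.t.triangleLEGE 0 1 rfl).obj (M k)
  have hT : ∀ k, T k ∈ distTriang _ :=
    fun k => TStructure.t.triangleLEGE_distinguished 0 1 rfl (M k)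
  refine isFin_of_triangles T hT X ?_ ?_ φ
  · intro ψ
    obtain ⟨n, hn⟩ : ∃ n : ℕ, (0 : ℤ) ≤ min a 0 + n := ⟨(- min a 0).toNat, by omega⟩
    refine isFin_of_bounded X hE n (min a 0) (fun k => (T k).obj₁) (fun k => ?_) (fun k => ?_) ψ
    · haveI : TStructure.t.IsGE (M k) (min a 0) :=
        TStructure.t.isGE_of_ge (M k) (min a 0) a (min_le_left _ _)
      change TStructure.t.IsGE ((TStructure.t.truncLE 0).obj (M k)) (min a 0)
      infer_instance
    · haveI : TStructure.t.IsLE ((TStructure.t.truncLE 0).obj (M k)) 0 := inferInstance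
      exact TStructure.t.isLE_of_le ((TStructure.t.truncLE 0).obj (M k)) 0 _ hn
  · intro ψ
    haveI : (∐ fun k => (T k).obj₃).IsGE 1 := isGE_sigma _ 1 (fun k => by
      change TStructure.t.IsGE ((TStructure.t.truncGE 1).obj (M k)) 1
      infer_instance)
    rw [TStructure.t.zero_of_isLE_of_isGE ψ 0 1 (by omega) inferInstance this]
    exact zero_mem _

end Derived

end Groth.Agent.Lib.Helper5.CompactBdd
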