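import Mathlib
import Groth.Prelude.Def_ModSite
import Groth.Prelude.Def_CohCx
import Groth.Agent.Lib.Helper13.ModSiteFreeOn
import Groth.Agent.Lib.Helper21.CoprodSec.QcRep

/-!
# Modules of "type A" on a ringed site: cokernels of maps between finite sums of `j_{U!} O_U`

Basic tools: functoriality of `freeOn`, epimorphy of refinements, local lifting along epimorphisms.
-/

set_option autoImplicit false
universe u
open CategoryTheory CategoryTheory.Limits Opposite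
open Groth.Agent.Lib.Helper13.ModSiteFreeOn Groth.Agent.Lib.Helper21.CoprodSec

namespace Groth.Agent.Lib.Helper5.TypeA

variable {C : Type u} [SmallCategory C] {J : GrothendieckTopology C} (O : Sheaf J CommRingCat.{u})

section FreeOnMap

/-- The universal section of `freeOn O U` over `U`. -/
noncomputable def univ (U : C) : (ModSite.freeOn O U).val.obj (op U) :=
  freeOnHomEquiv O U _ (𝟙 _)

lemma freeOnHomEquiv_eq (U : C) (M : ModSite.Mod O) (f : ModSite.freeOn O U ⟶ M) :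
    freeOnHomEquiv O U M f = f.val.app (op U) (univ O U) := by
  have := freeOnHomEquiv_naturality O U (𝟙 _) f
  rwa [Category.id_comp] at this

variable {O} in
/-- Restriction of sections (with the carrier type of the module over the source). -/
noncomputable def res (M : ModSite.Mod O) {Y U : C} (g : Y ⟶ U) (s : M.val.obj (op U)) : M.val.obj (op Y) :=
  M.val.map g.op s

variable {O} in
lemma res_comp (M : ModSite.Mod O) {Z Y U : C} (h : Z ⟶ Y) (g : Y ⟶ U) (s : M.val.obj (op U)) :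
    res M (h ≫ g) s = res M h (res M g s) := by
  unfold res
  rw [op_comp, PresheafOfModules.map_comp_apply]

variable {O} in
lemma app_res {M N : ModSite.Mod O} (f : M ⟶ N) {Y U : C} (g : Y ⟶ U) (s : M.val.obj (op U)) :
    f.val.app (op Y) (res M g s) = res N g (f.val.app (op U) s) :=
  PresheafOfModules.naturality_apply f.val g.op s

/-- Functoriality of `U ↦ freeOn O U`. -/
noncomputable def freeOnMap {Y U : C} (g : Y ⟶ U) : ModSite.freeOn O Y ⟶ ModSite.freeOn O U :=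
  (freeOnHomEquiv O Y _).symm (res _ g (univ O U))

lemma freeOnHomEquiv_freeOnMap_comp {Y U : C} (g : Y ⟶ U) (M : ModSite.Mod O)
    (f : ModSite.freeOn O U ⟶ M) :
    freeOnHomEquiv O Y M (freeOnMap O g ≫ f) = res M g (freeOnHomEquiv O U M f) := by
  rw [freeOnHomEquiv_naturality, freeOnMap, Equiv.apply_symm_apply, freeOnHomEquiv_eq, app_res]

/-- The map out of `freeOn O U` with a given section. -/
noncomputable def ofSec {U : C} {M : ModSite.Mod O} (s : M.val.obj (op U)) :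
    ModSite.freeOn O U ⟶ M := (freeOnHomEquiv O U M).symm s

lemma freeOnHomEquiv_ofSec {U : C} {M : ModSite.Mod O} (s : M.val.obj (op U)) :
    freeOnHomEquiv O U M (ofSec O s) = s := Equiv.apply_symm_apply _ _

lemma ofSec_comp {U : C} {M N : ModSite.Mod O} (s : M.val.obj (op U)) (f : M ⟶ N) :
    ofSec O s ≫ f = ofSec O (f.val.app (op U) s) := by
  apply (freeOnHomEquiv O U N).injective
  rw [freeOnHomEquiv_naturality, freeOnHomEquiv_ofSec, freeOnHomEquiv_ofSec]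

lemma freeOnMap_comp_ofSec {Y U : C} (g : Y ⟶ U) {M : ModSite.Mod O} (s : M.val.obj (op U)) :
    freeOnMap O g ≫ ofSec O s = ofSec O (res M g s) := by
  apply (freeOnHomEquiv O Y M).injective
  rw [freeOnHomEquiv_freeOnMap_comp, freeOnHomEquiv_ofSec, freeOnHomEquiv_ofSec]

lemma hom_ext_of_cover {U : C} {T : Type*} (Y : T → C) (g : ∀ k, Y k ⟶ U)
    (hcov : Sieve.ofArrows Y g ∈ J U) {M : ModSite.Mod O} (f f' : ModSite.freeOn O U ⟶ M)
    (h : ∀ k, freeOnMap O (g k) ≫ f = freeOnMap O (g k) ≫ f') : f = f' := by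
  apply (freeOnHomEquiv O U M).injective
  apply eq_of_cover M _ hcov
  intro V q hq
  obtain ⟨k, a, rfl⟩ := (Sieve.mem_ofArrows_iff Y g q).1 hq
  have hk := congrArg (freeOnHomEquiv O (Y k) M) (h k)
  rw [freeOnHomEquiv_freeOnMap_comp, freeOnHomEquiv_freeOnMap_comp] at hk
  have := congrArg (res M a) hk
  rw [← res_comp, ← res_comp] at this
  exact this

end FreeOnMap

section Local

variable {O}

/-- An epimorphism of sheaves of modules is locally surjective on sections. -/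
lemma exists_local_preimage {G F : ModSite.Mod O} (p : G ⟶ F) [Epi p] {V : C}
    (s : F.val.obj (op V)) :
    ∃ S ∈ J V, ∀ ⦃W : C⦄ (g : W ⟶ V), S g →
      ∃ t : G.val.obj (op W), p.val.app (op W) t = res F g s := by
  haveI : Epi ((SheafOfModules.toSheaf.{u} (ModSite.ringSh O)).map p) := inferInstance
  haveI h : Sheaf.IsLocallySurjective ((SheafOfModules.toSheaf.{u} (ModSite.ringSh O)).map p) :=
    (Sheaf.isLocallySurjective_iff_epi' AddCommGrpCat.{u} _).2 inferInstance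
  have hs : Presheaf.imageSieve ((SheafOfModules.toSheaf.{u} (ModSite.ringSh O)).map p).hom
      (show ToType (((SheafOfModules.toSheaf.{u} (ModSite.ringSh O)).obj F).obj.obj (op V))
        from s) ∈ J V :=
    Presheaf.IsLocallySurjective.imageSieve_mem _
  refine ⟨_, hs, ?_⟩
  rintro W g ⟨t, ht⟩
  exact ⟨t, ht⟩

/-- Finite coverings by members of `B` on which a section lifts along an epimorphism. -/
theorem exists_finite_cover_lift (B : Set C)
    (hB₁ : ∀ X : C, ∃ (κ : Type u) (Y : κ → C) (g : ∀ k, Y k ⟶ X),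
      Sieve.ofArrows Y g ∈ J X ∧ ∀ k, Y k ∈ B)
    {U : C} (hU : FinCov J U) {G' G : ModSite.Mod O} (p : G' ⟶ G) [Epi p]
    (s : G.val.obj (op U)) :
    ∃ (T : Type u) (_ : Fintype T) (Y : T → C) (g : ∀ k, Y k ⟶ U)
      (t : ∀ k, G'.val.obj (op (Y k))),
      (∀ k, Y k ∈ B) ∧ Sieve.ofArrows Y g ∈ J U ∧
        ∀ k, p.val.app (op (Y k)) (t k) = res G (g k) s := by
  obtain ⟨L, hL, hlift⟩ := exists_local_preimage p s
  let R : Sieve U :=
    { arrows := fun W q => ∃ (Y : C) (_ : Y ∈ B) (a : W ⟶ Y) (g : Y ⟶ U), q = a ≫ g ∧ L g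
      downward_closed := by
        rintro W W' q ⟨Y, hY, a, g, rfl, hg⟩ b
        exact ⟨Y, hY, b ≫ a, g, (Category.assoc _ _ _).symm, hg⟩ }
  have hR : R ∈ J U := by
    refine J.transitive hL R (fun W q hq => ?_)
    obtain ⟨κ, Y, y, hcov, hY⟩ := hB₁ W
    refine J.superset_covering ?_ hcov
    intro W' b hb
    obtain ⟨k, a, rfl⟩ := (Sieve.mem_ofArrows_iff Y y b).1 hb
    exact ⟨Y k, hY k, a, y k ≫ q, Category.assoc _ _ _, L.downward_closed hq _⟩
  obtain ⟨T, hT, V, g, hg, hcov⟩ := hU R hR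
  choose Y hY a g' hfac hL' using hg
  refine ⟨T, hT, Y, g', fun k => (hlift (g' k) (hL' k)).choose, hY, ?_,
    fun k => (hlift (g' k) (hL' k)).choose_spec⟩
  refine J.superset_covering ?_ hcov
  intro W b hb
  obtain ⟨k, c, rfl⟩ := (Sieve.mem_ofArrows_iff V g b).1 hb
  rw [hfac k, ← Category.assoc]
  exact Sieve.downward_closed _ (Sieve.ofArrows_mk _ _ k) _

end Local

section FinFree

variable {O} (B : Set C)

/-- Finite sums of modules `j_{U!} O_U` with `U ∈ B`. -/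
def FinFree (P : ModSite.Mod O) : Prop :=
  ∃ (ι : Type u) (_ : Finite ι) (U : ι → C), (∀ i, U i ∈ B) ∧
    Nonempty (P ≅ ∐ fun i => ModSite.freeOn O (U i))

variable {B}

lemma FinFree.of_iso {P P' : ModSite.Mod O} (h : FinFree B P) (e : P ≅ P') : FinFree B P' := by
  obtain ⟨ι, hι, U, hU, ⟨e'⟩⟩ := h
  exact ⟨ι, hι, U, hU, ⟨e.symm ≪≫ e'⟩⟩

lemma finFree_sigma {ι : Type u} [Finite ι] (f : ι → ModSite.Mod O) (hf : ∀ i, FinFree B (f i)) :
    FinFree B (∐ f) := by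
  choose κ hκ U hU e using hf
  haveI := hκ
  refine ⟨Σ i, κ i, inferInstance, fun p => U p.1 p.2, fun p => hU p.1 p.2, ⟨?_⟩⟩
  exact Sigma.mapIso (fun i => (e i).some) ≪≫
    sigmaSigmaIso κ (fun i k => ModSite.freeOn O (U i k))

lemma finFree_fin {n : ℕ} (U : Fin n → C) (hU : ∀ i, U i ∈ B) :
    FinFree B (∐ fun i => ModSite.freeOn O (U i)) :=
  ⟨ULift.{u} (Fin n), inferInstance, fun i => U i.down, fun i => hU _,
    ⟨Sigma.whiskerEquiv (f := fun i : Fin n => ModSite.freeOn O (U i))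
      (g := fun i : ULift.{u} (Fin n) => ModSite.freeOn O (U i.down))
      Equiv.ulift.symm (fun _ => Iso.refl _)⟩⟩

lemma FinFree.exists_fin {P : ModSite.Mod O} (h : FinFree B P) :
    ∃ (n : ℕ) (U : Fin n → C), (∀ i, U i ∈ B) ∧
      Nonempty (P ≅ ∐ fun i => ModSite.freeOn O (U i)) := by
  obtain ⟨ι, hι, U, hU, ⟨e⟩⟩ := h
  obtain ⟨n, ⟨e'⟩⟩ := Finite.exists_equiv_fin ι
  refine ⟨n, fun k => U (e'.symm k), fun k => hU _, ⟨e ≪≫ ?_⟩⟩
  exact Sigma.whiskerEquiv (f := fun i : ι => ModSite.freeOn O (U i))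
      (g := fun k : Fin n => ModSite.freeOn O (U (e'.symm k)))
      e' (fun j => eqToIso (by rw [Equiv.symm_apply_apply]))

lemma finFree_coprod {P Q : ModSite.Mod O} (hP : FinFree B P) (hQ : FinFree B Q) :
    FinFree B (P ⨿ Q) := by
  obtain ⟨ι, hι, U, hU, ⟨e⟩⟩ := hP
  obtain ⟨ι', hι', U', hU', ⟨e'⟩⟩ := hQ
  refine ⟨ι ⊕ ι', inferInstance, Sum.elim U U', ?_, ⟨?_⟩⟩
  · rintro (i | i)
    · exact hU i
    · exact hU' i
  · let c₁ : Cofan (fun i => ModSite.freeOn O (U i)) := Cofan.mk _ (Sigma.ι _)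
    let c₂ : Cofan (fun i => ModSite.freeOn O (U' i)) := Cofan.mk _ (Sigma.ι _)
    have h₁ : IsColimit c₁ := coproductIsCoproduct _
    have h₂ : IsColimit c₂ := coproductIsCoproduct _
    let bc : BinaryCofan c₁.pt c₂.pt := BinaryCofan.mk coprod.inl coprod.inr
    have h : IsColimit bc := coprodIsCoprod _ _
    have h3 := Cofan.combPairIsColimit h₁ h₂ h
    refine coprod.mapIso e e' ≪≫
      (h3.coconePointUniqueUpToIso (coproductIsCoproduct _)) ≪≫ ?_
    exact Sigma.whiskerEquiv (Equiv.refl _) (fun s => match s with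
      | .inl _ => Iso.refl _
      | .inr _ => Iso.refl _)

end FinFree

section Refine

variable {O}

/-- The data of a refinement of a finite sum of `j_{U!}O_U`'s by finite coverings. -/
structure RefData (B : Set C) (P : ModSite.Mod O) where
  ι : Type u
  [fin : Finite ι]
  U : ι → C
  hU : ∀ i, U i ∈ B
  e : P ≅ ∐ fun i => ModSite.freeOn O (U i)
  T : ι → Type u
  [finT : ∀ i, Finite (T i)]
  Y : ∀ i, T i → C
  hY : ∀ i k, Y i k ∈ B
  g : ∀ i k, Y i k ⟶ U i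
  hcov : ∀ i, Sieve.ofArrows (Y i) (g i) ∈ J (U i)

namespace RefData

attribute [instance] RefData.fin RefData.finT

variable {B : Set C} {P : ModSite.Mod O} (r : RefData B P)

/-- The source of the refinement. -/
noncomputable abbrev src : ModSite.Mod O :=
  ∐ fun p : (Σ i, r.T i) => ModSite.freeOn O (r.Y p.1 p.2)

/-- The refinement map. -/
noncomputable def map : r.src ⟶ P :=
  Sigma.desc (fun p : (Σ i, r.T i) => freeOnMap O (r.g p.1 p.2) ≫
    Sigma.ι (fun i => ModSite.freeOn O (r.U i)) p.1) ≫ r.e.inv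

lemma ι_map (p : Σ i, r.T i) :
    Sigma.ι (fun p : (Σ i, r.T i) => ModSite.freeOn O (r.Y p.1 p.2)) p ≫ r.map =
      freeOnMap O (r.g p.1 p.2) ≫ Sigma.ι (fun i => ModSite.freeOn O (r.U i)) p.1 ≫ r.e.inv := by
  unfold map
  rw [← Category.assoc, Sigma.ι_desc, Category.assoc]

lemma finFree_src : FinFree B r.src :=
  ⟨Σ i, r.T i, inferInstance, fun p => r.Y p.1 p.2, fun p => r.hY p.1 p.2, ⟨Iso.refl _⟩⟩

instance epi_map : Epi r.map := by
  constructor
  intro M f f' h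
  rw [← cancel_epi r.e.inv]
  apply Sigma.hom_ext
  intro i
  apply hom_ext_of_cover O (r.Y i) (r.g i) (r.hcov i)
  intro k
  have := congrArg (fun x => Sigma.ι (fun p : (Σ i, r.T i) => ModSite.freeOn O (r.Y p.1 p.2))
    ⟨i, k⟩ ≫ x) h
  simp only [← Category.assoc, ι_map] at this
  simpa only [Category.assoc] using this

end RefData

/-- Local lifting: a map from a finite free module to the target of an epimorphism lifts after
a refinement. -/
theorem exists_refine (B : Set C)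
    (hB₁ : ∀ X : C, ∃ (κ : Type u) (Y : κ → C) (g : ∀ k, Y k ⟶ X),
      Sieve.ofArrows Y g ∈ J X ∧ ∀ k, Y k ∈ B)
    (hB₂ : ∀ U ∈ B, FinCov J U) {P G' G : ModSite.Mod O} (hP : FinFree B P)
    (p : G' ⟶ G) [Epi p] (a : P ⟶ G) :
    ∃ (r : RefData B P) (β : r.src ⟶ G'), r.map ≫ a = β ≫ p := by
  obtain ⟨ι, hι, U, hU, ⟨e⟩⟩ := hP
  have key := fun i => exists_finite_cover_lift B hB₁ (hB₂ (U i) (hU i)) p
    (freeOnHomEquiv O (U i) G (Sigma.ι (fun i => ModSite.freeOn O (U i)) i ≫ e.inv ≫ a))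
  choose T hT Y g t hY hcov ht using key
  haveI : ∀ i, Finite (T i) := fun i => Finite.of_fintype _
  let r : RefData B P := ⟨ι, U, hU, e, T, Y, hY, g, hcov⟩
  refine ⟨r, Sigma.desc (fun q : (Σ i, T i) => ofSec O (t q.1 q.2)), ?_⟩
  apply Sigma.hom_ext
  intro q
  rw [← Category.assoc, ← Category.assoc, Sigma.ι_desc]
  have h1 := r.ι_map q
  rw [h1, ofSec_comp, ht, ← freeOnMap_comp_ofSec, Category.assoc, Category.assoc]
  congr 1
  apply (freeOnHomEquiv O _ G).injective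
  rw [freeOnHomEquiv_ofSec]

end Refine

section Abstract

variable {𝒜 : Type*} [Category 𝒜] [Abelian 𝒜]

lemma nonempty_cokernel_iso {Q₁ Q₀ G P P' : 𝒜} (ψ : Q₁ ⟶ Q₀) (p : Q₀ ⟶ G) (w : ψ ≫ p = 0)
    (hp : IsColimit (CokernelCofork.ofπ p w)) (a : P ⟶ G) (γ : P' ⟶ P) [Epi γ] (β : P' ⟶ Q₀)
    (h : γ ≫ a = β ≫ p) : Nonempty (cokernel a ≅ cokernel (coprod.desc β ψ)) := by
  haveI : Epi p := epi_of_isColimit_cofork hp
  have w1 : coprod.desc β ψ ≫ p ≫ cokernel.π a = 0 := by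
    apply coprod.hom_ext
    · rw [← Category.assoc, coprod.inl_desc, comp_zero, ← Category.assoc, ← h, Category.assoc,
        cokernel.condition, comp_zero]
    · rw [← Category.assoc, coprod.inr_desc, comp_zero, ← Category.assoc, w, zero_comp]
  let u : cokernel (coprod.desc β ψ) ⟶ cokernel a := cokernel.desc _ (p ≫ cokernel.π a) w1
  have w2 : ψ ≫ cokernel.π (coprod.desc β ψ) = 0 := by
    have : ψ ≫ cokernel.π (coprod.desc β ψ) =
        coprod.inr ≫ coprod.desc β ψ ≫ cokernel.π (coprod.desc β ψ) := by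
      rw [← Category.assoc, coprod.inr_desc]
    rw [this, cokernel.condition, comp_zero]
  let v₀ : G ⟶ cokernel (coprod.desc β ψ) := hp.desc (CokernelCofork.ofπ _ w2)
  have hv₀ : p ≫ v₀ = cokernel.π (coprod.desc β ψ) :=
    hp.fac (CokernelCofork.ofπ _ w2) WalkingParallelPair.one
  have w3 : a ≫ v₀ = 0 := by
    have : β ≫ cokernel.π (coprod.desc β ψ) =
        coprod.inl ≫ coprod.desc β ψ ≫ cokernel.π (coprod.desc β ψ) := by
      rw [← Category.assoc, coprod.inl_desc]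
    rw [← cancel_epi γ, ← Category.assoc, h, Category.assoc, hv₀, comp_zero,
      this, cokernel.condition, comp_zero]
  let v : cokernel a ⟶ cokernel (coprod.desc β ψ) := cokernel.desc a v₀ w3
  refine ⟨⟨v, u, ?_, ?_⟩⟩
  · rw [← cancel_epi (cokernel.π a), ← Category.assoc, cokernel.π_desc, Category.comp_id,
      ← cancel_epi p, ← Category.assoc, hv₀, cokernel.π_desc]
  · rw [← cancel_epi (cokernel.π (coprod.desc β ψ)), ← Category.assoc, cokernel.π_desc,
      Category.comp_id, Category.assoc, cokernel.π_desc, hv₀]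

end Abstract

section TypeA

variable {O} (B : Set C)

/-- Modules of type A: cokernels of maps between finite sums of `j_{U!}O_U`, `U ∈ B`. -/
def IsTypeA (F : ModSite.Mod O) : Prop :=
  ∃ (P₁ P₀ : ModSite.Mod O) (ψ : P₁ ⟶ P₀), FinFree B P₁ ∧ FinFree B P₀ ∧
    Nonempty (F ≅ cokernel ψ)

/-- The form of type A used in the milestone statements. -/
def IsTypeAFin (F : ModSite.Mod O) : Prop :=
  ∃ (m' n' : ℕ) (V' : Fin m' → C) (U' : Fin n' → C)
    (ψ : (∐ fun j => ModSite.freeOn O (V' j)) ⟶ ∐ fun i => ModSite.freeOn O (U' i)),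
    (∀ j, V' j ∈ B) ∧ (∀ i, U' i ∈ B) ∧ Nonempty (F ≅ cokernel ψ)

variable {B}

lemma isTypeA_iff {F : ModSite.Mod O} : IsTypeA B F ↔ IsTypeAFin B F := by
  constructor
  · rintro ⟨P₁, P₀, ψ, h₁, h₀, ⟨e⟩⟩
    obtain ⟨m, V, hV, ⟨e₁⟩⟩ := h₁.exists_fin
    obtain ⟨n, U, hU, ⟨e₀⟩⟩ := h₀.exists_fin
    refine ⟨m, n, V, U, e₁.inv ≫ ψ ≫ e₀.hom, hV, hU, ⟨e ≪≫ ?_⟩⟩
    exact cokernel.mapIso ψ (e₁.inv ≫ ψ ≫ e₀.hom) e₁ e₀ (by simp)
  · rintro ⟨m, n, V, U, ψ, hV, hU, ⟨e⟩⟩
    exact ⟨_, _, ψ, finFree_fin V hV, finFree_fin U hU, ⟨e⟩⟩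

lemma IsTypeA.of_iso {F F' : ModSite.Mod O} (h : IsTypeA B F) (e : F ≅ F') : IsTypeA B F' := by
  obtain ⟨P₁, P₀, ψ, h₁, h₀, ⟨e'⟩⟩ := h
  exact ⟨P₁, P₀, ψ, h₁, h₀, ⟨e.symm ≪≫ e'⟩⟩

/-- A module of type A as a cokernel with a chosen projection. -/
lemma IsTypeA.exists_pres {F : ModSite.Mod O} (h : IsTypeA B F) :
    ∃ (P₁ P₀ : ModSite.Mod O) (ψ : P₁ ⟶ P₀) (p : P₀ ⟶ F) (w : ψ ≫ p = 0),
      FinFree B P₁ ∧ FinFree B P₀ ∧ Nonempty (IsColimit (CokernelCofork.ofπ p w)) := by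
  obtain ⟨P₁, P₀, ψ, h₁, h₀, ⟨e⟩⟩ := h
  exact ⟨P₁, P₀, ψ, cokernel.π ψ ≫ e.inv, by simp, h₁, h₀,
    ⟨cokernel.cokernelIso ψ _ e.symm rfl⟩⟩

lemma isTypeA_of_pres {F P₁ P₀ : ModSite.Mod O} (ψ : P₁ ⟶ P₀) (p : P₀ ⟶ F) (w : ψ ≫ p = 0)
    (h₁ : FinFree B P₁) (h₀ : FinFree B P₀) (hp : IsColimit (CokernelCofork.ofπ p w)) :
    IsTypeA B F :=
  ⟨P₁, P₀, ψ, h₁, h₀, ⟨(IsColimit.coconePointUniqueUpToIso hp (colimit.isColimit _))⟩⟩

/-- Cokernels of maps between modules of type A are of type A. -/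
theorem isTypeA_cokernel
    (hB₁ : ∀ X : C, ∃ (κ : Type u) (Y : κ → C) (g : ∀ k, Y k ⟶ X),
      Sieve.ofArrows Y g ∈ J X ∧ ∀ k, Y k ∈ B)
    (hB₂ : ∀ U ∈ B, FinCov J U) {F G : ModSite.Mod O} (α : F ⟶ G)
    (hF : IsTypeA B F) (hG : IsTypeA B G) : IsTypeA B (cokernel α) := by
  obtain ⟨P₁, P₀, ψF, q, wF, hP₁, hP₀, ⟨hq⟩⟩ := hF.exists_pres
  obtain ⟨Q₁, Q₀, ψG, p, wG, hQ₁, hQ₀, ⟨hp⟩⟩ := hG.exists_pres
  haveI : Epi q := epi_of_isColimit_cofork hq
  haveI : Epi p := epi_of_isColimit_cofork hp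
  obtain ⟨r, β, h⟩ := exists_refine B hB₁ hB₂ hP₀ p (q ≫ α)
  obtain ⟨e⟩ := nonempty_cokernel_iso ψG p wG hp (q ≫ α) r.map β h
  exact ⟨_, _, coprod.desc β ψG, finFree_coprod r.finFree_src hQ₁, hQ₀,
    ⟨(cokernelEpiComp q α).symm ≪≫ e⟩⟩

end TypeA

end Groth.Agent.Lib.Helper5.TypeA
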