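import Groth.Agent.Lib.Helper5.CodimOne

/-!
# Helper5: rational functions regular at a point, in an affine chart
-/

set_option autoImplicit false
universe u

open CategoryTheory AlgebraicGeometry TopologicalSpace

namespace Groth.Agent.Lib.Helper5.ChartFrac

variable {X : Scheme.{u}} [IsIntegral X] {U : X.Opens} (hU : IsAffineOpen U) [Nonempty U]

include hU in
/-- A rational function is regular at `z ∈ U` iff it is a fraction of sections over `U` with
denominator not vanishing at `z`. -/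
theorem mem_range_iff {z : X} (hz : z ∈ U) (g : X.functionField) :
    g ∈ Set.range (algebraMap (X.presheaf.stalk z) X.functionField) ↔
      ∃ β σ : Γ(X, U), σ ∉ (hU.primeIdealOf ⟨z, hz⟩).asIdeal ∧
        g * X.germToFunctionField U σ = X.germToFunctionField U β := by
  letI algz := X.presheaf.algebra_section_stalk ⟨z, hz⟩
  have locz := hU.isLocalization_stalk ⟨z, hz⟩
  constructor
  · rintro ⟨a, rfl⟩
    obtain ⟨⟨β, σ⟩, hβσ⟩ := IsLocalization.surj (hU.primeIdealOf ⟨z, hz⟩).asIdeal.primeCompl a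
    have hβσ' : a * X.presheaf.germ U z hz σ = X.presheaf.germ U z hz β := hβσ
    refine ⟨β, σ, σ.2, ?_⟩
    rw [← Scheme.algebraMap_germ_eq_germToFunctionField X hz σ,
      ← Scheme.algebraMap_germ_eq_germToFunctionField X hz β, ← hβσ', map_mul]
  · rintro ⟨β, σ, hσ, h⟩
    have hunit : IsUnit (X.presheaf.germ U z hz σ) :=
      IsLocalization.map_units (X.presheaf.stalk z)
        (⟨σ, hσ⟩ : (hU.primeIdealOf ⟨z, hz⟩).asIdeal.primeCompl)
    refine ⟨X.presheaf.germ U z hz β * ((hunit.unit⁻¹ : (X.presheaf.stalk z)ˣ) :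
      X.presheaf.stalk z), ?_⟩
    have hσ0 : X.germToFunctionField U σ ≠ 0 := by
      rw [← Scheme.algebraMap_germ_eq_germToFunctionField X hz σ]
      exact ((hunit.map (algebraMap (X.presheaf.stalk z) X.functionField))).ne_zero
    have hinv : algebraMap (X.presheaf.stalk z) X.functionField
        ((hunit.unit⁻¹ : (X.presheaf.stalk z)ˣ) : X.presheaf.stalk z) =
        (X.germToFunctionField U σ)⁻¹ := by
      apply eq_inv_of_mul_eq_one_left
      rw [← Scheme.algebraMap_germ_eq_germToFunctionField X hz σ, ← map_mul,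
        IsUnit.val_inv_mul, map_one]
    rw [map_mul, hinv, Scheme.algebraMap_germ_eq_germToFunctionField, ← h, mul_assoc,
      mul_inv_cancel₀ hσ0, mul_one]

omit [IsIntegral X] [Nonempty U] in
include hU in
theorem germ_mem_maximalIdeal_iff {x₀ : X} (hx₀ : x₀ ∈ U) (β : Γ(X, U)) :
    X.presheaf.germ U x₀ hx₀ β ∈ IsLocalRing.maximalIdeal (X.presheaf.stalk x₀) ↔
      β ∈ (hU.primeIdealOf ⟨x₀, hx₀⟩).asIdeal := by
  letI algz := X.presheaf.algebra_section_stalk ⟨x₀, hx₀⟩
  have locz := hU.isLocalization_stalk ⟨x₀, hx₀⟩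
  exact IsLocalization.AtPrime.to_map_mem_maximal_iff (X.presheaf.stalk x₀)
    (hU.primeIdealOf ⟨x₀, hx₀⟩).asIdeal β

include hU in
/-- A section over `U` lies (as a rational function) in the maximal ideal of `O_{X,x₀}` iff it
lies in the prime ideal of `x₀`. -/
theorem exists_mem_maximalIdeal_iff {x₀ : X} (hx₀ : x₀ ∈ U) (β : Γ(X, U)) :
    (∃ m ∈ IsLocalRing.maximalIdeal (X.presheaf.stalk x₀),
      algebraMap (X.presheaf.stalk x₀) X.functionField m = X.germToFunctionField U β) ↔
      β ∈ (hU.primeIdealOf ⟨x₀, hx₀⟩).asIdeal := by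
  rw [← germ_mem_maximalIdeal_iff hU hx₀]
  constructor
  · rintro ⟨m, hm, hmβ⟩
    rw [← Scheme.algebraMap_germ_eq_germToFunctionField X hx₀ β] at hmβ
    have := IsFractionRing.injective (X.presheaf.stalk x₀) X.functionField hmβ
    rwa [← this]
  · intro h
    exact ⟨_, h, Scheme.algebraMap_germ_eq_germToFunctionField X hx₀ β⟩

omit [IsIntegral X] [Nonempty U] in
include hU in
theorem specializes_of_primeIdealOf_le {x₀ z : X} (hx₀ : x₀ ∈ U) (hz : z ∈ U)
    (h : (hU.primeIdealOf ⟨x₀, hx₀⟩).asIdeal ≤ (hU.primeIdealOf ⟨z, hz⟩).asIdeal) : x₀ ⤳ z := by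
  have := ((PrimeSpectrum.le_iff_specializes (hU.primeIdealOf ⟨x₀, hx₀⟩)
    (hU.primeIdealOf ⟨z, hz⟩)).mp h).map hU.fromSpec.continuous
  rwa [hU.fromSpec_primeIdealOf ⟨x₀, hx₀⟩, hU.fromSpec_primeIdealOf ⟨z, hz⟩] at this

end Groth.Agent.Lib.Helper5.ChartFrac
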