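import Groth.Agent.Lib.Helper5.RegQuot
import Groth.Agent.Lib.Helper5.StalkKer
import Groth.Agent.Lib.Helper5.ChartFrac

/-!
# Helper5: closed immersions at regular points

Charts on which the ideal of a closed immersion between regular points is generated by a regular
sequence, and the converse.
-/

set_option autoImplicit false
universe u

open CategoryTheory AlgebraicGeometry TopologicalSpace RingTheory.Sequence

namespace Groth.Agent.Lib.Helper5.RegImm

variable {X Y : Scheme.{u}} [IsLocallyNoetherian X] (j : Y ⟶ X) [IsClosedImmersion j]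

/-- If the ideal of the closed immersion `j` is generated on an affine chart `U ∋ j y` by a weakly
regular sequence, then the kernel of the stalk map at `y` is generated by a regular sequence. -/
theorem exists_stalk_of_chart (y : Y)
    {U : X.Opens} (hU : IsAffineOpen U) (hyU : j y ∈ U) (rs : List Γ(X, U))
    (hrs : IsWeaklyRegular Γ(X, U) rs) (hker : j.ker.ideal ⟨U, hU⟩ = Ideal.ofList rs) :
    ∃ rsS : List (X.presheaf.stalk (j y)), IsRegular (X.presheaf.stalk (j y)) rsS ∧
      RingHom.ker (j.stalkMap y).hom = Ideal.ofList rsS := by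
  haveI : IsNoetherianRing Γ(X, U) := IsLocallyNoetherian.component_noetherian ⟨U, hU⟩
  letI alg := X.presheaf.algebra_section_stalk ⟨j y, hyU⟩
  have loc := hU.isLocalization_stalk ⟨j y, hyU⟩
  have hI : j.ker.ideal ⟨U, hU⟩ = RingHom.ker (j.app U).hom := Scheme.Hom.ker_apply j ⟨U, hU⟩
  have hJ : RingHom.ker (j.stalkMap y).hom =
      (Ideal.ofList rs).map (algebraMap Γ(X, U) (X.presheaf.stalk (j y))) := by
    rw [← hker, hI]
    exact StalkKer.ker_stalkMap_eq_map_ker j hU y hyU
  have hJtop : RingHom.ker (j.stalkMap y).hom ≠ ⊤ := RingHom.ker_ne_top _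
  have hmem : ∀ r ∈ rs, r ∈ (hU.primeIdealOf ⟨j y, hyU⟩).asIdeal := by
    intro r hr
    rw [← ChartFrac.germ_mem_maximalIdeal_iff hU hyU r]
    apply IsLocalRing.le_maximalIdeal hJtop
    rw [hJ]
    exact Ideal.mem_map_of_mem _ (Ideal.subset_span hr)
  have hreg : IsRegular (X.presheaf.stalk (j y))
      (rs.map (algebraMap Γ(X, U) (X.presheaf.stalk (j y)))) :=
    hrs.isRegular_of_isLocalization_of_mem (X.presheaf.stalk (j y))
      (hU.primeIdealOf ⟨j y, hyU⟩).asIdeal hmem
  rw [Ideal.map_ofList] at hJ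
  exact ⟨_, hreg, hJ⟩

/-- If the ideal of the closed immersion `j` is generated on an affine chart `U ∋ j y` by a weakly
regular sequence and `O_{Y,y}` is regular, then `O_{X,j y}` is regular. -/
theorem isRegularLocalRing_of_regular_chart (y : Y) [IsRegularLocalRing (Y.presheaf.stalk y)]
    {U : X.Opens} (hU : IsAffineOpen U) (hyU : j y ∈ U) (rs : List Γ(X, U))
    (hrs : IsWeaklyRegular Γ(X, U) rs) (hker : j.ker.ideal ⟨U, hU⟩ = Ideal.ofList rs) :
    IsRegularLocalRing (X.presheaf.stalk (j y)) := by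
  obtain ⟨rsS, hreg, hJ⟩ := exists_stalk_of_chart j y hU hyU rs hrs hker
  have hq : IsRegularLocalRing (X.presheaf.stalk (j y) ⧸ Ideal.ofList rsS) := by
    rw [← hJ]
    exact IsRegularLocalRing.of_ringEquiv
      (RingHom.quotientKerEquivOfSurjective (j.stalkMap_surjective y)).symm
  exact RegQuot.isRegularLocalRing_of_quotient _ _ hreg hq

/-- If the kernel of the stalk map at `y` is generated by a weakly regular sequence, there is an
affine chart `U`, a function `h` not vanishing at the point and a sequence `rsA` in the ideal of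
`j` on `U`, such that after inverting `h` the sequence generates the ideal and is regular. -/
theorem exists_regular_chart_of_stalk (y : Y) (rsS : List (X.presheaf.stalk (j y)))
    (hrsS : IsWeaklyRegular (X.presheaf.stalk (j y)) rsS)
    (hJrs : RingHom.ker (j.stalkMap y).hom = Ideal.ofList rsS) :
    ∃ (U : X.Opens) (hU : IsAffineOpen U) (h : Γ(X, U)) (rsA : List Γ(X, U)),
      j y ∈ X.basicOpen h ∧ (∀ a ∈ rsA, a ∈ j.ker.ideal ⟨U, hU⟩) ∧
      (∀ z ∈ j.ker.ideal ⟨U, hU⟩, h * z ∈ Ideal.ofList rsA) ∧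
      ∀ (i : ℕ) (hi : i < rsA.length), ∀ z : Γ(X, U),
        rsA[i] * z ∈ Ideal.ofList (rsA.take i) → h * z ∈ Ideal.ofList (rsA.take i) := by
  classical
  obtain ⟨_, ⟨U, hU0, rfl⟩, hyU, -⟩ :=
    X.isBasis_affineOpens.exists_subset_of_mem_open (Set.mem_univ (j y)) isOpen_univ
  have hU : IsAffineOpen U := hU0
  haveI : IsNoetherianRing Γ(X, U) := IsLocallyNoetherian.component_noetherian ⟨U, hU⟩
  letI alg := X.presheaf.algebra_section_stalk ⟨j y, hyU⟩
  have loc := hU.isLocalization_stalk ⟨j y, hyU⟩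
  have hpprime : (hU.primeIdealOf ⟨j y, hyU⟩).asIdeal.IsPrime :=
    (hU.primeIdealOf ⟨j y, hyU⟩).isPrime
  have hI : j.ker.ideal ⟨U, hU⟩ = RingHom.ker (j.app U).hom := Scheme.Hom.ker_apply j ⟨U, hU⟩
  have hJ : RingHom.ker (j.stalkMap y).hom =
      (j.ker.ideal ⟨U, hU⟩).map (algebraMap Γ(X, U) (X.presheaf.stalk (j y))) := by
    rw [hI]
    exact StalkKer.ker_stalkMap_eq_map_ker j hU y hyU
  -- representatives in the ideal, up to units
  have hrep : ∀ s : X.presheaf.stalk (j y), ∃ a : Γ(X, U),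
      s ∈ RingHom.ker (j.stalkMap y).hom → a ∈ j.ker.ideal ⟨U, hU⟩ ∧
        ∃ u : (X.presheaf.stalk (j y))ˣ,
          algebraMap Γ(X, U) (X.presheaf.stalk (j y)) a = s * u := by
    intro s
    by_cases hs : s ∈ RingHom.ker (j.stalkMap y).hom
    · have hs' := hs
      rw [hJ, IsLocalization.mem_map_algebraMap_iff
        (hU.primeIdealOf ⟨j y, hyU⟩).asIdeal.primeCompl] at hs'
      obtain ⟨⟨a, σ⟩, hσ⟩ := hs'
      refine ⟨a.1, fun _ => ⟨a.2, (IsLocalization.map_units (X.presheaf.stalk (j y)) σ).unit, ?_⟩⟩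
      exact hσ.symm
    · exact ⟨0, fun h => absurd h hs⟩
  choose c hc using hrep
  have hφ : ∀ s ∈ rsS, ∃ u : (X.presheaf.stalk (j y))ˣ,
      (fun s => algebraMap Γ(X, U) (X.presheaf.stalk (j y)) (c s)) s = s * u := by
    intro s hs
    exact (hc s (hJrs ▸ Ideal.subset_span hs)).2
  have hmapmap : (rsS.map c).map (algebraMap Γ(X, U) (X.presheaf.stalk (j y))) =
      rsS.map (fun s => algebraMap Γ(X, U) (X.presheaf.stalk (j y)) (c s)) := by
    rw [List.map_map]; rfl
  have hregA : IsWeaklyRegular (X.presheaf.stalk (j y))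
      ((rsS.map c).map (algebraMap Γ(X, U) (X.presheaf.stalk (j y)))) := by
    rw [hmapmap]
    exact RegSeq.isWeaklyRegular_map_unit rsS _ hφ hrsS
  have hofA : (Ideal.ofList (rsS.map c)).map (algebraMap Γ(X, U) (X.presheaf.stalk (j y))) =
      RingHom.ker (j.stalkMap y).hom := by
    rw [Ideal.map_ofList, hmapmap, RegSeq.ofList_map_unit rsS _ hφ, hJrs]
  have hmemA : ∀ a ∈ rsS.map c, a ∈ j.ker.ideal ⟨U, hU⟩ := by
    intro a ha
    obtain ⟨s, hs, rfl⟩ := List.mem_map.mp ha
    exact (hc s (hJrs ▸ Ideal.subset_span hs)).1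
  obtain ⟨h₂, hh₂, hcol⟩ := RegSeq.exists_notMem_forall_colon (S := X.presheaf.stalk (j y))
    (hU.primeIdealOf ⟨j y, hyU⟩).asIdeal (rsS.map c) hregA
  obtain ⟨h₃, hh₃, hmul⟩ := RegSeq.exists_notMem_forall_mul_mem (S := X.presheaf.stalk (j y))
    (hU.primeIdealOf ⟨j y, hyU⟩).asIdeal (j.ker.ideal ⟨U, hU⟩) (Ideal.ofList (rsS.map c))
    (IsNoetherian.noetherian _) (by
      intro z hz
      rw [hofA, hJ]
      exact Ideal.mem_map_of_mem _ hz)
  refine ⟨U, hU, h₂ * h₃, rsS.map c, ?_, hmemA, ?_, ?_⟩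
  · rw [Scheme.mem_basicOpen _ _ _ hyU]
    have hnot : h₂ * h₃ ∉ (hU.primeIdealOf ⟨j y, hyU⟩).asIdeal :=
      fun h => (hpprime.mem_or_mem h).elim hh₂ hh₃
    exact IsLocalization.map_units (X.presheaf.stalk (j y))
      (⟨_, hnot⟩ : (hU.primeIdealOf ⟨j y, hyU⟩).asIdeal.primeCompl)
  · intro z hz
    rw [mul_assoc]
    exact Ideal.mul_mem_left _ _ (hmul z hz)
  · intro i hi z hz
    rw [mul_comm h₂ h₃, mul_assoc]
    exact Ideal.mul_mem_left _ _ (hcol i hi z hz)

/-- At a point where both local rings are regular, there is an affine chart `U`, a function `h`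
not vanishing at the point and a sequence `rsA` in the ideal of `j` on `U`, such that after
inverting `h` the sequence generates the ideal and is regular. -/
theorem exists_regular_chart (y : Y) [IsRegularLocalRing (Y.presheaf.stalk y)]
    [IsRegularLocalRing (X.presheaf.stalk (j y))] :
    ∃ (U : X.Opens) (hU : IsAffineOpen U) (h : Γ(X, U)) (rsA : List Γ(X, U)),
      j y ∈ X.basicOpen h ∧ (∀ a ∈ rsA, a ∈ j.ker.ideal ⟨U, hU⟩) ∧
      (∀ z ∈ j.ker.ideal ⟨U, hU⟩, h * z ∈ Ideal.ofList rsA) ∧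
      ∀ (i : ℕ) (hi : i < rsA.length), ∀ z : Γ(X, U),
        rsA[i] * z ∈ Ideal.ofList (rsA.take i) → h * z ∈ Ideal.ofList (rsA.take i) := by
  have hJtop : RingHom.ker (j.stalkMap y).hom ≠ ⊤ := RingHom.ker_ne_top _
  haveI : IsRegularLocalRing (X.presheaf.stalk (j y) ⧸ RingHom.ker (j.stalkMap y).hom) :=
    IsRegularLocalRing.of_ringEquiv
      (RingHom.quotientKerEquivOfSurjective (j.stalkMap_surjective y)).symm
  obtain ⟨rsS, hrsS, hJrs⟩ := RegQuot.exists_isRegular_of_quotient_regular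
    (X.presheaf.stalk (j y)) (RingHom.ker (j.stalkMap y).hom) hJtop
  exact exists_regular_chart_of_stalk j y rsS hrsS.toIsWeaklyRegular hJrs

end Groth.Agent.Lib.Helper5.RegImm
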