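import Mathlib

/-!
# Countable products of K-injective complexes in the derived category (helper5)
-/

set_option autoImplicit false
universe w v u
open CategoryTheory CategoryTheory.Limits

noncomputable section
namespace Groth.Agent.Lib.Helper5.DProd

variable {A : Type u} [Category.{v} A] [Abelian A]

section Assembly

variable {ι : Type} (I : ι → CochainComplex A ℤ) [HasProduct I]
  [∀ j : ℤ, PreservesLimit (Discrete.functor I) (HomologicalComplex.eval A (ComplexShape.up ℤ) j)]

/-- the terms of the product complex are products of the terms -/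
def isLimitX (j : ℤ) :
    IsLimit (Fan.mk ((∏ᶜ I).X j) (fun n => (Pi.π I n).f j)) :=
  isLimitFanMkObjOfIsLimit (HomologicalComplex.eval A (ComplexShape.up ℤ) j) _ _
    (productIsProduct I)

/-- assembling homotopies into the product -/
def homotopyProd {X : CochainComplex A ℤ} (ψ ψ' : X ⟶ ∏ᶜ I)
    (h : ∀ n, Homotopy (ψ ≫ Pi.π I n) (ψ' ≫ Pi.π I n)) : Homotopy ψ ψ' where
  hom i j := Fan.IsLimit.lift (isLimitX I j) (fun n => (h n).hom i j)
  zero i j hij := by
    apply Fan.IsLimit.hom_ext (isLimitX I j)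
    intro n
    rw [Fan.IsLimit.fac, zero_comp]
    exact (h n).zero i j hij
  comm i := by
    apply Fan.IsLimit.hom_ext (isLimitX I i)
    intro n
    have h1 := (h n).comm i
    rw [dNext_eq _ (show (ComplexShape.up ℤ).Rel i (i + 1) from rfl),
      prevD_eq _ (show (ComplexShape.up ℤ).Rel (i - 1) i by simp)] at h1 ⊢
    change ψ.f i ≫ (Pi.π I n).f i = _ ≫ (Pi.π I n).f i
    rw [Preadditive.add_comp, Preadditive.add_comp, Category.assoc, Category.assoc]
    have e1 : Fan.IsLimit.lift (isLimitX I i) (fun n => (h n).hom (i + 1) i) ≫ (Pi.π I n).f i =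
        (h n).hom (i + 1) i := Fan.IsLimit.fac (isLimitX I i) _ n
    have e2 : (∏ᶜ I).d (i - 1) i ≫ (Pi.π I n).f i = (Pi.π I n).f (i - 1) ≫ (I n).d (i - 1) i :=
      ((Pi.π I n).comm (i - 1) i).symm
    have e3 : Fan.IsLimit.lift (isLimitX I (i - 1)) (fun n => (h n).hom i (i - 1)) ≫
        (Pi.π I n).f (i - 1) = (h n).hom i (i - 1) := Fan.IsLimit.fac (isLimitX I (i - 1)) _ n
    rw [e1, e2, reassoc_of% e3]
    exact h1

end Assembly

section KInj

variable {ι : Type} (I : ι → CochainComplex A ℤ) [HasProduct I]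
  [∀ j : ℤ, PreservesLimit (Discrete.functor I) (HomologicalComplex.eval A (ComplexShape.up ℤ) j)]
  [∀ n, (I n).IsKInjective]

/-- a product of K-injective complexes is K-injective -/
instance isKInjective_prod : (∏ᶜ I).IsKInjective where
  nonempty_homotopy_zero {_} f hK :=
    ⟨homotopyProd I f 0 (fun n =>
      (CochainComplex.IsKInjective.homotopyZero (f ≫ Pi.π I n) hK).trans
        (Homotopy.ofEq (zero_comp).symm))⟩

end KInj

section Derived

variable [HasDerivedCategory.{w} A]

open DerivedCategory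

/-- (E) maps to a K-injective complex in `D(A)` are represented by chain maps -/
lemma exists_Q_map_eq (X L : CochainComplex A ℤ) [L.IsKInjective] (f : Q.obj X ⟶ Q.obj L) :
    ∃ φ : X ⟶ L, f = Q.map φ := by
  let f' : Qh.obj ((HomotopyCategory.quotient _ _).obj X) ⟶
      Qh.obj ((HomotopyCategory.quotient _ _).obj L) :=
    (quotientCompQhIso A).hom.app X ≫ f ≫ (quotientCompQhIso A).inv.app L
  obtain ⟨g, hg⟩ := (CochainComplex.IsKInjective.Qh_map_bijective _ L).surjective f'
  obtain ⟨φ, rfl⟩ := (HomotopyCategory.quotient _ _).map_surjective g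
  refine ⟨φ, ?_⟩
  have h1 := quotientCompQhIso_hom_naturality φ
  rw [hg] at h1
  dsimp only [f'] at h1
  rw [Category.assoc, Category.assoc, Iso.inv_hom_id_app, Category.comp_id] at h1
  exact (cancel_epi ((quotientCompQhIso A).hom.app X)).1 h1

/-- (U) chain maps to a K-injective complex equal in `D(A)` are homotopic -/
lemma nonempty_homotopy_of_Q_map_eq {X L : CochainComplex A ℤ} [L.IsKInjective] (φ φ' : X ⟶ L)
    (h : Q.map φ = Q.map φ') : Nonempty (Homotopy φ φ') := by
  have h1 := quotientCompQhIso_hom_naturality φ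
  have h2 := quotientCompQhIso_hom_naturality φ'
  rw [h, ← h2] at h1
  have h3 := (cancel_mono ((quotientCompQhIso A).hom.app L)).1 h1
  exact ⟨HomotopyCategory.homotopyOfEq _ _
    ((CochainComplex.IsKInjective.Qh_map_bijective _ L).injective h3)⟩

variable {ι : Type} (I : ι → CochainComplex A ℤ) [HasProduct I]
  [∀ j : ℤ, PreservesLimit (Discrete.functor I) (HomologicalComplex.eval A (ComplexShape.up ℤ) j)]
  [∀ n, (I n).IsKInjective]

/-- the image in `D(A)` of a product of K-injective complexes is a product -/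
def isLimitQProd : IsLimit (Fan.mk (Q.obj (∏ᶜ I)) (fun n => Q.map (Pi.π I n))) := by
  refine mkFanLimit _ (fun s => (Q.objObjPreimageIso s.pt).inv ≫ Q.map (Pi.lift (fun n =>
    (exists_Q_map_eq _ (I n) ((Q.objObjPreimageIso s.pt).hom ≫ s.proj n)).choose))) ?_ ?_
  · intro s n
    have h := (exists_Q_map_eq _ (I n) ((Q.objObjPreimageIso s.pt).hom ≫ s.proj n)).choose_spec
    change ((Q.objObjPreimageIso s.pt).inv ≫ Q.map _) ≫ Q.map (Pi.π I n) = s.proj n
    rw [Category.assoc, ← Functor.map_comp, Pi.lift_π, ← h, Iso.inv_hom_id_assoc]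
  · intro s m hm
    rw [← cancel_epi (Q.objObjPreimageIso s.pt).hom, Iso.hom_inv_id_assoc]
    obtain ⟨ψ, hψ⟩ := exists_Q_map_eq _ (∏ᶜ I) ((Q.objObjPreimageIso s.pt).hom ≫ m)
    rw [hψ]
    have hh : ∀ n, Nonempty (Homotopy (ψ ≫ Pi.π I n) (Pi.lift (fun n =>
        (exists_Q_map_eq _ (I n) ((Q.objObjPreimageIso s.pt).hom ≫ s.proj n)).choose) ≫
          Pi.π I n)) := by
      intro n
      apply nonempty_homotopy_of_Q_map_eq
      have h := (exists_Q_map_eq _ (I n) ((Q.objObjPreimageIso s.pt).hom ≫ s.proj n)).choose_spec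
      rw [Pi.lift_π, ← h, Functor.map_comp, ← hψ, Category.assoc]
      congr 1
      exact hm n
    exact Q_map_eq_of_homotopy A (homotopyProd I _ _ (fun n => (hh n).some))

instance hasProduct_Q_obj : HasProduct (fun n => Q.obj (I n)) :=
  ⟨⟨⟨_, isLimitQProd I⟩⟩⟩

end Derived

section Main

variable [HasDerivedCategory.{w} A] [HasLimitsOfShape (Discrete ℕ) A] [EnoughInjectives A]

open DerivedCategory

omit [HasLimitsOfShape (Discrete ℕ) A] in
/-- bounded below objects of `D(A)` are represented by K-injective complexes -/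
lemma exists_kInjective_of_isGE (X : DerivedCategory A) (a : ℤ) [X.IsGE a] :
    ∃ (L : CochainComplex A ℤ) (_ : L.IsKInjective), Nonempty (X ≅ Q.obj L) := by
  obtain ⟨K', hK', ⟨e⟩⟩ := X.exists_iso_Q_obj_of_isGE a
  obtain ⟨L, i, hi, hL, hL'⟩ :=
    CochainComplex.Plus.modelCategoryQuillen.exists_quasiIso_injective K' a
  haveI : IsIso (Q.map i) := (isIso_Q_map_iff_quasiIso A i).2 hi
  exact ⟨L, CochainComplex.isKInjective_of_injective L a, ⟨e ≪≫ asIso (Q.map i)⟩⟩

/-- S1075 in library form -/
theorem hasProduct_of_isGE (K : ℕ → DerivedCategory A) (hK : ∀ n, ∃ a : ℤ, (K n).IsGE a) :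
    HasProduct K := by
  have h : ∀ n, ∃ (L : CochainComplex A ℤ) (_ : L.IsKInjective), Nonempty (K n ≅ Q.obj L) := by
    intro n
    obtain ⟨a, ha⟩ := hK n
    exact exists_kInjective_of_isGE (K n) a
  choose I hI e using h
  haveI : ∀ n, (I n).IsKInjective := hI
  haveI := hasProduct_Q_obj I
  exact hasLimit_of_iso (F := Discrete.functor (fun n => Q.obj (I n)))
    (Discrete.natIso (fun ⟨n⟩ => (e n).some.symm))

end Main

end Groth.Agent.Lib.Helper5.DProd
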