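import Groth.Agent.Lib.Helper5.TruncRlim
import Groth.Agent.Lib.Helper5.DProd

/-!
# Cohomology over members of a covering class with acyclic cohomology sheaves (helper5)
-/

set_option autoImplicit false
universe u
open CategoryTheory CategoryTheory.Limits CategoryTheory.Pretriangulated Opposite

noncomputable section
namespace Groth.Agent.Lib.Helper5.CohBasis

open HDULocal DerivedCategory CohCx TruncRlim

variable {C : Type u} [SmallCategory C] {J : GrothendieckTopology C}

/-- vanishing of `H^k(W, -)` is invariant under isomorphism of sheaves -/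
lemma subsingleton_HU_of_iso {G G' : Sheaf J AddCommGrpCat.{u}} (e : G ≅ G') (k : ℕ) (W : C)
    [Subsingleton (CohSite.HU G k W)] : Subsingleton (CohSite.HU G' k W) := by
  constructor
  intro x y
  have hx : ∀ z : Abelian.Ext (CohCx.freeSheaf J W) G' k,
      z = (z.comp (Abelian.Ext.mk₀ e.inv) (add_zero k)).comp (Abelian.Ext.mk₀ e.hom)
        (add_zero k) := by
    intro z
    rw [Abelian.Ext.comp_assoc_of_third_deg_zero, Abelian.Ext.mk₀_comp_mk₀, e.inv_hom_id,
      Abelian.Ext.comp_mk₀_id]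
  have hxy : (Abelian.Ext.comp (x : Abelian.Ext (CohCx.freeSheaf J W) G' k)
      (Abelian.Ext.mk₀ e.inv) (add_zero k)) =
      (Abelian.Ext.comp (y : Abelian.Ext (CohCx.freeSheaf J W) G' k)
      (Abelian.Ext.mk₀ e.inv) (add_zero k)) :=
    Subsingleton.elim (α := CohSite.HU G k W) _ _
  exact (hx x).trans ((congrArg (fun z => Abelian.Ext.comp z (Abelian.Ext.mk₀ e.hom)
    (add_zero k)) hxy).trans (hx y).symm)

/-- every covering sieve contains a covering family by members of the covering class -/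
lemma exists_B_family (B : Set C)
    (hB : ∀ U : C, ∃ (ι : Type u) (Y : ι → C) (f : ∀ i, Y i ⟶ U),
      Sieve.ofArrows Y f ∈ J U ∧ ∀ i, Y i ∈ B)
    (V : C) (T : Sieve V) (hT : T ∈ J V) :
    ∃ (ι : Type u) (Y : ι → C) (f : ∀ i, Y i ⟶ V), (∀ i, T.arrows (f i)) ∧
      Sieve.ofArrows Y f ∈ J V ∧ ∀ i, Y i ∈ B := by
  choose ιB YB fB hcovB hYB using hB
  refine ⟨Σ (p : Σ W : C, {g : W ⟶ V // T g}), ιB p.1, fun i => YB i.1.1 i.2,
    fun i => fB i.1.1 i.2 ≫ i.1.2.1, fun i => T.downward_closed i.1.2.2 _, ?_,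
    fun i => hYB _ _⟩
  refine J.superset_covering ?_ (J.bind_covering hT
    (R := fun W g _ => Sieve.ofArrows (YB W) (fB W)) (fun W g _ => hcovB W))
  intro W' g hg
  obtain ⟨W, g₁, g₂, hg₂, hg₁, rfl⟩ := hg
  obtain ⟨Z, h', k, ⟨j⟩, rfl⟩ := hg₁
  rw [Category.assoc]
  exact Sieve.downward_closed _
    (Sieve.ofArrows_mk (fun i : (Σ (p : Σ W : C, {g : W ⟶ V // T g}), ιB p.1) => YB i.1.1 i.2)
      (fun i => fB i.1.1 i.2 ≫ i.1.2.1) ⟨⟨W, g₂, hg₂⟩, j⟩) h'

variable [HasDerivedCategory.{u} (Sheaf J AddCommGrpCat.{u})]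
  (E : DerivedCategory (Sheaf J AddCommGrpCat.{u})) (B : Set C)
  (hB : ∀ U : C, ∃ (ι : Type u) (Y : ι → C) (f : ∀ i, Y i ⟶ U),
      Sieve.ofArrows Y f ∈ J U ∧ ∀ i, Y i ∈ B)
  (hacy : ∀ W ∈ B, ∀ (p : ℕ) (j : ℤ), Subsingleton (CohSite.HU (CohCx.HD E j) (p + 1) W))

include hacy in
lemma hP_of_acyclic (W : C) (hW : W ∈ B) (m : ℤ) (k : ℕ) (hk : (0 : ℤ) < k) :
    Subsingleton (CohSite.HU (CohCx.HD E (m - k)) k W) := by
  obtain ⟨k', rfl⟩ : ∃ k', k = k' + 1 := ⟨k - 1, by omega⟩
  exact hacy W hW k' _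

include hB hacy in
/-- (1) `E` is the derived limit of its truncations -/
theorem isRlimVia_of_acyclic [HasProduct (truncTower E)] :
    CohCx.IsRlimVia (truncTower E) (truncTowerMap E) E (toTruncTower E) := by
  apply isRlimVia_site E B hB
  intro V _
  refine ⟨fun _ => 0, fun T hT => ?_⟩
  obtain ⟨ι, Y, f, hTf, hcov, hYB⟩ := exists_B_family B hB V T hT
  exact ⟨ι, Y, f, hTf, hcov, fun i m k hk => hP_of_acyclic E B hacy (Y i) (hYB i) m k hk⟩

include hacy in
/-- (2) `H^0(U, E) ⟶ H^0(U, τ_{≥ 0} E)` is bijective for `U ∈ B` -/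
theorem comp_toTrunc_bijective [HasProduct (truncTower E)]
    (hR : CohCx.IsRlimVia (truncTower E) (truncTowerMap E) E (toTruncTower E))
    (U : C) (hU : U ∈ B) :
    Function.Bijective (fun z : sg.obj (CohCx.freeSheaf J U) ⟶ (shiftFunctor _ (0 : ℤ)).obj E =>
      z ≫ (shiftFunctor _ (0 : ℤ)).map (toTruncTower E 0)) := by
  obtain ⟨c, hΔ⟩ := hR
  have hP : ∀ m : ℤ, ∀ k : ℕ, (0 : ℤ) < k → Subsingleton (CohSite.HU (CohCx.HD E (m - k)) k U) :=
    fun m k hk => hP_of_acyclic E B hacy U hU m k hk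
  have h0 := limOne_and_inj E U 0 0 (hP 0) 0 (by omega) (by omega)
  constructor
  · -- injectivity
    intro z z' hzz'
    rw [← sub_eq_zero]
    have hz : (z - z') ≫ (shiftFunctor _ (0 : ℤ)).map (toTruncTower E 0) = 0 := by
      rw [Preadditive.sub_comp, sub_eq_zero]
      exact hzz'
    have hz' : ∀ n, (z - z') ≫ (shiftFunctor _ (0 : ℤ)).map (toTruncTower E n) = 0 := by
      apply MilnorSeq.comp_a_eq_zero (truncTower E) (truncTowerMap E) E (toTruncTower E)
        (toTruncTower_comp_map E) 0 0 (z - z') hz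
      intro k
      rw [RlimInj.trans_eq]
      exact h0.2 k
    exact MilnorSeq.eq_zero_of_limOne (truncTower E) (truncTowerMap E) E (toTruncTower E) c hΔ 0
      (0 - 1) (by omega) h0.1 (z - z') hz'
  · -- surjectivity
    intro x₀
    have hsurj : ∀ n : ℕ, Function.Surjective (Preadditive.rightComp
        (sg.obj (CohCx.freeSheaf J U)) ((shiftFunctor _ (0 : ℤ)).map (truncTowerMap E n))) :=
      fun n => comp_truncTowerMap_surjective E n U 1 0 (by omega)
        (hN_of_vanishing E U 1 0 (hP 1) n (by omega) (by omega))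
    let x : ∀ n, sg.obj (CohCx.freeSheaf J U) ⟶ (shiftFunctor _ (0 : ℤ)).obj (truncTower E n) :=
      fun n => Nat.rec (motive := fun n => sg.obj (CohCx.freeSheaf J U) ⟶
        (shiftFunctor _ (0 : ℤ)).obj (truncTower E n)) x₀
        (fun n xn => (hsurj n xn).choose) n
    have hx : ∀ n, x (n + 1) ≫ (shiftFunctor _ (0 : ℤ)).map (truncTowerMap E n) = x n :=
      fun n => (hsurj n (x n)).choose_spec
    obtain ⟨y, hy⟩ := MilnorSeq.exists_lift (truncTower E) (truncTowerMap E) E (toTruncTower E)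
      c hΔ 0 x hx
    exact ⟨y, hy 0⟩

omit [HasDerivedCategory.{u} (Sheaf J AddCommGrpCat.{u})] in
/-- sections of isomorphic sheaves -/
def sectAddEquiv {G G' : Sheaf J AddCommGrpCat.{u}} (e : G ≅ G') (U : C) :
    G.obj.obj (op U) ≃+ G'.obj.obj (op U) :=
  ((sheafToPresheaf J AddCommGrpCat.{u} ⋙ (evaluation _ _).obj (op U)).mapIso
    e).addCommGroupIsoToAddEquiv

/-- postcomposition with an isomorphism, as an additive equivalence -/
def homAddEquivOfIso {D : Type*} [Category D] [Preadditive D] (Z : D) {X Y : D} (e : X ≅ Y) :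
    (Z ⟶ X) ≃+ (Z ⟶ Y) where
  toFun f := f ≫ e.hom
  invFun g := g ≫ e.inv
  left_inv f := by simp
  right_inv g := by simp
  map_add' f g := Preadditive.add_comp _ _ _ _ _ _

/-- (3) for `L ∈ D^{≥ 0}`, `H^0(U, L)` is the group of sections of `H^0(L)` over `U` -/
theorem nonempty_hom_addEquiv_sect_of_isGE (L : DerivedCategory (Sheaf J AddCommGrpCat.{u}))
    [L.IsGE 0] (U : C) :
    Nonempty ((sg.obj (CohCx.freeSheaf J U) ⟶ L) ≃+ (H0.obj L).obj.obj (op U)) := by
  let t := TStructure.t (C := Sheaf J AddCommGrpCat.{u})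
  have hT := t.triangleLTGE_distinguished 1 L
  haveI : t.IsLE ((t.truncLT 1).obj L) 0 := t.isLE_truncLT_obj L 1 0
  haveI h3 : t.IsGE ((t.truncGE 1).obj L) 1 := inferInstance
  haveI : ((t.truncLT 1).obj L).IsGE 0 := (isGE_iff _ 0).2 (fun i hi => by
    apply isZero_homology_obj₁ _ hT i (i - 1) (by omega)
    · have hz : IsZero ((homologyFunctor _ (i - 1)).obj ((t.truncGE 1).obj L)) :=
        isZero_of_isGE _ 1 (i - 1) (by omega)
      constructor
      intro Z g h' _
      exact hz.eq_of_src _ _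
    · have hz : IsZero ((homologyFunctor _ i).obj L) := isZero_of_isGE _ 0 i hi
      constructor
      intro Z g h' _
      exact hz.eq_of_tgt _ _)
  obtain ⟨Y, ⟨e⟩⟩ := exists_iso_singleFunctor_obj_of_isGE_of_isLE ((t.truncLT 1).obj L) 0
  haveI : IsIso (H0.map ((t.truncLTι 1).app L)) :=
    isIso_homology_map_mor₁ _ hT 0 (-1) (by omega)
      (isZero_of_isGE ((t.truncGE 1).obj L) 1 (-1) (by omega))
      (isZero_of_isGE ((t.truncGE 1).obj L) 1 0 (by omega))
  haveI : t.IsLE (sg.obj (CohCx.freeSheaf J U)) (1 - 1) :=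
    (inferInstance : (sg.obj (CohCx.freeSheaf J U)).IsLE 0)
  haveI : t.IsLE (sg.obj (CohCx.freeSheaf J U)) 0 :=
    (inferInstance : (sg.obj (CohCx.freeSheaf J U)).IsLE 0)
  let e1 : (sg.obj (CohCx.freeSheaf J U) ⟶ (t.truncLT 1).obj L) ≃+
      (sg.obj (CohCx.freeSheaf J U) ⟶ L) :=
    AddEquiv.ofBijective (Preadditive.rightComp _ ((t.truncLTι 1).app L))
      ⟨fun f g h => t.to_truncLT_obj_ext h,
        fun f => ⟨t.liftTruncLT f 0 1 rfl, t.liftTruncLT_ι f 0 1 rfl⟩⟩
  let e2 := homAddEquivOfIso (sg.obj (CohCx.freeSheaf J U)) e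
  let e3 : (CohCx.freeSheaf J U ⟶ Y) ≃+ (sg.obj (CohCx.freeSheaf J U) ⟶ sg.obj Y) :=
    AddEquiv.ofBijective (sg.mapAddHom) ⟨sg.map_injective, sg.map_surjective⟩
  let e4 := CohFree.homEquivSect J U Y
  let e5 : Y ≅ H0.obj L :=
    (sIsoS Y).symm ≪≫ H0.mapIso e.symm ≪≫ asIso (H0.map ((t.truncLTι 1).app L))
  exact ⟨e1.symm.trans (e2.trans (e3.symm.trans (e4.trans (sectAddEquiv e5 U))))⟩

include hB hacy in
/-- degree-zero case -/
theorem nonempty_equiv_zero (U : C) (hU : U ∈ B) :
    Nonempty ((sg.obj (CohCx.freeSheaf J U) ⟶ (shiftFunctor _ (0 : ℤ)).obj E) ≃+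
      (H0.obj E).obj.obj (op U)) := by
  haveI : HasProduct (truncTower E) :=
    DProd.hasProduct_of_isGE _ (fun n => ⟨-(n : ℤ), inferInstance⟩)
  have hR := isRlimVia_of_acyclic E B hB hacy
  let e1 : (sg.obj (CohCx.freeSheaf J U) ⟶ (shiftFunctor _ (0 : ℤ)).obj E) ≃+
      (sg.obj (CohCx.freeSheaf J U) ⟶ (shiftFunctor _ (0 : ℤ)).obj (truncTower E 0)) :=
    AddEquiv.ofBijective (Preadditive.rightComp _ ((shiftFunctor _ (0 : ℤ)).map (toTruncTower E 0)))
      (comp_toTrunc_bijective E B hacy hR U hU)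
  let e2 := homAddEquivOfIso (sg.obj (CohCx.freeSheaf J U))
    ((shiftFunctorZero (DerivedCategory (Sheaf J AddCommGrpCat.{u})) ℤ).app (truncTower E 0))
  haveI : (truncTower E 0).IsGE 0 := by
    have : (truncTower E 0).IsGE (-((0 : ℕ) : ℤ)) := inferInstance
    simpa using this
  obtain ⟨e3⟩ := nonempty_hom_addEquiv_sect_of_isGE (truncTower E 0) U
  haveI := isIso_homology_map_toTruncTower E 0 0 (by simp)
  let e4 : H0.obj (truncTower E 0) ≅ H0.obj E := (asIso (H0.map (toTruncTower E 0))).symm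
  exact ⟨e1.trans (e2.trans (e3.trans (sectAddEquiv e4 U)))⟩

omit E hacy in
include hB in
/-- S0877 in library form -/
theorem nonempty_equiv (K : DerivedCategory (Sheaf J AddCommGrpCat.{u}))
    (h : ∀ U ∈ B, ∀ (p : ℕ) (q : ℤ), Subsingleton (CohSite.HU (CohCx.HD K q) (p + 1) U))
    (U : C) (hU : U ∈ B) (q : ℤ) :
    Nonempty (CohCx.HDU K q U ≃+ (CohCx.HD K q).obj.obj (op U)) := by
  have hacy : ∀ W ∈ B, ∀ (p : ℕ) (j : ℤ),
      Subsingleton (CohSite.HU (CohCx.HD ((shiftFunctor _ q).obj K) j) (p + 1) W) := by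
    intro W hW p j
    haveI := h W hW p (q + j)
    let i : CohCx.HD K (q + j) ≅ CohCx.HD ((shiftFunctor _ q).obj K) j :=
      (((homologyFunctor (Sheaf J AddCommGrpCat.{u}) 0).shiftIso q j (q + j) rfl).app K).symm
    exact subsingleton_HU_of_iso i (p + 1) W
  obtain ⟨e⟩ := nonempty_equiv_zero ((shiftFunctor _ q).obj K) B hB hacy U hU
  let e0 := homAddEquivOfIso (sg.obj (CohCx.freeSheaf J U))
    ((shiftFunctorZero (DerivedCategory (Sheaf J AddCommGrpCat.{u})) ℤ).app
      ((shiftFunctor _ q).obj K)).symm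
  exact ⟨e0.trans (e.trans (sectAddEquiv (RlimInj.shIso q K) U))⟩

section Bij

variable {K K' : DerivedCategory (Sheaf J AddCommGrpCat.{u})} (f : K ⟶ K') (U : C)

omit [HasDerivedCategory.{u} (Sheaf J AddCommGrpCat.{u})] in
lemma sect_bijective_of_isIso {G G' : Sheaf J AddCommGrpCat.{u}} (φ : G ⟶ G') [IsIso φ] :
    Function.Bijective ((φ.hom.app (op U)).hom) :=
  (sectAddEquiv (asIso φ) U).bijective

omit E in
/-- transfer of bijectivity of `toSect` along a map inducing bijections on `Hom(σℤ_U, -)` and an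
isomorphism on `H^0` (forward) -/
lemma toSect_bijective_of_comp
    (hf : Function.Bijective (fun z : sg.obj (CohCx.freeSheaf J U) ⟶ K => z ≫ f))
    [IsIso (H0.map f)] (h : Function.Bijective (toSect K' U)) :
    Function.Bijective (toSect K U) := by
  have h1 : ∀ z, ((H0.map f).hom.app (op U)).hom (toSect K U z) = toSect K' U (z ≫ f) :=
    fun z => (toSect_comp U z f).symm
  have hb := sect_bijective_of_isIso U (H0.map f)
  have h2 : Function.Bijective (fun z => ((H0.map f).hom.app (op U)).hom (toSect K U z)) := by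
    have : (fun z => ((H0.map f).hom.app (op U)).hom (toSect K U z)) =
        (toSect K' U) ∘ (fun z : sg.obj (CohCx.freeSheaf J U) ⟶ K => z ≫ f) := by
      funext z
      exact h1 z
    rw [this]
    exact h.comp hf
  exact (Function.Bijective.of_comp_iff' hb (toSect K U)).1 h2

omit E in
/-- transfer of bijectivity of `toSect` (backward) -/
lemma toSect_bijective_of_comp'
    (hf : Function.Bijective (fun z : sg.obj (CohCx.freeSheaf J U) ⟶ K => z ≫ f))
    [IsIso (H0.map f)] (h : Function.Bijective (toSect K U)) :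
    Function.Bijective (toSect K' U) := by
  have h1 : ∀ z, ((H0.map f).hom.app (op U)).hom (toSect K U z) = toSect K' U (z ≫ f) :=
    fun z => (toSect_comp U z f).symm
  have hb := sect_bijective_of_isIso U (H0.map f)
  have h2 : Function.Bijective ((toSect K' U) ∘
      (fun z : sg.obj (CohCx.freeSheaf J U) ⟶ K => z ≫ f)) := by
    have : (toSect K' U) ∘ (fun z : sg.obj (CohCx.freeSheaf J U) ⟶ K => z ≫ f) =
        (fun z => ((H0.map f).hom.app (op U)).hom (toSect K U z)) := by
      funext z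
      exact (h1 z).symm
    rw [this]
    exact hb.comp h
  exact (Function.Bijective.of_comp_iff (toSect K' U) hf).1 h2

omit E in
lemma comp_iso_bijective (e : K ≅ K') :
    Function.Bijective (fun z : sg.obj (CohCx.freeSheaf J U) ⟶ K => z ≫ e.hom) :=
  (homAddEquivOfIso (sg.obj (CohCx.freeSheaf J U)) e).bijective

end Bij

omit E in
/-- `toSect` is bijective for objects in the heart -/
lemma toSect_bijective_single (Y : Sheaf J AddCommGrpCat.{u}) (U : C) :
    Function.Bijective (toSect (sg.obj Y) U) := by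
  have key : ∀ b₀ : CohCx.freeSheaf J U ⟶ Y, toSect (sg.obj Y) U (sg.map b₀) =
      (((sIsoS Y).inv).hom.app (op U)).hom (CohFree.evalGen J U Y b₀) := by
    intro b₀
    rw [toSect_apply, sIsoS_inv_naturality]
    rfl
  have hb := sect_bijective_of_isIso U (sIsoS Y).inv
  constructor
  · intro z z' hzz'
    obtain ⟨b, rfl⟩ := sg.map_surjective z
    obtain ⟨b', rfl⟩ := sg.map_surjective z'
    rw [key, key] at hzz'
    have := (CohFree.homEquivSect J U Y).injective (hb.1 hzz')
    rw [this]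
  · intro s
    obtain ⟨s', hs'⟩ := hb.2 s
    refine ⟨sg.map (CohFree.ofSect J U Y s'), ?_⟩
    rw [key, CohFree.evalGen_ofSect, hs']

omit E in
/-- (3') `toSect` is bijective for `L ∈ D^{≥ 0}` -/
theorem toSect_bijective_of_isGE (L : DerivedCategory (Sheaf J AddCommGrpCat.{u}))
    [L.IsGE 0] (U : C) : Function.Bijective (toSect L U) := by
  let t := TStructure.t (C := Sheaf J AddCommGrpCat.{u})
  have hT := t.triangleLTGE_distinguished 1 L
  haveI : t.IsLE ((t.truncLT 1).obj L) 0 := t.isLE_truncLT_obj L 1 0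
  haveI h3 : t.IsGE ((t.truncGE 1).obj L) 1 := inferInstance
  haveI : ((t.truncLT 1).obj L).IsGE 0 := (isGE_iff _ 0).2 (fun i hi => by
    apply isZero_homology_obj₁ _ hT i (i - 1) (by omega)
    · have hz : IsZero ((homologyFunctor _ (i - 1)).obj ((t.truncGE 1).obj L)) :=
        isZero_of_isGE _ 1 (i - 1) (by omega)
      constructor
      intro Z g h' _
      exact hz.eq_of_src _ _
    · have hz : IsZero ((homologyFunctor _ i).obj L) := isZero_of_isGE _ 0 i hi
      constructor
      intro Z g h' _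
      exact hz.eq_of_tgt _ _)
  obtain ⟨Y, ⟨e⟩⟩ := exists_iso_singleFunctor_obj_of_isGE_of_isLE ((t.truncLT 1).obj L) 0
  haveI : IsIso (H0.map ((t.truncLTι 1).app L)) :=
    isIso_homology_map_mor₁ _ hT 0 (-1) (by omega)
      (isZero_of_isGE ((t.truncGE 1).obj L) 1 (-1) (by omega))
      (isZero_of_isGE ((t.truncGE 1).obj L) 1 0 (by omega))
  haveI : t.IsLE (sg.obj (CohCx.freeSheaf J U)) (1 - 1) :=
    (inferInstance : (sg.obj (CohCx.freeSheaf J U)).IsLE 0)
  haveI : t.IsLE (sg.obj (CohCx.freeSheaf J U)) 0 :=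
    (inferInstance : (sg.obj (CohCx.freeSheaf J U)).IsLE 0)
  have hι : Function.Bijective (fun z : sg.obj (CohCx.freeSheaf J U) ⟶ (t.truncLT 1).obj L =>
      z ≫ (t.truncLTι 1).app L) :=
    ⟨fun f g h => t.to_truncLT_obj_ext h,
      fun f => ⟨t.liftTruncLT f 0 1 rfl, t.liftTruncLT_ι f 0 1 rfl⟩⟩
  apply toSect_bijective_of_comp' ((t.truncLTι 1).app L) U hι
  exact toSect_bijective_of_comp e.hom U (comp_iso_bijective U e) (toSect_bijective_single Y U)

include hB hacy in
/-- `toSect` is bijective over members of a covering class with acyclic cohomology sheaves -/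
theorem toSect_bijective (U : C) (hU : U ∈ B) : Function.Bijective (toSect E U) := by
  haveI : HasProduct (truncTower E) :=
    DProd.hasProduct_of_isGE _ (fun n => ⟨-(n : ℤ), inferInstance⟩)
  have hR := isRlimVia_of_acyclic E B hB hacy
  haveI : (truncTower E 0).IsGE 0 := by
    have : (truncTower E 0).IsGE (-((0 : ℕ) : ℤ)) := inferInstance
    simpa using this
  let sz := shiftFunctorZero (DerivedCategory (Sheaf J AddCommGrpCat.{u})) ℤ
  have h3 := toSect_bijective_of_isGE (truncTower E 0) U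
  have h2 : Function.Bijective (toSect ((shiftFunctor _ (0 : ℤ)).obj (truncTower E 0)) U) :=
    toSect_bijective_of_comp (sz.app (truncTower E 0)).hom U
      (comp_iso_bijective U (sz.app (truncTower E 0))) h3
  haveI := isIso_homology_map_toTruncTower E 0 0 (by simp)
  haveI : IsIso (H0.map ((shiftFunctor _ (0 : ℤ)).map (toTruncTower E 0))) := by
    have hnat : (shiftFunctor _ (0 : ℤ)).map (toTruncTower E 0) =
        (sz.app E).hom ≫ toTruncTower E 0 ≫ (sz.app (truncTower E 0)).inv := by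
      have := sz.hom.naturality (toTruncTower E 0)
      dsimp only [Functor.id_map] at this
      rw [← Category.assoc, Iso.app_hom, ← this, Category.assoc, Iso.app_inv,
        Iso.hom_inv_id_app, Category.comp_id]
    rw [hnat, Functor.map_comp, Functor.map_comp]
    haveI : IsIso (H0.map (toTruncTower E 0)) :=
      (inferInstance : IsIso ((homologyFunctor _ 0).map (toTruncTower E 0)))
    infer_instance
  have h1 : Function.Bijective (toSect ((shiftFunctor _ (0 : ℤ)).obj E) U) :=
    toSect_bijective_of_comp ((shiftFunctor _ (0 : ℤ)).map (toTruncTower E 0)) U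
      (comp_toTrunc_bijective E B hacy hR U hU) h2
  exact toSect_bijective_of_comp (sz.app E).inv U (comp_iso_bijective U (sz.app E).symm) h1

end Groth.Agent.Lib.Helper5.CohBasis
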