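import Groth.Agent.Lib.Helper5.GenSite
import Groth.Agent.Lib.Helper5.RlimAcyclic

/-!
# `E` is the derived limit of its truncations, abstract generator setting (helper5)
-/

set_option autoImplicit false
universe w u
open CategoryTheory CategoryTheory.Limits CategoryTheory.Pretriangulated Opposite

noncomputable section
namespace Groth.Agent.Lib.Helper5.GenSite

open DerivedCategory CohCx

variable {C : Type u} [SmallCategory C] {J : GrothendieckTopology C}
  {𝒜 : Type (u + 1)} [Category.{u} 𝒜] [Abelian 𝒜] [HasDerivedCategory.{w} 𝒜]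

/-- `((σ_i H)[j]) ≅ (σ_0 H)[k]` for `k = j - i` -/
def shiftSingleIso (H : 𝒜) (i j k a : ℤ) (h1 : j + a = i) (h2 : k + a = 0) :
    (shiftFunctor _ j).obj ((singleFunctor 𝒜 i).obj H) ≅ (shiftFunctor _ k).obj (sg.obj H) :=
  ((singleFunctors 𝒜).shiftIso j a i h1).app H ≪≫
    (((singleFunctors 𝒜).shiftIso k a 0 h2).app H).symm

variable (E : DerivedCategory 𝒜)

/-- goodness for the truncation tower from vanishing of maps to a shifted cohomology object -/
lemma goodAt_truncTower (Z : DerivedCategory 𝒜) (m : ℤ) (n : ℕ) (k : ℤ) (hk : k = m + n + 1)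
    (hvan : ∀ z' : Z ⟶ (shiftFunctor _ k).obj
      (sg.obj ((homologyFunctor 𝒜 (-((n : ℤ) + 1))).obj E)), z' = 0) :
    TowerHom.GoodAt Z (truncTower E) (truncTowerMap E) m n := by
  intro N f δ hT z
  obtain ⟨e⟩ := TruncRlim.nonempty_fibre_iso E n N f δ hT
  let e' : (shiftFunctor _ m).obj N ≅ (shiftFunctor _ k).obj
      (sg.obj ((homologyFunctor 𝒜 (-((n : ℤ) + 1))).obj E)) :=
    (shiftFunctor _ m).mapIso e ≪≫
      shiftSingleIso ((homologyFunctor 𝒜 (-((n : ℤ) + 1))).obj E) (-((n : ℤ) + 1)) m k (-k)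
        (by omega) (by omega)
  have h3 : z = (z ≫ e'.hom) ≫ e'.inv := by
    rw [Category.assoc, Iso.hom_inv_id, Category.comp_id]
  rw [h3, hvan (z ≫ e'.hom), zero_comp]

/-- final assembly: `E` is the derived limit of its truncations as soon as the maps
`H^m(R lim) ⟶ H^m(τ_{≥ -n} E)` are monomorphisms for `n = (-m).toNat` -/
theorem isRlimVia_of_mono [HasProduct (truncTower E)]
    (hkey : ∀ (M : DerivedCategory 𝒜) (a : ∀ n, M ⟶ truncTower E n)
      (c : ∏ᶜ (truncTower E) ⟶ M⟦(1 : ℤ)⟧)
      (_ : Triangle.mk (Pi.lift a) (Pi.lift fun n => Pi.π (truncTower E) n -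
        Pi.π (truncTower E) (n + 1) ≫ truncTowerMap E n) c ∈ distTriang _) (m : ℤ),
      Mono ((homologyFunctor _ m).map (a (-m).toNat))) :
    CohCx.IsRlimVia (truncTower E) (truncTowerMap E) E (toTruncTower E) := by
  obtain ⟨M, a', c, hΔ'⟩ := distinguished_cocone_triangle₁
    (Pi.lift fun n => Pi.π (truncTower E) n - Pi.π (truncTower E) (n + 1) ≫ truncTowerMap E n)
  let a : ∀ n, M ⟶ truncTower E n := fun n => a' ≫ Pi.π _ n
  have ha' : a' = Pi.lift a := by
    apply Pi.hom_ext
    intro n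
    rw [Pi.lift_π]
  have hΔ : Triangle.mk (Pi.lift a) (Pi.lift fun n => Pi.π (truncTower E) n -
      Pi.π (truncTower E) (n + 1) ≫ truncTowerMap E n) c ∈ distTriang _ := by
    rw [← ha']
    exact hΔ'
  have hαβ : Pi.lift (toTruncTower E) ≫ (Pi.lift fun n => Pi.π (truncTower E) n -
      Pi.π (truncTower E) (n + 1) ≫ truncTowerMap E n) = 0 := by
    apply Pi.hom_ext
    intro n
    rw [Category.assoc, Pi.lift_π, Preadditive.comp_sub, Pi.lift_π, ← Category.assoc, Pi.lift_π,
      TruncRlim.toTruncTower_comp_map, sub_self, zero_comp]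
  obtain ⟨θ, hθ⟩ : ∃ θ : E ⟶ M, Pi.lift (toTruncTower E) = θ ≫ a' :=
    Triangle.coyoneda_exact₂ _ hΔ' (Pi.lift (toTruncTower E)) hαβ
  have hθn : ∀ n, θ ≫ a n = toTruncTower E n := by
    intro n
    dsimp only [a]
    rw [← Category.assoc, ← hθ, Pi.lift_π]
  haveI : IsIso θ := by
    rw [DerivedCategory.isIso_iff]
    intro m
    haveI := hkey M a c hΔ m
    haveI := TruncRlim.isIso_homology_map_toTruncTower E (-m).toNat m (by omega)
    have hfac : (homologyFunctor _ m).map θ ≫ (homologyFunctor _ m).map (a (-m).toNat) =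
        (homologyFunctor _ m).map (toTruncTower E (-m).toNat) := by
      rw [← Functor.map_comp, hθn]
    haveI : Epi ((homologyFunctor _ m).map (a (-m).toNat)) := by
      haveI : Epi ((homologyFunctor _ m).map θ ≫ (homologyFunctor _ m).map (a (-m).toNat)) := by
        rw [hfac]
        infer_instance
      exact epi_of_epi ((homologyFunctor _ m).map θ) _
    haveI : IsIso ((homologyFunctor _ m).map (a (-m).toNat)) := isIso_of_mono_of_epi _
    exact IsIso.of_isIso_fac_right hfac
  refine ⟨c ≫ (shiftFunctor _ (1 : ℤ)).map (inv θ), ?_⟩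
  let eθ : E ≅ M := asIso θ
  refine CategoryTheory.Pretriangulated.isomorphic_distinguished _ hΔ' _
    (Triangle.isoMk _ _ eθ (Iso.refl _) (Iso.refl _) ?_ ?_ ?_)
  · change Pi.lift (toTruncTower E) ≫ 𝟙 _ = θ ≫ a'
    rw [Category.comp_id, hθ]
  · change _ ≫ 𝟙 _ = 𝟙 _ ≫ _
    rw [Category.comp_id, Category.id_comp]
    rfl
  · change (c ≫ (shiftFunctor _ (1 : ℤ)).map (inv θ)) ≫ (shiftFunctor _ (1 : ℤ)).map θ = 𝟙 _ ≫ c
    rw [Category.id_comp, Category.assoc, ← Functor.map_comp, IsIso.inv_hom_id,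
      CategoryTheory.Functor.map_id, Category.comp_id]

lemma isIso_homology_map_trans (n₀ k : ℕ) (m : ℤ) (h : -(n₀ : ℤ) ≤ m) :
    IsIso ((homologyFunctor _ m).map
      (MilnorSeq.trans (truncTower E) (truncTowerMap E) n₀ k)) := by
  induction k with
  | zero =>
    change IsIso ((homologyFunctor _ m).map (𝟙 (truncTower E n₀)))
    rw [CategoryTheory.Functor.map_id]
    infer_instance
  | succ k ih =>
    change IsIso ((homologyFunctor _ m).map (truncTowerMap E (n₀ + k) ≫
      MilnorSeq.trans (truncTower E) (truncTowerMap E) n₀ k))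
    rw [Functor.map_comp]
    haveI := TruncRlim.isIso_homology_map_truncTowerMap E (n₀ + k) m (by push_cast; omega)
    infer_instance

variable {Γ : 𝒜 ⥤ Sheaf J AddCommGrpCat.{u}} [PreservesFiniteColimits Γ] [Γ.Faithful]
  (D : Gen Γ)

/-- sections of `Γ` of an isomorphism are bijective -/
lemma sect_bijective_of_isIso {M M' : 𝒜} (φ : M ⟶ M') [IsIso φ] (W : C) :
    Function.Bijective ((Γ.map φ).hom.app (op W)).hom := by
  have hiso : IsIso ((Γ.map φ).hom.app (op W)) :=
    inferInstanceAs (IsIso ((sheafToPresheaf _ _ ⋙ (evaluation _ _).obj (op W)).map (Γ.map φ)))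
  exact ConcreteCategory.bijective_of_isIso _

/-- S9042/S9043 in abstract form -/
theorem isRlimVia_trunc [HasProduct (truncTower E)] (B : Set C)
    (hB : ∀ U : C, ∃ (ι : Type u) (Y : ι → C) (f : ∀ i, Y i ⟶ U),
      Sieve.ofArrows Y f ∈ J U ∧ ∀ i, Y i ∈ B)
    (h : ∀ V ∈ B, ∀ m : ℤ, ∃ n₀ : ℕ, ∀ T ∈ J V, ∃ (ι : Type u) (Y : ι → C) (f : ∀ i, Y i ⟶ V),
      (∀ i, T.arrows (f i)) ∧ Sieve.ofArrows Y f ∈ J V ∧
      ∀ (i : ι) (n : ℕ), n₀ ≤ n →
        TowerHom.GoodAt (sg.obj (D.G (Y i))) (truncTower E) (truncTowerMap E) m n) :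
    CohCx.IsRlimVia (truncTower E) (truncTowerMap E) E (toTruncTower E) := by
  apply isRlimVia_of_mono
  intro M a c hΔ m
  have ha := MilnorSeq.a_comp_t (truncTower E) (truncTowerMap E) M a c hΔ
  haveI : Mono (Γ.map ((homologyFunctor _ m).map (a (-m).toNat))).hom := by
    haveI : ∀ X, Mono ((Γ.map ((homologyFunctor _ m).map (a (-m).toNat))).hom.app X) := by
      intro X
      rw [AddCommGrpCat.mono_iff_injective, injective_iff_map_eq_zero]
      intro s hs
      apply RlimAcyclic.sect_eq_zero_of_B B hB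
      intro W hW g
      obtain ⟨n₀, hn₀⟩ := h W hW m
      obtain ⟨k, hk⟩ : ∃ k, max n₀ (-m).toNat = (-m).toNat + k :=
        Nat.exists_eq_add_of_le (le_max_right _ _)
      have hk1 : n₀ ≤ (-m).toNat + k := by rw [← hk]; exact le_max_left _ _
      apply sections_injective D (truncTower E) (truncTowerMap E) M a ⟨c, hΔ⟩ W m
        ((-m).toNat + k) (by
          intro T hT
          obtain ⟨ι, Yc, f, hTf, hcov, hvan⟩ := hn₀ T hT
          exact ⟨ι, Yc, f, hTf, hcov, fun i n hn => hvan i n (by omega)⟩)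
      -- the restriction of `s` to `W` dies in `H^m(τ_{≥ -n₀} E)`, hence in `H^m(τ_{≥ -(n₀+k)} E)`
      haveI := isIso_homology_map_trans E (-m).toNat k m (by omega)
      have hmono := (sect_bijective_of_isIso (Γ := Γ) ((homologyFunctor _ m).map
        (MilnorSeq.trans (truncTower E) (truncTowerMap E) (-m).toNat k)) W).1
      apply hmono
      rw [map_zero]
      have hfac : Γ.map ((homologyFunctor _ m).map (a ((-m).toNat + k))) ≫
          Γ.map ((homologyFunctor _ m).map
            (MilnorSeq.trans (truncTower E) (truncTowerMap E) (-m).toNat k)) =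
          Γ.map ((homologyFunctor _ m).map (a (-m).toNat)) := by
        rw [← Functor.map_comp, ← Functor.map_comp,
          MilnorSeq.a_comp_trans (truncTower E) (truncTowerMap E) a ha]
      have h1 := congrArg (fun φ => (φ.hom.app (op W)).hom
        (((Γ.obj ((homologyFunctor _ m).obj M)).obj.map g.op).hom s)) hfac
      refine h1.trans ?_
      have h2 := ConcreteCategory.congr_hom
        ((Γ.map ((homologyFunctor _ m).map (a (-m).toNat))).hom.naturality g.op) s
      refine h2.trans ?_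
      change (((Γ.obj ((homologyFunctor _ m).obj (truncTower E (-m).toNat))).obj.map g.op).hom
        (((Γ.map ((homologyFunctor _ m).map (a (-m).toNat))).hom.app X).hom s)) = 0
      rw [hs, map_zero]
    exact NatTrans.mono_of_mono_app _
  haveI : Mono (Γ.map ((homologyFunctor _ m).map (a (-m).toNat))) :=
    Sheaf.Hom.mono_of_presheaf_mono J _ _
  exact Γ.mono_of_mono_map inferInstance

end Groth.Agent.Lib.Helper5.GenSite
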