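import Groth.Agent.Lib.Helper13.ExtAdj

set_option autoImplicit false
open CategoryTheory CategoryTheory.Limits Opposite Abelian

namespace Groth.Agent.Lib.Helper5.ExtAdjAcyclic

open Groth.Agent.Lib.Helper13.ExtAdj

universe w w' v v' u u'

variable {C : Type u} [Category.{v} C] [Abelian C] [HasExt.{w} C]
  {D : Type u'} [Category.{v'} D] [Abelian D] [HasExt.{w'} D]
  {L : D ⥤ C} {R : C ⥤ D} (adj : L ⊣ R) [R.Additive] [PreservesFiniteLimits R]
  [PreservesFiniteColimits R]

lemma extAdjMap_bijective_succ' (X : D) (n : ℕ)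
    {S : ShortComplex C} (hS : S.ShortExact) [Injective S.X₂]
    (hR : ∀ x : Ext.{w'} X (R.obj S.X₂) (n + 1), x = 0)
    (h₂ : Function.Bijective (extAdjMap adj X S.X₂ n))
    (h₃ : Function.Bijective (extAdjMap adj X S.X₃ n)) :
    Function.Bijective (extAdjMap adj X S.X₁ (n + 1)) := by
  have hS' : (S.map R).ShortExact := hS.map_of_exact R
  have hδ : ∀ z : Ext.{w} (L.obj X) S.X₃ n,
      extAdjMap adj X S.X₁ (n + 1) (z.comp hS.extClass rfl) =
        (extAdjMap adj X S.X₃ n z).comp hS'.extClass rfl := by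
    intro z
    rw [extAdjMap_comp, Ext.mapExactFunctor_extClass]
    rfl
  have hg : ∀ z : Ext.{w} (L.obj X) S.X₂ n,
      extAdjMap adj X S.X₃ n (z.comp (Ext.mk₀ S.g) (add_zero n)) =
        (extAdjMap adj X S.X₂ n z).comp (Ext.mk₀ (S.map R).g) (add_zero n) := by
    intro z
    rw [extAdjMap_comp, Ext.mapExactFunctor_mk₀]
    rfl
  constructor
  · rw [injective_iff_map_eq_zero]
    intro e he
    obtain ⟨z, rfl⟩ := Ext.covariant_sequence_exact₁ _ hS e (Ext.eq_zero_of_injective _) rfl
    rw [hδ] at he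
    obtain ⟨y, hy⟩ := Ext.covariant_sequence_exact₃ _ hS' (extAdjMap adj X S.X₃ n z) rfl he
    obtain ⟨y', rfl⟩ := h₂.2 y
    rw [← h₃.1 ((hg y').trans hy), Ext.comp_assoc_of_second_deg_zero, hS.comp_extClass,
      Ext.comp_zero]
  · intro y
    obtain ⟨z, rfl⟩ := Ext.covariant_sequence_exact₁ _ hS' y (hR _) rfl
    obtain ⟨z', rfl⟩ := h₃.2 z
    exact ⟨z'.comp hS.extClass rfl, hδ z'⟩

/-- `Ext^n(L X, Y) → Ext^n(X, R Y)` is bijective as soon as `R` is exact and sends injectives to
`Ext(X, -)`-acyclic objects. -/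
theorem extAdjMap_bijective' [EnoughInjectives C] (X : D)
    (hR : ∀ I : C, Injective I → ∀ (n : ℕ) (x : Ext.{w'} X (R.obj I) (n + 1)), x = 0) :
    ∀ (n : ℕ) (Y : C), Function.Bijective (extAdjMap adj X Y n) := by
  intro n
  induction n with
  | zero => exact fun Y => extAdjMap_bijective_zero adj X Y
  | succ n ih =>
    intro Y
    let S : ShortComplex C := ShortComplex.mk (Injective.ι Y) (cokernel.π (Injective.ι Y))
      (cokernel.condition _)
    have hS : S.ShortExact :=
      { exact := ShortComplex.exact_cokernel (Injective.ι Y)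
        mono_f := inferInstanceAs (Mono (Injective.ι Y))
        epi_g := inferInstanceAs (Epi (cokernel.π (Injective.ι Y))) }
    have : Injective S.X₂ := inferInstanceAs (Injective (Injective.under Y))
    exact extAdjMap_bijective_succ' adj X n hS (hR S.X₂ inferInstance n) (ih S.X₂) (ih S.X₃)

noncomputable def extAdjEquivAcyclic [EnoughInjectives C] (X : D)
    (hR : ∀ I : C, Injective I → ∀ (n : ℕ) (x : Ext.{w'} X (R.obj I) (n + 1)), x = 0)
    (Y : C) (n : ℕ) : Ext.{w} (L.obj X) Y n ≃+ Ext.{w'} X (R.obj Y) n :=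
  AddEquiv.ofBijective (extAdjMap adj X Y n) (extAdjMap_bijective' adj X hR n Y)

end Groth.Agent.Lib.Helper5.ExtAdjAcyclic
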