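import Groth.Agent.Lib.Helper5.CechFlasque
import Groth.Agent.Lib.Helper13.FlasqueBasic
import Groth.Prelude.Def_FreeSh
open CategoryTheory Limits Abelian Opposite

set_option linter.unusedSectionVars false

namespace Groth.Agent.Lib.Helper5.PushAcyclic

open Groth.Agent.Lib.Helper5.CechFlasque

universe w u

section ExtLemmas

variable {A : Type*} [Category A] [Abelian A] [HasExt.{w} A]
  (X : A) {S : ShortComplex A} (hS : S.ShortExact)

include hS

lemma ext_one_eq_zero_of_surj' (h₂ : ∀ x : Ext.{w} X S.X₂ 1, x = 0)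
    (h : ∀ s : X ⟶ S.X₃, ∃ t : X ⟶ S.X₂, t ≫ S.g = s) (x : Ext.{w} X S.X₁ 1) : x = 0 := by
  obtain ⟨x₃, rfl⟩ := Ext.covariant_sequence_exact₁ X hS x (h₂ _) rfl
  obtain ⟨s, rfl⟩ := (Ext.mk₀_bijective X S.X₃).surjective x₃
  obtain ⟨t, rfl⟩ := h s
  rw [← Ext.mk₀_comp_mk₀, Ext.comp_assoc_of_second_deg_zero, hS.comp_extClass, Ext.comp_zero]

lemma ext_succ_eq_zero_of_quotient' (n : ℕ) (h₂ : ∀ x : Ext.{w} X S.X₂ (n + 2), x = 0)
    (h : ∀ x : Ext.{w} X S.X₃ (n + 1), x = 0) (x : Ext.{w} X S.X₁ (n + 2)) : x = 0 := by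
  obtain ⟨x₃, rfl⟩ := Ext.covariant_sequence_exact₁ X hS x (h₂ _) (n₀ := n + 1) rfl
  rw [h x₃, Ext.zero_comp]

end ExtLemmas

section

variable {C : Type u} [SmallCategory C] (J : GrothendieckTopology C)

/-- acyclic on the objects of the site -/
def CAcyc (F : Sheaf J AddCommGrpCat.{u}) : Prop :=
  ∀ (U : C) (q : ℕ) (x : Ext (CohCx.freeSheaf J U) F (q + 1)), x = 0

lemma cAcyc_of_subsingleton (F : Sheaf J AddCommGrpCat.{u})
    (h : ∀ (U : C) (q : ℕ), Subsingleton (CohSite.HU F (q + 1) U)) : CAcyc J F := by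
  intro U q x
  exact (h U q).elim x 0

lemma subsingleton_of_cAcyc (F : Sheaf J AddCommGrpCat.{u}) (h : CAcyc J F) (U : C) (q : ℕ) :
    Subsingleton (CohSite.HU F (q + 1) U) :=
  ⟨fun x y => (h U q x).trans (h U q y).symm⟩

lemma cAcyc_of_isTotallyAcyclic (F : Sheaf J AddCommGrpCat.{u}) (hF : CohCx.IsTotallyAcyclic F) :
    CAcyc J F :=
  cAcyc_of_subsingleton J F
    (fun U q => Groth.Agent.Lib.Helper13.FlasqueBasic.subsingleton_HU_of_totallyAcyclic F hF U q)

lemma isTotallyAcyclic_of_injective (I : Sheaf J AddCommGrpCat.{u}) [Injective I] :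
    CohCx.IsTotallyAcyclic I := by
  intro K p
  exact ⟨fun x y => (Ext.eq_zero_of_injective x).trans (Ext.eq_zero_of_injective y).symm⟩

lemma cAcyc_quotient (F : Sheaf J AddCommGrpCat.{u}) (hF : CAcyc J F) :
    CAcyc J (injSC F).X₃ := by
  intro U q x
  exact ext_quotient_eq_zero_of_succ _ (injSC_shortExact F) q (hF U (q + 1)) x

lemma sections_surjective (F : Sheaf J AddCommGrpCat.{u}) (hF : CAcyc J F) (U : C)
    (s : (injSC F).X₃.obj.obj (op U)) :
    ∃ t : (injSC F).X₂.obj.obj (op U), ((injSC F).g.hom.app (op U)).hom t = s := by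
  obtain ⟨t', ht'⟩ := surj_of_ext_one_eq_zero (CohCx.freeSheaf J U) (injSC_shortExact F)
    (hF U 0) (CohFree.ofSect J U _ s)
  refine ⟨CohFree.evalGen J U _ t', ?_⟩
  have := congrArg (CohFree.evalGen J U _) ht'
  rw [CohFree.evalGen_ofSect] at this
  rw [← this]
  rfl

end

section Push

variable {C D : Type u} [SmallCategory C] [SmallCategory D]
  (J : GrothendieckTopology C) (K : GrothendieckTopology D) (u : D ⥤ C) [u.IsContinuous K J]

/-- the pushed-forward short complex `0 → u_*F → u_*I → u_*Q → 0` -/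
noncomputable def pushSC (F : Sheaf J AddCommGrpCat.{u}) : ShortComplex (Sheaf K AddCommGrpCat.{u}) :=
  (injSC F).map (CohSite.push J K u)

lemma pushSC_shortExact (F : Sheaf J AddCommGrpCat.{u}) (hF : CAcyc J F) :
    (pushSC J K u F).ShortExact := by
  have hS := injSC_shortExact F
  have : (CohSite.push J K u).IsRightAdjoint := (adjAb J K u).isRightAdjoint
  have hmono : Mono (pushSC J K u F).f := by
    have := hS.mono_f
    exact inferInstanceAs (Mono ((CohSite.push J K u).map (injSC F).f))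
  have hepi : Epi (pushSC J K u F).g := by
    have : Sheaf.IsLocallySurjective ((CohSite.push J K u).map (injSC F).g) :=
      Presheaf.isLocallySurjective_of_surjective K _ (fun V => by
        intro s
        exact sections_surjective J F hF (u.obj V.unop) s)
    exact inferInstanceAs (Epi ((CohSite.push J K u).map (injSC F).g))
  exact
    { exact := hS.exact.map_of_mono_of_preservesKernel (CohSite.push J K u) hS.mono_f inferInstance
      mono_f := hmono
      epi_g := hepi }

variable [PreservesFiniteLimits (u.sheafPullback (Type u) K J)]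

lemma cAcyc_push_injective (I : Sheaf J AddCommGrpCat.{u}) [Injective I] :
    CAcyc K ((CohSite.push J K u).obj I) :=
  cAcyc_of_isTotallyAcyclic K _
    (isTotallyAcyclic_push J K u I (isTotallyAcyclic_of_injective J I))

lemma push_lift_surj (F : Sheaf J AddCommGrpCat.{u}) (hF : CAcyc J F) (V : D)
    (s : CohCx.freeSheaf K V ⟶ (pushSC J K u F).X₃) :
    ∃ t : CohCx.freeSheaf K V ⟶ (pushSC J K u F).X₂, t ≫ (pushSC J K u F).g = s := by
  obtain ⟨t₀, ht₀⟩ := sections_surjective J F hF (u.obj V)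
    (CohFree.evalGen K V ((CohSite.push J K u).obj (injSC F).X₃) s)
  refine ⟨CohFree.ofSect K V ((CohSite.push J K u).obj (injSC F).X₂) t₀, ?_⟩
  apply (CohFree.homEquivSect K V _).injective
  rw [CohFree.homEquivSect_apply, CohFree.homEquivSect_apply]
  refine Eq.trans ?_ ht₀
  have := CohFree.evalGen_ofSect K V ((CohSite.push J K u).obj (injSC F).X₂) t₀
  exact congrArg (fun z => ((injSC F).g.hom.app (op (u.obj V))).hom z) this

theorem ext_push_eq_zero (q : ℕ) :
    ∀ (F : Sheaf J AddCommGrpCat.{u}), CAcyc J F → ∀ (V : D)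
      (x : Ext (CohCx.freeSheaf K V) ((CohSite.push J K u).obj F) (q + 1)), x = 0 := by
  induction q with
  | zero =>
    intro F hF V x
    exact ext_one_eq_zero_of_surj' (CohCx.freeSheaf K V) (pushSC_shortExact J K u F hF)
      (cAcyc_push_injective J K u (injSC F).X₂ V 0) (push_lift_surj J K u F hF V) x
  | succ q ih =>
    intro F hF V x
    exact ext_succ_eq_zero_of_quotient' (CohCx.freeSheaf K V) (pushSC_shortExact J K u F hF) q
      (cAcyc_push_injective J K u (injSC F).X₂ V (q + 1))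
      (ih _ (cAcyc_quotient J F hF) V) x

theorem cAcyc_push (F : Sheaf J AddCommGrpCat.{u}) (hF : CAcyc J F) :
    CAcyc K ((CohSite.push J K u).obj F) :=
  fun V q x => ext_push_eq_zero J K u q F hF V x

end Push

end Groth.Agent.Lib.Helper5.PushAcyclic
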