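import Groth.Agent.Lib.Helper5.GenSite
import Groth.Agent.Lib.Helper2.ExtUnitH
import Groth.Agent.Lib.Helper5.ExtAdjAcyclic
import Groth.Agent.Lib.Helper5.PushAcyclic
import Groth.Prelude.Def_ModSite

/-!
# Sheaves of modules on a ringed site as an instance of `GenSite.Gen` (helper5)

Generators `G U = O ⊗_ℤ ℤ_U` (extension of scalars of the free abelian sheaf), and the vanishing of
`Hom(σ G U, (σ F)[k])` from `H^k(U, F) = 0`.
-/

set_option autoImplicit false
universe w u
open CategoryTheory CategoryTheory.Limits Opposite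

noncomputable section
namespace Groth.Agent.Lib.Helper5.ModGen

open Groth.Agent.Lib.Helper2.ModHomAcyclic

variable {C : Type u} [SmallCategory C] {J : GrothendieckTopology C} (O : Sheaf J CommRingCat.{u})

/-- generators of `Mod O` representing sections -/
def gen : GenSite.Gen (toAbF O) where
  G U := (LO O).obj (CohCx.freeSheaf J U)
  Gmap f := (LO O).map (CohCx.freeSheafMap J f)
  ev U M := ((adjLO O).homAddEquiv (CohCx.freeSheaf J U) M).trans
    (CohFree.homEquivSect J U ((toAbF O).obj M))
  ev_comp U M M' φ ψ := by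
    change CohFree.evalGen J U _ ((adjLO O).homEquiv _ _ (φ ≫ ψ)) = _
    rw [Adjunction.homEquiv_naturality_right]
    rfl
  ev_Gmap f M φ := by
    change CohFree.evalGen J _ _ ((adjLO O).homEquiv _ _ ((LO O).map (CohCx.freeSheafMap J f) ≫ φ)) = _
    rw [Adjunction.homEquiv_naturality_left, CohFree.evalGen_freeSheafMap_comp]
    rfl

variable [HasDerivedCategory.{w} (ModSite.Mod O)]

/-- `Hom(σ G U, (σ F)[k]) = 0` if `H^k(U, F) = 0` -/
theorem extVanish (F : ModSite.Mod O) (U : C) (k : ℕ) [Subsingleton (ModSite.HU O F k U)]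
    (m : ℤ) (hm : m = (k : ℤ))
    (y : GenSite.sg.obj ((gen O).G U) ⟶ (shiftFunctor _ m).obj (GenSite.sg.obj F)) : y = 0 := by
  subst hm
  haveI : EnoughInjectives (ModSite.Mod O) :=
    Groth.Agent.Lib.Helper13.ModGrothendieck.enoughInjectives (ModSite.ringSh O)
  have hR : ∀ I : ModSite.Mod O, Injective I → ∀ (n : ℕ)
      (x : Abelian.Ext (CohCx.freeSheaf J U) ((toAbF O).obj I) (n + 1)), x = 0 := by
    intro I hI n x
    exact PushAcyclic.cAcyc_of_isTotallyAcyclic J _
      (Groth.Agent.Lib.Helper2.ExtUnitH.isTotallyAcyclic_of_injective O I) U n x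
  let e1 := ExtAdjAcyclic.extAdjEquivAcyclic (adjLO O) (CohCx.freeSheaf J U) hR F k
  have h1 : (Abelian.Ext.homEquiv (X := (LO O).obj (CohCx.freeSheaf J U)) (Y := F)
      (n := k)).symm y =
      (Abelian.Ext.homEquiv (X := (LO O).obj (CohCx.freeSheaf J U)) (Y := F) (n := k)).symm 0 := by
    apply e1.injective
    exact Subsingleton.elim (α := ModSite.HU O F k U) _ _
  exact (Abelian.Ext.homEquiv (X := (LO O).obj (CohCx.freeSheaf J U)) (Y := F)
    (n := k)).symm.injective h1

end Groth.Agent.Lib.Helper5.ModGen
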