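import Groth.Agent.Lib.Helper5.RegImm
import Groth.Prelude.Def_Mor2

/-!
# Helper5: a closed immersion is regular near a point iff the kernel of the stalk map is generated
by a regular sequence
-/

set_option autoImplicit false
universe u

open CategoryTheory AlgebraicGeometry TopologicalSpace RingTheory.Sequence

namespace Groth.Agent.Lib.Helper5.RegNear

variable {X Y : Scheme.{u}} [IsLocallyNoetherian X] (j : Y ⟶ X) [IsClosedImmersion j]

omit [IsLocallyNoetherian X] in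
/-- From chart data (as produced by `RegImm.exists_regular_chart_of_stalk`) to a regular closed
immersion over the basic open. -/
theorem isRegularClosedImmersion_restrict_basicOpen {U : X.Opens} (hU : IsAffineOpen U)
    (h : Γ(X, U)) (rsA : List Γ(X, U)) (hmemA : ∀ a ∈ rsA, a ∈ j.ker.ideal ⟨U, hU⟩)
    (hmul : ∀ z ∈ j.ker.ideal ⟨U, hU⟩, h * z ∈ Ideal.ofList rsA)
    (hcol : ∀ (i : ℕ) (hi : i < rsA.length), ∀ z : Γ(X, U),
      rsA[i] * z ∈ Ideal.ofList (rsA.take i) → h * z ∈ Ideal.ofList (rsA.take i)) :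
    Mor2.IsRegularClosedImmersion (j ∣_ X.basicOpen h) := by
  refine ⟨inferInstance, fun z => ?_⟩
  have hV : IsAffineOpen (X.basicOpen h) := hU.basicOpen h
  have : IsAffine ((X.basicOpen h : X.Opens) : Scheme.{u}) := hV
  have htop : IsAffineOpen (⊤ : ((X.basicOpen h : X.Opens) : Scheme.{u}).Opens) :=
    isAffineOpen_top _
  have himg : (X.basicOpen h).ι ''ᵁ ⊤ = X.basicOpen h := Scheme.Opens.ι_image_top _
  have hle : (X.basicOpen h).ι ''ᵁ ⊤ ≤ U := himg.le.trans (X.basicOpen_le h)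
  let algB : Algebra Γ(X, U) Γ(X, (X.basicOpen h).ι ''ᵁ ⊤) :=
    (X.presheaf.map (homOfLE hle).op).hom.toAlgebra
  have locB : IsLocalization.Away h Γ(X, (X.basicOpen h).ι ''ᵁ ⊤) :=
    hU.isLocalization_of_eq_basicOpen h (homOfLE hle) himg
  have hW : IsAffineOpen ((X.basicOpen h).ι ''ᵁ ⊤) := htop.image_of_isOpenImmersion _
  have hker : (j ∣_ X.basicOpen h).ker.ideal ⟨⊤, htop⟩ =
      (j.ker.ideal ⟨U, hU⟩).map (algebraMap Γ(X, U) Γ(X, (X.basicOpen h).ι ''ᵁ ⊤)) := by
    rw [Scheme.ker_morphismRestrict_ideal j (X.basicOpen h) ⟨⊤, htop⟩]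
    exact (j.ker.map_ideal (U := ⟨(X.basicOpen h).ι ''ᵁ ⊤, hW⟩) (V := ⟨U, hU⟩) hle).symm
  have hgen : (j.ker.ideal ⟨U, hU⟩).map (algebraMap Γ(X, U) Γ(X, (X.basicOpen h).ι ''ᵁ ⊤)) =
      Ideal.ofList (rsA.map (algebraMap Γ(X, U) Γ(X, (X.basicOpen h).ι ''ᵁ ⊤))) := by
    rw [← Ideal.map_ofList]
    apply le_antisymm
    · rw [Ideal.map_le_iff_le_comap]
      intro w hw
      exact Groth.Agent.Lib.Helper5.RegSeq.algebraMap_mem_map_of_mul_mem h _ w (hmul w hw)
    · apply Ideal.map_mono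
      rw [Ideal.ofList, Ideal.span_le]
      exact fun a ha => hmemA a ha
  have hwreg : RingTheory.Sequence.IsWeaklyRegular Γ(X, (X.basicOpen h).ι ''ᵁ ⊤)
      (rsA.map (algebraMap Γ(X, U) Γ(X, (X.basicOpen h).ι ''ᵁ ⊤))) :=
    Groth.Agent.Lib.Helper5.RegSeq.isWeaklyRegular_map_of_away h rsA hcol
  refine ⟨⊤, htop, trivial,
    rsA.map (algebraMap Γ(X, U) Γ(X, (X.basicOpen h).ι ''ᵁ ⊤)), ⟨hwreg, ?_⟩, ?_⟩
  · -- nontriviality of the quotient
    intro htopeq
    have h1 : Ideal.ofList (rsA.map (algebraMap Γ(X, U) Γ(X, (X.basicOpen h).ι ''ᵁ ⊤))) = ⊤ := by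
      have := htopeq.symm
      rwa [smul_eq_mul, Ideal.mul_top] at this
    rw [← hgen, ← hker] at h1
    have h2 : (j ∣_ X.basicOpen h).ker = ⊤ := by
      apply Scheme.IdealSheafData.ext_of_isAffine
      rw [Scheme.IdealSheafData.ideal_top]
      exact h1
    rw [Scheme.Hom.ker_eq_top_iff_isEmpty] at h2
    exact h2.false z
  · exact hker.trans hgen

/-- If the kernel of the stalk map at `y` is generated by a weakly regular sequence, then `j` is a
regular immersion near `y`. -/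
theorem exists_near_of_stalk (y : Y) (rsS : List (X.presheaf.stalk (j y)))
    (hrsS : IsWeaklyRegular (X.presheaf.stalk (j y)) rsS)
    (hJrs : RingHom.ker (j.stalkMap y).hom = Ideal.ofList rsS) :
    ∃ V : X.Opens, j y ∈ V ∧ Mor2.IsRegularClosedImmersion (j ∣_ V) := by
  obtain ⟨U, hU, h, rsA, hyh, hmemA, hmul, hcol⟩ :=
    RegImm.exists_regular_chart_of_stalk j y rsS hrsS hJrs
  exact ⟨X.basicOpen h, hyh, isRegularClosedImmersion_restrict_basicOpen j hU h rsA hmemA hmul hcol⟩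

/-- If `j` is a regular immersion near `y`, the kernel of the stalk map at `y` is generated by a
regular sequence. -/
theorem exists_stalk_of_near (y : Y) (V : X.Opens) (hyV : j y ∈ V)
    (hreg : Mor2.IsRegularClosedImmersion (j ∣_ V)) :
    ∃ rsS : List (X.presheaf.stalk (j y)), IsRegular (X.presheaf.stalk (j y)) rsS ∧
      RingHom.ker (j.stalkMap y).hom = Ideal.ofList rsS := by
  obtain ⟨U', hU', hzU', rs, hrs, hker⟩ := hreg.2 ⟨y, hyV⟩
  have hU : IsAffineOpen (V.ι ''ᵁ U') := hU'.image_of_isOpenImmersion V.ι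
  have hyU : j y ∈ V.ι ''ᵁ U' := by
    refine ⟨(j ∣_ V) ⟨y, hyV⟩, hzU', ?_⟩
    have h1 := congrArg (fun φ => φ.base (⟨y, hyV⟩ : ↥(j ⁻¹ᵁ V))) (morphismRestrict_ι j V)
    exact h1
  have hker' : j.ker.ideal ⟨V.ι ''ᵁ U', hU⟩ = Ideal.ofList rs := by
    rw [← hker]
    exact (Scheme.ker_morphismRestrict_ideal j V ⟨U', hU'⟩).symm
  exact RegImm.exists_stalk_of_chart j y hU hyU rs hrs.toIsWeaklyRegular hker'

/-- A closed immersion into a locally Noetherian scheme is a regular immersion near `y` iff the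
kernel of the stalk map at `y` is generated by a weakly regular sequence. -/
theorem near_iff_stalk (y : Y) :
    (∃ V : X.Opens, j y ∈ V ∧ Mor2.IsRegularClosedImmersion (j ∣_ V)) ↔
      ∃ rsS : List (X.presheaf.stalk (j y)), IsWeaklyRegular (X.presheaf.stalk (j y)) rsS ∧
        RingHom.ker (j.stalkMap y).hom = Ideal.ofList rsS := by
  constructor
  · rintro ⟨V, hyV, hreg⟩
    obtain ⟨rsS, h1, h2⟩ := exists_stalk_of_near j y V hyV hreg
    exact ⟨rsS, h1.toIsWeaklyRegular, h2⟩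
  · rintro ⟨rsS, h1, h2⟩
    exact exists_near_of_stalk j y rsS h1 h2

/-- The kernel of the stalk map of a composition. -/
theorem ker_stalkMap_comp {X Y Z : Scheme.{u}} (f : Y ⟶ X) (g : Z ⟶ Y) (z : Z) :
    RingHom.ker ((g ≫ f).stalkMap z).hom =
      (RingHom.ker (g.stalkMap z).hom).comap (f.stalkMap (g z)).hom := by
  rw [Scheme.Hom.stalkMap_comp]
  rfl

/-- `near_iff_stalk` for a composition, with the stalk at `f (g z)`. -/
theorem near_comp_iff {X Y Z : Scheme.{u}} [IsLocallyNoetherian X] (f : Y ⟶ X) (g : Z ⟶ Y)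
    [IsClosedImmersion f] [IsClosedImmersion g] (z : Z) :
    (∃ V : X.Opens, (g ≫ f) z ∈ V ∧ Mor2.IsRegularClosedImmersion ((g ≫ f) ∣_ V)) ↔
      ∃ ws : List (X.presheaf.stalk (f (g z))),
        IsWeaklyRegular (X.presheaf.stalk (f (g z))) ws ∧
        (RingHom.ker (g.stalkMap z).hom).comap (f.stalkMap (g z)).hom = Ideal.ofList ws :=
  (near_iff_stalk (g ≫ f) z).trans (by
    constructor
    · rintro ⟨ws, h1, h2⟩
      exact ⟨ws, h1, (ker_stalkMap_comp f g z).symm.trans h2⟩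
    · rintro ⟨ws, h1, h2⟩
      exact ⟨ws, h1, (ker_stalkMap_comp f g z).trans h2⟩)

end Groth.Agent.Lib.Helper5.RegNear
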