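import Groth.Agent.Lib.Helper5.UnitSections

/-!
# Helper5: full faithfulness of restriction on invertible modules

* `bijective_map_of_isIso_unit`: for an adjunction `F ⊣ G` whose unit at `B` is an isomorphism,
  `F` is bijective on morphisms into `B`.
* `isIso_unit_of_funResBij`: if restriction of functions to the open `j(U')` is bijective on all
  opens, the unit `L ⟶ j_* j^* L` is an isomorphism for invertible `L`.
* `bijective_restrict_map_of_funResBij`.
-/

set_option autoImplicit false
universe u

open CategoryTheory AlgebraicGeometry TopologicalSpace Opposite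

namespace Groth.Agent.Lib.Helper5

theorem bijective_map_of_isIso_unit {C D : Type*} [Category C] [Category D] {F : C ⥤ D}
    {G : D ⥤ C} (adj : F ⊣ G) (A B : C) [IsIso (adj.unit.app B)] :
    Function.Bijective (fun φ : A ⟶ B => F.map φ) := by
  have h : (adj.homEquiv A (F.obj B)) ∘ (fun φ : A ⟶ B => F.map φ) =
      fun φ => φ ≫ adj.unit.app B := by
    funext φ
    simp only [Function.comp_apply, Adjunction.homEquiv_unit]
    exact (adj.unit.naturality φ).symm
  have h2 : Function.Bijective (fun φ : A ⟶ B => φ ≫ adj.unit.app B) :=
    ⟨fun a b hab => (cancel_mono _).mp hab, fun ψ => ⟨ψ ≫ inv (adj.unit.app B), by simp⟩⟩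
  have h3 : Function.Bijective
      ((adj.homEquiv A (F.obj B)) ∘ (fun φ : A ⟶ B => F.map φ)) := by
    rw [h]; exact h2
  exact (Function.Bijective.of_comp_iff' (Equiv.bijective _) _).mp h3

variable {U' X : Scheme.{u}}

theorem isIso_unit_of_funResBij (j : U' ⟶ X) [IsOpenImmersion j]
    (hO : FunResBij X j.opensRange) (L : X.Modules) (hL : PicF.IsInvertible L) :
    IsIso ((Scheme.Modules.restrictAdjunction j).unit.app L) := by
  rw [Scheme.Modules.Hom.isIso_iff_isIso_app]
  intro V
  rw [Scheme.Modules.restrictAdjunction_unit_app_app, ConcreteCategory.isIso_iff_bijective]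
  apply bijective_map_of_isInvertible hO L hL
  rw [Scheme.Hom.image_preimage_eq_opensRange_inf, inf_comm]

theorem bijective_restrict_map_of_funResBij (j : U' ⟶ X) [IsOpenImmersion j]
    (hO : FunResBij X j.opensRange) (L L' : X.Modules) (hL' : PicF.IsInvertible L') :
    Function.Bijective (fun φ : L ⟶ L' => (Scheme.Modules.restrictFunctor j).map φ) := by
  have := isIso_unit_of_funResBij j hO L' hL'
  exact bijective_map_of_isIso_unit (Scheme.Modules.restrictAdjunction j) L L'

end Groth.Agent.Lib.Helper5
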