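import Groth.Prelude.Def_SGA1
import Mathlib

/-!
# Helper5: descent of topological properties along universally submersive morphisms

* `universally_descendsAlong`: if `P` descends along a base-change-stable `Q`, so does
  `P.universally`.
* `DescendsAlong` instances for `topologically IsOpenMap`, `topologically IsClosedMap`,
  `UniversallyOpen`, `UniversallyClosed`, `IsSeparated` along `SGA1.UnivSubmersive`.
-/

set_option autoImplicit false
universe u

open CategoryTheory CategoryTheory.Limits AlgebraicGeometry MorphismProperty

namespace Groth.Agent.Lib.Helper5

section General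

variable {C : Type*} [Category C] [HasPullbacks C]

/-- If `P` descends along `Q` and `Q` is stable under base change then `P.universally` descends
along `Q`. -/
theorem universally_descendsAlong (P Q : MorphismProperty C) [Q.IsStableUnderBaseChange]
    [P.DescendsAlong Q] : P.universally.DescendsAlong Q where
  of_isPullback {A X Y Z fst snd f g} h hf hfst := by
    intro Y' T i₁ i₂ g' hsq
    -- notation: p1 : T_X ⟶ T, p2 : T_X ⟶ X with T_X = T ×_Z X
    have sq3 : IsPullback (pullback.fst i₂ f) (pullback.snd i₂ f) i₂ f := IsPullback.of_hasPullback _ _
    have sq4 : IsPullback (pullback.fst g' (pullback.fst i₂ f)) (pullback.snd g' (pullback.fst i₂ f))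
        g' (pullback.fst i₂ f) := IsPullback.of_hasPullback _ _
    have big := sq4.flip.paste_vert hsq
    rw [sq3.w] at big
    have hw : (pullback.snd g' (pullback.fst i₂ f) ≫ pullback.snd i₂ f) ≫ f =
        (pullback.fst g' (pullback.fst i₂ f) ≫ i₁) ≫ g := by
      rw [Category.assoc, ← sq3.w, ← Category.assoc, ← sq4.w, Category.assoc, Category.assoc, hsq.w]
    have hl_fst := h.lift_fst _ _ hw
    have hl_snd := h.lift_snd _ _ hw
    rw [← hl_snd] at big
    have left := IsPullback.of_bot big hl_fst.symm h
    have hP : P (pullback.snd g' (pullback.fst i₂ f)) := hfst _ _ _ left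
    have hQ : Q (pullback.fst i₂ f) := Q.of_isPullback sq3.flip hf
    exact P.of_isPullback_of_descendsAlong sq4.flip hQ hP

end General

section Schemes

theorem univSubmersive_isQuotientMap {X Y : Scheme.{u}} {f : X ⟶ Y} (hf : SGA1.UnivSubmersive f) :
    Topology.IsQuotientMap f.base :=
  MorphismProperty.universally_le _ _ hf

instance : (SGA1.UnivSubmersive.{u}).IsStableUnderBaseChange :=
  MorphismProperty.universally_isStableUnderBaseChange _

instance : (topologically @IsOpenMap).DescendsAlong SGA1.UnivSubmersive.{u} where
  of_isPullback {A X Y Z fst snd f g} h hf hfst := by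
    intro s hs
    have hq := univSubmersive_isQuotientMap hf
    rw [← hq.isOpen_preimage, ← Scheme.image_preimage_eq_of_isPullback h.flip]
    exact hfst _ (hs.preimage snd.continuous)

instance : (topologically @IsClosedMap).DescendsAlong SGA1.UnivSubmersive.{u} where
  of_isPullback {A X Y Z fst snd f g} h hf hfst := by
    intro s hs
    have hq := univSubmersive_isQuotientMap hf
    rw [← hq.isClosed_preimage, ← Scheme.image_preimage_eq_of_isPullback h.flip]
    exact hfst _ (hs.preimage snd.continuous)

instance : MorphismProperty.DescendsAlong @UniversallyOpen SGA1.UnivSubmersive.{u} := by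
  rw [UniversallyOpen.eq]
  exact universally_descendsAlong _ _

instance : MorphismProperty.DescendsAlong @UniversallyClosed SGA1.UnivSubmersive.{u} := by
  rw [universallyClosed_eq]
  exact universally_descendsAlong _ _

theorem isSeparated_eq_diagonal_isClosedMap :
    @IsSeparated = (topologically @IsClosedMap).diagonal := by
  ext X Y f
  constructor
  · intro hf
    exact (pullback.diagonal f).isClosedEmbedding.isClosedMap
  · intro hf
    have : IsClosed (Set.range (pullback.diagonal f).base) := by
      rw [← Set.image_univ]
      exact hf _ isClosed_univ
    exact ⟨IsClosedImmersion.of_isPreimmersion _ this⟩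

instance : MorphismProperty.DescendsAlong @IsSeparated SGA1.UnivSubmersive.{u} := by
  rw [isSeparated_eq_diagonal_isClosedMap]
  infer_instance

end Schemes

end Groth.Agent.Lib.Helper5
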