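import Groth.Agent.Lib.Helper5.GaCech
import Groth.Agent.S18415

/-!
# Helper5: the Artin–Schreier sequence `0 → ℤ/p → G_a → G_a → 0` on the small étale site
-/

set_option autoImplicit false
universe u

namespace Groth.Agent.Lib.Helper5.ASKernel

open CategoryTheory Limits AlgebraicGeometry Opposite

set_option backward.isDefEq.respectTransparency.types false

section Ring

/-- in a local ring of characteristic `p`, the solutions of `a ^ p = a` are the elements of the
prime field. -/
lemma eq_cast_of_pow_eq {R : Type*} [CommRing R] [IsLocalRing R] (p : ℕ) [hp : Fact p.Prime]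
    [CharP R p] (a : R) (ha : a ^ p = a) : ∃ n : ZMod p, a = ZMod.castHom (dvd_refl p) R n := by
  let k := IsLocalRing.ResidueField R
  let π : R →+* k := IsLocalRing.residue R
  haveI : CharP k p := by
    have h0 : (p : k) = 0 := by
      rw [← map_natCast π, CharP.cast_eq_zero, map_zero]
    have := CharP.ringChar_of_prime_eq_zero hp.out h0
    exact this ▸ ringChar.charP k
  have h1 : π a ∈ (⊥ : Subfield k) :=
    (Subfield.mem_bot_iff_pow_eq_self k p).2 (by rw [← map_pow, ha])
  rw [← ZMod.fieldRange_castHom_eq_bot p] at h1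
  obtain ⟨n, hn⟩ := h1
  have hcomp : π.comp (ZMod.castHom (dvd_refl p) R) = ZMod.castHom (dvd_refl p) k :=
    Subsingleton.elim _ _
  let b := a - ZMod.castHom (dvd_refl p) R n
  have hb : π b = 0 := by
    change π (a - ZMod.castHom (dvd_refl p) R n) = 0
    rw [map_sub, ← RingHom.comp_apply, hcomp, hn, sub_self]
  have hbm : b ∈ IsLocalRing.maximalIdeal R := (IsLocalRing.residue_eq_zero_iff _).1 hb
  have hbp : b ^ p = b := by
    change (a - ZMod.castHom (dvd_refl p) R n) ^ p = _
    rw [sub_pow_char, ha, ← map_pow, ZMod.pow_card]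
  have h2 : b * (b ^ (p - 1) - 1) = 0 := by
    rw [mul_sub, ← pow_succ', Nat.sub_add_cancel hp.out.one_le, hbp, mul_one, sub_self]
  have hu : IsUnit (b ^ (p - 1) - 1) := by
    have h3 : b ^ (p - 1) ∈ IsLocalRing.maximalIdeal R :=
      Ideal.pow_mem_of_mem _ hbm _ (Nat.sub_pos_of_lt hp.out.one_lt)
    have h4 : IsUnit (1 - b ^ (p - 1)) := by
      by_contra hcon
      have h5 : (1 - b ^ (p - 1)) ∈ IsLocalRing.maximalIdeal R :=
        (IsLocalRing.mem_maximalIdeal _).2 hcon
      have h6 : (1 : R) ∈ IsLocalRing.maximalIdeal R := by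
        have := Ideal.add_mem _ h5 h3
        rwa [sub_add_cancel] at this
      exact (IsLocalRing.maximalIdeal.isMaximal R).ne_top ((Ideal.eq_top_iff_one _).2 h6)
    have : b ^ (p - 1) - 1 = -(1 - b ^ (p - 1)) := by ring
    rw [this]
    exact h4.neg
  have hb0 : b = 0 := (hu.mul_left_eq_zero).1 h2
  exact ⟨n, sub_eq_zero.1 hb0⟩

end Ring

section Cast

variable (p : ℕ) [hp : Fact p.Prime]

/-- the canonical additive map `ℤ/p → R` when `p = 0` in `R`. -/
def cR (R : Type*) [CommRing R] (h0 : (p : R) = 0) : ZMod p →+ R :=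
  ZMod.lift p ⟨Int.castAddHom R, by simpa using h0⟩

lemma cR_intCast (R : Type*) [CommRing R] (h0 : (p : R) = 0) (z : ℤ) :
    cR p R h0 (z : ZMod p) = (z : R) := by
  unfold cR
  rw [ZMod.lift_coe]
  rfl

lemma cR_natural {R R' : Type*} [CommRing R] [CommRing R'] (f : R →+* R') (h0 : (p : R) = 0)
    (h0' : (p : R') = 0) (n : ZMod p) : f (cR p R h0 n) = cR p R' h0' n := by
  obtain ⟨z, rfl⟩ := ZMod.intCast_surjective n
  rw [cR_intCast, cR_intCast, map_intCast]

lemma cR_pow (R : Type*) [CommRing R] (h0 : (p : R) = 0) (n : ZMod p) :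
    (cR p R h0 n) ^ p - cR p R h0 n = 0 := by
  obtain ⟨z, rfl⟩ := ZMod.intCast_surjective n
  rw [cR_intCast]
  have h1 : ((z ^ p - z : ℤ) : ZMod p) = 0 := by
    push_cast
    rw [ZMod.pow_card, sub_self]
  obtain ⟨k, hk⟩ := (ZMod.intCast_zmod_eq_zero_iff_dvd _ p).1 h1
  have h2 : ((z ^ p - z : ℤ) : R) = 0 := by
    rw [hk]
    push_cast
    rw [h0, zero_mul]
  push_cast at h2
  exact h2

lemma cR_eq_castHom (R : Type*) [CommRing R] [CharP R p] (h0 : (p : R) = 0) (n : ZMod p) :
    cR p R h0 n = ZMod.castHom (dvd_refl p) R n := by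
  obtain ⟨z, rfl⟩ := ZMod.intCast_surjective n
  rw [cR_intCast, map_intCast]

lemma cR_injective (R : Type*) [CommRing R] [Nontrivial R] (h0 : (p : R) = 0) :
    Function.Injective (cR p R h0) := by
  haveI : CharP R p := (CharP.ringChar_of_prime_eq_zero hp.out h0) ▸ ringChar.charP R
  intro a b hab
  rw [cR_eq_castHom, cR_eq_castHom] at hab
  exact (ZMod.castHom (dvd_refl p) R).injective hab

/-- solutions of `a ^ p = a` in a local ring with `p = 0`. -/
lemma exists_cR_eq {R : Type*} [CommRing R] [IsLocalRing R] (h0 : (p : R) = 0) (a : R)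
    (ha : a ^ p - a = 0) : ∃ n : ZMod p, a = cR p R h0 n := by
  haveI : CharP R p := (CharP.ringChar_of_prime_eq_zero hp.out h0) ▸ ringChar.charP R
  obtain ⟨n, hn⟩ := eq_cast_of_pow_eq p a (sub_eq_zero.1 ha)
  exact ⟨n, by rw [cR_eq_castHom]; exact hn⟩

end Cast

section Sheaf

open W4c5etcohweilstudent

variable (X : Scheme.{u}) (p : ℕ) [hp : Fact p.Prime] (h0 : (p : Γ(X, ⊤)) = 0)

/-- the constant presheaf `ℤ/p`. -/
abbrev P₀ : X.Etaleᵒᵖ ⥤ AddCommGrpCat.{u + 1} :=
  (Functor.const _).obj (AddCommGrpCat.of (ULift.{u + 1} (ZMod p)))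

/-- the ring map induced by a morphism of the small étale site. -/
noncomputable abbrev rmap {U V : X.Etale} (g : U ⟶ V) : Γ(V.left, ⊤) →+* Γ(U.left, ⊤) :=
  (Scheme.Γ.map ((Scheme.Etale.forget X ⋙ Over.forget X).map g).op).hom

/-- the presheaf-level map `ℤ/p → G_a`. -/
noncomputable def α₀ : P₀ X p ⟶ (EtCoh.Ga X).obj where
  app U := AddCommGrpCat.ofHom
    ((AddEquiv.ulift.symm.toAddMonoidHom).comp
      ((cR p Γ(U.unop.left, ⊤) (natCast_eq_zero_etale p h0 U.unop)).comp
        AddEquiv.ulift.toAddMonoidHom))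
  naturality := by
    intro U V g
    ext ⟨n⟩
    exact congrArg ULift.up (cR_natural p (rmap X g.unop)
      (natCast_eq_zero_etale p h0 U.unop) (natCast_eq_zero_etale p h0 V.unop) n).symm

lemma α₀_app_down (U : X.Etaleᵒᵖ) (n : ULift.{u + 1} (ZMod p)) :
    ULift.down (((α₀ X p h0).app U).hom n) =
      cR p Γ(U.unop.left, ⊤) (natCast_eq_zero_etale p h0 U.unop) n.down := rfl

lemma α₀_comp : α₀ X p h0 ≫ (artinSchreierEndo X p hp.out h0).hom = 0 := by
  ext U ⟨n⟩
  exact congrArg ULift.up (cR_pow p Γ(U.unop.left, ⊤) (natCast_eq_zero_etale p h0 U.unop) n)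

/-- the map `ℤ/p → G_a` of sheaves. -/
noncomputable def α : EtCoh.const X (ZMod p) ⟶ EtCoh.Ga X :=
  ⟨sheafifyLift X.smallEtaleTopology (α₀ X p h0) (EtCoh.Ga X).property⟩

lemma toSheafify_α : toSheafify X.smallEtaleTopology (P₀ X p) ≫ (α X p h0).hom = α₀ X p h0 :=
  toSheafify_sheafifyLift _ _ _

lemma α_comp : α X p h0 ≫ artinSchreierEndo X p hp.out h0 = 0 := by
  apply Sheaf.hom_ext
  apply sheafify_hom_ext _ _ _ (EtCoh.Ga X).property
  change toSheafify _ _ ≫ (α X p h0).hom ≫ (artinSchreierEndo X p hp.out h0).hom = _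
  rw [← Category.assoc, toSheafify_α, α₀_comp]
  exact comp_zero.symm

lemma mem_of_isEmpty {X : Scheme.{u}} (Z : X.Etale) [IsEmpty Z.left] (S : Sieve Z) :
    S ∈ X.smallEtaleTopology Z := by
  have hc : Sieve.ofArrows (fun i : PEmpty.{1} => i.elim) (fun i => i.elim) ∈
      X.smallEtaleTopology Z := by
    rw [Scheme.ofArrows_mem_smallEtaleTopology_iff]
    ext x
    exact (IsEmpty.false x).elim
  refine X.smallEtaleTopology.superset_covering ?_ hc
  rintro Y f ⟨Z', g, f', ⟨i⟩, _⟩
  exact i.elim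

lemma isLocallyInjective_α₀ :
    Presheaf.IsLocallyInjective X.smallEtaleTopology (α₀ X p h0) where
  equalizerSieve_mem {U} x y h := by
    by_cases hU : IsEmpty U.unop.left
    · exact mem_of_isEmpty _ _
    · rw [not_isEmpty_iff] at hU
      have : Nontrivial Γ(U.unop.left, ⊤) :=
        @Scheme.component_nontrivial U.unop.left ⊤ ⟨⟨hU.some, trivial⟩⟩
      have hxy : x = y := by
        apply ULift.ext
        apply cR_injective p Γ(U.unop.left, ⊤) (natCast_eq_zero_etale p h0 U.unop)
        exact congrArg ULift.down h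
      subst hxy
      rw [Presheaf.equalizerSieve_self_eq_top]
      exact X.smallEtaleTopology.top_mem _

set_option backward.isDefEq.respectTransparency false in
lemma mono_α : Mono (α X p h0) := by
  haveI := isLocallyInjective_α₀ X p h0
  haveI : Presheaf.IsLocallyInjective X.smallEtaleTopology (α X p h0).hom :=
    Presheaf.isLocallyInjective_of_isLocallyInjective_of_isLocallySurjective_fac
      X.smallEtaleTopology (α₀ X p h0) (toSheafify_α X p h0)
  exact Sheaf.mono_of_isLocallyInjective (α X p h0)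

lemma ι_appTop_eq {Y : Scheme.{u}} (W : Y.Opens) (a b : Γ(Y, ⊤)) (i j : W ⟶ (⊤ : Y.Opens))
    (h : Y.presheaf.map i.op a = Y.presheaf.map j.op b) : W.ι.appTop a = W.ι.appTop b := by
  rw [Scheme.Opens.ι_appTop]
  have e : W.ι ''ᵁ ⊤ ≤ W := le_of_eq W.ι_image_top
  have h1 : (homOfLE (le_top : W.ι ''ᵁ ⊤ ≤ ⊤)).op = i.op ≫ (homOfLE e).op := rfl
  have h2 : (homOfLE (le_top : W.ι ''ᵁ ⊤ ≤ ⊤)).op = j.op ≫ (homOfLE e).op := rfl
  have h3 := congrArg (Y.presheaf.map (homOfLE e).op) h
  rw [← CommRingCat.comp_apply, ← CommRingCat.comp_apply, ← Functor.map_comp,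
    ← Functor.map_comp] at h3
  exact h3

/-- a solution of `a ^ p = a` is Zariski locally in the prime field. -/
lemma exists_nhd {Y : Scheme.{u}} (h0 : (p : Γ(Y, ⊤)) = 0) (a : Γ(Y, ⊤)) (ha : a ^ p - a = 0)
    (x : Y) : ∃ (W : Y.Opens) (n : ZMod p), x ∈ W ∧
      W.ι.appTop a = W.ι.appTop (cR p Γ(Y, ⊤) h0 n) := by
  let gx : Γ(Y, ⊤) →+* Y.presheaf.stalk x := (Y.presheaf.germ ⊤ x trivial).hom
  have h0x : (p : Y.presheaf.stalk x) = 0 := by
    rw [← map_natCast gx, h0, map_zero]
  have hax : (gx a) ^ p - gx a = 0 := by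
    rw [← map_pow, ← map_sub, ha, map_zero]
  obtain ⟨n, hn⟩ := exists_cR_eq p h0x (gx a) hax
  rw [← cR_natural p gx h0 h0x n] at hn
  obtain ⟨W, hxW, i, j, hW⟩ := TopCat.Presheaf.germ_eq Y.presheaf (U := ⊤) (V := ⊤) x
    trivial trivial a (cR p Γ(Y, ⊤) h0 n) hn
  exact ⟨W, n, hxW, ι_appTop_eq W _ _ i j hW⟩

end Sheaf

section Exact

open W4c5etcohweilstudent

variable (X : Scheme.{u}) (p : ℕ) [hp : Fact p.Prime] (h0 : (p : Γ(X, ⊤)) = 0)

/-- the Artin–Schreier endomorphism. -/
noncomputable abbrev φ : EtCoh.Ga X ⟶ EtCoh.Ga X := artinSchreierEndo X p hp.out h0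

/-- the comparison with the kernel. -/
noncomputable def κ : EtCoh.const X (ZMod p) ⟶ kernel (φ X p h0) :=
  kernel.lift _ (α X p h0) (α_comp X p h0)

lemma κ_ι : κ X p h0 ≫ kernel.ι (φ X p h0) = α X p h0 := kernel.lift_ι _ _ _

variable {X}

instance (U : X.Etale) : Etale U.hom := U.prop

/-- an open subscheme of an étale `X`-scheme, as an étale `X`-scheme. -/
noncomputable def opn (U : X.Etale) (W : U.left.Opens) : X.Etale := Scheme.Etale.mk (W.ι ≫ U.hom)

/-- the inclusion. -/
noncomputable def opnι (U : X.Etale) (W : U.left.Opens) : opn U W ⟶ U :=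
  MorphismProperty.Over.homMk W.ι rfl trivial

variable (X)

lemma isLocallySurjective_κ :
    Presheaf.IsLocallySurjective X.smallEtaleTopology (κ X p h0).hom where
  imageSieve_mem {U} s := by
    let ι := kernel.ι (φ X p h0)
    let a : ULift.{u + 1} Γ(U.left, ⊤) := (ι.hom.app (op U)).hom s
    have ha : a.down ^ p - a.down = 0 := by
      have h1 : ι ≫ φ X p h0 = 0 := kernel.condition _
      have h2 : ((ι ≫ φ X p h0).hom.app (op U)).hom s = 0 := by
        rw [h1]
        rfl
      exact congrArg ULift.down h2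
    choose W n hxW hW using exists_nhd p (natCast_eq_zero_etale p h0 U) a.down ha
    have hmem : ∀ x, Presheaf.imageSieve (κ X p h0).hom s (opnι U (W x)) := by
      intro x
      refine ⟨((toSheafify X.smallEtaleTopology (P₀ X p)).app (op (opn U (W x)))).hom ⟨n x⟩, ?_⟩
      have hmono : Mono ((EtCechFlasque.Γ (opn U (W x))).map ι) := inferInstance
      rw [AddCommGrpCat.mono_iff_injective] at hmono
      apply hmono
      change (ι.hom.app _).hom (((κ X p h0).hom.app _).hom _) =
        (ι.hom.app _).hom (((kernel (φ X p h0)).obj.map (opnι U (W x)).op).hom s)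
      have e1 : (ι.hom.app (op (opn U (W x)))).hom (((κ X p h0).hom.app _).hom
          (((toSheafify X.smallEtaleTopology (P₀ X p)).app (op (opn U (W x)))).hom ⟨n x⟩)) =
          ((α₀ X p h0).app (op (opn U (W x)))).hom ⟨n x⟩ := by
        have h3 : toSheafify X.smallEtaleTopology (P₀ X p) ≫ (κ X p h0).hom ≫ ι.hom =
            α₀ X p h0 := by
          have h4 : (κ X p h0).hom ≫ ι.hom = (α X p h0).hom :=
            congrArg (fun f => f.hom) (κ_ι X p h0)
          exact (congrArg (fun f => toSheafify X.smallEtaleTopology (P₀ X p) ≫ f) h4).trans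
            (toSheafify_α X p h0)
        exact congrArg (fun f => (f.app (op (opn U (W x)))).hom ⟨n x⟩) h3
      have e2 : (ι.hom.app (op (opn U (W x)))).hom
          (((kernel (φ X p h0)).obj.map (opnι U (W x)).op).hom s) =
          ((EtCoh.Ga X).obj.map (opnι U (W x)).op).hom a :=
        (NatTrans.naturality_apply ι.hom (opnι U (W x)).op s)
      rw [e1, e2]
      apply ULift.ext
      change cR p Γ((opn U (W x)).left, ⊤) (natCast_eq_zero_etale p h0 (opn U (W x))) (n x) =
        (W x).ι.appTop a.down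
      rw [hW x]
      exact (cR_natural p (W x).ι.appTop.hom (natCast_eq_zero_etale p h0 U)
        (natCast_eq_zero_etale p h0 (opn U (W x))) (n x)).symm
    have hcov : Sieve.ofArrows (fun x : U.left => opn U (W x)) (fun x => opnι U (W x)) ∈
        X.smallEtaleTopology U := by
      rw [Scheme.ofArrows_mem_smallEtaleTopology_iff]
      ext x
      simp only [Set.mem_iUnion, Set.mem_range, Set.mem_univ, iff_true]
      exact ⟨x, ⟨x, hxW x⟩, rfl⟩
    refine X.smallEtaleTopology.superset_covering ?_ hcov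
    rintro Y f ⟨Z, g, _, ⟨x⟩, rfl⟩
    exact Sieve.downward_closed _ (hmem x) g

set_option backward.isDefEq.respectTransparency false in
lemma isIso_κ : IsIso (κ X p h0) := by
  haveI : Mono (κ X p h0) := by
    haveI : Mono (κ X p h0 ≫ kernel.ι (φ X p h0)) := by
      rw [κ_ι]
      exact mono_α X p h0
    exact mono_of_mono _ (kernel.ι (φ X p h0))
  haveI : Epi (κ X p h0) := by
    haveI := isLocallySurjective_κ X p h0
    exact (Sheaf.isLocallySurjective_iff_epi' _ (κ X p h0)).1 ‹_›
  exact isIso_of_mono_of_epi _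

/-- the Artin–Schreier short complex `ker → G_a → G_a`. -/
noncomputable def asSC : ShortComplex (EtCoh.Ab X) :=
  ShortComplex.mk (kernel.ι (φ X p h0)) (φ X p h0) (kernel.condition _)

lemma asSC_shortExact : (asSC X p h0).ShortExact where
  exact := ShortComplex.exact_of_f_is_kernel _ (kernelIsKernel (φ X p h0))
  mono_f := inferInstanceAs (Mono (kernel.ι (φ X p h0)))
  epi_g := Groth.Agent.S18415.result p hp.out h0

open CategoryTheory.Abelian in
include h0 in
/-- if the higher cohomology of `G_a` vanishes, so does the cohomology of `ℤ/p` in degrees `≥ 2`. -/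
theorem subsingleton_H_const (hGa : ∀ q : ℕ, Subsingleton (EtCoh.H X (EtCoh.Ga X) (q + 1)))
    (m : ℕ) : Subsingleton (EtCoh.H X (EtCoh.const X (ZMod p)) (m + 2)) := by
  have hK : ∀ x : EtCoh.H X (kernel (φ X p h0)) (m + 2), x = 0 := by
    intro x
    have h1 : x.comp (Ext.mk₀ (asSC X p h0).f) (add_zero (m + 2)) = 0 :=
      (hGa (m + 1)).elim _ _
    obtain ⟨x₃, hx₃⟩ := Ext.covariant_sequence_exact₁ _ (asSC_shortExact X p h0) x h1
      (n₀ := m + 1) rfl
    have h2 : x₃ = 0 := (hGa m).elim _ _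
    rw [← hx₃, h2]
    apply Ext.zero_comp
  haveI := isIso_κ X p h0
  have e : (EtCoh.HF X (m + 2)).obj (EtCoh.const X (ZMod p)) ≅
      (EtCoh.HF X (m + 2)).obj (kernel (φ X p h0)) :=
    (EtCoh.HF X (m + 2)).mapIso (asIso (κ X p h0))
  refine ⟨fun x y => ?_⟩
  have hx : e.hom.hom x = e.hom.hom y := (hK _).trans (hK _).symm
  have h3 := congrArg e.inv.hom hx
  change (e.hom ≫ e.inv).hom x = (e.hom ≫ e.inv).hom y at h3
  rw [e.hom_inv_id] at h3
  exact h3

end Exact

end Groth.Agent.Lib.Helper5.ASKernel
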