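import Groth.Agent.Lib.Helper5.GaFrobCoh
import Groth.Agent.Lib.Helper5.ASKernel

set_option autoImplicit false
set_option backward.isDefEq.respectTransparency false
universe u
open CategoryTheory CategoryTheory.Limits AlgebraicGeometry Opposite TopologicalSpace

namespace Groth.Agent.Lib.Helper5.ASFinite

open Groth.Agent.Lib.Helper5.ULiftConst Groth.Agent.Lib.Helper5.GaZar W4c5etcohweilstudent
  Groth.Agent.Lib.Helper5.GaFrob Groth.Agent.Lib.Helper5.GaCompare
  Groth.Agent.Lib.Helper5.GaFrobCoh Groth.Agent.Lib.Helper5.ASKernel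
  Groth.Agent.Lib.Helper13.ExtAdj CategoryTheory.Abelian

variable (X : Scheme.{u}) (p : ℕ) [hp : Fact p.Prime] (h0 : (p : Γ(X, ⊤)) = 0)

/-- the map induced by Artin–Schreier on `H^q(X_et, G_a)`. -/
noncomputable abbrev asH (q : ℕ) : EtCoh.H X (EtCoh.Ga X) q →+ EtCoh.H X (EtCoh.Ga X) q :=
  Sheaf.H.map (φ X p h0) q

/-- `H^q(ker) → H^q(G_a)` is injective as soon as Artin–Schreier is surjective one degree lower. -/
theorem ι_injective (q : ℕ)
    (hsurj : ∀ m : ℕ, m + 1 = q → Function.Surjective (asH X p h0 m)) :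
    Function.Injective (Sheaf.H.map (kernel.ι (φ X p h0)) q) := by
  rw [injective_iff_map_eq_zero]
  intro x hx
  rcases q with _ | m
  · obtain ⟨g, rfl⟩ := (Ext.mk₀_bijective _ _).2 x
    rw [Sheaf.H.map_apply, Ext.mk₀_comp_mk₀] at hx
    have h1 : g ≫ kernel.ι (φ X p h0) = 0 := by
      apply (Ext.mk₀_bijective _ _).1
      rw [hx, Ext.mk₀_zero]
    have h2 : g = 0 := by
      rw [← cancel_mono (kernel.ι (φ X p h0)), h1, zero_comp]
    rw [h2, Ext.mk₀_zero]
  · obtain ⟨x₃, hx₃⟩ := Ext.covariant_sequence_exact₁ _ (asSC_shortExact X p h0) x hx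
      (n₀ := m) rfl
    obtain ⟨y, hy⟩ := hsurj m rfl x₃
    rw [← hx₃, ← hy, Sheaf.H.map_apply, Ext.comp_assoc_of_second_deg_zero]
    have := (asSC_shortExact X p h0).comp_extClass
    change (Ext.mk₀ (φ X p h0)).comp (asSC_shortExact X p h0).extClass (zero_add 1) = 0 at this
    rw [this, Ext.comp_zero]

theorem finite_H_ker (q : ℕ)
    (hsurj : ∀ m : ℕ, m + 1 = q → Function.Surjective (asH X p h0 m))
    (hfin : Finite {x : EtCoh.H X (EtCoh.Ga X) q // asH X p h0 q x = 0}) :
    Finite (EtCoh.H X (kernel (φ X p h0)) q) := by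
  let g : EtCoh.H X (kernel (φ X p h0)) q → {x : EtCoh.H X (EtCoh.Ga X) q // asH X p h0 q x = 0} :=
    fun x => ⟨Sheaf.H.map (kernel.ι (φ X p h0)) q x, by
      change Sheaf.H.map (φ X p h0) q (Sheaf.H.map (kernel.ι (φ X p h0)) q x) = 0
      rw [← Sheaf.H.map_comp_apply, kernel.condition]
      rw [Sheaf.H.map_apply, Ext.mk₀_zero, Ext.comp_zero]⟩
  have hg : Function.Injective g := by
    intro a b hab
    exact ι_injective X p h0 q hsurj (congrArg Subtype.val hab)
  exact Finite.of_injective g hg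

theorem finite_H_const (q : ℕ)
    (hsurj : ∀ m : ℕ, m + 1 = q → Function.Surjective (asH X p h0 m))
    (hfin : Finite {x : EtCoh.H X (EtCoh.Ga X) q // asH X p h0 q x = 0}) :
    Finite (EtCoh.H X (EtCoh.const X (ZMod p)) q) := by
  haveI := isIso_κ X p h0
  have := finite_H_ker X p h0 q hsurj hfin
  exact Finite.of_equiv _ (extIsoRight _ (asIso (κ X p h0)) q).symm.toEquiv

end Groth.Agent.Lib.Helper5.ASFinite
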