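import Groth.Agent.Lib.Helper5.ASFinite
import Groth.Agent.S0002
import Groth.Agent.S0077
import Groth.Agent.S0078

set_option autoImplicit false
set_option backward.isDefEq.respectTransparency false
universe u
open CategoryTheory CategoryTheory.Limits AlgebraicGeometry Opposite TopologicalSpace

namespace Groth.Agent.Lib.Helper5.ASProper

open Groth.Agent.Lib.Helper5.ULiftConst Groth.Agent.Lib.Helper5.GaZar W4c5etcohweilstudent
  Groth.Agent.Lib.Helper5.GaFrob Groth.Agent.Lib.Helper5.GaCompare
  Groth.Agent.Lib.Helper5.GaFrobCoh Groth.Agent.Lib.Helper5.ASKernel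
  Groth.Agent.Lib.Helper5.ASFinite
  Groth.Agent.Lib.Helper13.ExtAdj CategoryTheory.Abelian

variable {k : Type u} [Field k] (p : ℕ) [hp : Fact p.Prime] [CharP k p]
  {X : Scheme.{u}} (f : X ⟶ Spec (CommRingCat.of k))

include f in
theorem natCast_eq_zero : (p : Γ(X, ⊤)) = 0 := by
  have h := map_natCast (Coh.toGlobal f) p
  rw [CharP.cast_eq_zero k p, map_zero] at h
  exact h.symm

variable (h0 : (p : Γ(X, ⊤)) = 0)

/-- Frobenius on Zariski cohomology of the structure sheaf. -/
noncomputable def Fz (q : ℕ) : Coh.HH X (Coh.structureModule X) q →+ Coh.HH X (Coh.structureModule X) q :=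
  Sheaf.H.map (frobZar X p hp.out h0) q

theorem asz_eq (q : ℕ) (v : Coh.HH X (Coh.structureModule X) q) :
    Sheaf.H.map (asZar X p hp.out h0) q v = Fz p h0 q v - v := by
  have h := Sheaf.H.map_add_apply (n := q) (asZar X p hp.out h0) (𝟙 (OAb X)) v
  rw [asZar_add_id, Sheaf.H.map_id_apply] at h
  rw [Fz, h, add_sub_cancel_right]

theorem Fz_semilinear [X.Over (Spec (CommRingCat.of k))] (q : ℕ) (c : k)
    (v : Coh.HH X (Coh.structureModule X) q) :
    Fz p h0 q (c • v) = c ^ p • Fz p h0 q v := by
  change Sheaf.H.map (frobZar X p hp.out h0) q (Sheaf.H.map (Coh.smulAb (Coh.structureModule X)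
      (Coh.toGlobal (X ↘ Spec (CommRingCat.of k)) c)) q v) =
    Sheaf.H.map (Coh.smulAb (Coh.structureModule X)
      (Coh.toGlobal (X ↘ Spec (CommRingCat.of k)) (c ^ p))) q
      (Sheaf.H.map (frobZar X p hp.out h0) q v)
  rw [← Sheaf.H.map_comp_apply, ← Sheaf.H.map_comp_apply, smul_frob, map_pow]


theorem gaIso_symm_as (q : ℕ) (x : EtCoh.H X (EtCoh.Ga X) q) :
    (gaIso X q).symm (asH X p h0 q x) =
      Sheaf.H.map (asZar X p hp.out h0) q ((gaIso X q).symm x) := by
  apply (gaIso X q).injective
  rw [AddEquiv.apply_symm_apply, gaIso_as, AddEquiv.apply_symm_apply]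

include f in
theorem asH_surjective_and_finite_ker [IsAlgClosed k] [IsProper f] (q : ℕ) :
    Function.Surjective (asH X p h0 q) ∧
      Finite {x : EtCoh.H X (EtCoh.Ga X) q // asH X p h0 q x = 0} := by
  let _ : X.Over (Spec (CommRingCat.of k)) := ⟨f⟩
  have hprop : IsProper (X ↘ Spec (CommRingCat.of k)) := ‹IsProper f›
  have hfd : Module.Finite k (Coh.HH X (Coh.structureModule X) q) :=
    Groth.Agent.S0002.result k X (Coh.structureModule X) ⟨inferInstance, inferInstance⟩ q
  have hsemi := Fz_semilinear (k := k) p h0 q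
  have hS := Groth.Agent.S0077.result p (Fz p h0 q) hsemi
  have hK := (Groth.Agent.S0078.result p (Fz p h0 q) hsemi).1
  constructor
  · intro y
    obtain ⟨w, hw⟩ := hS ((gaIso X q).symm y)
    refine ⟨gaIso X q w, ?_⟩
    have h1 : asH X p h0 q (gaIso X q w) = gaIso X q (Sheaf.H.map (asZar X p hp.out h0) q w) :=
      (gaIso_as X p hp.out h0 q w).symm
    rw [h1, asz_eq]
    change gaIso X q (Fz p h0 q w - w) = y
    have hw' : Fz p h0 q w - w = (gaIso X q).symm y := hw
    rw [hw', AddEquiv.apply_symm_apply]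
  · have : Finite {v : Coh.HH X (Coh.structureModule X) q | Fz p h0 q v = v} := hK.to_subtype
    let g : {x : EtCoh.H X (EtCoh.Ga X) q // asH X p h0 q x = 0} →
        {v : Coh.HH X (Coh.structureModule X) q | Fz p h0 q v = v} :=
      fun x => ⟨(gaIso X q).symm x.1, by
        have h1 := gaIso_symm_as p h0 q x.1
        rw [x.2, map_zero, asz_eq] at h1
        exact (sub_eq_zero.1 h1.symm)⟩
    have hg : Function.Injective g := by
      intro a b hab
      apply Subtype.ext
      exact (gaIso X q).symm.injective (congrArg Subtype.val hab)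
    exact Finite.of_injective g hg

end Groth.Agent.Lib.Helper5.ASProper
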