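import Groth.Agent.Lib.Helper5.ASProper
import Groth.Agent.Lib.Helper5.SemilinSepClosed

set_option autoImplicit false
set_option backward.isDefEq.respectTransparency false
universe u
open CategoryTheory CategoryTheory.Limits AlgebraicGeometry Opposite TopologicalSpace

namespace Groth.Agent.Lib.Helper5.ASProperSep

open Groth.Agent.Lib.Helper5.ULiftConst Groth.Agent.Lib.Helper5.GaZar W4c5etcohweilstudent
  Groth.Agent.Lib.Helper5.GaFrob Groth.Agent.Lib.Helper5.GaCompare
  Groth.Agent.Lib.Helper5.GaFrobCoh Groth.Agent.Lib.Helper5.ASKernel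
  Groth.Agent.Lib.Helper5.ASFinite Groth.Agent.Lib.Helper5.ASProper
  Groth.Agent.Lib.Helper13.ExtAdj CategoryTheory.Abelian

variable {k : Type u} [Field k] [IsSepClosed k] (p : ℕ) [hp : Fact p.Prime] [CharP k p]
  {X : Scheme.{u}} [X.Over (Spec (CommRingCat.of k))] [IsProper (X ↘ Spec (CommRingCat.of k))]
  (h0 : (p : Γ(X, ⊤)) = 0)

theorem asH_surjective_finite_card (q : ℕ) :
    Function.Surjective (asH X p h0 q) ∧
      Finite {x : EtCoh.H X (EtCoh.Ga X) q // asH X p h0 q x = 0} ∧
      Nat.card {x : EtCoh.H X (EtCoh.Ga X) q // asH X p h0 q x = 0} ≤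
        p ^ Module.finrank k (Coh.HH X (Coh.structureModule X) q) := by
  have hfd : Module.Finite k (Coh.HH X (Coh.structureModule X) q) :=
    Groth.Agent.S0002.result k X (Coh.structureModule X) ⟨inferInstance, inferInstance⟩ q
  have hsemi := Fz_semilinear (k := k) p h0 q
  have hS := Groth.Agent.Lib.Helper5.SemilinSepClosed.surj p (Fz p h0 q) hsemi
  have hK := Groth.Agent.S0078.main p (Fz p h0 q) hsemi
  have hfinZ : Finite {v : Coh.HH X (Coh.structureModule X) q | Fz p h0 q v = v} := hK.1.to_subtype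
  let g : {x : EtCoh.H X (EtCoh.Ga X) q // asH X p h0 q x = 0} →
      {v : Coh.HH X (Coh.structureModule X) q | Fz p h0 q v = v} :=
    fun x => ⟨(gaIso X q).symm x.1, by
      have h1 := gaIso_symm_as p h0 q x.1
      rw [x.2, map_zero, asz_eq] at h1
      exact (sub_eq_zero.1 h1.symm)⟩
  have hg : Function.Injective g := by
    intro a b hab
    apply Subtype.ext
    exact (gaIso X q).symm.injective (congrArg Subtype.val hab)
  refine ⟨?_, Finite.of_injective g hg, (Nat.card_le_card_of_injective g hg).trans hK.2⟩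
  intro y
  obtain ⟨w, hw⟩ := hS ((gaIso X q).symm y)
  refine ⟨gaIso X q w, ?_⟩
  have h1 : asH X p h0 q (gaIso X q w) = gaIso X q (Sheaf.H.map (asZar X p hp.out h0) q w) :=
    (gaIso_as X p hp.out h0 q w).symm
  rw [h1, asz_eq]
  change gaIso X q (Fz p h0 q w - w) = y
  have hw' : Fz p h0 q w - w = (gaIso X q).symm y := hw
  rw [hw', AddEquiv.apply_symm_apply]

omit [IsSepClosed k] [CharP k p] [X.Over (Spec (CommRingCat.of k))]
  [IsProper (X ↘ Spec (CommRingCat.of k))] in
theorem card_H_const_le (q : ℕ) (N : ℕ)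
    (hsurj : ∀ m : ℕ, m + 1 = q → Function.Surjective (asH X p h0 m))
    (hfin : Finite {x : EtCoh.H X (EtCoh.Ga X) q // asH X p h0 q x = 0})
    (hcard : Nat.card {x : EtCoh.H X (EtCoh.Ga X) q // asH X p h0 q x = 0} ≤ N) :
    Nat.card (EtCoh.H X (EtCoh.const X (ZMod p)) q) ≤ N := by
  have := isIso_κ X p h0
  let g : EtCoh.H X (kernel (φ X p h0)) q → {x : EtCoh.H X (EtCoh.Ga X) q // asH X p h0 q x = 0} :=
    fun x => ⟨Sheaf.H.map (kernel.ι (φ X p h0)) q x, by
      change Sheaf.H.map (φ X p h0) q (Sheaf.H.map (kernel.ι (φ X p h0)) q x) = 0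
      rw [← Sheaf.H.map_comp_apply, kernel.condition]
      rw [Sheaf.H.map_apply, Ext.mk₀_zero, Ext.comp_zero]⟩
  have hg : Function.Injective g := by
    intro a b hab
    exact ι_injective X p h0 q hsurj (congrArg Subtype.val hab)
  have h1 : Nat.card (EtCoh.H X (EtCoh.const X (ZMod p)) q) =
      Nat.card (EtCoh.H X (kernel (φ X p h0)) q) :=
    Nat.card_congr (extIsoRight _ (asIso (κ X p h0)) q).toEquiv
  rw [h1]
  exact (Nat.card_le_card_of_injective g hg).trans hcard

end Groth.Agent.Lib.Helper5.ASProperSep
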