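import Mathlib
import Groth.Agent.Lib.Helper5.AbCx

/-!
# Quasi-isomorphisms of complexes of abelian groups, elementwise (helper5)
-/

set_option autoImplicit false
universe u
open CategoryTheory CategoryTheory.Limits HomologicalComplex

noncomputable section
namespace Groth.Agent.Lib.Helper5.AbQis

open Groth.Agent.Lib.Helper5.AbCx

/-- the elementwise conditions for a quasi-isomorphism. -/
structure EQis {K L : CochainComplex AddCommGrpCat.{u} ℤ} (f : K ⟶ L) : Prop where
  inj : ∀ (i' i j : ℤ) (_ : i' + 1 = i) (_ : i + 1 = j) (x : K.X i), K.d i j x = 0 →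
    (∃ w : L.X i', L.d i' i w = f.f i x) → ∃ z : K.X i', K.d i' i z = x
  surj : ∀ (i' i j : ℤ) (_ : i' + 1 = i) (_ : i + 1 = j) (y : L.X i), L.d i j y = 0 →
    ∃ (x : K.X i), K.d i j x = 0 ∧ ∃ w : L.X i', L.d i' i w = f.f i x - y

variable {K L : CochainComplex AddCommGrpCat.{u} ℤ} (f : K ⟶ L)

lemma f_cocycle (i j : ℤ) (x : K.X i) (hx : K.d i j x = 0) : L.d i j (f.f i x) = 0 := by
  rw [← comm_apply, hx, map_zero]

theorem eqis_of_quasiIso [QuasiIso f] : EQis f where
  inj i' i j hi hij x hx hw := by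
    have hb : Function.Bijective (homologyMap f i) :=
      ConcreteCategory.bijective_of_isIso (homologyMap f i)
    have h1 : homologyMap f i (cls K i j hij x hx) = 0 := by
      rw [homologyMap_cls, cls_eq_zero_iff L i' i j hi hij]
      exact hw
    have h2 : cls K i j hij x hx = 0 := hb.1 (h1.trans (map_zero _).symm)
    exact (cls_eq_zero_iff K i' i j hi hij x hx).1 h2
  surj i' i j hi hij y hy := by
    have hb : Function.Bijective (homologyMap f i) :=
      ConcreteCategory.bijective_of_isIso (homologyMap f i)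
    obtain ⟨h, hh⟩ := hb.2 (cls L i j hij y hy)
    obtain ⟨x, hx, rfl⟩ := cls_surjective K i j hij h
    refine ⟨x, hx, ?_⟩
    rw [homologyMap_cls] at hh
    exact (cls_eq_iff L i' i j hi hij _ _ (f_cocycle f i j x hx) hy).1 hh

theorem quasiIso_of_eqis (h : EQis f) : QuasiIso f := by
  rw [quasiIso_iff]
  intro i
  rw [quasiIsoAt_iff_isIso_homologyMap]
  rw [ConcreteCategory.isIso_iff_bijective]
  constructor
  · rw [← AddMonoidHom.coe_coe, injective_iff_map_eq_zero]
    intro a ha
    obtain ⟨x, hx, rfl⟩ := cls_surjective K i (i + 1) rfl a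
    have ha' : homologyMap f i (cls K i (i + 1) rfl x hx) = 0 := ha
    rw [homologyMap_cls, cls_eq_zero_iff L (i - 1) i (i + 1) (by omega) rfl] at ha'
    rw [cls_eq_zero_iff K (i - 1) i (i + 1) (by omega) rfl]
    exact h.inj (i - 1) i (i + 1) (by omega) rfl x hx ha'
  · intro b
    obtain ⟨y, hy, rfl⟩ := cls_surjective L i (i + 1) rfl b
    obtain ⟨x, hx, hw⟩ := h.surj (i - 1) i (i + 1) (by omega) rfl y hy
    refine ⟨cls K i (i + 1) rfl x hx, ?_⟩
    rw [homologyMap_cls]
    exact (cls_eq_iff L (i - 1) i (i + 1) (by omega) rfl _ _ (f_cocycle f i (i + 1) x hx) hy).2 hw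

end Groth.Agent.Lib.Helper5.AbQis
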