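import Mathlib
import Groth.Prelude.Def_CohTop
import Groth.Prelude.Def_CohCx
import Groth.Prelude.Def_FreeSh
import Groth.Agent.Lib.Helper2.Leray
import Groth.Agent.Lib.Helper2.RDBridge
import Groth.Agent.Lib.Helper2.GSS.HomFunctor
import Groth.Agent.Lib.Helper13.DerivedCommute

/-!
# Sections of a quasi-isomorphism between complexes of acyclic sheaves (helper5)

For an open `V` of a space and a quasi-isomorphism `i : K ⟶ J` of bounded below complexes of
abelian sheaves all of whose terms have vanishing higher cohomology on `V`, the map on sections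
over `V` is a quasi-isomorphism.
-/

set_option autoImplicit false
universe u
open CategoryTheory CategoryTheory.Limits Opposite TopologicalSpace

noncomputable section
namespace Groth.Agent.Lib.Helper5.AcycSect

open Groth.Agent.Lib.Helper2 Groth.Agent.Lib.Helper2.GSS Groth.Agent.Lib.Helper13.DerivedCommute

variable {X : TopCat.{u}}

/-- sections over `V`. -/
abbrev ΓV (V : Opens X) : CohTop.Ab X ⥤ AddCommGrpCat.{u} :=
  sheafToPresheaf (Opens.grothendieckTopology X) AddCommGrpCat.{u} ⋙
    (evaluation (Opens X)ᵒᵖ AddCommGrpCat.{u}).obj (op V)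

instance (V : Opens X) : (ΓV V).Additive := inferInstance

instance (V : Opens X) : PreservesFiniteLimits (ΓV V) := inferInstance

/-- sections are morphisms from the free sheaf. -/
def ΓVIso (V : Opens X) : ΓV V ≅ homF (CohCx.freeSheaf (Opens.grothendieckTopology X) V) :=
  NatIso.ofComponents
    (fun F => (CohFree.homEquivSect (Opens.grothendieckTopology X) V F).symm.toAddCommGrpIso)
    (by
      intro F G ψ
      apply AddCommGrpCat.hom_ext
      apply AddMonoidHom.ext
      intro s
      change CohFree.ofSect _ V G ((ψ.hom.app (op V)).hom s) = CohFree.ofSect _ V F s ≫ ψ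
      apply (CohFree.homEquivSect (Opens.grothendieckTopology X) V G).injective
      rw [CohFree.homEquivSect_apply, CohFree.homEquivSect_apply, CohFree.evalGen_ofSect]
      change _ = (ψ.hom.app (op V)).hom (CohFree.evalGen _ V F (CohFree.ofSect _ V F s))
      rw [CohFree.evalGen_ofSect])

lemma isZero_rightDerived (V : Opens X) (F : CohTop.Ab X) (i : ℕ)
    (h : Subsingleton (CohTop.HU F i V)) : IsZero (((ΓV V).rightDerived i).obj F) := by
  refine IsZero.of_iso ?_ (rightDerivedObjIsoOfNatIso (ΓVIso V) i F ≪≫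
    rightDerivedHomFIso (CohCx.freeSheaf (Opens.grothendieckTopology X) V) F i)
  haveI : Subsingleton (Abelian.Ext (CohCx.freeSheaf (Opens.grothendieckTopology X) V) F i) := h
  exact AddCommGrpCat.isZero_of_subsingleton _

variable [HasDerivedCategory.{u} (CohTop.Ab X)]

theorem quasiIso_sections (V : Opens X) {K J : CochainComplex.Plus (CohTop.Ab X)} (i : K ⟶ J)
    [QuasiIso i.hom]
    (hK : ∀ (m : ℤ) (q : ℕ), Subsingleton (CohTop.HU (K.obj.X m) (q + 1) V))
    (hJ : ∀ (m : ℤ) (q : ℕ), Subsingleton (CohTop.HU (J.obj.X m) (q + 1) V)) :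
    QuasiIso (((ΓV V).mapHomologicalComplex (ComplexShape.up ℤ)).map i.hom) := by
  letI := HasDerivedCategory.standard AddCommGrpCat.{u}
  have acyc : ∀ (L : CochainComplex.Plus (CohTop.Ab X)),
      (∀ (m : ℤ) (q : ℕ), Subsingleton (CohTop.HU (L.obj.X m) (q + 1) V)) →
      ∀ (m : ℤ) (j : ℕ), 0 < j → IsZero (((ΓV V).rightDerived j).obj (L.obj.X m)) := by
    intro L hL m j hj
    obtain ⟨q, rfl⟩ : ∃ q, j = q + 1 := ⟨j - 1, by omega⟩
    exact isZero_rightDerived V _ _ (hL m q)
  have uK := Leray.leray (ΓV V) K (acyc K hK)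
  have uJ := Leray.leray (ΓV V) J (acyc J hJ)
  have nat := (ΓV V).rightDerivedFunctorPlusUnit.naturality
    ((HomotopyCategory.Plus.quotient (CohTop.Ab X)).map i)
  have hi := RDPlus.isIso_PlusQ_map i
  have h1 : IsIso ((DerivedCategory.Plus.Qh ⋙ (ΓV V).rightDerivedFunctorPlus).map
      ((HomotopyCategory.Plus.quotient (CohTop.Ab X)).map i)) := by
    change IsIso ((ΓV V).rightDerivedFunctorPlus.map (DerivedCategory.Plus.Q.map i))
    infer_instance
  have h2 : IsIso ((RDBridge.FQ (ΓV V)).map
      ((HomotopyCategory.Plus.quotient (CohTop.Ab X)).map i)) := by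
    have h3 : IsIso ((RDBridge.FQ (ΓV V)).map
        ((HomotopyCategory.Plus.quotient (CohTop.Ab X)).map i) ≫
        (ΓV V).rightDerivedFunctorPlusUnit.app ((HomotopyCategory.Plus.quotient _).obj J)) := by
      rw [nat]
      infer_instance
    exact IsIso.of_isIso_comp_right _
      ((ΓV V).rightDerivedFunctorPlusUnit.app ((HomotopyCategory.Plus.quotient _).obj J))
  rw [quasiIso_iff]
  intro n
  rw [quasiIsoAt_iff_isIso_homologyMap]
  have h4 := RDBridge.hIso_naturality (ΓV V) n i
  have h5 : IsIso ((RDBridge.HD n).map ((RDBridge.FQ (ΓV V)).map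
      ((HomotopyCategory.Plus.quotient (CohTop.Ab X)).map i))) := inferInstance
  have h6 : IsIso ((RDBridge.hIso (ΓV V) n K).hom ≫ HomologicalComplex.homologyMap
      (((ΓV V).mapHomologicalComplex (ComplexShape.up ℤ)).map i.hom) n) := by
    rw [← h4]
    infer_instance
  exact IsIso.of_isIso_comp_left (RDBridge.hIso (ΓV V) n K).hom _

end Groth.Agent.Lib.Helper5.AcycSect
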