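import Groth.Agent.S3536
import Groth.Agent.Lib.Helper5.AcycSect

/-!
# Hypercohomology of a bounded below complex with acyclic terms is the cohomology of its sections
(helper5)
-/

set_option autoImplicit false
universe u
open CategoryTheory CategoryTheory.Limits Opposite TopologicalSpace

namespace Groth.Agent.Lib.Helper5.AcycHDU

open Groth.Agent.Lib.Helper5 Groth.Agent.Lib.Helper5.HDUSect

variable {X : TopCat.{u}} [HasDerivedCategory.{u} (CohTop.Ab X)]

theorem nonempty_sectH_equiv_HDU (K : CochainComplex (CohTop.Ab X) ℤ) (a : ℤ)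
    (ha : ∀ i : ℤ, i < a → IsZero (K.X i)) (V : Opens X)
    (h : ∀ (i : ℤ) (q : ℕ), Subsingleton (CohTop.HU (K.X i) (q + 1) V)) (n : ℤ) :
    Nonempty ((((CohCx.sectCx (Opens.grothendieckTopology X) V).obj K).homology n :
      AddCommGrpCat.{u}) ≃+ CohCx.HDU (DerivedCategory.Q.obj K) n V) := by
  classical
  have hGE : K.IsStrictlyGE a := by
    rw [CochainComplex.isStrictlyGE_iff]
    intro q hq
    exact ha q hq
  let K' : CochainComplex.Plus (CohTop.Ab X) := ⟨K, ⟨a, hGE⟩⟩
  obtain ⟨L, hL, i, hi⟩ := CochainComplex.Plus.exists_quasiIso_injective K' a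
  let J : CochainComplex.Plus (CohTop.Ab X) := (InjectiveObject.ι _).mapCochainComplexPlus.obj L
  have hinj : ∀ n, Injective (J.obj.X n) := fun n => (L.obj.X n).property
  have hQ : QuasiIso i.hom := hi
  have hJGE : CochainComplex.IsStrictlyGE J.obj a :=
    inferInstanceAs (CochainComplex.IsStrictlyGE (((InjectiveObject.ι (CohTop.Ab X)).mapHomologicalComplex
      (ComplexShape.up ℤ)).obj L.obj) a)
  have hKI : J.obj.IsKInjective := CochainComplex.isKInjective_of_injective J.obj a
  have hq : QuasiIso (((AcycSect.ΓV V).mapHomologicalComplex (ComplexShape.up ℤ)).map i.hom) := by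
    apply AcycSect.quasiIso_sections V i
    · intro m q
      exact h m q
    · intro m q
      have : Subsingleton (Abelian.Ext (CohCx.freeSheaf (Opens.grothendieckTopology X) V)
          (J.obj.X m) (q + 1)) :=
        ⟨fun x y => by
          rw [Abelian.Ext.eq_zero_of_injective x, Abelian.Ext.eq_zero_of_injective y]⟩
      exact this
  let e1 : ((CohCx.sectCx (Opens.grothendieckTopology X) V).obj K).homology n ≅
      ((CohCx.sectCx (Opens.grothendieckTopology X) V).obj J.obj).homology n :=
    isoOfQuasiIsoAt (((AcycSect.ΓV V).mapHomologicalComplex (ComplexShape.up ℤ)).map i.hom) n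
  let eK : DerivedCategory.Q.obj K ≅ DerivedCategory.Q.obj J.obj :=
    asIso (DerivedCategory.Q.map i.hom)
  exact ⟨(e1.addCommGroupIsoToAddEquiv).trans
    ((Groth.Agent.S3536.sectHEquiv J.obj V n).trans
      (Groth.Agent.S3536.postEquiv ((shiftFunctor _ n).mapIso eK)).symm)⟩

end Groth.Agent.Lib.Helper5.AcycHDU
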