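import Groth.Agent.Lib.Helper2.RDBridge
import Groth.Agent.Lib.Helper2.GSS.DimShift

/-!
# Helper5: classes of objects acyclic for a left exact functor

If a class `P` of objects is stable under `X ↦ I(X)/X` (quotient of the chosen injective hull) and
`F` maps `I(X) ⟶ I(X)/X` to an epimorphism for `X` in `P`, then the objects of `P` are right
`F`-acyclic.
-/

set_option autoImplicit false
universe v v' u u'

namespace Groth.Agent.Lib.Helper5.AcyclicClass

open CategoryTheory CategoryTheory.Limits
open Groth.Agent.Lib.Helper2.RDBridge Groth.Agent.Lib.Helper2.GSS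

variable {C : Type u} [Category.{v} C] [Abelian C] [EnoughInjectives C]
  {D : Type u'} [Category.{v'} D] [Abelian D]
  (F : C ⥤ D) [F.Additive] [PreservesFiniteLimits F]

omit [Abelian D] in
lemma isZero_of_epi_eq_zero [Preadditive D] {A B : D} (f : A ⟶ B) [Epi f] (h : f = 0) : IsZero B := by
  rw [IsZero.iff_id_eq_zero, ← cancel_epi f, comp_zero, h, zero_comp]

theorem isZero_rightDerived_succ (P : C → Prop)
    (h1 : ∀ X, P X → P (injSC X).X₃)
    (h2 : ∀ X, P X → Epi (F.map (injSC X).g)) :
    ∀ (i : ℕ) (X : C), P X → IsZero ((F.rightDerived (i + 1)).obj X) := by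
  intro i
  induction i with
  | zero =>
    intro X hX
    obtain ⟨δ, z1, z2, z3, e1, e2, e3⟩ := rightDerived_les' F (injSC X) (injSC_shortExact X) 0
    haveI : Epi δ := e3.epi_f
      ((F.isZero_rightDerived_obj_injective_succ 0 (injSC X).X₂).eq_of_tgt _ _)
    haveI : Epi ((F.rightDerived 0).map (injSC X).g) :=
      (epi_rightDerived_zero_map_iff F _).2 (h2 X hX)
    have hδ : δ = 0 := by
      rw [← cancel_epi ((F.rightDerived 0).map (injSC X).g), z2, comp_zero]
    have hz := isZero_of_epi_eq_zero δ hδ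
    exact hz
  | succ i ih =>
    intro X hX
    obtain ⟨δ, z1, z2, z3, e1, e2, e3⟩ :=
      rightDerived_les' F (injSC X) (injSC_shortExact X) (i + 1)
    haveI : Epi δ := e3.epi_f
      ((F.isZero_rightDerived_obj_injective_succ (i + 1) (injSC X).X₂).eq_of_tgt _ _)
    have hδ : δ = 0 := (ih _ (h1 X hX)).eq_of_src _ _
    have hz := isZero_of_epi_eq_zero δ hδ
    exact hz

/-- for an arbitrary object, the derived functors in degrees `≥ 2` vanish as soon as all quotients
`I(X)/X` are in the class. -/
theorem isZero_rightDerived_succ_succ (P : C → Prop)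
    (h0 : ∀ X, P (injSC X).X₃)
    (h2 : ∀ X, P X → Epi (F.map (injSC X).g)) :
    ∀ (i : ℕ) (X : C), IsZero ((F.rightDerived (i + 2)).obj X) := by
  intro i X
  obtain ⟨δ, z1, z2, z3, e1, e2, e3⟩ :=
    rightDerived_les' F (injSC X) (injSC_shortExact X) (i + 1)
  haveI : Epi δ := e3.epi_f
    ((F.isZero_rightDerived_obj_injective_succ (i + 1) (injSC X).X₂).eq_of_tgt _ _)
  have hδ : δ = 0 :=
    (isZero_rightDerived_succ F P (fun X _ => h0 X) h2 i _ (h0 X)).eq_of_src _ _
  have hz := isZero_of_epi_eq_zero δ hδ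
  exact hz

end Groth.Agent.Lib.Helper5.AcyclicClass
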