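import Groth.Agent.Lib.Helper13.EdgeInIso
import Groth.Agent.Lib.Helper2.GSS.HomFunctor
import Groth.Agent.Lib.Helper5.AcyclicClass
import Groth.Agent.Lib.Helper13.EtaleRestr
import Groth.Agent.Lib.Helper13.FlatPullback

/-!
# Helper5: derived functors of sections on the small étale site versus `EtCoh.H`

* `gsecDerivedIso Z G q : (R^q Γ(Z,-)) G ≅ H^q(Z, G)`;
* `sectDerivedIso W F q : (R^q Γ(W,-)) F ≅ H^q(W, F|_W)` for `W` étale over `X`;
* `Flasque F`: all `R^{q+1} Γ(W,-) F` vanish; `hvan`: flasque sheaves are `f_*`-acyclic;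
  `flasque_push`: `f_*` of a flasque sheaf is flasque.
-/

set_option autoImplicit false
universe u
open CategoryTheory CategoryTheory.Limits AlgebraicGeometry Opposite

namespace Groth.Agent.Lib.Helper5.EtSectDerived

open Groth.Agent.Lib.Helper13 Groth.Agent.Lib.Helper13.FlatPullback Groth.Agent.Lib.Helper13.EtaleRestr
open Groth.Agent.Lib.Helper13.ExtZeroExact
open Groth.Agent.Lib.Helper2.RDBridge Groth.Agent.Lib.Helper2.GSS
open Groth.Agent.Lib.Helper13.DerivedCommute

section Translate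

variable {X : Scheme.{u}}

/-- sections over `W`. -/
noncomputable abbrev Γ (W : X.Etale) : EtCoh.Ab X ⥤ AddCommGrpCat.{u + 1} :=
  sheafToPresheaf X.smallEtaleTopology AddCommGrpCat.{u + 1} ⋙
    (evaluation X.Etaleᵒᵖ AddCommGrpCat.{u + 1}).obj (op W)

lemma ulift_eq_zsmul (n : ULift.{u + 1} ℤ) : n = n.down • (⟨1⟩ : ULift.{u + 1} ℤ) := by
  cases n with
  | up n =>
    apply ULift.ext
    simp

/-- `Hom(ℤ, M) ≅ M`. -/
noncomputable def homZIso : homF (AddCommGrpCat.of (ULift.{u + 1} ℤ)) ≅ 𝟭 AddCommGrpCat.{u + 1} :=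
  NatIso.ofComponents (fun M => AddEquiv.toAddCommGrpIso
    { toFun := fun (g : AddCommGrpCat.of (ULift.{u + 1} ℤ) ⟶ M) => g.hom ⟨1⟩
      invFun := fun m => AddCommGrpCat.ofHom
        ((zmultiplesHom M m).comp (AddEquiv.ulift (α := ℤ)).toAddMonoidHom)
      left_inv := by
        intro g
        apply AddCommGrpCat.hom_ext
        apply AddMonoidHom.ext
        intro n
        change n.down • g.hom ⟨1⟩ = g.hom n
        rw [← map_zsmul, ← ulift_eq_zsmul]
      right_inv := by
        intro m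
        change (1 : ℤ) • m = m
        exact one_zsmul m
      map_add' := by
        intro g g'
        rfl })
    (by
      intro M N f
      ext g
      rfl)

end Translate

section Translate2

instance gsec_additive (Z : Scheme.{u}) : (EtCore.gsec Z).Additive where
  map_add {F G f g} := by
    change (Γ (EtCoh.top Z)).map (f + g) = (Γ (EtCoh.top Z)).map f + (Γ (EtCoh.top Z)).map g
    exact Functor.map_add _

instance constantSheaf_additive (Z : Scheme.{u}) :
    (constantSheaf Z.smallEtaleTopology AddCommGrpCat.{u + 1}).Additive :=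
  (EtCore.constAdj Z).left_adjoint_additive

/-- `Hom(ℤ_Z, G) ≅ Γ(Z, G)` naturally. -/
noncomputable def homConstIso (Z : Scheme.{u}) : homF (EtCoh.const Z ℤ) ≅ EtCore.gsec Z :=
  (homFAdjIso (EtCore.constAdj Z) (AddCommGrpCat.of (ULift.{u + 1} ℤ))).symm ≪≫
    Functor.isoWhiskerLeft (EtCore.gsec Z) homZIso ≪≫ Functor.rightUnitor _

/-- `R^q Γ(Z, -) (G) ≅ H^q(Z, G)`. -/
noncomputable def gsecDerivedIso (Z : Scheme.{u}) (G : EtCoh.Ab Z) (q : ℕ) :
    ((EtCore.gsec Z).rightDerived q).obj G ≅ AddCommGrpCat.of (EtCoh.H Z G q) :=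
  rightDerivedObjIsoOfNatIso (homConstIso Z).symm q G ≪≫ rightDerivedHomFIso (EtCoh.const Z ℤ) G q

end Translate2

section Translate3

variable {X : Scheme.{u}}

instance etale_hom (W : X.Etale) : AlgebraicGeometry.Etale W.hom := W.prop

noncomputable def eW (W : X.Etale) :
    (EtShriek.compEtale W.hom).obj (EtCoh.top W.left) ≅ W :=
  MorphismProperty.Over.isoMk (Iso.refl _) (by
    change 𝟙 W.left ≫ W.hom = 𝟙 W.left ≫ W.hom
    rfl)

noncomputable def restrGsecIso (W : X.Etale) :
    EtShriek.restrAlong W.hom ⋙ EtCore.gsec W.left ≅ Γ W :=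
  NatIso.ofComponents (fun F => F.obj.mapIso (eW W).op.symm) (fun {F G} φ => by
    simp only [Functor.comp_map, Functor.mapIso_hom, Iso.symm_hom]
    exact (φ.hom.naturality _).symm)

noncomputable def pullGsecIso (W : X.Etale) :
    EtCoh.pull W.hom ⋙ EtCore.gsec W.left ≅ Γ W :=
  Functor.isoWhiskerRight (pullIsoRestr W.hom) _ ≪≫ restrGsecIso W

/-- `R^q Γ(W, -) F ≅ H^q(W, F|_W)`. -/
noncomputable def sectDerivedIso (W : X.Etale) (F : EtCoh.Ab X) (q : ℕ) :
    ((Γ W).rightDerived q).obj F ≅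
      AddCommGrpCat.of (EtCoh.H W.left ((EtCoh.pull W.hom).obj F) q) :=
  rightDerivedObjIsoOfNatIso (pullGsecIso W).symm q F ≪≫
    rightDerivedExactCompObjIso (EtCoh.pull W.hom)
      (fun Y hY => (EtCoh.pull W.hom).injective_obj_of_injective hY) (EtCore.gsec W.left) q F ≪≫
    gsecDerivedIso W.left _ q

lemma isZero_iff (W : X.Etale) (F : EtCoh.Ab X) (q : ℕ) :
    IsZero (((Γ W).rightDerived q).obj F) ↔
      Subsingleton (EtCoh.H W.left ((EtCoh.pull W.hom).obj F) q) := by
  constructor
  · intro h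
    exact AddCommGrpCat.subsingleton_of_isZero (IsZero.of_iso h (sectDerivedIso W F q).symm)
  · intro h
    exact IsZero.of_iso (AddCommGrpCat.isZero_of_subsingleton _) (sectDerivedIso W F q)

end Translate3

section Core

open Groth.Agent.Lib.Helper5

variable {X Y : Scheme.{u}}

/-- cohomologically flasque sheaves. -/
def Flasque (F : EtCoh.Ab X) : Prop :=
  ∀ (W : X.Etale) (q : ℕ), IsZero (((Γ W).rightDerived (q + 1)).obj F)

lemma flasque_quot (F : EtCoh.Ab X) (h : Flasque F) : Flasque (injSC F).X₃ := by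
  intro W q
  obtain ⟨δ, z1, z2, z3, e1, e2, e3⟩ := rightDerived_les' (Γ W) (injSC F) (injSC_shortExact F) (q + 1)
  exact e2.isZero_of_both_zeros
    (((Γ W).isZero_rightDerived_obj_injective_succ q (injSC F).X₂).eq_of_src _ _)
    ((h W (q + 1)).eq_of_tgt _ _)

lemma epi_sections (F : EtCoh.Ab X) (h : Flasque F) (W : X.Etale) :
    Epi ((Γ W).map (injSC F).g) :=
  epi_map_g_of_isZero (Γ W) (injSC F) (injSC_shortExact F) (h W 0)

lemma epi_push (f : X ⟶ Y) (F : EtCoh.Ab X) (h : Flasque F) :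
    Epi ((EtCoh.push f).map (injSC F).g) := by
  rw [← Sheaf.isLocallySurjective_iff_epi']
  apply Presheaf.isLocallySurjective_of_surjective
  intro V
  have := epi_sections F h ((EtCoh.bc f).obj V.unop)
  rw [AddCommGrpCat.epi_iff_surjective] at this
  exact this

lemma hvan (f : X ⟶ Y) (F : EtCoh.Ab X) (h : Flasque F) (i : ℕ) :
    IsZero (((EtCoh.push f).rightDerived (i + 1)).obj F) :=
  AcyclicClass.isZero_rightDerived_succ (EtCoh.push f) Flasque flasque_quot
    (fun F hF => epi_push f F hF) i F h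

end Core

section Final

open Groth.Agent.Lib.Helper13.EdgeInIso

variable {X Y : Scheme.{u}}

theorem flasque_push (f : X ⟶ Y) (F : EtCoh.Ab X) (h : Flasque F) :
    Flasque ((EtCoh.push f).obj F) := by
  intro W' q
  haveI : (EtCoh.pull f).PreservesMonomorphisms := inferInstance
  haveI : (EtCoh.push f).PreservesInjectiveObjects :=
    Functor.preservesInjectiveObjects_of_adjunction_of_preservesMonomorphisms (EtCoh.pullPushAdj f)
  haveI : PreservesFiniteLimits (EtCoh.push f) := by
    haveI := (EtCoh.pullPushAdj f).rightAdjoint_preservesLimits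
    infer_instance
  haveI := isIso_edgeIn (EtCoh.push f) (Γ W') F (hvan f F h) (q + 1)
  let e : EtCoh.push f ⋙ Γ W' ≅ Γ ((EtCoh.bc f).obj W') :=
    NatIso.ofComponents (fun _ => Iso.refl _) (fun {A B} φ => by
      simp only [Iso.refl_hom, Category.comp_id, Category.id_comp]
      rfl)
  exact IsZero.of_iso (h _ q)
    (asIso (RDer.edgeIn (EtCoh.push f) (Γ W') (q + 1) F) ≪≫ rightDerivedObjIsoOfNatIso e (q + 1) F)

end Final

end Groth.Agent.Lib.Helper5.EtSectDerived
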