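import Groth.Agent.Lib.Helper5.SigmaGlue
import Groth.Agent.Lib.Helper5.OverProdProp
import Groth.Agent.Lib.Helper5.EtSectDerived
import Groth.Agent.S0665
import Groth.Agent.S14627

/-!
# Helper5: Cartan's criterion on the small étale site, for the basis of affine objects and
coverings by a single surjective étale morphism of affines
-/

set_option autoImplicit false
universe u

namespace Groth.Agent.Lib.Helper5.AffCartan

open CategoryTheory Limits AlgebraicGeometry Opposite
open Groth.Agent.Lib.Helper15.CechGen Groth.Agent.Lib.Helper5.CechLowGen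
open Groth.Agent.Lib.Helper5.CechDerived Groth.Agent.Lib.Helper5.EtCechFlasque
open Groth.Agent.Lib.Helper5.SigmaGlue

set_option backward.isDefEq.respectTransparency.types false

variable {X : Scheme.{u}}

/-- The forgetful functor to schemes. -/
abbrev toSch (X : Scheme.{u}) : X.Etale ⥤ Scheme.{u} := Scheme.Etale.forget X ⋙ Over.forget X

/-- slice categories of the small étale site have finite products. -/
instance hasFiniteProducts_over (U : X.Etale) : HasFiniteProducts (Over U) :=
  have : HasBinaryProducts (Over U) := Over.ConstructProducts.over_binaryProduct_of_pullback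
  have : HasTerminal (Over U) := Over.over_hasTerminal U
  hasFiniteProducts_of_has_binary_and_terminal

/-- the one-member family attached to a morphism. -/
def single {U V : X.Etale} (g : V ⟶ U) : PUnit.{u + 2} → Over U := fun _ => Over.mk g

/-- vanishing of the positive-degree Čech cohomology for all coverings of an affine by a single
surjective étale morphism from an affine. -/
def AffCechAcyc (F : EtCoh.Ab X) : Prop :=
  ∀ (U V : X.Etale) (g : V ⟶ U), IsAffine U.left → IsAffine V.left →
    Function.Surjective g.left.base → ∀ p : ℕ, 0 < p → IsZero (EtCech.cechH (single g) F.obj p)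

lemma single_surj {U V : X.Etale} (g : V ⟶ U) (hg : Function.Surjective g.left.base) :
    ∀ x : ↥(U.left), ∃ (i : PUnit.{u + 2}) (y : ↥((single g i).left.left)),
      (single g i).hom.left.base y = x := by
  intro x
  obtain ⟨y, hy⟩ := hg x
  exact ⟨PUnit.unit, y, hy⟩

/-- affine-ness of iterated fibre products. -/
lemma isAffine_prod {U V : X.Etale} (g : V ⟶ U) (hU : IsAffine U.left) (hV : IsAffine V.left)
    (n : ℕ) (i : Fin (n + 1) → PUnit.{u + 2}) : IsAffine (∏ᶜ (single g ∘ i)).left.left := by
  refine OverProdProp.prod_left (fun A : X.Etale => IsAffine A.left) ?_ ?_ U hU (n + 1)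
    (single g ∘ i) (fun _ => hV)
  · intro A B e hA
    haveI : IsAffine ((toSch X).obj A) := hA
    exact IsAffine.of_isIso ((toSch X).mapIso e).inv
  · intro A B C f g hA hB hC
    let e : (pullback f g).left ≅ pullback f.left g.left :=
      PreservesPullback.iso (toSch X) f g
    haveI : IsAffine A.left := hA
    haveI : IsAffine B.left := hB
    haveI : IsAffine C.left := hC
    exact IsAffine.of_isIso e.hom

/-- affine étale neighbourhoods refining a covering sieve. -/
lemma exists_affine_refinement (V₀ : X.Etale) (R : Sieve V₀) (hR : R ∈ X.smallEtaleTopology V₀)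
    (x : V₀.left) : ∃ (A : X.Etale) (f : A ⟶ V₀) (y : A.left), IsAffine A.left ∧ R.arrows f ∧
      f.left.base y = x := by
  have eX : X.smallEtaleTopology =
      (X.smallPretopology (P := EtCoh.etaleMP) (Q := EtCoh.etaleMP)).toGrothendieck :=
    Scheme.smallGrothendieckTopology_eq_toGrothendieck_smallPretopology X le_rfl
  rw [eX] at hR
  obtain ⟨V', g', v', hg', -, hv'⟩ := (Scheme.mem_toGrothendieck_smallPretopology V₀ R).1 hR x
  let 𝒰 := V'.left.affineCover
  obtain ⟨y, hy⟩ := 𝒰.covers v'
  haveI : Etale V'.hom := V'.prop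
  let A : X.Etale := Scheme.Etale.mk (𝒰.f (𝒰.idx v') ≫ V'.hom)
  let a : A ⟶ V' := MorphismProperty.Over.homMk (𝒰.f (𝒰.idx v')) rfl trivial
  refine ⟨A, a ≫ g', y, ?_, R.downward_closed hg' a, ?_⟩
  · exact inferInstanceAs (IsAffine (𝒰.X (𝒰.idx v')))
  · change g'.left ((𝒰.f (𝒰.idx v')) y) = x
    rw [hy]
    exact hv'

/-- if `F'` is affine-Čech-acyclic, then `F → F''` is surjective on sections over affines. -/
theorem surj_sections_aff [IsAffine X] {S : ShortComplex (EtCoh.Ab X)} (hS : S.ShortExact)
    (h1 : AffCechAcyc S.X₁) (V₀ : X.Etale) (hV₀ : IsAffine V₀.left) (s : S.X₃.obj.obj (op V₀)) :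
    ∃ t : S.X₂.obj.obj (op V₀), (S.g.hom.app (op V₀)).hom t = s := by
  have hepi : Epi S.g := hS.epi_g
  have hls : Sheaf.IsLocallySurjective S.g :=
    (Sheaf.isLocallySurjective_iff_epi' _ _).2 hepi
  have himg : Presheaf.imageSieve S.g.hom s ∈ X.smallEtaleTopology V₀ :=
    Presheaf.imageSieve_mem _ _ s
  choose A f y hA hf hy using exists_affine_refinement V₀ _ himg
  -- a finite subfamily
  let ι₀ : Type (u + 1) := ULift.{u + 1} V₀.left
  let Y₀ : ι₀ → Over V₀ := fun i => Over.mk (f i.down)
  have : IsAffine ((𝟭 Scheme).obj V₀.left) := hV₀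
  have : IsAffine ((Functor.fromPUnit X).obj V₀.right) := ‹IsAffine X›
  have : IsAffineHom V₀.hom := isAffineHom_of_isAffine _
  have : QuasiCompact V₀.hom := inferInstance
  obtain ⟨T, hT⟩ := Groth.Agent.S14627.result X V₀ ι₀ Y₀ (fun x => ⟨⟨x⟩, y x, hy x⟩)
  let e : Fin T.card ≃ ↥T := T.equivFin.symm
  let W : Fin T.card → X.Etale := fun k => A (e k).1.down
  let fW : ∀ k, W k ⟶ V₀ := fun k => f (e k).1.down
  have : ∀ k, IsAffine (W k).left := fun k => hA _
  let g : sig W ⟶ V₀ := dsc W fW
  have hg : Function.Surjective g.left.base := by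
    intro x
    obtain ⟨i, hi, z, hz⟩ := hT x
    have key : ∀ j : ↥T, j = ⟨i, hi⟩ → ∃ z' : (A j.1.down).left, (f j.1.down).left.base z' = x := by
      rintro _ rfl
      exact ⟨z, hz⟩
    obtain ⟨z', hz'⟩ := key (e (e.symm ⟨i, hi⟩)) (e.apply_symm_apply _)
    refine ⟨(inc W (e.symm ⟨i, hi⟩)).left.base z', ?_⟩
    have h2 : (inc W (e.symm ⟨i, hi⟩) ≫ g).left = (fW (e.symm ⟨i, hi⟩)).left := by
      rw [inc_dsc]
    have h3 : (inc W (e.symm ⟨i, hi⟩) ≫ g).left = (inc W (e.symm ⟨i, hi⟩)).left ≫ g.left := rfl
    rw [← TopCat.comp_app, ← Scheme.Hom.comp_base, ← h3, h2]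
    exact hz'
  -- local lifts
  choose tk htk using fun k : Fin T.card => hf (e k).1.down
  obtain ⟨c, hc⟩ := exists_glue W S.X₂ tk
  have hcs : (S.g.hom.app (op (sig W))).hom c = (S.X₃.obj.map g.op).hom s := by
    apply ext_sections W S.X₃
    intro k
    have n1 := NatTrans.naturality_apply S.g.hom (inc W k).op c
    rw [← n1, hc k, ← Groth.Agent.S0728.map_comp_apply, inc_dsc]
    exact htk k
  have hY := ofArrows_mem_of_surj (single g) (single_surj g hg)
  exact exists_lift_of_cechExact (siteAug (single g))
    (Functor.whiskerLeft (Over.forget V₀).op S.f.hom)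
    (Functor.whiskerLeft (Over.forget V₀).op S.g.hom)
    (fun W x hx => sections_injective hS W.left x hx)
    (fun W x hx => sections_exact hS W.left x hx)
    (fun W y => sections_zero hS W.left y)
    (isGluing_site (single g) hY S.X₂.obj (isSheaf_type S.X₂))
    (isGluing_site (single g) hY S.X₃.obj (isSheaf_type S.X₃))
    ((cechExact_iff (single g) _ 0).2 (h1 V₀ (sig W) g hV₀ inferInstance hg 1 Nat.one_pos)) s
    (fun _ => c) (fun _ => hcs)

lemma injective_obj (I : EtCoh.Ab X) [Injective I] : Injective I.obj := by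
  haveI : (sheafToPresheaf X.smallEtaleTopology AddCommGrpCat.{u + 1}).PreservesInjectiveObjects :=
    Functor.preservesInjectiveObjects_of_adjunction_of_preservesMonomorphisms
      (sheafificationAdjunction X.smallEtaleTopology AddCommGrpCat.{u + 1})
  exact (sheafToPresheaf X.smallEtaleTopology AddCommGrpCat.{u + 1}).injective_obj_of_injective
    inferInstance

/-- the quotient of an injective sheaf by an affine-Čech-acyclic sheaf is affine-Čech-acyclic. -/
theorem affCechAcyc_X₃ [IsAffine X] {S : ShortComplex (EtCoh.Ab X)} (hS : S.ShortExact)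
    (h1 : AffCechAcyc S.X₁) [Injective S.X₂] : AffCechAcyc S.X₃ := by
  intro U V g hU hV hg p hp
  have hsw : SectionwiseExact (single g) (SP S U) :=
    { inj := fun n i x hx => sections_injective hS _ x hx
      ex := fun n i x hx => sections_exact hS _ x hx
      surj := fun n i z => surj_sections_aff hS h1 _ (isAffine_prod g hU hV n i) z }
  have hSC := cechSC_shortExact hsw
  have hex := hSC.homology_exact₃ p (p + 1) rfl
  have z2 : IsZero (EtCech.cechH (single g) S.X₂.obj p) := by
    obtain ⟨q, rfl⟩ : ∃ q, p = q + 1 := ⟨p - 1, by omega⟩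
    haveI := injective_obj S.X₂
    exact Groth.Agent.S0665.result (single g) S.X₂.obj q
  have z1 : IsZero (EtCech.cechH (single g) S.X₁.obj (p + 1)) :=
    h1 U V g hU hV hg (p + 1) (Nat.succ_pos p)
  exact hex.isZero_of_both_zeros (z2.eq_of_src _ _) (z1.eq_of_tgt _ _)

lemma preservesFiniteLimits_gsec : PreservesFiniteLimits (EtCore.gsec X) := by
  haveI := (EtCore.constAdj X).rightAdjoint_preservesLimits
  infer_instance

attribute [local instance] preservesFiniteLimits_gsec

open Groth.Agent.Lib.Helper2.GSS Groth.Agent.Lib.Helper5.EtSectDerived in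
/-- **Cartan's criterion**: on an affine scheme, an affine-Čech-acyclic sheaf has vanishing higher
cohomology. -/
theorem isZero_rightDerived_gsec [IsAffine X] (F : EtCoh.Ab X) (hF : AffCechAcyc F) (q : ℕ) :
    IsZero (((EtCore.gsec X).rightDerived (q + 1)).obj F) :=
  AcyclicClass.isZero_rightDerived_succ (EtCore.gsec X) AffCechAcyc
    (fun F hF => affCechAcyc_X₃ (injSC_shortExact F) hF)
    (fun F hF => by
      rw [AddCommGrpCat.epi_iff_surjective]
      intro s
      exact surj_sections_aff (injSC_shortExact F) hF (EtCoh.top X) ‹IsAffine X› s) q F hF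

open Groth.Agent.Lib.Helper5.EtSectDerived in
theorem subsingleton_H [IsAffine X] (F : EtCoh.Ab X) (hF : AffCechAcyc F) (q : ℕ) :
    Subsingleton (EtCoh.H X F (q + 1)) :=
  AddCommGrpCat.subsingleton_of_isZero
    (IsZero.of_iso (isZero_rightDerived_gsec F hF q) (gsecDerivedIso X F (q + 1)).symm)

end Groth.Agent.Lib.Helper5.AffCartan
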