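import Mathlib

set_option autoImplicit false
universe v
open CategoryTheory CategoryTheory.Limits Opposite

/-!
# Adjoining a terminal object to a site

For a site `(E, J)` the category `WithTerminal E` carries a topology for which `E` is a dense
subsite; it has fibre products when `E` has fibre products and binary products.
-/

namespace Groth.Agent.Lib.Helper5.WithTerminalSite

variable {E : Type (v + 1)} [Category.{v} E] (J : GrothendieckTopology E)

/-- The topology on `WithTerminal E` induced by a topology on `E`: a sieve is covering when all its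
restrictions to objects of `E` are. -/
def Jp : GrothendieckTopology (WithTerminal E) where
  sieves Y := {S | ∀ (V : E) (f : WithTerminal.incl.obj V ⟶ Y),
    (S.pullback f).functorPullback WithTerminal.incl ∈ J V}
  top_mem' Y V f := by
    rw [Sieve.pullback_top]
    convert J.top_mem V
    ext W g
    simp
  pullback_stable' Y Y' S g hS V f := by
    rw [← Sieve.pullback_comp]
    exact hS V (f ≫ g)
  transitive' Y S hS R hR V f := by
    refine J.transitive (hS V f) _ ?_
    intro W h hh
    have h1 := hR hh W (𝟙 _)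
    rw [Sieve.pullback_id] at h1
    rw [← Sieve.functorPullback_pullback, ← Sieve.pullback_comp]
    exact h1

lemma mem_Jp_iff {Y : WithTerminal E} (S : Sieve Y) :
    S ∈ Jp J Y ↔ ∀ (V : E) (f : WithTerminal.incl.obj V ⟶ Y),
      (S.pullback f).functorPullback WithTerminal.incl ∈ J V := Iff.rfl

lemma mem_Jp_incl_iff {U : E} (S : Sieve (WithTerminal.incl.obj U)) :
    S ∈ Jp J (WithTerminal.incl.obj U) ↔ S.functorPullback WithTerminal.incl ∈ J U := by
  constructor
  · intro h
    have := h U (𝟙 _)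
    rwa [Sieve.pullback_id] at this
  · intro h V f
    obtain ⟨f', rfl⟩ := WithTerminal.incl.map_surjective f
    rw [Sieve.functorPullback_pullback]
    exact J.pullback_stable f' h

instance : (WithTerminal.incl : E ⥤ _).IsCoverDense (Jp J) where
  is_cover Y := by
    intro V f
    convert J.top_mem V
    ext W g
    simp only [Sieve.top_apply, iff_true]
    exact ⟨⟨V, WithTerminal.incl.map g, f, rfl⟩⟩

instance : (WithTerminal.incl : E ⥤ _).IsDenseSubsite J (Jp J) where
  functorPushforward_mem_iff {U S} := by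
    rw [mem_Jp_incl_iff, Sieve.functorPullback_functorPushforward_eq]


omit J

section Pullback

variable [HasPullbacks E]

open WithTerminal in
/-- The lift into the image of a pullback. -/
noncomputable def liftAux {A B C : E} (f : A ⟶ C) (g : B ⟶ C) :
    ∀ (Z : WithTerminal E) (a : Z ⟶ incl.obj A) (b : Z ⟶ incl.obj B),
      a ≫ incl.map f = b ≫ incl.map g → (Z ⟶ incl.obj (pullback f g))
  | .of _, a, b, h => incl.map (pullback.lift (down a) (down b) h)
  | .star, a, _, _ => (false_of_from_star a).elim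

open WithTerminal in
lemma liftAux_fst {A B C : E} (f : A ⟶ C) (g : B ⟶ C) :
    ∀ (Z : WithTerminal E) (a : Z ⟶ incl.obj A) (b : Z ⟶ incl.obj B)
      (h : a ≫ incl.map f = b ≫ incl.map g),
      liftAux f g Z a b h ≫ incl.map (pullback.fst f g) = a
  | .of _, a, b, h => by
      change incl.map _ ≫ incl.map _ = incl.map (down a)
      exact (incl.map_comp _ _).symm.trans
        (congrArg incl.map (pullback.lift_fst (down a) (down b) h))
  | .star, a, _, _ => (false_of_from_star a).elim

open WithTerminal in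
lemma liftAux_snd {A B C : E} (f : A ⟶ C) (g : B ⟶ C) :
    ∀ (Z : WithTerminal E) (a : Z ⟶ incl.obj A) (b : Z ⟶ incl.obj B)
      (h : a ≫ incl.map f = b ≫ incl.map g),
      liftAux f g Z a b h ≫ incl.map (pullback.snd f g) = b
  | .of _, a, b, h => by
      change incl.map _ ≫ incl.map _ = incl.map (down b)
      exact (incl.map_comp _ _).symm.trans
        (congrArg incl.map (pullback.lift_snd (down a) (down b) h))
  | .star, a, _, _ => (false_of_from_star a).elim

open WithTerminal in
lemma hom_ext_incl_pullback {A B C : E} (f : A ⟶ C) (g : B ⟶ C) :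
    ∀ (Z : WithTerminal E) (m m' : Z ⟶ incl.obj (pullback f g)),
      m ≫ incl.map (pullback.fst f g) = m' ≫ incl.map (pullback.fst f g) →
      m ≫ incl.map (pullback.snd f g) = m' ≫ incl.map (pullback.snd f g) → m = m'
  | .of _, m, m', h1, h2 => by
      change incl.map (down m) = incl.map (down m')
      congr 1
      apply pullback.hom_ext
      · exact h1
      · exact h2
  | .star, m, _, _, _ => (false_of_from_star m).elim

open WithTerminal in
lemma isPullback_incl {A B C : E} (f : A ⟶ C) (g : B ⟶ C) :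
    IsPullback (incl.map (pullback.fst f g)) (incl.map (pullback.snd f g))
      (incl.map f) (incl.map g) := by
  refine ⟨⟨by rw [← Functor.map_comp, ← Functor.map_comp, pullback.condition]⟩, ⟨?_⟩⟩
  refine PullbackCone.IsLimit.mk _ (fun s => liftAux f g s.pt s.fst s.snd s.condition)
    (fun s => liftAux_fst f g _ _ _ _) (fun s => liftAux_snd f g _ _ _ _) (fun s m h1 h2 => ?_)
  apply hom_ext_incl_pullback
  · rw [h1, liftAux_fst]
  · rw [h2, liftAux_snd]

end Pullback

section Prod

variable [HasBinaryProducts E]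

open WithTerminal in
/-- The lift into the image of a product. -/
noncomputable def liftProdAux (A B : E) :
    ∀ (Z : WithTerminal E) (_ : Z ⟶ incl.obj A) (_ : Z ⟶ incl.obj B), (Z ⟶ incl.obj (A ⨯ B))
  | .of _, a, b => incl.map (prod.lift (down a) (down b))
  | .star, a, _ => (false_of_from_star a).elim

open WithTerminal in
lemma liftProdAux_fst (A B : E) :
    ∀ (Z : WithTerminal E) (a : Z ⟶ incl.obj A) (b : Z ⟶ incl.obj B),
      liftProdAux A B Z a b ≫ incl.map (prod.fst : A ⨯ B ⟶ A) = a
  | .of _, a, b => by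
      change incl.map _ ≫ incl.map _ = incl.map (down a)
      exact (incl.map_comp _ _).symm.trans (congrArg incl.map (prod.lift_fst (down a) (down b)))
  | .star, a, _ => (false_of_from_star a).elim

open WithTerminal in
lemma liftProdAux_snd (A B : E) :
    ∀ (Z : WithTerminal E) (a : Z ⟶ incl.obj A) (b : Z ⟶ incl.obj B),
      liftProdAux A B Z a b ≫ incl.map (prod.snd : A ⨯ B ⟶ B) = b
  | .of _, a, b => by
      change incl.map _ ≫ incl.map _ = incl.map (down b)
      exact (incl.map_comp _ _).symm.trans (congrArg incl.map (prod.lift_snd (down a) (down b)))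
  | .star, a, _ => (false_of_from_star a).elim

open WithTerminal in
lemma hom_ext_incl_prod (A B : E) :
    ∀ (Z : WithTerminal E) (m m' : Z ⟶ incl.obj (A ⨯ B)),
      m ≫ incl.map (prod.fst : A ⨯ B ⟶ A) = m' ≫ incl.map (prod.fst : A ⨯ B ⟶ A) →
      m ≫ incl.map (prod.snd : A ⨯ B ⟶ B) = m' ≫ incl.map (prod.snd : A ⨯ B ⟶ B) → m = m'
  | .of _, m, m', h1, h2 => by
      change incl.map (down m) = incl.map (down m')
      congr 1
      apply Limits.prod.hom_ext
      · exact h1
      · exact h2
  | .star, m, _, _, _ => (false_of_from_star m).elim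

open WithTerminal in
lemma isPullback_incl_prod (A B : E) (f : incl.obj A ⟶ star) (g : incl.obj B ⟶ star) :
    IsPullback (incl.map (prod.fst : A ⨯ B ⟶ A)) (incl.map (prod.snd : A ⨯ B ⟶ B)) f g := by
  refine ⟨⟨Subsingleton.elim _ _⟩, ⟨?_⟩⟩
  refine PullbackCone.IsLimit.mk _ (fun s => liftProdAux A B s.pt s.fst s.snd)
    (fun s => liftProdAux_fst A B _ _ _) (fun s => liftProdAux_snd A B _ _ _)
    (fun s m h1 h2 => ?_)
  apply hom_ext_incl_prod
  · rw [h1, liftProdAux_fst]
  · rw [h2, liftProdAux_snd]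

end Prod


section Closure

variable [HasPullbacks E] [HasBinaryProducts E] (B : Set E)

/-- The class of objects of `WithTerminal E`: members of `B` and the terminal object. -/
def Bp : Set (WithTerminal E) := fun Y => match Y with
  | .of U => U ∈ B
  | .star => True

open WithTerminal in
lemma exists_isPullback_mem
    (hBpb : ∀ ⦃A A' C : E⦄ (f : A ⟶ C) (g : A' ⟶ C), A ∈ B → A' ∈ B → C ∈ B → pullback f g ∈ B)
    (hBprod : ∀ ⦃A A' : E⦄, A ∈ B → A' ∈ B → (A ⨯ A') ∈ B) :
    ∀ {A A' C : WithTerminal E} (f : A ⟶ C) (g : A' ⟶ C), A ∈ Bp B → A' ∈ Bp B → C ∈ Bp B →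
      ∃ (P : WithTerminal E) (p₁ : P ⟶ A) (p₂ : P ⟶ A'), IsPullback p₁ p₂ f g ∧ P ∈ Bp B
  | .of _, .of _, .of _, f, g, hA, hA', hC =>
      ⟨_, _, _, isPullback_incl (down f) (down g), hBpb _ _ hA hA' hC⟩
  | .star, _, .of _, f, _, _, _, _ => (false_of_from_star f).elim
  | .of _, .star, .of _, _, g, _, _, _ => (false_of_from_star g).elim
  | .star, A', .star, f, g, _, hA', _ =>
      ⟨A', g, 𝟙 A', IsPullback.of_vert_isIso ⟨Subsingleton.elim _ _⟩, hA'⟩
  | .of A, .star, .star, f, g, hA, _, _ =>
      ⟨.of A, 𝟙 _, f, IsPullback.of_horiz_isIso ⟨Subsingleton.elim _ _⟩, hA⟩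
  | .of A, .of A', .star, f, g, hA, hA', _ =>
      ⟨_, _, _, isPullback_incl_prod A A' f g, hBprod hA hA'⟩

instance : HasPullbacks (WithTerminal E) := by
  refine @hasPullbacks_of_hasLimit_cospan _ _ (fun {A A' C} {f g} => ?_)
  obtain ⟨P, p₁, p₂, h, -⟩ := exists_isPullback_mem (B := Set.univ)
    (fun _ _ _ _ _ _ _ _ => trivial) (fun _ _ _ _ => trivial) f g
    (by cases A <;> trivial) (by cases A' <;> trivial) (by cases C <;> trivial)
  exact h.hasPullback

open WithTerminal in
lemma Bp_iso (hBiso : ∀ ⦃U V : E⦄, (U ≅ V) → U ∈ B → V ∈ B) :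
    ∀ ⦃Y Y' : WithTerminal E⦄, (Y ≅ Y') → Y ∈ Bp B → Y' ∈ Bp B
  | .of _, .of _, e, h => hBiso ((incl : E ⥤ _).preimageIso e) h
  | _, .star, _, _ => trivial
  | .star, .of _, e, _ => (false_of_from_star e.hom).elim

lemma Bp_pullback (hBiso : ∀ ⦃U V : E⦄, (U ≅ V) → U ∈ B → V ∈ B)
    (hBpb : ∀ ⦃A A' C : E⦄ (f : A ⟶ C) (g : A' ⟶ C), A ∈ B → A' ∈ B → C ∈ B → pullback f g ∈ B)
    (hBprod : ∀ ⦃A A' : E⦄, A ∈ B → A' ∈ B → (A ⨯ A') ∈ B)
    ⦃A A' C : WithTerminal E⦄ (f : A ⟶ C) (g : A' ⟶ C) (hA : A ∈ Bp B) (hA' : A' ∈ Bp B)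
    (hC : C ∈ Bp B) : pullback f g ∈ Bp B := by
  obtain ⟨P, p₁, p₂, h, hP⟩ := exists_isPullback_mem B hBpb hBprod f g hA hA' hC
  exact Bp_iso B hBiso h.isoPullback hP

end Closure

end Groth.Agent.Lib.Helper5.WithTerminalSite
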