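import Mathlib
import Groth.Agent.Lib.Helper5.WithTerminalSite
import Groth.Agent.Lib.Helper5.SmallModelH
import Groth.Agent.Lib.Helper5.OverProdProp

set_option autoImplicit false
universe v
open CategoryTheory CategoryTheory.Limits Opposite

namespace Groth.Agent.Lib.Helper5.WithTerminalSite

/-- The maximal class of finite coverings by members of a class of objects. -/
def CovMax {E' : Type (v + 1)} [Category.{v} E'] (J' : GrothendieckTopology E') (B' : Set E')
    (U : E') (ι : Type (v + 1)) (Y : ι → Over U) : Prop :=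
  Finite ι ∧ U ∈ B' ∧ (∀ i, (Y i).left ∈ B') ∧
    Sieve.ofArrows (fun i => (Y i).left) (fun i => (Y i).hom) ∈ J' U

open Groth.Agent.Lib.Helper5.SmallModelH in
lemma covMax_h1 {E' : Type (v + 1)} [Category.{v} E'] [HasPullbacks E']
    (J' : GrothendieckTopology E') (B' : Set E')
    (hBiso : ∀ ⦃U V : E'⦄, (U ≅ V) → U ∈ B' → V ∈ B')
    (hBpb : ∀ ⦃A A' C : E'⦄ (f : A ⟶ C) (g : A' ⟶ C), A ∈ B' → A' ∈ B' → C ∈ B' →
      pullback f g ∈ B')
    (U : E') (ι : Type (v + 1)) (Y : ι → Over U) (h : CovMax J' B' U ι Y) :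
    Finite ι ∧ U ∈ B' ∧
      Sieve.ofArrows (fun i => (Y i).left) (fun i => (Y i).hom) ∈ J' U ∧
      ∀ (p : ℕ) (a : Fin (p + 1) → ι), (∏ᶜ fun k => Y (a k)).left ∈ B' := by
  obtain ⟨hf, hU, hY, hc⟩ := h
  refine ⟨hf, hU, hc, fun p a => ?_⟩
  exact OverProdProp.prod_left (· ∈ B') hBiso hBpb U hU (p + 1) (fun k => Y (a k))
    (fun k => hY _)

variable {E : Type (v + 1)} [Category.{v} E] (J : GrothendieckTopology E) (B : Set E)

/-- The sieve of morphisms whose source maps to a member of a family. -/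
def coverSieve {κ : Type (v + 1)} (T : κ → E) (V : E) : Sieve V where
  arrows W _ := ∃ k, Nonempty (W ⟶ T k)
  downward_closed := by
    rintro W W' g ⟨k, ⟨t⟩⟩ h
    exact ⟨k, ⟨h ≫ t⟩⟩

variable [HasPullbacks E] [HasBinaryProducts E]

open WithTerminal in
lemma h2p
    (h2 : ∀ U ∈ B, ∀ S ∈ J U, ∃ (ι : Type (v + 1)) (Y : ι → Over U), CovMax J B U ι Y ∧
      ∀ i, S.arrows (Y i).hom)
    {κ : Type (v + 1)} [Finite κ] (T : κ → E) (hTB : ∀ k, T k ∈ B)
    (hT : ∀ V : E, coverSieve T V ∈ J V) :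
    ∀ U ∈ Bp B, ∀ S ∈ Jp J U, ∃ (ι : Type (v + 1)) (Y : ι → Over U),
      CovMax (Jp J) (Bp B) U ι Y ∧ ∀ i, S.arrows (Y i).hom
  | .of U₀, hU, S, hS => by
      have hS₀ : S.functorPullback incl ∈ J U₀ := (mem_Jp_incl_iff J S).1 hS
      obtain ⟨ι, Y, ⟨hfin, -, hmem, hcov⟩, hYS⟩ := h2 U₀ hU _ hS₀
      refine ⟨ι, fun i => Over.mk (incl.map (Y i).hom), ⟨hfin, hU, fun i => hmem i, ?_⟩,
        fun i => hYS i⟩
      refine (mem_Jp_incl_iff J (U := U₀) _).2 ?_
      refine J.superset_covering ?_ hcov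
      intro W g hg
      obtain ⟨i, a, rfl⟩ := (Sieve.mem_ofArrows_iff _ _ g).1 hg
      change (Sieve.ofArrows _ _).arrows (incl.map (a ≫ (Y i).hom))
      rw [Functor.map_comp]
      exact Sieve.downward_closed _
        (Sieve.ofArrows_mk (fun i => incl.obj (Y i).left) (fun i => incl.map (Y i).hom) i)
        (incl.map a)
  | .star, _, S, hS => by
      have hSk : ∀ k, (S.pullback (homFrom (T k))).functorPullback incl ∈ J (T k) :=
        fun k => hS (T k) (homFrom (T k))
      choose ι Y hY hYS using fun k => h2 (T k) (hTB k) _ (hSk k)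
      haveI : ∀ k, Finite (ι k) := fun k => (hY k).1
      refine ⟨Σ k, ι k, fun p => Over.mk (homFrom (Y p.1 p.2).left),
        ⟨inferInstance, trivial, fun p => (hY p.1).2.2.1 p.2, ?_⟩, ?_⟩
      · intro V f
        refine J.transitive (hT V) _ ?_
        rintro W g ⟨k, ⟨t⟩⟩
        refine J.superset_covering ?_ (J.pullback_stable t (hY k).2.2.2)
        intro W' h hh
        obtain ⟨i, a, ha⟩ := (Sieve.mem_ofArrows_iff _ _ _).1 hh
        change (Sieve.ofArrows _ _).arrows (incl.map (h ≫ g) ≫ f)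
        have e : incl.map (h ≫ g) ≫ f = incl.map a ≫ homFrom (Y k i).left :=
          Subsingleton.elim _ _
        rw [e]
        exact Sieve.downward_closed _
          (Sieve.ofArrows_mk (fun p : Σ k, ι k => incl.obj (Y p.1 p.2).left)
            (fun p => homFrom (Y p.1 p.2).left) ⟨k, i⟩) (incl.map a)
      · rintro ⟨k, i⟩
        have h3 := hYS k i
        change S.arrows (homFrom (Y k i).left)
        have e : homFrom (Y k i).left = incl.map (Y k i).hom ≫ homFrom (T k) :=
          Subsingleton.elim _ _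
        rw [e]
        exact h3

end Groth.Agent.Lib.Helper5.WithTerminalSite
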