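import Mathlib
import Groth.Agent.Lib.Helper5.WithTerminalCov

set_option autoImplicit false
universe v
open CategoryTheory CategoryTheory.Limits Opposite Abelian

namespace Groth.Agent.Lib.Helper5.WithTerminalSite

variable {E : Type (v + 1)} [Category.{v} E] (J : GrothendieckTopology E)

theorem isGrAb : IsGrothendieckAbelian.{v + 1} (Sheaf J AddCommGrpCat.{v + 1}) := by
  have : EssentiallySmall.{v + 1} E := inferInstance
  exact Sheaf.isGrothendieckAbelian_of_essentiallySmall _ _

/-- The equivalence of categories of sheaves. -/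
noncomputable abbrev eqvSh : Sheaf J AddCommGrpCat.{v + 1} ≌ Sheaf (Jp J) AddCommGrpCat.{v + 1} :=
  Functor.IsDenseSubsite.sheafEquiv J (Jp J) WithTerminal.incl AddCommGrpCat.{v + 1}

open SmallModelH in
/-- The constant sheaves correspond. -/
noncomputable def constIso : constZ (Jp J) ≅ (eqvSh J).functor.obj (constZ J) :=
  (eqvSh J).counitIso.symm.app _ ≪≫ (eqvSh J).functor.mapIso
    (((Functor.IsDenseSubsite.sheafEquivSheafificationCompatibility J (Jp J) WithTerminal.incl
      AddCommGrpCat.{v + 1}).app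
        ((Functor.const _).obj (AddCommGrpCat.of (ULift.{v + 1} ℤ)))).symm)

end Groth.Agent.Lib.Helper5.WithTerminalSite

namespace Groth.Agent.Lib.Helper5.WithTerminalSite

variable {E : Type (v + 1)} [Category.{v} E] (J : GrothendieckTopology E)

instance : (eqvSh J).inverse.Additive where
  map_add := rfl

instance : (eqvSh J).functor.Additive :=
  @Equivalence.inverse_additive _ _ _ _ _ _ (eqvSh J).symm
    (inferInstanceAs ((eqvSh J).inverse.Additive))

variable [HasPullbacks E] [HasBinaryProducts E] (B : Set E)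

open SmallModelH in
/-- **Cohomology commutes with filtered colimits on a coherent site without terminal object**:
the site is assumed to have fibre products and binary products, a class `B` of "coherent" objects
stable under these, such that every covering of a member of `B` is refined by a finite covering by
members of `B`, and finitely many members of `B` covering the (absent) terminal object. -/
theorem preservesColimitsOfShape_functorH
    (hBiso : ∀ ⦃U V : E⦄, (U ≅ V) → U ∈ B → V ∈ B)
    (hBpb : ∀ ⦃A A' C : E⦄ (f : A ⟶ C) (g : A' ⟶ C), A ∈ B → A' ∈ B → C ∈ B → pullback f g ∈ B)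
    (hBprod : ∀ ⦃A A' : E⦄, A ∈ B → A' ∈ B → (A ⨯ A') ∈ B)
    (h2 : ∀ U ∈ B, ∀ S ∈ J U, ∃ (ι : Type (v + 1)) (Y : ι → Over U), CovMax J B U ι Y ∧
      ∀ i, S.arrows (Y i).hom)
    {κ : Type (v + 1)} [Finite κ] (T : κ → E) (hTB : ∀ k, T k ∈ B)
    (hT : ∀ V : E, coverSieve T V ∈ J V)
    [HasSheafify J AddCommGrpCat.{v + 1}] [HasExt.{v + 1} (Sheaf J AddCommGrpCat.{v + 1})]
    [EnoughInjectives (Sheaf J AddCommGrpCat.{v + 1})]
    (p : ℕ) (I : Type (v + 1)) [SmallCategory I] [IsFiltered I] :
    PreservesColimitsOfShape I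
      (Sheaf.functorH J p : Sheaf J AddCommGrpCat.{v + 1} ⥤ AddCommGrpCat.{v + 1}) := by
  haveI hS : HasSheafify (Jp J) AddCommGrpCat.{v + 1} := inferInstance
  haveI := isGrAb (Jp J)
  haveI : HasExt.{v + 1} (Sheaf (Jp J) AddCommGrpCat.{v + 1}) := inferInstance
  haveI : EnoughInjectives (Sheaf (Jp J) AddCommGrpCat.{v + 1}) := inferInstance
  haveI : PreservesColimitsOfShape I
      (Sheaf.functorH (Jp J) p :
        Sheaf (Jp J) AddCommGrpCat.{v + 1} ⥤ AddCommGrpCat.{v + 1}) :=
    SmallModelH.preservesColimitsOfShape_functorH.{v} (Jp J) (Bp B) (CovMax (Jp J) (Bp B))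
      (Bp_iso B hBiso)
      (covMax_h1 (Jp J) (Bp B) (Bp_iso B hBiso) (Bp_pullback B hBiso hBpb hBprod))
      (h2p J B h2 T hTB hT) WithTerminal.starTerminal trivial p I
  let e₁ : extFunctorObj.{v + 1} (constZ J) p ≅
      (Sheaf.functorH J p : Sheaf J AddCommGrpCat.{v + 1} ⥤ AddCommGrpCat.{v + 1}) :=
    NatIso.ofComponents (fun _ => Iso.refl _)
  let e₂ : extFunctorObj.{v + 1} (constZ (Jp J)) p ≅
      (Sheaf.functorH (Jp J) p :
        Sheaf (Jp J) AddCommGrpCat.{v + 1} ⥤ AddCommGrpCat.{v + 1}) :=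
    NatIso.ofComponents (fun _ => Iso.refl _)
  let e₃ := extIso.{v + 1} (eqvSh J) (constZ J) (constZ (Jp J)) (constIso J) p
  haveI : PreservesColimitsOfShape I (extFunctorObj.{v + 1} (constZ (Jp J)) p) :=
    preservesColimitsOfShape_of_natIso e₂.symm
  haveI : PreservesColimitsOfShape I (extFunctorObj.{v + 1} (constZ J) p) :=
    preservesColimitsOfShape_of_natIso e₃.symm
  exact preservesColimitsOfShape_of_natIso e₁

end Groth.Agent.Lib.Helper5.WithTerminalSite
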