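import Mathlib
import Groth.Prelude.Def_AlgSpOX
import Groth.Agent.Lib.Helper5.WithTerminalH

/-!
# The qcqs objects of the small étale site of an algebraic space

The class of quasi-compact quasi-separated objects of the small étale site of a quasi-compact
quasi-separated algebraic space satisfies the hypotheses of
`WithTerminalSite.preservesColimitsOfShape_functorH`.
-/

set_option autoImplicit false
universe u
open CategoryTheory CategoryTheory.Limits AlgebraicGeometry Opposite

namespace Groth.Agent.Lib.Helper5.AlgSpQcqs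

open AlgSp

variable {S : Scheme.{u}} (X : AlgSp.Sp S)

/-- The quasi-compact quasi-separated objects of the small étale site. -/
def Bq : Set (EtOver X) := {E | CompactSpace E.obj.left.left ∧ QuasiSeparatedSpace E.obj.left.left}

variable {X}

lemma Bq_iso ⦃U V : EtOver X⦄ (e : U ≅ V) (h : U ∈ Bq X) : V ∈ Bq X := by
  obtain ⟨h1, h2⟩ := h
  let e' : U.obj.left.left ≅ V.obj.left.left := (EtOver.toScheme X).mapIso e
  let t : (U.obj.left.left : Type u) ≃ₜ (V.obj.left.left : Type u) := Scheme.homeoOfIso e'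
  exact ⟨t.compactSpace, (quasiSeparatedSpace_congr t).1 h2⟩

lemma Bq_pullback ⦃A B C : EtOver X⦄ (f : A ⟶ C) (g : B ⟶ C) (hA : A ∈ Bq X) (hB : B ∈ Bq X)
    (hC : C ∈ Bq X) : pullback f g ∈ Bq X := by
  obtain ⟨hA1, hA2⟩ := hA
  obtain ⟨hB1, hB2⟩ := hB
  obtain ⟨hC1, hC2⟩ := hC
  let f' : A.obj.left.left ⟶ C.obj.left.left := (EtOver.toScheme X).map f
  let g' : B.obj.left.left ⟶ C.obj.left.left := (EtOver.toScheme X).map g
  let e : (pullback f g).obj.left.left ≅ pullback f' g' :=
    PreservesPullback.iso (EtOver.toScheme X) f g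
  let t : ((pullback f g).obj.left.left : Type u) ≃ₜ (↑(pullback f' g') : Type u) :=
    Scheme.homeoOfIso e
  haveI : QuasiCompact f' := inferInstance
  haveI : QuasiSeparated f' := inferInstance
  haveI : CompactSpace ↑(pullback f' g') := inferInstance
  haveI : QuasiSeparatedSpace ↑(pullback f' g') :=
    quasiSeparatedSpace_of_quasiSeparated (pullback.snd f' g')
  exact ⟨t.symm.compactSpace, (quasiSeparatedSpace_congr t).2 inferInstance⟩



/-- An étale scheme over the underlying scheme of an object, as an object of the site. -/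
noncomputable abbrev etObj (E : EtOver X) (V : E.obj.left.left.Etale) : EtOver X :=
  (EtOver.ofChart E.obj.hom E.property).obj V

/-- The structure map. -/
noncomputable abbrev etHom (E : EtOver X) (V : E.obj.left.left.Etale) : etObj E V ⟶ E :=
  EtOver.homMk (EtOver.homOfEtale V) rfl

lemma etHom_left (E : EtOver X) (V : E.obj.left.left.Etale) :
    (etHom E V).hom.left.left = V.hom := rfl

/-- An open subscheme as an étale scheme. -/
noncomputable abbrev opensEt (Y : Scheme.{u}) (V : Y.Opens) : Y.Etale :=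
  MorphismProperty.Over.mk ⊤ V.ι inferInstance

example (Y : Scheme.{u}) (V : Y.Opens) : (opensEt Y V).left = (V : Scheme.{u}) := rfl
example (Y : Scheme.{u}) (V : Y.Opens) : (opensEt Y V).hom = V.ι := rfl

lemma exists_mem_of_mem_etTop {E : EtOver X} (R : Sieve E) (hR : R ∈ etTop X E)
    (x : E.obj.left.left) :
    ∃ (E' : EtOver X) (g : E' ⟶ E), R.arrows g ∧ x ∈ Set.range g.hom.left.left.base := by
  obtain ⟨R₀, hR₀, hle⟩ :=
    (Precoverage.mem_toGrothendieck_iff_of_isStableUnderComposition (J := etPre X)).1 hR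
  have h1 : R₀.map (EtOver.toScheme X) ∈ Scheme.jointlySurjectivePrecoverage _ := hR₀.1
  rw [Scheme.jointlySurjectivePrecoverage, Presieve.mem_comap_jointlySurjectivePrecoverage_iff] at h1
  obtain ⟨Y, f, ⟨hf⟩, hx⟩ := h1 x
  exact ⟨_, _, hle _ _ hf, hx⟩



lemma etObj_opens_mem (E : EtOver X) (V : E.obj.left.left.Opens) (hV : IsAffineOpen V) :
    etObj E (opensEt _ V) ∈ Bq X := by
  haveI : IsAffine (V : Scheme.{u}) := hV
  exact ⟨inferInstanceAs (CompactSpace (V : Scheme.{u})),
    inferInstanceAs (QuasiSeparatedSpace (V : Scheme.{u}))⟩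

lemma h2 (E : EtOver X) (hE : E ∈ Bq X) (R : Sieve E) (hR : R ∈ etTop X E) :
    ∃ (ι : Type (u + 1)) (Y : ι → Over E), WithTerminalSite.CovMax (etTop X) (Bq X) E ι Y ∧
      ∀ i, R.arrows (Y i).hom := by
  choose E' g hg hx using fun x => exists_mem_of_mem_etTop R hR x
  choose y hy using hx
  have haff : ∀ x, ∃ V : (E' x).obj.left.left.Opens, IsAffineOpen V ∧ y x ∈ V := by
    intro x
    obtain ⟨V, hV, hyV, -⟩ := exists_isAffineOpen_mem_and_subset
      (X := (E' x).obj.left.left) (x := y x) (U := ⊤) trivial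
    exact ⟨V, hV, hyV⟩
  choose V hV hyV using haff
  let Y₀ : E.obj.left.left → Over E := fun x =>
    Over.mk (etHom (E' x) (opensEt _ (V x)) ≫ g x)
  have hbase : ∀ x, (Y₀ x).hom.hom.left.left = (V x).ι ≫ (g x).hom.left.left := fun x => rfl
  have hopen : ∀ x, IsOpen (Set.range (Y₀ x).hom.hom.left.left.base) := by
    intro x
    haveI : Etale (Y₀ x).hom.hom.left.left := EtOver.etale_left _
    exact ((Y₀ x).hom.hom.left.left.isOpenMap).isOpen_range
  have hcov : (Set.univ : Set ↥(E.obj.left.left)) ⊆ ⋃ x, Set.range (Y₀ x).hom.hom.left.left.base := by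
    intro x _
    refine Set.mem_iUnion.mpr ⟨x, ⟨y x, hyV x⟩, ?_⟩
    rw [hbase]
    exact hy x
  haveI := hE.1
  obtain ⟨t, ht⟩ := isCompact_univ.elim_finite_subcover _ hopen hcov
  refine ⟨ULift.{u + 1} ↥t, fun i => Y₀ i.down.1, ⟨inferInstance, hE, ?_, ?_⟩, ?_⟩
  · intro i
    exact etObj_opens_mem _ _ (hV _)
  · refine ofArrows_mem_etTop _ _ fun x => ?_
    have := ht (Set.mem_univ x)
    simp only [Set.mem_iUnion, exists_prop] at this
    obtain ⟨i, hi, hxi⟩ := this
    exact ⟨⟨⟨i, hi⟩⟩, hxi⟩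
  · intro i
    exact R.downward_closed (hg _) _


/-- The "magic square": the fibre product over `X` is the base change of the diagonal. -/
lemma magic {D : Type*} [Category D] [HasBinaryProducts D] {X A₁ A₂ W P : D} (a₁ : A₁ ⟶ X)
    (a₂ : A₂ ⟶ X) (p₂ : W ⟶ A₂) (p₁ : W ⟶ A₁) (sq : IsPullback p₂ p₁ a₂ a₁)
    (π₁ : P ⟶ A₁) (π₂ : P ⟶ A₂)
    (hP : ∀ {T : D} (f g : T ⟶ P), f ≫ π₁ = g ≫ π₁ → f ≫ π₂ = g ≫ π₂ → f = g)
    (m : W ⟶ P) (h₁ : m ≫ π₁ = p₁) (h₂ : m ≫ π₂ = p₂) :
    IsPullback (p₁ ≫ a₁) m (Limits.diag X) (prod.lift (π₁ ≫ a₁) (π₂ ≫ a₂)) := by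
  have hw : (p₁ ≫ a₁) ≫ Limits.diag X = m ≫ prod.lift (π₁ ≫ a₁) (π₂ ≫ a₂) := by
    apply Limits.prod.hom_ext
    · simp only [Category.assoc, Limits.diag, prod.lift_fst, Category.comp_id]
      rw [← Category.assoc, h₁]
    · simp only [Category.assoc, Limits.diag, prod.lift_snd, Category.comp_id]
      rw [← Category.assoc, h₂, sq.w]
  refine ⟨⟨hw⟩, ⟨?_⟩⟩
  have c1 : ∀ s : PullbackCone (Limits.diag X) (prod.lift (π₁ ≫ a₁) (π₂ ≫ a₂)),
      s.fst = s.snd ≫ π₁ ≫ a₁ := by
    intro s
    have := congrArg (· ≫ prod.fst) s.condition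
    simpa only [Category.assoc, Limits.diag, prod.lift_fst, Category.comp_id] using this
  have c2 : ∀ s : PullbackCone (Limits.diag X) (prod.lift (π₁ ≫ a₁) (π₂ ≫ a₂)),
      s.fst = s.snd ≫ π₂ ≫ a₂ := by
    intro s
    have := congrArg (· ≫ prod.snd) s.condition
    simpa only [Category.assoc, Limits.diag, prod.lift_snd, Category.comp_id] using this
  have c3 : ∀ s : PullbackCone (Limits.diag X) (prod.lift (π₁ ≫ a₁) (π₂ ≫ a₂)),
      (s.snd ≫ π₂) ≫ a₂ = (s.snd ≫ π₁) ≫ a₁ := by
    intro s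
    rw [Category.assoc, Category.assoc, ← c1, ← c2]
  refine PullbackCone.IsLimit.mk _ (fun s => sq.lift (s.snd ≫ π₂) (s.snd ≫ π₁) (c3 s))
    (fun s => ?_) (fun s => ?_) (fun s m' hm1 hm2 => ?_)
  · rw [← Category.assoc, sq.lift_snd, Category.assoc, ← c1]
  · apply hP
    · rw [Category.assoc, h₁, sq.lift_snd]
    · rw [Category.assoc, h₂, sq.lift_fst]
  · apply sq.hom_ext
    · rw [sq.lift_fst, ← hm2, Category.assoc, h₂]
    · rw [sq.lift_snd, ← hm2, Category.assoc, h₁]




lemma yon_prod_hom_ext (U₁ U₂ : Over S) {T : Sp S} (f g : T ⟶ (yon S).obj (U₁ ⨯ U₂))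
    (h1 : f ≫ (yon S).map prod.fst = g ≫ (yon S).map prod.fst)
    (h2 : f ≫ (yon S).map prod.snd = g ≫ (yon S).map prod.snd) : f = g := by
  rw [← cancel_mono (prodComparison (yon S) U₁ U₂)]
  apply Limits.prod.hom_ext
  · simpa only [Category.assoc, prodComparison_fst] using h1
  · simpa only [Category.assoc, prodComparison_snd] using h2

set_option backward.isDefEq.respectTransparency false in
lemma prodObj_mem [QuasiSeparatedSpace ↥S] (hqs : IsQuasiSeparatedSp X) (E₁ E₂ : EtOver X)
    (h₁ : E₁ ∈ Bq X) (h₂ : E₂ ∈ Bq X) : EtOver.prodObj E₁ E₂ ∈ Bq X := by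
  obtain ⟨c1, q1⟩ := h₁
  obtain ⟨c2, q2⟩ := h₂
  let W : Over S := E₂.property.1.pullback E₁.obj.hom
  let snd : W ⟶ E₁.obj.left := E₂.property.1.snd E₁.obj.hom
  let fst' : W ⟶ E₂.obj.left := E₂.property.1.fst' E₁.obj.hom
  have sq : IsPullback ((yon S).map fst') ((yon S).map snd) E₂.obj.hom E₁.obj.hom := by
    have := E₂.property.1.isPullback E₁.obj.hom
    rwa [← Functor.relativelyRepresentable.map_fst'] at this
  let m : W ⟶ E₁.obj.left ⨯ E₂.obj.left := prod.lift snd fst'
  have key := magic E₁.obj.hom E₂.obj.hom ((yon S).map fst') ((yon S).map snd) sq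
    ((yon S).map prod.fst) ((yon S).map prod.snd) (yon_prod_hom_ext _ _) ((yon S).map m)
    (by rw [← Functor.map_comp, prod.lift_fst]) (by rw [← Functor.map_comp, prod.lift_snd])
  have hm : QuasiCompact m.left := ((repWith_iff @QuasiCompact _).1 hqs).2 _ _ m key
  let P : Scheme.{u} := (E₁.obj.left ⨯ E₂.obj.left).left
  let eP : P ≅ pullback E₁.obj.left.hom E₂.obj.left.hom := Over.prodLeftIsoPullback _ _
  haveI : QuasiCompact E₂.obj.left.hom := inferInstance
  haveI : QuasiSeparated E₂.obj.left.hom := inferInstance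
  haveI : CompactSpace ↑(pullback E₁.obj.left.hom E₂.obj.left.hom) :=
    QuasiCompact.compactSpace_of_compactSpace (pullback.fst E₁.obj.left.hom E₂.obj.left.hom)
  haveI : QuasiSeparatedSpace ↑(pullback E₁.obj.left.hom E₂.obj.left.hom) :=
    quasiSeparatedSpace_of_quasiSeparated (pullback.fst E₁.obj.left.hom E₂.obj.left.hom)
  haveI : CompactSpace P := (Scheme.homeoOfIso eP).symm.compactSpace
  haveI : QuasiSeparatedSpace P := (quasiSeparatedSpace_congr (Scheme.homeoOfIso eP)).2 inferInstance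
  haveI : Mono m := ⟨fun a b hab => by
    apply Functor.relativelyRepresentable.hom_ext' E₂.property.1
    · have := congrArg (· ≫ prod.snd) hab
      simpa only [Category.assoc, m, prod.lift_snd] using this
    · have := congrArg (· ≫ prod.fst) hab
      simpa only [Category.assoc, m, prod.lift_fst] using this⟩
  haveI : Mono m.left := inferInstance
  exact ⟨QuasiCompact.compactSpace_of_compactSpace m.left,
    quasiSeparatedSpace_of_quasiSeparated m.left⟩


lemma exists_preimage_of_isPullback {P X Y Z : Scheme.{u}} {fst : P ⟶ X} {snd : P ⟶ Y}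
    {f : X ⟶ Z} {g : Y ⟶ Z} (h : IsPullback fst snd f g) (x : X) (y : Y)
    (hxy : f x = g y) : ∃ z : P, fst z = x ∧ snd z = y := by
  obtain ⟨z, hz1, hz2⟩ := Scheme.Pullback.exists_preimage_pullback x y hxy
  refine ⟨h.isoPullback.inv z, ?_, ?_⟩
  · rw [← Scheme.Hom.comp_apply, h.isoPullback_inv_fst]; exact hz1
  · rw [← Scheme.Hom.comp_apply, h.isoPullback_inv_snd]; exact hz2




section Cover

variable (U : Over S) (p : (yon S).obj U ⟶ X) (hp : RepWith @Etale p)
  (hps : RepWith @Surjective p) [CompactSpace U.left]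

/-- The chart as an object of the site. -/
noncomputable abbrev chartObj : EtOver X := EtOver.mk p hp

/-- A finite affine open cover of the chart. -/
noncomputable abbrev cov : U.left.OpenCover := U.left.affineCover.finiteSubcover

/-- The members of the finite affine cover, as étale schemes over the chart. -/
noncomputable abbrev covEt (k : (cov U).I₀) : U.left.Etale :=
  MorphismProperty.Over.mk ⊤ ((cov U).f k) inferInstance

/-- The members of the finite affine cover as objects of the site. -/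
noncomputable def T (k : ULift.{u + 1} (cov U).I₀) : EtOver X :=
  etObj (chartObj U p hp) (covEt U k.down)

lemma T_mem (k : ULift.{u + 1} (cov U).I₀) : T U p hp k ∈ Bq X := by
  haveI : IsAffine ((cov U).X k.down) := inferInstance
  exact ⟨inferInstanceAs (CompactSpace ((cov U).X k.down)),
    inferInstanceAs (QuasiSeparatedSpace ((cov U).X k.down))⟩

instance : Finite (ULift.{u + 1} (cov U).I₀) := inferInstance

include hps in
set_option backward.isDefEq.respectTransparency false in
lemma coverSieve_mem (V : EtOver X) :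
    WithTerminalSite.coverSieve (T U p hp) V ∈ etTop X V := by
  let Ũ : EtOver X := chartObj U p hp
  let P : EtOver X := EtOver.prodObj V Ũ
  let t : ∀ k : ULift.{u + 1} (cov U).I₀, T U p hp k ⟶ Ũ := fun k => etHom Ũ (covEt U k.down)
  let Q : ULift.{u + 1} (cov U).I₀ → EtOver X := fun k =>
    EtOver.pullbackObj (EtOver.prodSnd V Ũ) (t k)
  let q : ∀ k, Q k ⟶ V := fun k =>
    EtOver.pullbackFst (EtOver.prodSnd V Ũ) (t k) ≫ EtOver.prodFst V Ũ
  have hsurj : Function.Surjective (EtOver.prodFst V Ũ).hom.left.left.base := by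
    have h := ((repWith_iff @Surjective p).1 hps).2 V.obj.hom _ _
      (Ũ.property.1.isPullback V.obj.hom)
    exact h.surj
  refine (etTop X).superset_covering ?_ (ofArrows_mem_etTop Q q ?_)
  · intro W g hg
    obtain ⟨k, a, rfl⟩ := (Sieve.mem_ofArrows_iff _ _ g).1 hg
    exact ⟨k, ⟨a ≫ EtOver.pullbackSnd (EtOver.prodSnd V Ũ) (t k)⟩⟩
  · intro v
    obtain ⟨w, hw⟩ := hsurj v
    obtain ⟨k, y, hy⟩ := (cov U).exists_eq ((EtOver.prodSnd V Ũ).hom.left.left.base w)
    have hpb : IsPullback (pullback.fst (EtOver.prodSnd V Ũ).hom.left (t ⟨k⟩).hom.left).left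
        (pullback.snd (EtOver.prodSnd V Ũ).hom.left (t ⟨k⟩).hom.left).left
        (EtOver.prodSnd V Ũ).hom.left.left (t ⟨k⟩).hom.left.left :=
      (IsPullback.of_hasPullback (EtOver.prodSnd V Ũ).hom.left (t ⟨k⟩).hom.left).map
        (Over.forget S)
    obtain ⟨z, hz1, hz2⟩ := exists_preimage_of_isPullback hpb w y hy.symm
    refine ⟨⟨k⟩, z, ?_⟩
    change ((pullback.fst (EtOver.prodSnd V Ũ).hom.left (t ⟨k⟩).hom.left).left ≫
      (EtOver.prodFst V Ũ).hom.left.left).base z = v
    rw [Scheme.Hom.comp_base, TopCat.comp_app]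
    rw [← hw]
    exact congrArg _ hz1

end Cover


lemma Bq_prod [QuasiSeparatedSpace ↥S] (hqs : IsQuasiSeparatedSp X) ⦃E₁ E₂ : EtOver X⦄
    (h₁ : E₁ ∈ Bq X) (h₂ : E₂ ∈ Bq X) : (E₁ ⨯ E₂) ∈ Bq X :=
  Bq_iso ((limit.isLimit _).conePointUniqueUpToIso (EtOver.prodIsLimit E₁ E₂)).symm
    (prodObj_mem hqs E₁ E₂ h₁ h₂)

end Groth.Agent.Lib.Helper5.AlgSpQcqs
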