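import Mathlib
import Groth.Prelude.Def_BigSite
open CategoryTheory Limits Opposite

namespace Groth.Agent.Lib.Helper5.AlmostCocont

universe u

variable {C D : Type u} [SmallCategory C] [SmallCategory D]
  (J : GrothendieckTopology C) (K : GrothendieckTopology D) (u : C ⥤ D)

lemma subsingleton_of_bot_mem {Q : Dᵒᵖ ⥤ Type u} (hQ : Presheaf.IsSheaf K Q) {V : D}
    (hV : (⊥ : Sieve V) ∈ K V) (a b : Q.obj (op V)) : a = b := by
  have h := (isSheaf_iff_isSheaf_of_type K Q).1 hQ _ hV
  refine h.isSeparatedFor.ext ?_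
  intro W f hf
  exact hf.elim

lemma isLocallySurjective_whiskerLeft (hu : BigSite.IsAlmostCocontinuous u J K) (G : Dᵒᵖ ⥤ Type u)
    (hG : ∀ V : D, (⊥ : Sieve V) ∈ K V → Nonempty (Unique (G.obj (op V)))) :
    Presheaf.IsLocallySurjective J (Functor.whiskerLeft u.op (toSheafify K G)) := by
  constructor
  intro U s
  have hR := Presheaf.imageSieve_mem K (toSheafify K G) (U := op (u.obj U)) s
  obtain ⟨R', hR', h⟩ := hu U _ hR
  refine J.superset_covering ?_ hR'
  intro V g hg
  rcases h g hg with hV | hV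
  · obtain ⟨hU⟩ := hG _ hV
    refine ⟨hU.default, ?_⟩
    exact subsingleton_of_bot_mem K ((presheafToSheaf K (Type u)).obj G).property hV _ _
  · obtain ⟨t, ht⟩ := hV
    exact ⟨t, ht⟩

lemma isLocallyInjective_whiskerLeft (hu : BigSite.IsAlmostCocontinuous u J K) (G : Dᵒᵖ ⥤ Type u)
    (hG : ∀ V : D, (⊥ : Sieve V) ∈ K V → Nonempty (Unique (G.obj (op V)))) :
    Presheaf.IsLocallyInjective J (Functor.whiskerLeft u.op (toSheafify K G)) := by
  constructor
  intro X x y hxy
  have hR := Presheaf.equalizerSieve_mem K (toSheafify K G) (X := op (u.obj X.unop)) x y hxy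
  obtain ⟨R', hR', h⟩ := hu X.unop _ hR
  refine J.superset_covering ?_ hR'
  intro V g hg
  rcases h g hg with hV | hV
  · obtain ⟨hU⟩ := hG _ hV
    exact (hU.uniq _).trans (hU.uniq _).symm
  · exact hV

variable [u.IsContinuous J K]

theorem isIso_sheafify_comparison (hu : BigSite.IsAlmostCocontinuous u J K) (G : Dᵒᵖ ⥤ Type u)
    (hG : ∀ V : D, (⊥ : Sieve V) ∈ K V → Nonempty (Unique (G.obj (op V)))) :
    IsIso (((sheafificationAdjunction J (Type u)).homEquiv (u.op ⋙ G)
      ((u.sheafPushforwardContinuous (Type u) J K).obj ((presheafToSheaf K (Type u)).obj G))).symm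
        (Functor.whiskerLeft u.op (toSheafify K G))) := by
  have h1 := isLocallySurjective_whiskerLeft J K u hu G hG
  have h2 := isLocallyInjective_whiskerLeft J K u hu G hG
  have hW : J.W (Functor.whiskerLeft u.op (toSheafify K G)) := J.W_of_isLocallyBijective _
  rw [J.W_iff] at hW
  rw [Adjunction.homEquiv_counit]
  have h3 : IsIso ((sheafificationAdjunction J (Type u)).counit.app
      ((u.sheafPushforwardContinuous (Type u) J K).obj ((presheafToSheaf K (Type u)).obj G))) :=
    inferInstance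
  exact @IsIso.comp_isIso _ _ _ _ _ _ _ hW h3

lemma nonempty_unique_of_bot_mem {Q : Dᵒᵖ ⥤ Type u} (hQ : Presheaf.IsSheaf K Q) {V : D}
    (hV : (⊥ : Sieve V) ∈ K V) : Nonempty (Unique (Q.obj (op V))) := by
  have h := (isSheaf_iff_isSheaf_of_type K Q).1 hQ _ hV
  let x : Presieve.FamilyOfElements Q (⊥ : Sieve V).arrows := fun W f hf => hf.elim
  have hx : x.Compatible := by
    intro Y₁ Y₂ Z g₁ g₂ f₁ f₂ h₁ h₂ _
    exact h₁.elim
  obtain ⟨t, _, _⟩ := h x hx
  exact ⟨⟨⟨t⟩, fun a => subsingleton_of_bot_mem K hQ hV _ _⟩⟩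

lemma nonempty_unique_colimit {I : Type} [SmallCategory I] [IsConnected I] (X : I ⥤ Type u)
    (hX : ∀ i, Nonempty (Unique (X.obj i))) : Nonempty (Unique (colimit X)) := by
  have e : X ≅ Types.constPUnitFunctor.{u} I :=
    NatIso.ofComponents (fun i => Equiv.toIso (by
      haveI : Unique (X.obj i) := (hX i).some
      exact (Equiv.ofUnique (X.obj i) PUnit.{u + 1} : X.obj i ≃ PUnit.{u + 1}))) (fun f => by
      ext x
      rfl)
  have e2 : colimit X ≅ PUnit.{u + 1} :=
    HasColimit.isoOfNatIso e ≪≫ Types.colimitConstPUnitIsoPUnit I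
  exact ⟨Equiv.unique e2.toEquiv⟩

lemma colimit_presheaf_unique {I : Type} [SmallCategory I] [IsConnected I]
    (F : I ⥤ Sheaf K (Type u)) (V : D) (hV : (⊥ : Sieve V) ∈ K V) :
    Nonempty (Unique ((colimit (F ⋙ sheafToPresheaf K (Type u))).obj (op V))) := by
  have e := colimitObjIsoColimitCompEvaluation (F ⋙ sheafToPresheaf K (Type u)) (op V)
  obtain ⟨h⟩ := nonempty_unique_colimit
    ((F ⋙ sheafToPresheaf K (Type u)) ⋙ (evaluation Dᵒᵖ (Type u)).obj (op V))
    (fun i => nonempty_unique_of_bot_mem K (F.obj i).property hV)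
  exact ⟨Equiv.unique e.toEquiv⟩

theorem preservesColimitsOfShape_pushforward (hu : BigSite.IsAlmostCocontinuous u J K)
    (I : Type) [SmallCategory I] [FinCategory I] [IsConnected I] :
    PreservesColimitsOfShape I (u.sheafPushforwardContinuous (Type u) J K) := by
  constructor
  intro F
  let E := colimit.cocone (F ⋙ sheafToPresheaf K (Type u))
  have hE : IsColimit E := colimit.isColimit _
  apply preservesColimit_of_preserves_colimit_cocone (Sheaf.isColimitSheafifyCocone E hE)
  let up := (Functor.whiskeringLeft Cᵒᵖ Dᵒᵖ (Type u)).obj u.op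
  let E' : Cocone ((F ⋙ u.sheafPushforwardContinuous (Type u) J K) ⋙ sheafToPresheaf J (Type u)) :=
    up.mapCocone E
  have hE' : IsColimit E' := isColimitOfPreserves up hE
  have hc₁ := Sheaf.isColimitSheafifyCocone E' hE'
  have hiso := isIso_sheafify_comparison J K u hu E.pt (colimit_presheaf_unique K F)
  refine IsColimit.ofIsoColimit hc₁ (Cocone.ext (@asIso _ _ _ _ _ hiso) (fun i => ?_))
  apply Sheaf.hom_ext
  rw [ObjectProperty.FullSubcategory.comp_hom, Sheaf.sheafifyCocone_ι_app_val]
  dsimp only [asIso_hom]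
  refine (Category.assoc _ _ _).trans ?_
  have h1 : toSheafify J E'.pt ≫ (((sheafificationAdjunction J (Type u)).homEquiv (u.op ⋙ E.pt)
      ((u.sheafPushforwardContinuous (Type u) J K).obj ((presheafToSheaf K (Type u)).obj E.pt))).symm
        (Functor.whiskerLeft u.op (toSheafify K E.pt))).hom =
      Functor.whiskerLeft u.op (toSheafify K E.pt) := by
    have := ((sheafificationAdjunction J (Type u)).homEquiv (u.op ⋙ E.pt)
      ((u.sheafPushforwardContinuous (Type u) J K).obj
        ((presheafToSheaf K (Type u)).obj E.pt))).apply_symm_apply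
          (Functor.whiskerLeft u.op (toSheafify K E.pt))
    rw [Adjunction.homEquiv_unit] at this
    exact this
  refine (congrArg (fun z => E'.ι.app i ≫ z) h1).trans ?_
  change Functor.whiskerLeft u.op (E.ι.app i) ≫ Functor.whiskerLeft u.op (toSheafify K E.pt) =
    Functor.whiskerLeft u.op ((Sheaf.sheafifyCocone E).ι.app i).hom
  rw [Sheaf.sheafifyCocone_ι_app_val]
  rfl

end Groth.Agent.Lib.Helper5.AlmostCocont
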