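import Groth.Agent.Lib.Helper5.CanonicalLimits
import Mathlib.CategoryTheory.Sites.Continuous
import Mathlib.CategoryTheory.Limits.Preserves.Opposites
import Mathlib.CategoryTheory.Limits.Preserves.Ulift

set_option autoImplicit false
open CategoryTheory Limits Opposite
universe u

namespace Groth.Agent.Lib.Helper5.CanonicalLimits

theorem preservesColimits_iff_isContinuous {C D : Type u} [SmallCategory C] [SmallCategory D]
    (J : GrothendieckTopology C) (K : GrothendieckTopology D) (f : Sheaf J (Type u) ⥤ Sheaf K (Type u)) :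
    PreservesColimitsOfSize.{u, u} f ↔
      f.IsContinuous.{u} (Sheaf.canonicalTopology (Sheaf J (Type u))) (Sheaf.canonicalTopology (Sheaf K (Type u))) := by
  constructor
  · intro h
    constructor
    intro G
    haveI : PreservesLimitsOfSize.{u, u} G.obj :=
      preservesLimitsOfSize_of_isSheaf K G.obj G.property
    haveI : PreservesLimitsOfSize.{u, u} f.op := preservesLimitsOfSize_op f
    haveI : PreservesLimitsOfSize.{u, u} (f.op ⋙ G.obj) := inferInstance
    exact isSheaf_of_preservesLimits J (f.op ⋙ G.obj)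
  · intro h
    refine ⟨fun {I} _ => ⟨fun {D'} => ⟨fun {c} hc => ⟨?_⟩⟩⟩⟩
    refine (Cocone.isColimitYonedaEquiv _).symm (fun Y => ?_)
    let H : (Sheaf K (Type u))ᵒᵖ ⥤ Type (u + 1) := yoneda.obj Y ⋙ uliftFunctor.{u + 1}
    haveI : PreservesLimitsOfSize.{u, u} H := inferInstance
    have hH : Presieve.IsSheaf (Sheaf.canonicalTopology (Sheaf K (Type u))) H :=
      isSheaf_of_preservesLimits K H
    have h1 := h.op_comp_isSheaf_of_types ⟨H, (isSheaf_iff_isSheaf_of_type _ _).2 hH⟩
    haveI : PreservesLimitsOfSize.{u, u} (f.op ⋙ H) :=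
      preservesLimitsOfSize_of_isSheaf J (f.op ⋙ H) ((isSheaf_iff_isSheaf_of_type _ _).2 h1)
    have h2 : IsLimit ((f.op ⋙ H).mapCone c.op) := isLimitOfPreserves _ hc.op
    have h3 : IsLimit (uliftFunctor.{u + 1}.mapCone ((yoneda.obj Y).mapCone (f.mapCocone c).op)) :=
      h2
    exact isLimitOfReflects uliftFunctor.{u + 1} h3

end Groth.Agent.Lib.Helper5.CanonicalLimits
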