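import Groth.Agent.Lib.Helper5.SheafToposGiraud
import Mathlib.CategoryTheory.Adjunction.PartialAdjoint

set_option autoImplicit false
open CategoryTheory Limits Opposite
universe v u

namespace Groth.Agent.Lib.Helper5.CanonicalCover

section General

variable {E : Type v} [Category.{u} E]

/-- A family generating a covering sieve for the canonical topology is jointly epimorphic. -/
lemma isEpiFamily_of_mem {ι : Type*} {X : E} {Z : ι → E} (t : ∀ k, Z k ⟶ X)
    (h : Sieve.ofArrows Z t ∈ Sheaf.canonicalTopology E X) : SGA4.IsEpiFamily t := by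
  intro W a b hab
  refine (Sheaf.isSheaf_yoneda_obj W _ h).isSeparatedFor.ext ?_
  rintro V g ⟨Y, c, d, ⟨k⟩, rfl⟩
  show (c ≫ t k) ≫ a = (c ≫ t k) ≫ b
  rw [Category.assoc, Category.assoc, hab k]

variable [HasPullbacks E] (hb : SGA4.HasDisjointUniversalCoproducts.{v, u} E)
  (hc : ∀ (R A : E) (p₁ p₂ : R ⟶ A), SGA4.IsEquivRel p₁ p₂ → SGA4.IsEffectiveUniversalEquivRel p₁ p₂)
  {C : Type u} [SmallCategory C] (i : C ⥤ E)
  (hdet : ∀ ⦃X Y : E⦄ (f : X ⟶ Y),
    (∀ (c : C) (h : i.obj c ⟶ Y), ∃! h' : i.obj c ⟶ X, h' ≫ f = h) → IsIso f)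
include hb hc hdet

/-- The generator-arrows of a covering sieve still generate a covering sieve. -/
lemma ofArrows_gen_mem {X : E} (S : Sieve X) (hS : S ∈ Sheaf.canonicalTopology E X) :
    Sieve.ofArrows (fun k : (Σ c : C, {x : i.obj c ⟶ X // S x}) => i.obj k.1)
      (fun k => k.2.1) ∈ Sheaf.canonicalTopology E X := by
  refine GrothendieckTopology.transitive _ hS _ ?_
  intro Z t ht
  refine GrothendieckTopology.superset_covering _ ?_ (Giraud.coverByImage_mem hb hc i hdet Z)
  rintro V g ⟨⟨c, lift, map, fac⟩⟩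
  show Sieve.ofArrows _ _ (g ≫ t)
  rw [← fac, Category.assoc]
  refine Sieve.downward_closed _ ?_ lift
  exact Sieve.ofArrows_mk _ _ (⟨c, ⟨map ≫ t, S.downward_closed ht map⟩⟩ :
    (Σ c : C, {x : i.obj c ⟶ X // S x}))

/-- The family of all morphisms from the generators is jointly epimorphic. -/
lemma isEpiFamily_gen (X : E) :
    SGA4.IsEpiFamily (fun k : (Σ c : C, (i.obj c ⟶ X)) => k.2) := by
  refine isEpiFamily_of_mem _ ?_
  refine GrothendieckTopology.superset_covering _ ?_ (Giraud.coverByImage_mem hb hc i hdet X)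
  rintro V g ⟨⟨c, lift, map, fac⟩⟩
  rw [← fac]
  refine Sieve.downward_closed _ ?_ lift
  exact Sieve.ofArrows_mk _ _ (⟨c, map⟩ : (Σ c : C, (i.obj c ⟶ X)))

end General

section SheafTopos

variable {D : Type u} [SmallCategory D] (K : GrothendieckTopology D)

/-- In a sheaf topos, a small jointly epimorphic family generates a covering sieve for the
canonical topology. -/
lemma ofArrows_mem_of_isEpiFamily {ι : Type u} {V : Sheaf K (Type u)} {W : ι → Sheaf K (Type u)}
    (w : ∀ k, W k ⟶ V) (hw : SGA4.IsEpiFamily w) :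
    Sieve.ofArrows W w ∈ Sheaf.canonicalTopology (Sheaf K (Type u)) V := by
  haveI := Giraud.hasCoproduct (SheafToposGiraud.hb K) W
  let p : ∐ W ⟶ V := Sigma.desc w
  haveI : Epi p := ⟨fun a b hab => hw _ a b (fun k => by
    have := congrArg (fun t => Sigma.ι W k ≫ t) hab
    simpa [p] using this)⟩
  have hp : Sieve.generate (Presieve.singleton p) ∈
      Sheaf.canonicalTopology (Sheaf K (Type u)) V := by
    rw [CanonicalEff.generate_singleton_mem_canonical_iff]
    intro B' g
    haveI : Epi (pullback.snd p g) :=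
      SheafGrpQuot.epi_of_isPullback.{u} K (IsPullback.of_hasPullback p g).flip
    exact SheafGrpQuot.effectiveEpi_of_epi.{u} K _
  refine GrothendieckTopology.transitive _ hp _ ?_
  rintro Y g ⟨Z, a, b, ⟨⟩, rfl⟩
  rw [Sieve.pullback_comp]
  refine GrothendieckTopology.pullback_stable _ a ?_
  refine GrothendieckTopology.superset_covering _ ?_
    (Giraud.ofArrows_mem (SheafToposGiraud.hb K) (Cofan.mk (∐ W) (Sigma.ι W))
      (coproductIsCoproduct W))
  rintro Y' g' ⟨Z', a', b', ⟨k⟩, rfl⟩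
  show Sieve.ofArrows W w ((a' ≫ Sigma.ι W k) ≫ p)
  rw [Category.assoc]
  refine Sieve.downward_closed _ ?_ a'
  have : Sigma.ι W k ≫ p = w k := Sigma.ι_desc _ _
  rw [this]
  exact Sieve.ofArrows_mk _ _ k

end SheafTopos

section LexEpi

variable {C D : Type u} [SmallCategory C] [SmallCategory D]
  (J : GrothendieckTopology C) (K : GrothendieckTopology D) (f : Sheaf J (Type u) ⥤ Sheaf K (Type u))
  [PreservesFiniteLimits f] (hf : SGA4.PreservesEpiFamilies.{u + 1, u + 1, u} f)
include hf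

lemma isSheaf_op_comp_yoneda (Y : Sheaf K (Type u)) :
    Presieve.IsSheaf (Sheaf.canonicalTopology (Sheaf J (Type u))) (f.op ⋙ yoneda.obj Y) := by
  intro X S hS x hx
  let ι := Σ c : C, {x : (SheafToposGiraud.gen J).obj c ⟶ X // S x}
  let Z : ι → Sheaf J (Type u) := fun k => (SheafToposGiraud.gen J).obj k.1
  let t : ∀ k : ι, Z k ⟶ X := fun k => k.2.1
  have ht : ∀ k : ι, S (t k) := fun k => k.2.2
  have hcov : Sieve.ofArrows Z t ∈ Sheaf.canonicalTopology (Sheaf J (Type u)) X :=
    ofArrows_gen_mem (SheafToposGiraud.hb J) (SheafToposGiraud.hc J) (SheafToposGiraud.gen J)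
      (SheafToposGiraud.gen_detecting J) S hS
  have hepi : SGA4.IsEpiFamily (fun k => f.map (t k)) := hf ι X Z t (isEpiFamily_of_mem t hcov)
  have hcov' := ofArrows_mem_of_isEpiFamily K _ hepi
  have hsh := Sheaf.isSheaf_yoneda_obj Y _ hcov'
  rw [Sieve.ofArrows, ← Presieve.isSheafFor_iff_generate, Presieve.isSheafFor_arrows_iff] at hsh
  have hsc := (Presieve.compatible_iff_sieveCompatible x).1 hx
  have xcongr : ∀ {V : Sheaf J (Type u)} (g g' : V ⟶ X) (h : S g) (h' : S g'), g = g' →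
      x g h = x g' h' := by
    intro V g g' h h' e
    subst e
    rfl
  obtain ⟨φ, hφ, hφu⟩ := hsh (fun k => x (t k) (ht k)) (by
    intro k l V gk gl hkl
    have hpb : IsPullback (f.map (pullback.fst (t k) (t l))) (f.map (pullback.snd (t k) (t l)))
        (f.map (t k)) (f.map (t l)) := (IsPullback.of_hasPullback (t k) (t l)).map f
    show gk ≫ x (t k) (ht k) = gl ≫ x (t l) (ht l)
    obtain ⟨h, h1, h2⟩ : ∃ h, h ≫ f.map (pullback.fst (t k) (t l)) = gk ∧
        h ≫ f.map (pullback.snd (t k) (t l)) = gl :=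
      ⟨hpb.lift gk gl hkl, hpb.lift_fst _ _ _, hpb.lift_snd _ _ _⟩
    have e3 : f.map (pullback.fst (t k) (t l)) ≫ x (t k) (ht k) =
        x (pullback.fst (t k) (t l) ≫ t k) (S.downward_closed (ht k) _) :=
      (hsc (t k) (pullback.fst (t k) (t l)) (ht k)).symm
    have e4 : f.map (pullback.snd (t k) (t l)) ≫ x (t l) (ht l) =
        x (pullback.snd (t k) (t l) ≫ t l) (S.downward_closed (ht l) _) :=
      (hsc (t l) (pullback.snd (t k) (t l)) (ht l)).symm
    rw [← h1, ← h2, Category.assoc, Category.assoc, e3, e4]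
    congr 1
    exact xcongr _ _ _ _ pullback.condition)
  have hamal : ∀ ⦃V : Sheaf J (Type u)⦄ (g : V ⟶ X) (hg : S g), f.map g ≫ φ = x g hg := by
    intro V g hg
    have hepiV := hf _ V _ _ (isEpiFamily_gen (SheafToposGiraud.hb J) (SheafToposGiraud.hc J)
      (SheafToposGiraud.gen J) (SheafToposGiraud.gen_detecting J) V)
    refine hepiV _ _ _ ?_
    rintro ⟨c, z⟩
    show f.map z ≫ f.map g ≫ φ = f.map z ≫ x g hg
    have e1 := hφ ⟨c, ⟨z ≫ g, S.downward_closed hg z⟩⟩
    have e2 := hsc g z hg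
    rw [← Category.assoc, ← f.map_comp]
    exact e1.trans e2
  refine ⟨φ, fun V g hg => hamal g hg, ?_⟩
  intro φ' hφ'
  exact hφu φ' (fun k => hφ' (t k) (ht k))

theorem isLeftAdjoint_of_lex_preservesEpiFamilies : f.IsLeftAdjoint := by
  apply Functor.isLeftAdjoint_of_rightAdjointObjIsDefined_eq_top
  ext Y
  simp only [Pi.top_apply, Prop.top_eq_true, iff_true]
  rw [Functor.rightAdjointObjIsDefined_iff]
  let F : Sheaf (Sheaf.canonicalTopology (Sheaf J (Type u))) (Type u) :=
    ⟨f.op ⋙ yoneda.obj Y, (isSheaf_iff_isSheaf_of_type _ _).2 (isSheaf_op_comp_yoneda J K f hf Y)⟩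
  obtain ⟨X, ⟨e⟩⟩ := SheafToposGiraud.exists_representing J F
  exact Functor.IsRepresentable.mk' ((sheafToPresheaf _ _).mapIso e)

end LexEpi

end Groth.Agent.Lib.Helper5.CanonicalCover
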