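import Mathlib.CategoryTheory.Sites.Canonical
import Mathlib.CategoryTheory.Sites.Subcanonical
import Mathlib.CategoryTheory.Sites.EffectiveEpimorphic
import Mathlib.CategoryTheory.Sites.EpiMono
import Mathlib.CategoryTheory.Sites.LocallySurjective

/-!
# Universally effective epimorphisms and the canonical topology
-/

set_option autoImplicit false
open CategoryTheory Limits Opposite
universe v u

namespace Groth.Agent.Lib.Helper5.CanonicalEff

variable {C : Type u} [Category.{v} C]

lemma pullback_generate_singleton [HasPullbacks C] {X B B' : C} (π : X ⟶ B) (g : B' ⟶ B) :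
    (Sieve.generate (Presieve.singleton π)).pullback g =
      Sieve.generate (Presieve.singleton (pullback.snd π g)) := by
  rw [← Sieve.pullbackArrows_comm, Presieve.pullback_singleton]

/-- The sieve generated by `π` is a covering for the canonical topology iff all base changes of `π`
are effective epimorphisms. -/
lemma generate_singleton_mem_canonical_iff [HasPullbacks C] {X B : C} (π : X ⟶ B) :
    Sieve.generate (Presieve.singleton π) ∈ Sheaf.canonicalTopology C B ↔
      ∀ (B' : C) (g : B' ⟶ B), EffectiveEpi (pullback.snd π g) := by
  constructor
  · intro h B' g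
    rw [← Sieve.effectiveEpimorphic_singleton]
    show (Sieve.generate (Presieve.singleton (pullback.snd π g))).EffectiveEpimorphic
    rw [← pullback_generate_singleton, Sieve.EffectiveEpimorphic.iff_forall_isSheafFor_yoneda]
    intro W
    exact Sheaf.isSheaf_yoneda_obj W _ ((Sheaf.canonicalTopology C).pullback_stable g h)
  · intro h
    refine Sheaf.mem_finestTopology_of_forall_isSheafFor ?_
    rintro P ⟨W, rfl⟩ Y f
    rw [pullback_generate_singleton, ← Presieve.isSheafFor_iff_generate]
    haveI := h Y f
    exact Presieve.IsSheafFor.singleton_of_isRepresentable_of_effectiveEpi _ _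

variable (J : GrothendieckTopology C) [J.Subcanonical]

/-- For a subcanonical topology, `J.yoneda.map f` is locally surjective iff the sieve generated
by `f` is covering. -/
lemma isLocallySurjective_yoneda_map_iff {X B : C} (f : X ⟶ B) :
    Sheaf.IsLocallySurjective (J.yoneda.map f) ↔
      Sieve.generate (Presieve.singleton f) ∈ J B := by
  constructor
  · intro h
    have h1 := Presheaf.imageSieve_mem J (J.yoneda.map f).hom (U := op B) (𝟙 B)
    refine J.superset_covering ?_ h1
    rintro V g ⟨t, ht⟩
    refine ⟨X, t, f, Presieve.singleton.mk, ?_⟩
    have : t ≫ f = g ≫ 𝟙 B := ht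
    rw [this, Category.comp_id]
  · intro h
    constructor
    intro U s
    have h1 := J.pullback_stable (s : U ⟶ B) h
    refine J.superset_covering ?_ h1
    rintro V g ⟨W, a, b, ⟨⟩, hab⟩
    exact ⟨a, hab⟩

end Groth.Agent.Lib.Helper5.CanonicalEff
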