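import Groth.Agent.Lib.Helper5.CanonicalCover
import Mathlib.CategoryTheory.Limits.Constructions.LimitsOfProductsAndEqualizers
import Mathlib.CategoryTheory.Limits.Yoneda
import Mathlib.CategoryTheory.Limits.Shapes.Opposites.Equalizers

/-!
# Sheaves for the canonical topology of a sheaf topos are the functors turning colimits into limits
-/

set_option autoImplicit false
open CategoryTheory Limits Opposite
universe w v' v u

namespace Groth.Agent.Lib.Helper5.CanonicalLimits

section General

variable {E : Type v} [Category.{u} E] [HasFiniteLimits E]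
  (hb : SGA4.HasDisjointUniversalCoproducts.{v, u} E)
  (hc : ∀ (R A : E) (p₁ p₂ : R ⟶ A), SGA4.IsEquivRel p₁ p₂ → SGA4.IsEffectiveUniversalEquivRel p₁ p₂)
  {C : Type u} [SmallCategory C] (i : C ⥤ E)
  (hdet : ∀ ⦃X Y : E⦄ (f : X ⟶ Y),
    (∀ (c : C) (h : i.obj c ⟶ Y), ∃! h' : i.obj c ⟶ X, h' ≫ f = h) → IsIso f)

include hc in
/-- A coequalizer map generates a covering sieve for the canonical topology. -/
lemma generate_singleton_mem_of_isColimit {A B Q : E} {a b : A ⟶ B} {q : B ⟶ Q}
    (w : a ≫ q = b ≫ q) (hq : IsColimit (Cofork.ofπ q w)) :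
    Sieve.generate (Presieve.singleton q) ∈ Sheaf.canonicalTopology E Q := by
  obtain ⟨Q', q', m, hqm, hm, heff⟩ := Giraud.exists_image_factorization hc q
  have hq' : Sieve.generate (Presieve.singleton q') ∈ Sheaf.canonicalTopology E Q' :=
    (CanonicalEff.generate_singleton_mem_canonical_iff q').2 heff
  have h1 : a ≫ q' = b ≫ q' := by
    rw [← cancel_mono m, Category.assoc, Category.assoc, hqm, w]
  let h : Q ⟶ Q' := Cofork.IsColimit.desc hq q' h1
  have hh : q ≫ h = q' := Cofork.IsColimit.π_desc hq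
  haveI : Epi q := Cofork.IsColimit.epi hq
  have hhm : h ≫ m = 𝟙 Q := by
    rw [← cancel_epi q, ← Category.assoc, hh, hqm, Category.comp_id]
  have h2 : (Sieve.generate (Presieve.singleton q)).pullback m ∈ Sheaf.canonicalTopology E Q' := by
    refine GrothendieckTopology.superset_covering _ ?_ hq'
    rintro V g ⟨Z, c, d, ⟨⟩, rfl⟩
    show Sieve.generate (Presieve.singleton q) ((c ≫ q') ≫ m)
    rw [Category.assoc, hqm]
    exact ⟨_, c, q, Presieve.singleton.mk, rfl⟩
  have := GrothendieckTopology.pullback_stable _ h h2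
  rwa [← Sieve.pullback_comp, hhm, Sieve.pullback_id] at this

include hb in
/-- A sheaf for the canonical topology turns coproducts into products. -/
lemma existsUnique_section_coprod (G : Sheaf (Sheaf.canonicalTopology E) (Type w)) {ι : Type u}
    (X : ι → E) [HasCoproduct X] (s : ∀ k, G.obj.obj (op (X k))) :
    ∃! t : G.obj.obj (op (∐ X)), ∀ k, G.obj.map (Sigma.ι X k).op t = s k := by
  obtain ⟨t, ht⟩ := Giraud.exists_section_coprod hb G X s
  refine ⟨t, ht, fun t' ht' => ?_⟩
  exact Giraud.section_coprod_ext hb G X _ _ (fun k => (ht' k).trans (ht k).symm)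

include hb hc hdet in
/-- A sheaf for the canonical topology turns coequalizers into equalizers. -/
lemma existsUnique_section_coeq (G : Sheaf (Sheaf.canonicalTopology E) (Type w))
    {A B Q : E} {a b : A ⟶ B} {q : B ⟶ Q}
    (w : a ≫ q = b ≫ q) (hq : IsColimit (Cofork.ofπ q w)) (t : G.obj.obj (op B))
    (ht : G.obj.map a.op t = G.obj.map b.op t) :
    ∃! s : G.obj.obj (op Q), G.obj.map q.op s = t := by
  have hcov := generate_singleton_mem_of_isColimit hc w hq
  have hsh := (isSheaf_iff_isSheaf_of_type _ _).1 G.property _ hcov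
  rw [← Presieve.isSheafFor_iff_generate, Presieve.isSheafFor_singleton] at hsh
  refine hsh t ?_
  intro Z z₁ z₂ hz
  obtain ⟨R, p₁, p₂, hmono, hrel⟩ := Giraud.exists_kernel_rel hb hc i hdet G t
  have heq : SGA4.IsEquivRel p₁ p₂ := by
    intro T
    refine ⟨?_, ?_⟩
    · intro r r' h
      exact hmono T r r' (congrArg Prod.fst h) (congrArg Prod.snd h)
    · refine ⟨fun a => (hrel T a a).2 rfl, fun {a b} h => (hrel T b a).2 ((hrel T a b).1 h).symm,
        fun {a b c} h1 h2 => (hrel T a c).2 (((hrel T a b).1 h1).trans ((hrel T b c).1 h2))⟩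
  obtain ⟨X', π, hpb, hpo, heff⟩ := hc _ _ _ _ heq
  obtain ⟨r, hr1, hr2⟩ := (hrel A a b).2 ht
  have h1 : a ≫ π = b ≫ π := by
    rw [← hr1, ← hr2, Category.assoc, Category.assoc, hpb.w]
  have h2 : q ≫ Cofork.IsColimit.desc hq π h1 = π := Cofork.IsColimit.π_desc hq
  have h3 : z₁ ≫ π = z₂ ≫ π := by
    rw [← h2, ← Category.assoc, ← Category.assoc, hz]
  exact (hrel Z z₁ z₂).1 ⟨hpb.lift z₁ z₂ h3, hpb.lift_fst _ _ _, hpb.lift_snd _ _ _⟩

end General

section SheafTopos

variable {C : Type u} [SmallCategory C] (J : GrothendieckTopology C)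
  {E' : Type v'} [Category.{w} E'] (F : (Sheaf J (Type u))ᵒᵖ ⥤ E')
  (hF : Presheaf.IsSheaf (Sheaf.canonicalTopology (Sheaf J (Type u))) F)
include hF

lemma preservesLimit_discrete {ι : Type u} (f : ι → (Sheaf J (Type u))ᵒᵖ) :
    PreservesLimit (Discrete.functor f) F := by
  let X : ι → Sheaf J (Type u) := fun k => (f k).unop
  let c : Cofan X := Cofan.mk (∐ X) (Sigma.ι X)
  have hc : IsColimit c := coproductIsCoproduct X
  refine preservesLimit_of_preserves_limit_cone (Cofan.IsColimit.op hc) ?_
  refine coyonedaJointlyReflectsLimits _ _ (fun W => ?_)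
  let G : Sheaf (Sheaf.canonicalTopology (Sheaf J (Type u))) (Type w) :=
    ⟨F ⋙ coyoneda.obj W, (isSheaf_iff_isSheaf_of_type _ _).2 (hF W.unop)⟩
  refine ((Types.isLimit_iff _).2 ?_).some
  intro s hs
  obtain ⟨t, ht, htu⟩ := existsUnique_section_coprod (SheafToposGiraud.hb J) G X (fun k => s ⟨k⟩)
  refine ⟨t, ?_, ?_⟩
  · rintro ⟨k⟩
    exact ht k
  · intro t' ht'
    exact htu t' (fun k => ht' ⟨k⟩)

lemma preservesLimit_parallelPair {A B : (Sheaf J (Type u))ᵒᵖ} (a' b' : A ⟶ B) :
    PreservesLimit (parallelPair a' b') F := by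
  let a : B.unop ⟶ A.unop := a'.unop
  let b : B.unop ⟶ A.unop := b'.unop
  let q := coequalizer.π a b
  have w : a ≫ q = b ≫ q := coequalizer.condition a b
  have hq : IsColimit (Cofork.ofπ q w) := coequalizerIsCoequalizer a b
  have w' : q.op ≫ a' = q.op ≫ b' := by
    have := congrArg Quiver.Hom.op w
    rw [op_comp, op_comp] at this
    exact this
  have hl : IsLimit (Fork.ofι q.op w') :=
    Cofork.isColimitOfπEquivIsLimitOp q q w w' rfl hq
  refine preservesLimit_of_preserves_limit_cone hl ?_
  refine coyonedaJointlyReflectsLimits _ _ (fun W => ?_)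
  let G : Sheaf (Sheaf.canonicalTopology (Sheaf J (Type u))) (Type w) :=
    ⟨F ⋙ coyoneda.obj W, (isSheaf_iff_isSheaf_of_type _ _).2 (hF W.unop)⟩
  refine ((Types.isLimit_iff _).2 ?_).some
  intro s hs
  have hs1 : G.obj.map a' (s WalkingParallelPair.zero) = s WalkingParallelPair.one :=
    hs WalkingParallelPairHom.left
  have hs2 : G.obj.map b' (s WalkingParallelPair.zero) = s WalkingParallelPair.one :=
    hs WalkingParallelPairHom.right
  obtain ⟨x, hx, hxu⟩ := existsUnique_section_coeq (SheafToposGiraud.hb J) (SheafToposGiraud.hc J)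
    (SheafToposGiraud.gen J) (SheafToposGiraud.gen_detecting J) G w hq
    (s WalkingParallelPair.zero) (hs1.trans hs2.symm)
  refine ⟨x, ?_, ?_⟩
  · rintro (_ | _)
    · exact hx
    · show G.obj.map (q.op ≫ a') x = _
      rw [Functor.map_comp_apply]
      exact (congrArg _ hx).trans hs1
  · intro x' hx'
    exact hxu x' (hx' WalkingParallelPair.zero)


theorem preservesLimitsOfSize_of_isSheaf : PreservesLimitsOfSize.{u, u} F := by
  haveI : PreservesLimitsOfShape WalkingParallelPair F := ⟨fun {K} => by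
    haveI := preservesLimit_parallelPair J F hF (K.map WalkingParallelPairHom.left)
      (K.map WalkingParallelPairHom.right)
    exact preservesLimit_of_iso_diagram F (diagramIsoParallelPair K).symm⟩
  haveI : ∀ ι : Type u, PreservesLimitsOfShape (Discrete ι) F := fun ι => by
    haveI : ∀ f : ι → (Sheaf J (Type u))ᵒᵖ, PreservesLimit (Discrete.functor f) F :=
      fun f => preservesLimit_discrete J F hF f
    exact preservesLimitsOfShape_of_discrete F
  exact preservesLimits_of_preservesEqualizers_and_products F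

end SheafTopos

section Converse

variable {C : Type u} [SmallCategory C] (J : GrothendieckTopology C)
  (G : (Sheaf J (Type u))ᵒᵖ ⥤ Type w) [PreservesLimitsOfSize.{u, u} G]

/-- A limit preserving functor turns coproducts into products. -/
lemma existsUnique_of_preserves_coprod {ι : Type u} (X : ι → Sheaf J (Type u))
    (s : ∀ k, G.obj (op (X k))) :
    ∃! t : G.obj (op (∐ X)), ∀ k, G.map (Sigma.ι X k).op t = s k := by
  let c : Cofan X := Cofan.mk (∐ X) (Sigma.ι X)
  have hc : IsColimit c := coproductIsCoproduct X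
  have hl := isLimitOfPreserves G (Cofan.IsColimit.op hc)
  obtain ⟨t, ht, htu⟩ := (Types.isLimit_iff _).1 ⟨hl⟩ (fun j => s j.as) (by
    rintro ⟨j⟩ ⟨j'⟩ ⟨⟨h⟩⟩
    cases h
    show (G.map (𝟙 _)) (s j) = s j
    rw [CategoryTheory.Functor.map_id]
    rfl)
  refine ⟨t, fun k => ht ⟨k⟩, fun t' ht' => htu t' ?_⟩
  rintro ⟨k⟩
  exact ht' k

/-- A limit preserving functor turns coequalizers into equalizers. -/
lemma existsUnique_of_preserves_coeq {A B Q : Sheaf J (Type u)} {a b : A ⟶ B} {q : B ⟶ Q}
    (w : a ≫ q = b ≫ q) (hq : IsColimit (Cofork.ofπ q w)) (t : G.obj (op B))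
    (ht : G.map a.op t = G.map b.op t) :
    ∃! s : G.obj (op Q), G.map q.op s = t := by
  have w' : q.op ≫ a.op = q.op ≫ b.op := by
    rw [← op_comp, ← op_comp, w]
  have hl : IsLimit (Fork.ofι q.op w') :=
    Cofork.isColimitOfπEquivIsLimitOp q q w w' rfl hq
  haveI : PreservesFiniteLimits G := PreservesLimitsOfSize.preservesFiniteLimits.{u, u} G
  have hl' := isLimitOfPreserves G hl
  obtain ⟨x, hx, hxu⟩ := (Types.isLimit_iff _).1 ⟨hl'⟩
    (fun j => match j with
      | .zero => t
      | .one => G.map a.op t) (by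
    rintro j j' (_ | _ | _)
    · rfl
    · exact ht.symm
    · show (G.map ((parallelPair a.op b.op).map (𝟙 j))) _ = _
      rw [CategoryTheory.Functor.map_id, CategoryTheory.Functor.map_id]
      rfl)
  refine ⟨x, hx WalkingParallelPair.zero, fun x' hx' => hxu x' ?_⟩
  rintro (_ | _)
  · exact hx'
  · show G.map (q.op ≫ a.op) x' = G.map a.op t
    rw [Functor.map_comp_apply]
    exact congrArg _ hx'

/-- Sections of a limit preserving functor are determined on a small covering family. -/
lemma ext_of_preserves_of_cover {M : Type u} {R : Sheaf J (Type u)} {Rm : M → Sheaf J (Type u)}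
    (r : ∀ m, Rm m ⟶ R)
    (hr : Sieve.ofArrows Rm r ∈ Sheaf.canonicalTopology (Sheaf J (Type u)) R)
    (a b : G.obj (op R)) (h : ∀ m, G.map (r m).op a = G.map (r m).op b) : a = b := by
  let p : ∐ Rm ⟶ R := Sigma.desc r
  have hp : ∀ m, Sigma.ι Rm m ≫ p = r m := fun m => Sigma.ι_desc _ _
  haveI : Epi p := ⟨fun x y hxy => CanonicalCover.isEpiFamily_of_mem r hr _ x y (fun m => by
    rw [← hp m, Category.assoc, Category.assoc, hxy])⟩
  haveI : EffectiveEpi p := SheafGrpQuot.effectiveEpi_of_epi.{u} J p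
  have hq := isColimitCoforkOfEffectiveEpi p (pullback.cone p p) (pullback.isLimit p p)
  have e : G.map p.op a = G.map p.op b := by
    obtain ⟨t, -, htu⟩ := existsUnique_of_preserves_coprod J G Rm (fun m => G.map (r m).op a)
    rw [htu (G.map p.op a) (fun m => by rw [← Giraud.map_op_comp_apply, hp m]),
      htu (G.map p.op b) (fun m => by rw [← Giraud.map_op_comp_apply, hp m, h m])]
  obtain ⟨s, -, hsu⟩ := existsUnique_of_preserves_coeq J G _ hq (G.map p.op a) (by
    have hcond : pullback.fst p p ≫ p = pullback.snd p p ≫ p := pullback.condition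
    show G.map (pullback.fst p p).op _ = G.map (pullback.snd p p).op _
    rw [← Giraud.map_op_comp_apply, ← Giraud.map_op_comp_apply, hcond])
  rw [hsu a rfl, hsu b e.symm]

theorem isSheaf_of_preservesLimits :
    Presieve.IsSheaf (Sheaf.canonicalTopology (Sheaf J (Type u))) G := by
  intro X S hS x hx
  let ι := Σ c : C, {x : (SheafToposGiraud.gen J).obj c ⟶ X // S x}
  let Z : ι → Sheaf J (Type u) := fun k => (SheafToposGiraud.gen J).obj k.1
  let t : ∀ k : ι, Z k ⟶ X := fun k => k.2.1
  have ht : ∀ k : ι, S (t k) := fun k => k.2.2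
  have hcov : Sieve.ofArrows Z t ∈ Sheaf.canonicalTopology (Sheaf J (Type u)) X :=
    CanonicalCover.ofArrows_gen_mem (SheafToposGiraud.hb J) (SheafToposGiraud.hc J)
      (SheafToposGiraud.gen J) (SheafToposGiraud.gen_detecting J) S hS
  have hsc := (Presieve.compatible_iff_sieveCompatible x).1 hx
  have xcongr : ∀ {V : Sheaf J (Type u)} (g g' : V ⟶ X) (h : S g) (h' : S g'), g = g' →
      x g h = x g' h' := by
    intro V g g' h h' e
    subst e
    rfl
  let p : ∐ Z ⟶ X := Sigma.desc t
  have hp : ∀ k, Sigma.ι Z k ≫ p = t k := fun k => Sigma.ι_desc _ _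
  haveI : Epi p := ⟨fun a b hab => CanonicalCover.isEpiFamily_of_mem t hcov _ a b (fun k => by
    rw [← hp k, Category.assoc, Category.assoc, hab])⟩
  haveI : EffectiveEpi p := SheafGrpQuot.effectiveEpi_of_epi.{u} J p
  have hq := isColimitCoforkOfEffectiveEpi p (pullback.cone p p) (pullback.isLimit p p)
  obtain ⟨s, hs, hsu⟩ := existsUnique_of_preserves_coprod J G Z (fun k => x (t k) (ht k))
  have hcond : pullback.fst p p ≫ p = pullback.snd p p ≫ p := pullback.condition
  -- the section `s` is compatible on the kernel pair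
  have hker : G.map (pullback.fst p p).op s = G.map (pullback.snd p p).op s := by
    have hι : Sieve.ofArrows Z (Sigma.ι Z) ∈
        Sheaf.canonicalTopology (Sheaf J (Type u)) (∐ Z) :=
      Giraud.ofArrows_mem (SheafToposGiraud.hb J) (Cofan.mk (∐ Z) (Sigma.ι Z))
        (coproductIsCoproduct Z)
    let S' : Sieve (pullback p p) :=
      (Sieve.ofArrows Z (Sigma.ι Z)).pullback (pullback.fst p p) ⊓
        (Sieve.ofArrows Z (Sigma.ι Z)).pullback (pullback.snd p p)
    have hS' : S' ∈ Sheaf.canonicalTopology (Sheaf J (Type u)) (pullback p p) :=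
      GrothendieckTopology.intersection_covering _
        (GrothendieckTopology.pullback_stable _ _ hι)
        (GrothendieckTopology.pullback_stable _ _ hι)
    have hcov' := CanonicalCover.ofArrows_gen_mem (SheafToposGiraud.hb J) (SheafToposGiraud.hc J)
      (SheafToposGiraud.gen J) (SheafToposGiraud.gen_detecting J) S' hS'
    refine ext_of_preserves_of_cover J G _ hcov' _ _ ?_
    rintro ⟨c, r, ⟨Y₁, u, _, ⟨k⟩, hu⟩, ⟨Y₂, v, _, ⟨l⟩, hv⟩⟩
    show G.map r.op (G.map (pullback.fst p p).op s) = G.map r.op (G.map (pullback.snd p p).op s)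
    rw [← Giraud.map_op_comp_apply, ← Giraud.map_op_comp_apply, ← hu, ← hv,
      Giraud.map_op_comp_apply, Giraud.map_op_comp_apply, hs k, hs l]
    have e1 := hsc (t k) u (ht k)
    have e2 := hsc (t l) v (ht l)
    rw [← e1, ← e2]
    apply xcongr
    rw [← hp k, ← hp l, ← Category.assoc, ← Category.assoc, hu, hv, Category.assoc,
      Category.assoc, hcond]
  obtain ⟨y, hy, hyu⟩ := existsUnique_of_preserves_coeq J G _ hq s hker
  refine ⟨y, ?_, ?_⟩
  · intro V g hg
    have hcovV := CanonicalCover.ofArrows_gen_mem (SheafToposGiraud.hb J)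
      (SheafToposGiraud.hc J) (SheafToposGiraud.gen J) (SheafToposGiraud.gen_detecting J)
      (⊤ : Sieve V) (GrothendieckTopology.top_mem _ V)
    refine ext_of_preserves_of_cover J G _ hcovV _ _ ?_
    rintro ⟨c, z, hz⟩
    show G.map z.op (G.map g.op y) = G.map z.op (x g hg)
    let k₀ : ι := ⟨c, ⟨z ≫ g, S.downward_closed hg z⟩⟩
    have e1 : z ≫ g = Sigma.ι Z k₀ ≫ p := (hp k₀).symm
    rw [← Giraud.map_op_comp_apply, e1, Giraud.map_op_comp_apply, hy, hs k₀]
    exact hsc g z hg
  · intro y' hy'
    refine hyu y' ?_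
    refine hsu _ (fun k => ?_)
    rw [← Giraud.map_op_comp_apply, hp k]
    exact hy' (t k) (ht k)

end Converse

theorem isSheaf_iff_preservesLimitsOfSize {C : Type u} [SmallCategory C]
    (J : GrothendieckTopology C) {E' : Type v'} [Category.{w} E']
    (F : (Sheaf J (Type u))ᵒᵖ ⥤ E') :
    Presheaf.IsSheaf (Sheaf.canonicalTopology (Sheaf J (Type u))) F ↔
      PreservesLimitsOfSize.{u, u} F := by
  constructor
  · intro hF
    exact preservesLimitsOfSize_of_isSheaf J F hF
  · intro h W
    exact isSheaf_of_preservesLimits J (F ⋙ coyoneda.obj (op W))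

end Groth.Agent.Lib.Helper5.CanonicalLimits
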