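import Mathlib
import Groth.Agent.Lib.Helper13.CechBasic

/-!
# Contraction of the Čech complex of a presheaf of the form `T.op ⋙ G` with thin target (helper5)

`D` has finite products, `T : D ⥤ D'` with `D'` thin (e.g. a poset), `G` a presheaf of abelian
groups on `D'`, `U : ι → D` a family and `j : ι` an index such that for every tuple `σ` there is a
morphism `T (U_σ) ⟶ T (U_{jσ})` in `D'` (for instance `D = D' =` opens of a space, `T = V ∩ -`
with `V ⊆ U_j`).  Then the Čech complex of `T.op ⋙ G` with respect to `U` is exact in positive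
degrees (`exact_succ`) and its `0`-cocycles are determined by their `j`-component (`exact_zero`).
-/

set_option autoImplicit false
universe w w' u' u''
open CategoryTheory CategoryTheory.Limits Opposite

namespace Groth.Agent.Lib.Helper5.CechContr

open Groth.Agent.Lib.Helper13.CechBasic

section FinLemmas

variable {ι : Type*} (j : ι)

lemma cons_succAbove_zero {n : ℕ} (σ : Fin (n + 1) → ι) :
    (Fin.cons j σ : Fin (n + 2) → ι) ∘ (0 : Fin (n + 2)).succAbove = σ := by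
  funext a
  simp

lemma cons_succAbove_succ {n : ℕ} (σ : Fin (n + 2) → ι) (k : Fin (n + 2)) :
    (Fin.cons j σ : Fin (n + 3) → ι) ∘ k.succ.succAbove = Fin.cons j (σ ∘ k.succAbove) := by
  funext a
  refine Fin.cases ?_ (fun a' => ?_) a
  · simp
  · simp

lemma cons_succAbove_one (σ : Fin 1 → ι) :
    (Fin.cons j σ : Fin 2 → ι) ∘ (1 : Fin 2).succAbove = fun _ => j := by
  funext a
  fin_cases a
  simp

end FinLemmas

variable {D : Type u'} [Category.{w} D] [HasFiniteProducts D]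
  {D' : Type u''} [Category.{w'} D'] [Quiver.IsThin D']
  (T : D ⥤ D') (G : D'ᵒᵖ ⥤ AddCommGrpCat.{w}) {ι : Type w} (U : ι → D)

lemma map_map_apply' {A B C : D'} (f : A ⟶ B) (g : B ⟶ C) (x : G.obj (op C)) :
    (G.map f.op).hom ((G.map g.op).hom x) = (G.map (f ≫ g).op).hom x := by
  rw [op_comp, G.map_comp]
  rfl

lemma key' {n : ℕ} {τ τ' : Fin (n + 1) → ι} (h : τ = τ') {W W₁ : D'}
    (f : W₁ ⟶ T.obj (∏ᶜ (U ∘ τ))) (f' : W ⟶ W₁) (g : W ⟶ T.obj (∏ᶜ (U ∘ τ')))
    (c : (cx U (T.op ⋙ G)).X n) :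
    (G.map f'.op).hom ((G.map f.op).hom ((proj U (T.op ⋙ G) n τ).hom c)) =
      (G.map g.op).hom ((proj U (T.op ⋙ G) n τ').hom c) := by
  subst h
  rw [map_map_apply', Subsingleton.elim (f' ≫ f) g]

variable (j : ι)
  (mm : ∀ (n : ℕ) (σ : Fin (n + 1) → ι),
    T.obj (∏ᶜ (U ∘ σ)) ⟶ T.obj (∏ᶜ (U ∘ (Fin.cons j σ : Fin (n + 2) → ι))))

include mm in
/-- exactness in positive degrees -/
theorem exact_succ (m : ℕ) (c : (cx U (T.op ⋙ G)).X (m + 1))
    (hc : ((cx U (T.op ⋙ G)).d (m + 1) (m + 2)).hom c = 0) :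
    ∃ b : (cx U (T.op ⋙ G)).X m, ((cx U (T.op ⋙ G)).d m (m + 1)).hom b = c := by
  refine ⟨mk U (T.op ⋙ G) (fun σ => (G.map (mm m σ).op).hom
    ((proj U (T.op ⋙ G) (m + 1) (Fin.cons j σ)).hom c)), ?_⟩
  apply ext_elem
  intro τ
  rw [d_apply]
  simp only [proj_mk]
  -- the components of `d c` at the index `j :: τ`, restricted along `mm`
  let B : Fin (m + 3) → G.obj (op (T.obj (∏ᶜ (U ∘ τ)))) := fun k' =>
    (G.map (mm (m + 1) τ).op).hom ((G.map (T.map (face U (Fin.cons j τ) k')).op).hom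
      ((proj U (T.op ⋙ G) (m + 1) ((Fin.cons j τ : Fin (m + 3) → ι) ∘ k'.succAbove)).hom c))
  have h1 : ∑ k' : Fin (m + 3), (-1 : ℤ) ^ (k' : ℕ) • B k' = 0 := by
    have h0 := congrArg (fun x => (G.map (mm (m + 1) τ).op).hom
      ((proj U (T.op ⋙ G) (m + 2) (Fin.cons j τ)).hom x)) hc
    simp only [map_zero] at h0
    rw [d_apply, map_sum] at h0
    refine Eq.trans (Finset.sum_congr rfl (fun k' _ => ?_)) h0
    rw [map_zsmul]
    rfl
  have hB0 : B 0 = (proj U (T.op ⋙ G) (m + 1) τ).hom c := by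
    have := key' T G U (cons_succAbove_zero j τ) (T.map (face U (Fin.cons j τ) 0))
      (mm (m + 1) τ) (𝟙 _) c
    refine this.trans ?_
    rw [op_id, G.map_id]
    rfl
  have hBs : ∀ k : Fin (m + 2), B k.succ =
      ((T.op ⋙ G).map (face U τ k).op).hom ((G.map (mm m (τ ∘ k.succAbove)).op).hom
        ((proj U (T.op ⋙ G) (m + 1) (Fin.cons j (τ ∘ k.succAbove))).hom c)) := by
    intro k
    have e1 := key' T G U (cons_succAbove_succ j τ k) (T.map (face U (Fin.cons j τ) k.succ))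
      (mm (m + 1) τ) (T.map (face U τ k) ≫ mm m (τ ∘ k.succAbove)) c
    have e2 := key' T G U (rfl : (Fin.cons j (τ ∘ k.succAbove) : Fin (m + 2) → ι) = _)
      (mm m (τ ∘ k.succAbove)) (T.map (face U τ k))
      (T.map (face U τ k) ≫ mm m (τ ∘ k.succAbove)) c
    exact e1.trans e2.symm
  rw [Fin.sum_univ_succ] at h1
  have h2 : ∑ k : Fin (m + 2), (-1 : ℤ) ^ ((k.succ : Fin (m + 3)) : ℕ) • B k.succ =
      - ∑ k : Fin (m + 2), (-1 : ℤ) ^ (k : ℕ) •
        ((T.op ⋙ G).map (face U τ k).op).hom ((G.map (mm m (τ ∘ k.succAbove)).op).hom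
          ((proj U (T.op ⋙ G) (m + 1) (Fin.cons j (τ ∘ k.succAbove))).hom c)) := by
    rw [← Finset.sum_neg_distrib]
    refine Finset.sum_congr rfl (fun k _ => ?_)
    rw [hBs, Fin.val_succ, pow_succ, mul_neg, mul_one, neg_smul]
  rw [h2, Fin.val_zero, pow_zero, one_smul, hB0, ← sub_eq_add_neg, sub_eq_zero] at h1
  exact h1.symm

include mm in
/-- a `0`-cocycle is determined by its `j`-component -/
theorem exact_zero (c : (cx U (T.op ⋙ G)).X 0)
    (hc : ((cx U (T.op ⋙ G)).d 0 1).hom c = 0) (σ : Fin 1 → ι)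
    (g : T.obj (∏ᶜ (U ∘ σ)) ⟶ T.obj (∏ᶜ (U ∘ fun _ : Fin 1 => j))) :
    (proj U (T.op ⋙ G) 0 σ).hom c =
      (G.map g.op).hom ((proj U (T.op ⋙ G) 0 (fun _ => j)).hom c) := by
  let B : Fin 2 → G.obj (op (T.obj (∏ᶜ (U ∘ σ)))) := fun k' =>
    (G.map (mm 0 σ).op).hom ((G.map (T.map (face U (Fin.cons j σ) k')).op).hom
      ((proj U (T.op ⋙ G) 0 ((Fin.cons j σ : Fin 2 → ι) ∘ k'.succAbove)).hom c))
  have h1 : ∑ k' : Fin 2, (-1 : ℤ) ^ (k' : ℕ) • B k' = 0 := by
    have h0 := congrArg (fun x => (G.map (mm 0 σ).op).hom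
      ((proj U (T.op ⋙ G) 1 (Fin.cons j σ)).hom x)) hc
    simp only [map_zero] at h0
    rw [d_apply, map_sum] at h0
    refine Eq.trans (Finset.sum_congr rfl (fun k' _ => ?_)) h0
    rw [map_zsmul]
    rfl
  have hB0 : B 0 = (proj U (T.op ⋙ G) 0 σ).hom c := by
    have := key' T G U (cons_succAbove_zero j σ) (T.map (face U (Fin.cons j σ) 0))
      (mm 0 σ) (𝟙 _) c
    refine this.trans ?_
    rw [op_id, G.map_id]
    rfl
  have hB1 : B 1 = (G.map g.op).hom ((proj U (T.op ⋙ G) 0 (fun _ => j)).hom c) :=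
    key' T G U (cons_succAbove_one j σ) (T.map (face U (Fin.cons j σ) 1)) (mm 0 σ) g c
  rw [Fin.sum_univ_two, Fin.val_zero, pow_zero, one_smul, Fin.val_one, pow_one, neg_smul, one_smul,
    hB0, hB1, ← sub_eq_add_neg, sub_eq_zero] at h1
  exact h1

end Groth.Agent.Lib.Helper5.CechContr
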