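import Mathlib
import Groth.Prelude.Def_FreeSh
import Groth.Prelude.Def_CohTop
import Groth.Agent.Lib.Helper13.CechBasic
import Groth.Agent.Lib.Helper2.DCoprod

/-!
# The Čech resolution of `ℤ_X` by free abelian sheaves (helper5)
-/

set_option autoImplicit false
universe u

namespace Groth.Agent.Lib.Helper5.CechFreeRes

open CategoryTheory CategoryTheory.Limits Opposite TopologicalSpace
open Groth.Agent.Lib.Helper13.CechBasic Groth.Agent.Lib.Helper13

section Std

variable {S : Type u}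

lemma bd_cone_zero (s₀ : S) (x : FreeAbelianGroup (Fin 1 → S)) :
    bd S 0 (cone s₀ 0 x) = x - FreeAbelianGroup.map (fun _ : Fin 1 → S => (fun _ => s₀ : Fin 1 → S)) x := by
  have : (bd S 0).comp (cone s₀ 0) = AddMonoidHom.id _ -
      FreeAbelianGroup.map (fun _ : Fin 1 → S => (fun _ => s₀ : Fin 1 → S)) := by
    apply FreeAbelianGroup.lift_ext
    intro f
    simp only [AddMonoidHom.comp_apply, AddMonoidHom.sub_apply, AddMonoidHom.id_apply, cone,
      FreeAbelianGroup.map_of_apply, bd_of]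
    rw [Fin.sum_univ_two]
    have h0 : (Fin.cons s₀ f : Fin 2 → S) ∘ (0 : Fin 2).succAbove = f := by
      funext j
      simp
    have h1 : (Fin.cons s₀ f : Fin 2 → S) ∘ (1 : Fin 2).succAbove = (fun _ => s₀) := by
      funext j
      fin_cases j
      simp
    rw [h0, h1]
    simp
    abel
  exact DFunLike.congr_fun this x

end Std

variable {X : TopCat.{u}} {ι : Type u} (U : ι → Opens X)

/-- the augmentation `Kp U 0 ⟶ ℤ[h_⊤]` -/
noncomputable def Kaug : Kp U 0 ⟶ CohFree.freePre (⊤ : Opens X) where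
  app V := AddCommGrpCat.ofHom (FreeAbelianGroup.map
    (fun _ : Simp U 0 V.unop => (homOfLE le_top : V.unop ⟶ (⊤ : Opens X))))
  naturality V V' a := by
    apply AddCommGrpCat.hom_ext
    apply FreeAbelianGroup.lift_ext
    intro (x : Simp U 0 V.unop)
    change FreeAbelianGroup.map (fun _ : Simp U 0 V'.unop => (homOfLE le_top : V'.unop ⟶ (⊤ : Opens X)))
        (FreeAbelianGroup.map (Simp.pre a.unop) (FreeAbelianGroup.of x)) =
      FreeAbelianGroup.map (fun f : (V.unop ⟶ (⊤ : Opens X)) => a.unop ≫ f)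
        (FreeAbelianGroup.map (fun _ : Simp U 0 V.unop => (homOfLE le_top : V.unop ⟶ (⊤ : Opens X)))
          (FreeAbelianGroup.of x))
    simp only [FreeAbelianGroup.map_of_apply]
    exact congrArg FreeAbelianGroup.of (Subsingleton.elim _ _)

lemma Kaug_app_of (V : Opens X) (x : Simp U 0 V) :
    ((Kaug U).app (op V)).hom (FreeAbelianGroup.of x) =
      FreeAbelianGroup.of (homOfLE le_top : V ⟶ (⊤ : Opens X)) :=
  FreeAbelianGroup.map_of_apply _

lemma Kd_Kaug : Kd U 0 ≫ Kaug U = 0 := by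
  apply NatTrans.ext
  funext V
  apply AddCommGrpCat.hom_ext
  apply FreeAbelianGroup.lift_ext
  intro (x : Simp U 1 V.unop)
  change ((Kaug U).app V).hom (((Kd U 0).app V).hom (FreeAbelianGroup.of x)) = 0
  have h1 : ((Kd U 0).app V).hom (FreeAbelianGroup.of x) =
      bd (Σ j : ι, (V.unop ⟶ U j)) 0 (FreeAbelianGroup.of x) :=
    DFunLike.congr_fun (Kd_app_hom U 0 V) (FreeAbelianGroup.of x)
  refine (congrArg (((Kaug U).app V).hom) h1).trans ?_
  show FreeAbelianGroup.map (fun _ : Simp U 0 V.unop => (homOfLE le_top : V.unop ⟶ (⊤ : Opens X)))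
    (bd (Σ j : ι, (V.unop ⟶ U j)) 0 (FreeAbelianGroup.of x)) = 0
  rw [bd_of, map_sum, Fin.sum_univ_two]
  simp only [map_zsmul, FreeAbelianGroup.map_of_apply]
  simp

lemma Kaug_exact : (ShortComplex.mk (Kd U 0) (Kaug U) (Kd_Kaug U)).Exact := by
  apply ExtPresheaf.exact_of_evaluation
  intro V
  rw [ShortComplex.ab_exact_iff]
  intro (x : FreeAbelianGroup (Simp U 0 V.unop)) hx
  have hx' : FreeAbelianGroup.map
      (fun _ : Simp U 0 V.unop => (homOfLE le_top : V.unop ⟶ (⊤ : Opens X))) x = 0 := hx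
  by_cases h : Nonempty (Σ j : ι, (V.unop ⟶ U j))
  · obtain ⟨s₀⟩ := h
    refine ⟨cone s₀ 0 x, ?_⟩
    have h1 : ((Kd U 0).app V).hom (cone s₀ 0 x) =
        bd (Σ j : ι, (V.unop ⟶ U j)) 0 (cone s₀ 0 x) :=
      DFunLike.congr_fun (Kd_app_hom U 0 V) _
    refine h1.trans ?_
    rw [bd_cone_zero]
    have h2 : FreeAbelianGroup.map
        (fun _ : Fin 1 → (Σ j : ι, (V.unop ⟶ U j)) => (fun _ => s₀ : Fin 1 → (Σ j : ι, (V.unop ⟶ U j)))) x =
        FreeAbelianGroup.map
          (fun _ : (V.unop ⟶ (⊤ : Opens X)) => (fun _ => s₀ : Fin 1 → (Σ j : ι, (V.unop ⟶ U j))))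
          (FreeAbelianGroup.map
            (fun _ : Simp U 0 V.unop => (homOfLE le_top : V.unop ⟶ (⊤ : Opens X))) x) := by
      rw [← FreeAbelianGroup.map_comp_apply]
      rfl
    rw [h2, hx', map_zero, sub_zero]
  · rw [not_nonempty_iff] at h
    haveI : IsEmpty (Simp U 0 V.unop) := ⟨fun f => h.elim (f 0)⟩
    refine ⟨0, ?_⟩
    rw [map_zero]
    exact (eq_zero_of_isEmpty x).symm

lemma Kaug_locallySurjective (hcov : iSup U = ⊤) :
    Presheaf.IsLocallySurjective (Opens.grothendieckTopology X) (Kaug U) where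
  imageSieve_mem {V} s := by
    rw [Opens.mem_grothendieckTopology]
    intro x hx
    have hx' : x ∈ iSup U := by
      rw [hcov]
      trivial
    obtain ⟨j, hj⟩ := Opens.mem_iSup.1 hx'
    refine ⟨V ⊓ U j, homOfLE inf_le_left, ?_, ⟨hx, hj⟩⟩
    let y : FreeAbelianGroup (V ⊓ U j ⟶ (⊤ : Opens X)) :=
      ((CohFree.freePre (⊤ : Opens X)).map (homOfLE inf_le_left : V ⊓ U j ⟶ V).op).hom s
    refine ⟨FreeAbelianGroup.map (fun _ : (V ⊓ U j ⟶ (⊤ : Opens X)) =>
      ((fun _ => ⟨j, homOfLE inf_le_right⟩) : Simp U 0 (V ⊓ U j))) y, ?_⟩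
    show FreeAbelianGroup.map
      (fun _ : Simp U 0 (V ⊓ U j) => (homOfLE le_top : V ⊓ U j ⟶ (⊤ : Opens X)))
      (FreeAbelianGroup.map (fun _ : (V ⊓ U j ⟶ (⊤ : Opens X)) =>
      ((fun _ => ⟨j, homOfLE inf_le_right⟩) : Simp U 0 (V ⊓ U j))) y) = y
    rw [← FreeAbelianGroup.map_comp_apply]
    have : ((fun _ : Simp U 0 (V ⊓ U j) => (homOfLE le_top : V ⊓ U j ⟶ (⊤ : Opens X))) ∘
        (fun _ : (V ⊓ U j ⟶ (⊤ : Opens X)) =>
          ((fun _ => ⟨j, homOfLE inf_le_right⟩) : Simp U 0 (V ⊓ U j)))) = id := by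
      funext f
      exact Subsingleton.elim _ _
    rw [this, FreeAbelianGroup.map_id_apply]

/-- sheafification -/
noncomputable abbrev sh (X : TopCat.{u}) :
    ((Opens X)ᵒᵖ ⥤ AddCommGrpCat.{u}) ⥤ CohTop.Ab X :=
  presheafToSheaf (Opens.grothendieckTopology X) AddCommGrpCat.{u}

/-- the terms of the resolution -/
noncomputable def A (k : ℕ) : CohTop.Ab X := (sh X).obj (Kp U k)

/-- the differentials of the resolution -/
noncomputable def dA (k : ℕ) : A U (k + 1) ⟶ A U k := (sh X).map (Kd U k)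

lemma dA_comp (k : ℕ) : dA U (k + 1) ≫ dA U k = 0 :=
  ((sh X).map_comp (Kd U (k + 1)) (Kd U k)).symm.trans
    ((congrArg (sh X).map (Kd_comp U k)).trans ((sh X).map_zero _ _))

/-- the chain complex -/
noncomputable def P₀ : ChainComplex (CohTop.Ab X) ℕ := ChainComplex.of (A U) (dA U) (dA_comp U)

/-- the augmentation in degree zero -/
noncomputable def aug : A U 0 ⟶ CohCx.freeSheaf (Opens.grothendieckTopology X) (⊤ : Opens X) :=
  (sh X).map (Kaug U)

lemma dA_aug : dA U 0 ≫ aug U = 0 :=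
  ((sh X).map_comp (Kd U 0) (Kaug U)).symm.trans
    ((congrArg (sh X).map (Kd_Kaug U)).trans ((sh X).map_zero _ _))

lemma P₀_d (k : ℕ) : (P₀ U).d (k + 1) k = dA U k := ChainComplex.of_d _ _ k

/-- the augmentation -/
noncomputable def π₀ : P₀ U ⟶ (ChainComplex.single₀ _).obj
    (CohCx.freeSheaf (Opens.grothendieckTopology X) (⊤ : Opens X)) :=
  ((P₀ U).toSingle₀Equiv _).symm ⟨aug U, by
    rw [P₀_d]
    exact dA_aug U⟩

lemma exact_succ (k : ℕ) : (ShortComplex.mk (dA U (k + 1)) (dA U k) (dA_comp U k)).Exact :=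
  (Kexact U k).map (sh X)

lemma exact_zero : (ShortComplex.mk (dA U 0) (aug U) (dA_aug U)).Exact :=
  (Kaug_exact U).map (sh X)

lemma epi_aug (hcov : iSup U = ⊤) : Epi (aug U) := by
  haveI := Kaug_locallySurjective U hcov
  haveI : Sheaf.IsLocallySurjective (aug U) :=
    (Presheaf.isLocallySurjective_presheafToSheaf_map_iff _ _).2 inferInstance
  infer_instance

set_option backward.defeqAttrib.useBackward true in
set_option backward.isDefEq.respectTransparency false in
lemma quasiIso_π₀ (hcov : iSup U = ⊤) : QuasiIso (π₀ U) where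
  quasiIsoAt m := by
    cases m with
    | zero =>
      rw [ChainComplex.quasiIsoAt₀_iff, ShortComplex.quasiIso_iff_of_zeros' _ rfl rfl rfl]
      have h0 : (π₀ U).f 0 = aug U := by
        simp [π₀]
      refine ⟨ShortComplex.exact_of_iso ?_ (exact_zero U), ?_⟩
      · exact ShortComplex.isoMk (Iso.refl _) (Iso.refl _) (Iso.refl _)
          (by simp [P₀_d]) (by simp [h0])
      · show Epi ((π₀ U).f 0)
        rw [h0]
        exact epi_aug U hcov
    | succ m =>
      rw [quasiIsoAt_iff_exactAt' (hL := ChainComplex.exactAt_succ_single_obj ..),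
          HomologicalComplex.exactAt_iff' _ (m + 2) (m + 1) m (by simp) (by simp)]
      refine ShortComplex.exact_of_iso ?_ (exact_succ U m)
      exact ShortComplex.isoMk (Iso.refl _) (Iso.refl _) (Iso.refl _)
        (by simp [P₀_d]) (by simp [P₀_d])

/-- the cochain complex -/
noncomputable def P : CochainComplex (CohTop.Ab X) ℤ :=
  (P₀ U).extend ComplexShape.embeddingDownNat

instance : (P U).IsStrictlyLE 0 := by
  dsimp [P]
  infer_instance

/-- the terms of `P` -/
noncomputable def PXIso (m : ℤ) (k : ℕ) (h : -(k : ℤ) = m) : (P U).X m ≅ A U k :=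
  HomologicalComplex.extendXIso (P₀ U) ComplexShape.embeddingDownNat h

lemma P_d (m m' : ℤ) (k : ℕ) (h : -((k + 1 : ℕ) : ℤ) = m) (h' : -(k : ℤ) = m') :
    (P U).d m m' = (PXIso U m (k + 1) h).hom ≫ dA U k ≫ (PXIso U m' k h').inv := by
  rw [← P₀_d]
  exact HomologicalComplex.extend_d_eq _ _ h h'

/-- the augmentation -/
noncomputable def ε : P U ⟶ (CochainComplex.singleFunctor (CohTop.Ab X) 0).obj
    (CohCx.freeSheaf (Opens.grothendieckTopology X) (⊤ : Opens X)) :=
  (ComplexShape.embeddingDownNat.extendFunctor _).map (π₀ U) ≫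
    (HomologicalComplex.extendSingleIso _ _ _ _ (by simp)).hom

set_option backward.defeqAttrib.useBackward true in
set_option backward.isDefEq.respectTransparency false in
lemma quasiIso_ε (hcov : iSup U = ⊤) : QuasiIso (ε U) := by
  haveI := quasiIso_π₀ U hcov
  dsimp [ε]
  infer_instance

set_option backward.defeqAttrib.useBackward true in
set_option backward.isDefEq.respectTransparency false in
lemma ε_f_zero : (ε U).f 0 = (PXIso U 0 0 (by simp)).hom ≫ aug U ≫
    (HomologicalComplex.singleObjXSelf (ComplexShape.up ℤ) 0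
      (CohCx.freeSheaf (Opens.grothendieckTopology X) (⊤ : Opens X))).inv := by
  have h0 : (π₀ U).f 0 = aug U := by
    simp [π₀]
  dsimp [ε]
  rw [HomologicalComplex.extendMap_f _ _ (i := 0) (by simp),
    HomologicalComplex.extendSingleIso_hom_f, h0]
  dsimp [PXIso]
  simp

section Cofan

variable {X : TopCat.{u}} {ι : Type u} (U : ι → Opens X)

/-- the unit of sheafification at `Kp U k` -/
noncomputable def η (k : ℕ) : Kp U k ⟶ (A U k).obj :=
  (CohFree.shAdj (Opens.grothendieckTopology X)).unit.app (Kp U k)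

lemma η_naturality (k : ℕ) : Kd U k ≫ η U k = η U (k + 1) ≫ (dA U k).hom :=
  (CohFree.shAdj (Opens.grothendieckTopology X)).unit.naturality (Kd U k)

lemma homEquiv_eq (k : ℕ) {F : CohTop.Ab X} (ψ : A U k ⟶ F) :
    (CohFree.shAdj (Opens.grothendieckTopology X)).homEquiv (Kp U k) F ψ = η U k ≫ ψ.hom :=
  (CohFree.shAdj (Opens.grothendieckTopology X)).homEquiv_unit _ _ _

/-- the canonical sections -/
noncomputable def γ (k : ℕ) (σ : Fin (k + 1) → ι) : (A U k).obj.obj (op (∏ᶜ (U ∘ σ))) :=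
  Θc U (A U k).obj σ (η U k)

/-- the inclusions of the summands -/
noncomputable def c (k : ℕ) (σ : Fin (k + 1) → ι) :
    CohCx.freeSheaf (Opens.grothendieckTopology X) (∏ᶜ (U ∘ σ)) ⟶ A U k :=
  CohFree.ofSect (Opens.grothendieckTopology X) _ (A U k) (γ U k σ)

lemma evalGen_c (k : ℕ) (σ : Fin (k + 1) → ι) :
    CohFree.evalGen (Opens.grothendieckTopology X) _ (A U k) (c U k σ) = γ U k σ :=
  CohFree.evalGen_ofSect _ _ _ _

lemma evalGen_c_comp (k : ℕ) (σ : Fin (k + 1) → ι) {F : CohTop.Ab X} (ψ : A U k ⟶ F) :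
    CohFree.evalGen (Opens.grothendieckTopology X) _ F (c U k σ ≫ ψ) =
      Θc U F.obj σ (η U k ≫ ψ.hom) := by
  have h1 : CohFree.evalGen (Opens.grothendieckTopology X) _ F (c U k σ ≫ ψ) =
      (ψ.hom.app (op (∏ᶜ (U ∘ σ)))).hom
        (CohFree.evalGen (Opens.grothendieckTopology X) _ (A U k) (c U k σ)) := rfl
  rw [h1, evalGen_c]
  rfl

/-- the terms of the resolution are coproducts of free sheaves -/
noncomputable def isColimitCofan (k : ℕ) : IsColimit (Cofan.mk (A U k) (c U k)) :=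
  Cofan.IsColimit.mk _
    (fun s => ((CohFree.shAdj (Opens.grothendieckTopology X)).homEquiv (Kp U k) s.pt).symm
      (liftK U s.pt.obj (fun σ => CohFree.evalGen (Opens.grothendieckTopology X) _ s.pt (s.inj σ))))
    (fun s σ => by
      apply (CohFree.homEquivSect (Opens.grothendieckTopology X) _ s.pt).injective
      rw [CohFree.homEquivSect_apply, CohFree.homEquivSect_apply]
      show CohFree.evalGen (Opens.grothendieckTopology X) _ s.pt (c U k σ ≫ _) = _
      rw [evalGen_c_comp, ← homEquiv_eq, Equiv.apply_symm_apply, Θc_liftK])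
    (fun s m hm => by
      apply ((CohFree.shAdj (Opens.grothendieckTopology X)).homEquiv (Kp U k) s.pt).injective
      rw [Equiv.apply_symm_apply, homEquiv_eq]
      apply Θc_injective
      intro σ
      rw [Θc_liftK, ← evalGen_c_comp]
      exact congrArg _ (hm σ))

lemma Θc_Kd {Q : (Opens X)ᵒᵖ ⥤ AddCommGrpCat.{u}} (k : ℕ) (φ : Kp U k ⟶ Q)
    (σ : Fin (k + 2) → ι) :
    Θc U Q σ (Kd U k ≫ φ) = ∑ j : Fin (k + 2), (-1 : ℤ) ^ (j : ℕ) •
      (Q.map (face U σ j).op).hom (Θc U Q (σ ∘ j.succAbove) φ) := by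
  rw [← proj_Θ, Θ_Kd, d_apply]
  simp only [proj_Θ]

/-- the key identity: the differential on the summands -/
lemma c_comp_dA (k : ℕ) (σ : Fin (k + 2) → ι) :
    c U (k + 1) σ ≫ dA U k = ∑ j : Fin (k + 2), (-1 : ℤ) ^ (j : ℕ) •
      (CohCx.freeSheafMap (Opens.grothendieckTopology X) (face U σ j) ≫
        c U k (σ ∘ j.succAbove)) := by
  apply (CohFree.homEquivSect (Opens.grothendieckTopology X) _ (A U k)).injective
  rw [CohFree.homEquivSect_apply, CohFree.homEquivSect_apply, evalGen_c_comp, ← η_naturality,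
    Θc_Kd, map_sum]
  refine Finset.sum_congr rfl (fun j _ => ?_)
  rw [map_zsmul, CohFree.evalGen_freeSheafMap_comp, evalGen_c]
  rfl

lemma c_zero_aug (σ : Fin 1 → ι) :
    c U 0 σ ≫ aug U = CohCx.freeSheafMap (Opens.grothendieckTopology X)
      (homOfLE le_top : ∏ᶜ (U ∘ σ) ⟶ (⊤ : Opens X)) := by
  apply (CohFree.homEquivSect (Opens.grothendieckTopology X) _ _).injective
  rw [CohFree.homEquivSect_apply, CohFree.homEquivSect_apply, evalGen_c_comp]
  have h1 : η U 0 ≫ (aug U).hom = Kaug U ≫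
      (CohFree.shAdj (Opens.grothendieckTopology X)).unit.app (CohFree.freePre (⊤ : Opens X)) :=
    ((CohFree.shAdj (Opens.grothendieckTopology X)).unit.naturality (Kaug U)).symm
  rw [h1]
  have h2 : CohFree.evalGen (Opens.grothendieckTopology X) (∏ᶜ (U ∘ σ)) _
      (CohCx.freeSheafMap (Opens.grothendieckTopology X)
        (homOfLE le_top : ∏ᶜ (U ∘ σ) ⟶ (⊤ : Opens X))) =
      ((CohCx.freeSheaf (Opens.grothendieckTopology X) (⊤ : Opens X)).obj.map
        (homOfLE le_top : ∏ᶜ (U ∘ σ) ⟶ (⊤ : Opens X)).op).hom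
        (CohFree.gen (Opens.grothendieckTopology X) (⊤ : Opens X)) := by
    have := CohFree.evalGen_freeSheafMap_comp (Opens.grothendieckTopology X)
      (homOfLE le_top : ∏ᶜ (U ∘ σ) ⟶ (⊤ : Opens X)) _ (𝟙 _)
    rw [Category.comp_id] at this
    exact this
  rw [h2]
  refine Eq.trans ?_ (CohFree.unit_app_of (Opens.grothendieckTopology X) (⊤ : Opens X)
    (T := op (∏ᶜ (U ∘ σ))) (homOfLE le_top : ∏ᶜ (U ∘ σ) ⟶ (⊤ : Opens X)))
  show (((CohFree.shAdj (Opens.grothendieckTopology X)).unit.app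
      (CohFree.freePre (⊤ : Opens X))).app (op (∏ᶜ (U ∘ σ)))).hom
    (((Kaug U).app (op (∏ᶜ (U ∘ σ)))).hom (FreeAbelianGroup.of (can σ))) = _
  rw [Kaug_app_of]

end Cofan

section DCoprod

open DerivedCategory

variable {X : TopCat.{u}} {ι : Type u} (U : ι → Opens X) [HasDerivedCategory.{u} (CohTop.Ab X)]

/-- the summands, as single complexes -/
noncomputable abbrev Ksum (m : ℤ) (k : ℕ) (σ : Fin (k + 1) → ι) : CochainComplex (CohTop.Ab X) ℤ :=
  (HomologicalComplex.single (CohTop.Ab X) (ComplexShape.up ℤ) m).obj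
    (CohCx.freeSheaf (Opens.grothendieckTopology X) (∏ᶜ (U ∘ σ)))

/-- the coproduct of single complexes -/
noncomputable def isColimitSingle (m : ℤ) (k : ℕ) :
    IsColimit (Cofan.mk ((HomologicalComplex.single (CohTop.Ab X) (ComplexShape.up ℤ) m).obj (A U k))
      (fun σ => (HomologicalComplex.single (CohTop.Ab X) (ComplexShape.up ℤ) m).map (c U k σ)) :
        Cofan (Ksum U m k)) :=
  isColimitCofanMkObjOfIsColimit
    (HomologicalComplex.single (CohTop.Ab X) (ComplexShape.up ℤ) m) _ _ (isColimitCofan U k)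

/-- comparison with the chosen coproduct -/
noncomputable def sumIso (m : ℤ) (k : ℕ) :
    ∐ (Ksum U m k) ≅ (HomologicalComplex.single (CohTop.Ab X) (ComplexShape.up ℤ) m).obj (A U k) :=
  (coproductIsCoproduct (Ksum U m k)).coconePointUniqueUpToIso (isColimitSingle U m k)

omit [HasDerivedCategory.{u} (CohTop.Ab X)] in
lemma ι_sumIso_hom (m : ℤ) (k : ℕ) (σ : Fin (k + 1) → ι) :
    Sigma.ι (Ksum U m k) σ ≫ (sumIso U m k).hom =
      (HomologicalComplex.single (CohTop.Ab X) (ComplexShape.up ℤ) m).map (c U k σ) :=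
  IsColimit.comp_coconePointUniqueUpToIso_hom (coproductIsCoproduct (Ksum U m k))
    (isColimitSingle U m k) ⟨σ⟩

lemma Q_single_c_ext (m : ℤ) (k : ℕ) {Y : DerivedCategory (CohTop.Ab X)}
    (w w' : Q.obj ((HomologicalComplex.single (CohTop.Ab X) (ComplexShape.up ℤ) m).obj (A U k)) ⟶ Y)
    (h : ∀ σ, Q.map ((HomologicalComplex.single (CohTop.Ab X) (ComplexShape.up ℤ) m).map (c U k σ)) ≫ w =
      Q.map ((HomologicalComplex.single (CohTop.Ab X) (ComplexShape.up ℤ) m).map (c U k σ)) ≫ w') :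
    w = w' := by
  rw [← cancel_epi (Q.mapIso (sumIso U m k)).hom]
  apply Cofan.IsColimit.hom_ext (Groth.Agent.Lib.Helper2.DCoprod.isColimitCofanQ (Ksum U m k))
  intro σ
  show Q.map (Sigma.ι (Ksum U m k) σ) ≫ Q.map (sumIso U m k).hom ≫ w =
    Q.map (Sigma.ι (Ksum U m k) σ) ≫ Q.map (sumIso U m k).hom ≫ w'
  rw [← Category.assoc, ← Category.assoc, ← Q.map_comp, ι_sumIso_hom]
  exact h σ

lemma exists_Q_single_c_desc (m : ℤ) (k : ℕ) {Y : DerivedCategory (CohTop.Ab X)}
    (v : (σ : Fin (k + 1) → ι) →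
      ((Q.obj (Ksum U m k σ) : DerivedCategory (CohTop.Ab X)) ⟶ Y)) :
    ∃ w : Q.obj ((HomologicalComplex.single (CohTop.Ab X) (ComplexShape.up ℤ) m).obj (A U k)) ⟶ Y,
      ∀ σ, Q.map ((HomologicalComplex.single (CohTop.Ab X) (ComplexShape.up ℤ) m).map (c U k σ)) ≫ w =
        v σ := by
  refine ⟨Q.map (sumIso U m k).inv ≫ Cofan.IsColimit.desc
    (Groth.Agent.Lib.Helper2.DCoprod.isColimitCofanQ (Ksum U m k)) v, fun σ => ?_⟩
  rw [← ι_sumIso_hom, ← Category.assoc, ← Q.map_comp, Category.assoc, Iso.hom_inv_id,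
    Category.comp_id]
  exact Cofan.IsColimit.fac (Groth.Agent.Lib.Helper2.DCoprod.isColimitCofanQ (Ksum U m k)) v σ

end DCoprod

end Groth.Agent.Lib.Helper5.CechFreeRes
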