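import Mathlib

/-!
# Brutal restriction of a cochain complex to a set of degrees (helper5)

For a cochain complex `A` and a decidable predicate `P` on degrees, `restr A P` has terms
`A.X n` for `P n` and `0` otherwise, with the differentials of `A` between the degrees in `P`.
-/

set_option autoImplicit false
universe v u

namespace Groth.Agent.Lib.Helper5.RestrictCx

open CategoryTheory CategoryTheory.Limits ZeroObject

variable {C : Type u} [Category.{v} C] [Preadditive C] [HasZeroObject C]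
  (A : CochainComplex C ℤ)

section Terms

variable (P : ℤ → Prop) [DecidablePred P]

/-- the terms of the restricted complex -/
noncomputable def rX (n : ℤ) : C := if P n then A.X n else 0

lemma rX_pos {n : ℤ} (h : P n) : rX A P n = A.X n := if_pos h

lemma isZero_rX {n : ℤ} (h : ¬ P n) : IsZero (rX A P n) := by
  unfold rX
  rw [if_neg h]
  exact isZero_zero C

lemma isZero_rX_of_isZero {n : ℤ} (h : IsZero (A.X n)) : IsZero (rX A P n) := by
  by_cases hP : P n
  · rw [rX_pos A P hP]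
    exact h
  · exact isZero_rX A P hP

/-- the inclusion of a term -/
noncomputable def rι (n : ℤ) : rX A P n ⟶ A.X n :=
  if h : P n then eqToHom (rX_pos A P h) else 0

/-- the projection to a term -/
noncomputable def rπ (n : ℤ) : A.X n ⟶ rX A P n :=
  if h : P n then eqToHom (rX_pos A P h).symm else 0

@[reassoc (attr := simp)]
lemma rι_rπ (n : ℤ) : rι A P n ≫ rπ A P n = 𝟙 _ := by
  by_cases h : P n
  · simp [rι, rπ, h]
  · exact (isZero_rX A P h).eq_of_src _ _

/-- the idempotent `1` or `0` of `A.X n` -/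
noncomputable def χ (n : ℤ) : A.X n ⟶ A.X n := if P n then 𝟙 _ else 0

@[reassoc]
lemma rπ_rι (n : ℤ) : rπ A P n ≫ rι A P n = χ A P n := by
  by_cases h : P n
  · simp [rι, rπ, χ, h]
  · simp [rι, rπ, χ, h]

lemma χ_pos {n : ℤ} (h : P n) : χ A P n = 𝟙 _ := if_pos h

lemma χ_neg {n : ℤ} (h : ¬ P n) : χ A P n = 0 := if_neg h

lemma rι_eq_zero {n : ℤ} (h : ¬ P n) : rι A P n = 0 := (isZero_rX A P h).eq_of_src _ _

lemma rπ_eq_zero {n : ℤ} (h : ¬ P n) : rπ A P n = 0 := (isZero_rX A P h).eq_of_tgt _ _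

end Terms

section Complex

variable (P : ℤ → Prop) [DecidablePred P]

/-- the restricted complex -/
noncomputable def restr : CochainComplex C ℤ where
  X := rX A P
  d i j := rι A P i ≫ A.d i j ≫ rπ A P j
  shape i j h := by rw [A.shape i j h, zero_comp, comp_zero]
  d_comp_d' i j k _ _ := by
    simp only [Category.assoc]
    rw [rπ_rι_assoc]
    by_cases h : P j
    · rw [χ_pos A P h, Category.id_comp, A.d_comp_d_assoc, zero_comp, comp_zero]
    · rw [χ_neg A P h, zero_comp, comp_zero, comp_zero]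

@[simp] lemma restr_X (n : ℤ) : (restr A P).X n = rX A P n := rfl

@[simp] lemma restr_d (i j : ℤ) : (restr A P).d i j = rι A P i ≫ A.d i j ≫ rπ A P j := rfl

lemma isStrictlyGE_restr (a : ℤ) [A.IsStrictlyGE a] : (restr A P).IsStrictlyGE a := by
  rw [CochainComplex.isStrictlyGE_iff]
  intro n hn
  exact isZero_rX_of_isZero A P (CochainComplex.isZero_of_isStrictlyGE A a n hn)

end Complex

section Maps

variable (P Q R : ℤ → Prop) [DecidablePred P] [DecidablePred Q] [DecidablePred R]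

/-- the canonical map between two restrictions -/
noncomputable def rmap (h : ∀ n, P n → Q (n + 1) → (P (n + 1) ↔ Q n)) :
    restr A P ⟶ restr A Q where
  f n := rι A P n ≫ rπ A Q n
  comm' i j hij := by
    obtain rfl : i + 1 = j := hij
    dsimp
    simp only [Category.assoc]
    rw [rπ_rι_assoc, rπ_rι_assoc]
    by_cases hP : P i
    · by_cases hQ : Q (i + 1)
      · have := h i hP hQ
        by_cases hP' : P (i + 1)
        · rw [χ_pos A P hP', χ_pos A Q (this.1 hP'), Category.id_comp, Category.id_comp]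
        · rw [χ_neg A P hP', χ_neg A Q (fun hq => hP' (this.2 hq))]
          simp
      · rw [rπ_eq_zero A Q hQ]
        simp
    · rw [rι_eq_zero A P hP]
      simp

@[simp] lemma rmap_f (h : ∀ n, P n → Q (n + 1) → (P (n + 1) ↔ Q n)) (n : ℤ) :
    (rmap A P Q h).f n = rι A P n ≫ rπ A Q n := rfl

lemma rmap_self (h : ∀ n, P n → P (n + 1) → (P (n + 1) ↔ P n)) : rmap A P P h = 𝟙 _ := by
  ext n
  simp

lemma rmap_comp (h₁ : ∀ n, P n → Q (n + 1) → (P (n + 1) ↔ Q n))
    (h₂ : ∀ n, Q n → R (n + 1) → (Q (n + 1) ↔ R n))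
    (h₃ : ∀ n, P n → R (n + 1) → (P (n + 1) ↔ R n))
    (h : ∀ n, P n → R n → Q n) :
    rmap A P Q h₁ ≫ rmap A Q R h₂ = rmap A P R h₃ := by
  ext n
  dsimp
  simp only [Category.assoc]
  rw [rπ_rι_assoc]
  by_cases hP : P n
  · by_cases hR : R n
    · rw [χ_pos A Q (h n hP hR), Category.id_comp]
    · rw [rπ_eq_zero A R hR]
      simp
  · rw [rι_eq_zero A P hP]
    simp

end Maps


section SES

variable (P₁ P₂ P₃ : ℤ → Prop) [DecidablePred P₁] [DecidablePred P₂] [DecidablePred P₃]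

lemma rmap_comp_zero (h₁₂ : ∀ n, P₁ n → P₂ (n + 1) → (P₁ (n + 1) ↔ P₂ n))
    (h₂₃ : ∀ n, P₂ n → P₃ (n + 1) → (P₂ (n + 1) ↔ P₃ n))
    (hdisj : ∀ n, ¬ (P₁ n ∧ P₃ n)) : rmap A P₁ P₂ h₁₂ ≫ rmap A P₂ P₃ h₂₃ = 0 := by
  ext n
  show (rι A P₁ n ≫ rπ A P₂ n) ≫ (rι A P₂ n ≫ rπ A P₃ n) = 0
  simp only [Category.assoc]
  by_cases h1 : P₁ n
  · rw [rπ_eq_zero A P₃ (fun h3 => hdisj n ⟨h1, h3⟩), comp_zero, comp_zero, comp_zero]
  · rw [rι_eq_zero A P₁ h1, zero_comp]

/-- the short complex of restrictions -/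
noncomputable def sc (h₁₂ : ∀ n, P₁ n → P₂ (n + 1) → (P₁ (n + 1) ↔ P₂ n))
    (h₂₃ : ∀ n, P₂ n → P₃ (n + 1) → (P₂ (n + 1) ↔ P₃ n))
    (hdisj : ∀ n, ¬ (P₁ n ∧ P₃ n)) : ShortComplex (CochainComplex C ℤ) :=
  ShortComplex.mk (rmap A P₁ P₂ h₁₂) (rmap A P₂ P₃ h₂₃) (rmap_comp_zero A P₁ P₂ P₃ h₁₂ h₂₃ hdisj)

lemma χ_add (hor : ∀ n, P₂ n ↔ (P₁ n ∨ P₃ n)) (hdisj : ∀ n, ¬ (P₁ n ∧ P₃ n)) (n : ℤ) :
    χ A P₁ n + χ A P₃ n = χ A P₂ n := by
  by_cases h1 : P₁ n
  · have h3 : ¬ P₃ n := fun h3 => hdisj n ⟨h1, h3⟩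
    rw [χ_pos A P₁ h1, χ_neg A P₃ h3, χ_pos A P₂ ((hor n).2 (Or.inl h1)), add_zero]
  · by_cases h3 : P₃ n
    · rw [χ_neg A P₁ h1, χ_pos A P₃ h3, χ_pos A P₂ ((hor n).2 (Or.inr h3)), zero_add]
    · have h2 : ¬ P₂ n := fun h2 => ((hor n).1 h2).elim h1 h3
      rw [χ_neg A P₁ h1, χ_neg A P₃ h3, χ_neg A P₂ h2, add_zero]

/-- the short complex in degree `n` -/
noncomputable def scDeg (hdisj : ∀ n, ¬ (P₁ n ∧ P₃ n)) (n : ℤ) : ShortComplex C :=
  ShortComplex.mk (rι A P₁ n ≫ rπ A P₂ n) (rι A P₂ n ≫ rπ A P₃ n) (by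
    simp only [Category.assoc]
    by_cases h1 : P₁ n
    · rw [rπ_eq_zero A P₃ (fun h3 => hdisj n ⟨h1, h3⟩)]
      simp
    · rw [rι_eq_zero A P₁ h1]
      simp)

/-- the degreewise splitting -/
noncomputable def splittingDeg (hor : ∀ n, P₂ n ↔ (P₁ n ∨ P₃ n))
    (hdisj : ∀ n, ¬ (P₁ n ∧ P₃ n)) (n : ℤ) :
    (scDeg A P₁ P₂ P₃ hdisj n).Splitting where
  r := rι A P₂ n ≫ rπ A P₁ n
  s := rι A P₃ n ≫ rπ A P₂ n
  f_r := by
    dsimp [scDeg]
    simp only [Category.assoc]
    rw [rπ_rι_assoc]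
    by_cases h1 : P₁ n
    · rw [χ_pos A P₂ ((hor n).2 (Or.inl h1)), Category.id_comp, rι_rπ]
    · exact (isZero_rX A P₁ h1).eq_of_src _ _
  s_g := by
    dsimp [scDeg]
    simp only [Category.assoc]
    rw [rπ_rι_assoc]
    by_cases h3 : P₃ n
    · rw [χ_pos A P₂ ((hor n).2 (Or.inr h3)), Category.id_comp, rι_rπ]
    · exact (isZero_rX A P₃ h3).eq_of_src _ _
  id := by
    show (rι A P₂ n ≫ rπ A P₁ n) ≫ (rι A P₁ n ≫ rπ A P₂ n) +
      (rι A P₂ n ≫ rπ A P₃ n) ≫ (rι A P₃ n ≫ rπ A P₂ n) = 𝟙 (rX A P₂ n)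
    simp only [Category.assoc]
    rw [rπ_rι_assoc, rπ_rι_assoc, ← Preadditive.comp_add, ← Preadditive.add_comp,
      χ_add A P₁ P₂ P₃ hor hdisj n, ← rπ_rι, Category.assoc, rι_rπ, Category.comp_id, rι_rπ]

end SES

section Abelian

variable {C : Type u} [Category.{v} C] [Abelian C] (A : CochainComplex C ℤ)
  (P₁ P₂ P₃ : ℤ → Prop) [DecidablePred P₁] [DecidablePred P₂] [DecidablePred P₃]

lemma sc_shortExact (h₁₂ : ∀ n, P₁ n → P₂ (n + 1) → (P₁ (n + 1) ↔ P₂ n))
    (h₂₃ : ∀ n, P₂ n → P₃ (n + 1) → (P₂ (n + 1) ↔ P₃ n))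
    (hor : ∀ n, P₂ n ↔ (P₁ n ∨ P₃ n)) (hdisj : ∀ n, ¬ (P₁ n ∧ P₃ n)) :
    (sc A P₁ P₂ P₃ h₁₂ h₂₃ hdisj).ShortExact :=
  HomologicalComplex.shortExact_of_degreewise_shortExact _
    (fun n => (splittingDeg A P₁ P₂ P₃ hor hdisj n).shortExact)

end Abelian

section Isos

variable {C : Type u} [Category.{v} C] [Preadditive C] [HasZeroObject C]
  (A : CochainComplex C ℤ) (P : ℤ → Prop) [DecidablePred P]

/-- the restriction to all degrees is the complex itself -/
noncomputable def restrTopIso (hP : ∀ n, P n) : restr A P ≅ A :=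
  HomologicalComplex.Hom.isoOfComponents
    (fun n => ⟨rι A P n, rπ A P n, rι_rπ A P n, (rπ_rι A P n).trans (χ_pos A P (hP n))⟩)
    (fun i j _ => by
      show rι A P i ≫ A.d i j = (rι A P i ≫ A.d i j ≫ rπ A P j) ≫ rι A P j
      simp only [Category.assoc]
      rw [(rπ_rι A P j).trans (χ_pos A P (hP j)), Category.comp_id])

lemma isZero_restr (hP : ∀ n, P n → IsZero (A.X n)) : IsZero (restr A P) := by
  rw [IsZero.iff_id_eq_zero]
  ext n
  apply IsZero.eq_of_src
  by_cases h : P n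
  · exact isZero_rX_of_isZero A P (hP n h)
  · exact isZero_rX A P h

variable (p : ℤ) (hP : ∀ n, P n ↔ n = p)

/-- the map from the restriction to a single degree to the single complex -/
noncomputable def toSingle :
    restr A P ⟶ (HomologicalComplex.single C (ComplexShape.up ℤ) p).obj (A.X p) :=
  HomologicalComplex.mkHomToSingle (rι A P p) (fun i hi => by
    have hi' : ¬ P i := fun h => by
      have := (hP i).1 h
      simp only [ComplexShape.up_Rel] at hi
      omega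
    show (rι A P i ≫ A.d i p ≫ rπ A P p) ≫ rι A P p = 0
    rw [rι_eq_zero A P hi', zero_comp, zero_comp])

/-- the map from the single complex to the restriction to a single degree -/
noncomputable def fromSingle :
    (HomologicalComplex.single C (ComplexShape.up ℤ) p).obj (A.X p) ⟶ restr A P :=
  HomologicalComplex.mkHomFromSingle (rπ A P p) (fun k hk => by
    have hk' : ¬ P k := fun h => by
      have := (hP k).1 h
      simp only [ComplexShape.up_Rel] at hk
      omega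
    show rπ A P p ≫ (rι A P p ≫ A.d p k ≫ rπ A P k) = 0
    rw [rπ_eq_zero A P hk', comp_zero, comp_zero, comp_zero])

/-- the restriction to a single degree is a single complex -/
noncomputable def restrSingleIso :
    restr A P ≅ (HomologicalComplex.single C (ComplexShape.up ℤ) p).obj (A.X p) where
  hom := toSingle A P p hP
  inv := fromSingle A P p hP
  hom_inv_id := by
    ext n
    by_cases h : n = p
    · subst h
      rw [HomologicalComplex.comp_f, toSingle, fromSingle, HomologicalComplex.mkHomToSingle_f,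
        HomologicalComplex.mkHomFromSingle_f, Category.assoc, Iso.inv_hom_id_assoc]
      exact rι_rπ A P n
    · exact (isZero_rX A P (fun hn => h ((hP n).1 hn))).eq_of_src _ _
  inv_hom_id := by
    apply HomologicalComplex.from_single_hom_ext
    have h1 : rπ A P p ≫ rι A P p = 𝟙 _ := (rπ_rι A P p).trans (χ_pos A P ((hP p).2 rfl))
    have h2 : (HomologicalComplex.singleObjXSelf (ComplexShape.up ℤ) p (A.X p)).hom ≫
        rπ A P p ≫ rι A P p ≫
          (HomologicalComplex.singleObjXSelf (ComplexShape.up ℤ) p (A.X p)).inv = 𝟙 _ := by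
      rw [reassoc_of% h1, Iso.hom_inv_id]
    rw [HomologicalComplex.comp_f, toSingle, fromSingle, HomologicalComplex.mkHomToSingle_f,
      HomologicalComplex.mkHomFromSingle_f, Category.assoc]
    exact h2

end Isos

end Groth.Agent.Lib.Helper5.RestrictCx
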