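import Mathlib
import Groth.Agent.Lib.Helper5.RestrictCx

/-!
# Functoriality of the Hom complex in the first variable (helper5)

`homMap I g : HomComplex K I ⟶ HomComplex K' I` for `g : K' ⟶ K`, and the fact that a degreewise
split short exact sequence of complexes induces a short exact sequence of Hom complexes.
-/

set_option autoImplicit false
universe v u

namespace Groth.Agent.Lib.Helper5.LHom

open CategoryTheory CategoryTheory.Limits CochainComplex HomComplex

variable {C : Type u} [Category.{v} C] [Preadditive C]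
  {K K' K'' : CochainComplex C ℤ} (I : CochainComplex C ℤ)

/-- precomposition with a morphism of complexes, on cochains -/
def preAdd (g : K' ⟶ K) (n : ℤ) : Cochain K I n →+ Cochain K' I n where
  toFun z := (Cochain.ofHom g).comp z (zero_add n)
  map_zero' := Cochain.comp_zero _ _
  map_add' _ _ := Cochain.comp_add _ _ _ _

@[simp] lemma preAdd_apply (g : K' ⟶ K) (n : ℤ) (z : Cochain K I n) :
    preAdd I g n z = (Cochain.ofHom g).comp z (zero_add n) := rfl

lemma preAdd_v (g : K' ⟶ K) (n : ℤ) (z : Cochain K I n) (p q : ℤ) (hpq : p + n = q) :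
    (preAdd I g n z).v p q hpq = g.f p ≫ z.v p q hpq := by
  rw [preAdd_apply, Cochain.zero_cochain_comp_v, Cochain.ofHom_v]

/-- precomposition with a morphism of complexes, on Hom complexes -/
def homMap (g : K' ⟶ K) : HomComplex K I ⟶ HomComplex K' I where
  f n := AddCommGrpCat.ofHom (preAdd I g n)
  comm' i j _ := by
    ext z
    exact δ_ofHom_comp g z j

@[simp] lemma homMap_f_apply (g : K' ⟶ K) (n : ℤ) (z : Cochain K I n) :
    ((homMap I g).f n).hom z = (Cochain.ofHom g).comp z (zero_add n) := rfl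

lemma homMap_id : homMap I (𝟙 K) = 𝟙 _ := by
  ext n z
  exact Cochain.id_comp z

lemma homMap_comp (g : K' ⟶ K) (g' : K'' ⟶ K') :
    homMap I (g' ≫ g) = homMap I g ≫ homMap I g' := by
  ext n z
  show (Cochain.ofHom (g' ≫ g)).comp z (zero_add n) =
    (Cochain.ofHom g').comp ((Cochain.ofHom g).comp z (zero_add n)) (zero_add n)
  rw [Cochain.ofHom_comp, Cochain.comp_assoc_of_first_is_zero_cochain]

lemma homMap_zero : homMap I (0 : K' ⟶ K) = 0 := by
  ext n z
  show (Cochain.ofHom (0 : K' ⟶ K)).comp z (zero_add n) = 0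
  rw [Cochain.ofHom_zero, Cochain.zero_comp]

lemma isZero_homComplex (hK : IsZero K) : IsZero (HomComplex K I) := by
  rw [IsZero.iff_id_eq_zero, ← homMap_id, hK.eq_of_src (𝟙 K) 0, homMap_zero]

/-- the Hom complex of isomorphic complexes -/
def homIso (e : K' ≅ K) : HomComplex K I ≅ HomComplex K' I where
  hom := homMap I e.hom
  inv := homMap I e.inv
  hom_inv_id := by rw [← homMap_comp, e.inv_hom_id, homMap_id]
  inv_hom_id := by rw [← homMap_comp, e.hom_inv_id, homMap_id]

section SES

variable (S : ShortComplex (CochainComplex C ℤ))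
  (r : ∀ n, S.X₂.X n ⟶ S.X₁.X n) (s : ∀ n, S.X₃.X n ⟶ S.X₂.X n)
  (f_r : ∀ n, S.f.f n ≫ r n = 𝟙 _) (s_g : ∀ n, s n ≫ S.g.f n = 𝟙 _)
  (hid : ∀ n, r n ≫ S.f.f n + S.g.f n ≫ s n = 𝟙 _)

include s_g in
lemma preAdd_g_injective (n : ℤ) : Function.Injective (preAdd I S.g n) := by
  rw [injective_iff_map_eq_zero]
  intro z hz
  ext p q hpq
  have h1 := congrArg (fun w => w.v p q hpq) hz
  simp only [preAdd_v, Cochain.zero_v] at h1
  rw [Cochain.zero_v, ← Category.id_comp (z.v p q hpq), ← s_g p, Category.assoc, h1, comp_zero]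

include f_r in
lemma preAdd_f_surjective (n : ℤ) : Function.Surjective (preAdd I S.f n) := by
  intro w
  refine ⟨Cochain.mk (fun p q hpq => r p ≫ w.v p q hpq), ?_⟩
  ext p q hpq
  rw [preAdd_v, Cochain.mk_v, ← Category.assoc, f_r, Category.id_comp]

include hid in
lemma preAdd_exact (n : ℤ) (z : Cochain S.X₂ I n) (hz : preAdd I S.f n z = 0) :
    ∃ y : Cochain S.X₃ I n, preAdd I S.g n y = z := by
  refine ⟨Cochain.mk (fun p q hpq => s p ≫ z.v p q hpq), ?_⟩
  ext p q hpq
  have h1 := congrArg (fun w => w.v p q hpq) hz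
  simp only [preAdd_v, Cochain.zero_v] at h1
  rw [preAdd_v, Cochain.mk_v, ← Category.assoc]
  have h2 : S.g.f p ≫ s p = 𝟙 _ - r p ≫ S.f.f p := by
    rw [← hid p]; abel
  rw [h2, Preadditive.sub_comp, Category.id_comp, Category.assoc, h1, comp_zero, sub_zero]

/-- the short complex of Hom complexes -/
def homSc : ShortComplex (CochainComplex AddCommGrpCat.{v} ℤ) :=
  ShortComplex.mk (homMap I S.g) (homMap I S.f) (by rw [← homMap_comp, S.zero, homMap_zero])

include f_r s_g hid in
lemma homSc_shortExact : (homSc I S).ShortExact := by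
  refine HomologicalComplex.shortExact_of_degreewise_shortExact _ (fun n => ?_)
  haveI : Mono ((homSc I S).map (HomologicalComplex.eval _ _ n)).f :=
    (AddCommGrpCat.mono_iff_injective _).2 (preAdd_g_injective I S s s_g n)
  haveI : Epi ((homSc I S).map (HomologicalComplex.eval _ _ n)).g :=
    (AddCommGrpCat.epi_iff_surjective _).2 (preAdd_f_surjective I S r f_r n)
  refine ShortComplex.ShortExact.mk ?_
  rw [ShortComplex.ab_exact_iff]
  intro z hz
  exact preAdd_exact I S r s hid n z hz

end SES

end Groth.Agent.Lib.Helper5.LHom
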