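import Mathlib
import Groth.Agent.Lib.Helper5.LHom

/-!
# Cohomology of the Hom complex into a K-injective complex and morphisms in the derived category
(helper5)
-/

set_option autoImplicit false
universe w v u

namespace Groth.Agent.Lib.Helper5.LHomDer

open CategoryTheory CategoryTheory.Limits CochainComplex HomComplex DerivedCategory

section Prelim

variable {D : Type*} [Category D] [Preadditive D]

/-- conjugation by isomorphisms, as an additive equivalence -/
def homCongrAdd {A A' B B' : D} (e : A ≅ A') (e' : B ≅ B') : (A ⟶ B) ≃+ (A' ⟶ B') where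
  toEquiv := Iso.homCongr e e'
  map_add' f g := by
    simp [Iso.homCongr]

variable [HasShift D ℤ] [∀ n : ℤ, (CategoryTheory.shiftFunctor D n).Additive]

/-- `Hom(A, B⟦q⟧) ≃+ Hom(A⟦p⟧, B⟦r⟧)` when `q + p = r` -/
noncomputable def shiftHomAdd (A B : D) (p q r : ℤ) (h : q + p = r) :
    (A ⟶ B⟦q⟧) ≃+ (A⟦p⟧ ⟶ B⟦r⟧) :=
  (AddEquiv.ofBijective ((CategoryTheory.shiftFunctor D p).mapAddHom (X := A) (Y := B⟦q⟧))
    ⟨(CategoryTheory.shiftFunctor D p).map_injective,
      (CategoryTheory.shiftFunctor D p).map_surjective⟩).trans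
    (homCongrAdd (Iso.refl _) ((CategoryTheory.shiftFunctorAdd' D q p r h).symm.app B))

end Prelim

variable {C : Type u} [Category.{v} C] [Abelian C] [HasDerivedCategory.{w} C]
  (K I : CochainComplex C ℤ)

/-- morphisms to a `K`-injective complex in the homotopy category and in the derived category -/
noncomputable def QhAddEquiv [I.IsKInjective] (n : ℤ) :
    ((HomotopyCategory.quotient C (ComplexShape.up ℤ)).obj K ⟶
      (HomotopyCategory.quotient C (ComplexShape.up ℤ)).obj (I⟦n⟧)) ≃+
    (Q.obj K ⟶ (Q.obj I)⟦n⟧) :=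
  (AddEquiv.ofBijective (Qh.mapAddHom
      (X := (HomotopyCategory.quotient C (ComplexShape.up ℤ)).obj K)
      (Y := (HomotopyCategory.quotient C (ComplexShape.up ℤ)).obj (I⟦n⟧)))
    (CochainComplex.IsKInjective.Qh_map_bijective _ (I⟦n⟧))).trans
    (homCongrAdd ((quotientCompQhIso C).app K)
      ((quotientCompQhIso C).app (I⟦n⟧) ≪≫ (Q.commShiftIso n).app I))

/-- the cohomology of the Hom complex into a `K`-injective complex -/
noncomputable def homologyAddEquivHom [I.IsKInjective] (n : ℤ) :
    (HomComplex K I).homology n ≃+ (Q.obj K ⟶ (Q.obj I)⟦n⟧) :=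
  (HomComplex.homologyAddEquiv K I n).trans
    ((CohomologyClass.homAddEquiv (K := K) (L := I) (n := n)).trans (QhAddEquiv K I n))

section Ext

open Abelian

variable [HasExt.{v} C] {F : C} (R : InjectiveResolution F) (M : C)

/-- the injective resolution in the derived category -/
noncomputable def resIso : Q.obj R.cochainComplex ≅ (DerivedCategory.singleFunctor C 0).obj F :=
  (asIso (Q.map R.ι')).symm ≪≫ ((singleFunctorIsoCompQ C 0).app F).symm

/-- the cohomology of the Hom complex from a complex which is a shifted object in the derived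
category to an injective resolution is an `Ext` group -/
noncomputable def homologyAddEquivExt (a : ℤ)
    (eK : Q.obj K ≅ ((DerivedCategory.singleFunctor C 0).obj M)⟦a⟧) (q : ℕ) (n : ℤ)
    (h : (q : ℤ) + a = n) :
    (HomComplex K R.cochainComplex).homology n ≃+ Ext.{v} M F q :=
  (homologyAddEquivHom K R.cochainComplex n).trans
    ((homCongrAdd eK ((CategoryTheory.shiftFunctor (DerivedCategory C) n).mapIso (resIso R))).trans
      ((shiftHomAdd ((DerivedCategory.singleFunctor C 0).obj M)
        ((DerivedCategory.singleFunctor C 0).obj F) a (q : ℤ) n h).symm.trans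
        Ext.homAddEquiv.symm))

/-- a single complex in the derived category -/
noncomputable def singleShiftIso (a : ℤ) :
    Q.obj ((HomologicalComplex.single C (ComplexShape.up ℤ) a).obj M) ≅
      ((DerivedCategory.singleFunctor C 0).obj M)⟦-a⟧ :=
  ((singleFunctorIsoCompQ C a).app M).symm ≪≫
    (((DerivedCategory.singleFunctors C).shiftIso (-a) a 0 (by omega)).app M).symm

/-- a resolution in the derived category -/
noncomputable def quasiIsoShiftIso (P : CochainComplex C ℤ)
    (ε : P ⟶ (CochainComplex.singleFunctor C 0).obj M) [QuasiIso ε] :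
    Q.obj P ≅ ((DerivedCategory.singleFunctor C 0).obj M)⟦(0 : ℤ)⟧ :=
  asIso (Q.map ε) ≪≫ ((singleFunctorIsoCompQ C 0).app M).symm ≪≫
    ((CategoryTheory.shiftFunctorZero (DerivedCategory C) ℤ).app _).symm

end Ext

end Groth.Agent.Lib.Helper5.LHomDer
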