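import Mathlib
import Groth.Agent.Lib.Helper5.CechFreeRes
import Groth.Agent.Lib.Helper5.LHomDer

/-!
# The `E₁`-terms of the Čech filtration as Čech cochains (helper5)
-/

set_option autoImplicit false
universe w v u

namespace Groth.Agent.Lib.Helper5.CechPhi

open CategoryTheory CategoryTheory.Limits Opposite TopologicalSpace DerivedCategory
open Groth.Agent.Lib.Helper5.LHomDer Groth.Agent.Lib.Helper5.CechFreeRes
open Groth.Agent.Lib.Helper13.CechBasic

section Tau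

variable {C : Type u} [Category.{v} C] [Abelian C] [HasDerivedCategory.{w} C]

lemma shiftHomAdd_comp {A A' : DerivedCategory C} (B : DerivedCategory C) (p q r : ℤ)
    (h : q + p = r) (g : A' ⟶ A) (f : A ⟶ B⟦q⟧) :
    shiftHomAdd A' B p q r h (g ≫ f) = g⟦p⟧' ≫ shiftHomAdd A B p q r h f := by
  simp [shiftHomAdd, homCongrAdd, Iso.homCongr]

/-- `(single₀ F)⟦a⟧ ≅ Q (single_m F)` naturally in `F`, when `a + m = 0` -/
noncomputable def E (a m : ℤ) (h : a + m = 0) :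
    DerivedCategory.singleFunctor C 0 ⋙ shiftFunctor (DerivedCategory C) a ≅
      HomologicalComplex.single C (ComplexShape.up ℤ) m ⋙ Q :=
  (DerivedCategory.singleFunctors C).shiftIso a m 0 h ≪≫ singleFunctorIsoCompQ C m

/-- the comparison of Hom groups -/
noncomputable def τ (Y₀ : DerivedCategory C) (a m n n' : ℤ) (h : a + m = 0) (hn : n' + a = n)
    (F : C) :
    (Q.obj ((HomologicalComplex.single C (ComplexShape.up ℤ) m).obj F) ⟶ Y₀⟦n⟧) ≃+
      ((DerivedCategory.singleFunctor C 0).obj F ⟶ Y₀⟦n'⟧) :=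
  (homCongrAdd ((E a m h).app F).symm (Iso.refl _)).trans
    (shiftHomAdd ((DerivedCategory.singleFunctor C 0).obj F) Y₀ a n' n hn).symm

lemma shiftHomAdd_τ (Y₀ : DerivedCategory C) (a m n n' : ℤ) (h : a + m = 0) (hn : n' + a = n)
    (F : C) (w : Q.obj ((HomologicalComplex.single C (ComplexShape.up ℤ) m).obj F) ⟶ Y₀⟦n⟧) :
    shiftHomAdd ((DerivedCategory.singleFunctor C 0).obj F) Y₀ a n' n hn (τ Y₀ a m n n' h hn F w) =
      (E a m h).hom.app F ≫ w := by
  show shiftHomAdd ((DerivedCategory.singleFunctor C 0).obj F) Y₀ a n' n hn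
    ((shiftHomAdd ((DerivedCategory.singleFunctor C 0).obj F) Y₀ a n' n hn).symm
      (homCongrAdd ((E a m h).app F).symm (Iso.refl _) w)) = _
  rw [AddEquiv.apply_symm_apply]
  show ((E a m h).app F).symm.inv ≫ w ≫ (Iso.refl _).hom = _
  simp

lemma τ_naturality (Y₀ : DerivedCategory C) (a m n n' : ℤ) (h : a + m = 0) (hn : n' + a = n)
    {F F' : C} (g : F' ⟶ F)
    (w : Q.obj ((HomologicalComplex.single C (ComplexShape.up ℤ) m).obj F) ⟶ Y₀⟦n⟧) :
    τ Y₀ a m n n' h hn F'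
        (Q.map ((HomologicalComplex.single C (ComplexShape.up ℤ) m).map g) ≫ w) =
      (DerivedCategory.singleFunctor C 0).map g ≫ τ Y₀ a m n n' h hn F w := by
  apply (shiftHomAdd ((DerivedCategory.singleFunctor C 0).obj F') Y₀ a n' n hn).injective
  rw [shiftHomAdd_comp, shiftHomAdd_τ, shiftHomAdd_τ]
  have := (E (C := C) a m h).hom.naturality g
  simp only [Functor.comp_map] at this
  rw [← Category.assoc, ← this, Category.assoc]

end Tau

section Phi

variable {X : TopCat.{u}} {ι : Type u} (U : ι → Opens X) [HasDerivedCategory.{u} (CohTop.Ab X)]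
  (Y₀ : DerivedCategory (CohTop.Ab X)) (a m n n' : ℤ) (h : a + m = 0) (hn : n' + a = n)

/-- the components -/
noncomputable def Φc (k : ℕ) (σ : Fin (k + 1) → ι)
    (w : Q.obj ((HomologicalComplex.single (CohTop.Ab X) (ComplexShape.up ℤ) m).obj (A U k)) ⟶ Y₀⟦n⟧) :
    (CohCx.HDUPresheaf Y₀ n').obj (op (∏ᶜ (U ∘ σ))) :=
  τ Y₀ a m n n' h hn (CohCx.freeSheaf (Opens.grothendieckTopology X) (∏ᶜ (U ∘ σ)))
    (Q.map ((HomologicalComplex.single (CohTop.Ab X) (ComplexShape.up ℤ) m).map (c U k σ)) ≫ w)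

/-- the comparison map -/
noncomputable def Φfun (k : ℕ)
    (w : Q.obj ((HomologicalComplex.single (CohTop.Ab X) (ComplexShape.up ℤ) m).obj (A U k)) ⟶ Y₀⟦n⟧) :
    (cx U (CohCx.HDUPresheaf Y₀ n')).X k :=
  mk U (CohCx.HDUPresheaf Y₀ n') (fun σ => Φc U Y₀ a m n n' h hn k σ w)

lemma proj_Φfun (k : ℕ) (σ : Fin (k + 1) → ι)
    (w : Q.obj ((HomologicalComplex.single (CohTop.Ab X) (ComplexShape.up ℤ) m).obj (A U k)) ⟶ Y₀⟦n⟧) :
    (proj U (CohCx.HDUPresheaf Y₀ n') k σ).hom (Φfun U Y₀ a m n n' h hn k w) =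
      Φc U Y₀ a m n n' h hn k σ w :=
  proj_mk _ _ _ _

lemma Φc_add (k : ℕ) (σ : Fin (k + 1) → ι)
    (w w' : Q.obj ((HomologicalComplex.single (CohTop.Ab X) (ComplexShape.up ℤ) m).obj (A U k)) ⟶ Y₀⟦n⟧) :
    Φc U Y₀ a m n n' h hn k σ (w + w') =
      Φc U Y₀ a m n n' h hn k σ w + Φc U Y₀ a m n n' h hn k σ w' := by
  unfold Φc
  rw [Preadditive.comp_add, map_add]
  rfl

/-- the comparison map, as an additive map -/
noncomputable def Φ (k : ℕ) :
    (Q.obj ((HomologicalComplex.single (CohTop.Ab X) (ComplexShape.up ℤ) m).obj (A U k)) ⟶ Y₀⟦n⟧) →+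
      (cx U (CohCx.HDUPresheaf Y₀ n')).X k :=
  AddMonoidHom.mk' (Φfun U Y₀ a m n n' h hn k) (fun w w' => by
    apply ext_elem
    intro σ
    rw [map_add, proj_Φfun, proj_Φfun, proj_Φfun, Φc_add])

lemma proj_Φ (k : ℕ) (σ : Fin (k + 1) → ι)
    (w : Q.obj ((HomologicalComplex.single (CohTop.Ab X) (ComplexShape.up ℤ) m).obj (A U k)) ⟶ Y₀⟦n⟧) :
    (proj U (CohCx.HDUPresheaf Y₀ n') k σ).hom (Φ U Y₀ a m n n' h hn k w) =
      Φc U Y₀ a m n n' h hn k σ w :=
  proj_Φfun U Y₀ a m n n' h hn k σ w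

lemma Φ_injective (k : ℕ) : Function.Injective (Φ U Y₀ a m n n' h hn k) := by
  intro w w' hww
  apply Q_single_c_ext U m k
  intro σ
  apply (τ Y₀ a m n n' h hn (CohCx.freeSheaf (Opens.grothendieckTopology X) (∏ᶜ (U ∘ σ)))).injective
  have := congrArg (proj U (CohCx.HDUPresheaf Y₀ n') k σ).hom hww
  rw [proj_Φ, proj_Φ] at this
  exact this

lemma Φ_surjective (k : ℕ) : Function.Surjective (Φ U Y₀ a m n n' h hn k) := by
  intro x
  obtain ⟨w, hw⟩ := exists_Q_single_c_desc U m k (Y := Y₀⟦n⟧) (fun σ =>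
    (τ Y₀ a m n n' h hn (CohCx.freeSheaf (Opens.grothendieckTopology X) (∏ᶜ (U ∘ σ)))).symm
      ((proj U (CohCx.HDUPresheaf Y₀ n') k σ).hom x))
  refine ⟨w, ?_⟩
  apply ext_elem
  intro σ
  rw [proj_Φ]
  unfold Φc
  rw [hw σ, AddEquiv.apply_symm_apply]

lemma Φ_d (k : ℕ)
    (w : Q.obj ((HomologicalComplex.single (CohTop.Ab X) (ComplexShape.up ℤ) m).obj (A U k)) ⟶ Y₀⟦n⟧) :
    Φ U Y₀ a m n n' h hn (k + 1)
        (Q.map ((HomologicalComplex.single (CohTop.Ab X) (ComplexShape.up ℤ) m).map (dA U k)) ≫ w) =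
      ((cx U (CohCx.HDUPresheaf Y₀ n')).d k (k + 1)).hom (Φ U Y₀ a m n n' h hn k w) := by
  apply ext_elem
  intro σ
  rw [proj_Φ, d_apply]
  unfold Φc
  rw [← Category.assoc, ← Q.map_comp, ← Functor.map_comp, c_comp_dA, Functor.map_sum,
    Functor.map_sum, Preadditive.sum_comp, map_sum]
  refine Finset.sum_congr rfl (fun j _ => ?_)
  rw [Functor.map_zsmul, Functor.map_zsmul, Preadditive.zsmul_comp, map_zsmul, Functor.map_comp,
    Q.map_comp, Category.assoc, τ_naturality, proj_Φ]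
  rfl

end Phi

end Groth.Agent.Lib.Helper5.CechPhi
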