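import Mathlib
import Groth.Prelude.Def_HTor

/-!
# Linear algebra for filtrations induced by towers (helper5)
-/

set_option autoImplicit false
universe u

namespace Groth.Agent.Lib.Helper5.SubquoAlg

variable {R : Type*} [CommRing R]

section W3

variable {H A A' E : Type*} [AddCommGroup H] [Module R H] [AddCommGroup A] [Module R A]
  [AddCommGroup A'] [Module R A'] [AddCommGroup E] [Module R E]
  (r' : H →ₗ[R] A) (β : A →ₗ[R] A') (α : E →ₗ[R] A)

/-- the graded piece of the filtration by kernels of restrictions -/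
theorem nonempty_gr_equiv (hexact : LinearMap.range α = LinearMap.ker β) :
    Nonempty ((↥(LinearMap.ker (β ∘ₗ r')) ⧸
        Submodule.comap (LinearMap.ker (β ∘ₗ r')).subtype (LinearMap.ker r')) ≃ₗ[R]
      (↥(Submodule.comap α (LinearMap.range r')) ⧸
        Submodule.comap (Submodule.comap α (LinearMap.range r')).subtype (LinearMap.ker α))) := by
  let I : Submodule R A := LinearMap.range r' ⊓ LinearMap.range α
  let f₁ : ↥(LinearMap.ker (β ∘ₗ r')) →ₗ[R] ↥I :=
    LinearMap.codRestrict I (r' ∘ₗ (LinearMap.ker (β ∘ₗ r')).subtype) (fun x => by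
      refine ⟨⟨x.1, rfl⟩, ?_⟩
      rw [hexact]
      exact x.2)
  let f₂ : ↥(Submodule.comap α (LinearMap.range r')) →ₗ[R] ↥I :=
    LinearMap.codRestrict I (α ∘ₗ (Submodule.comap α (LinearMap.range r')).subtype) (fun e =>
      ⟨e.2, ⟨e.1, rfl⟩⟩)
  have hs₁ : Function.Surjective f₁ := by
    rintro ⟨a, ⟨x, rfl⟩, ha⟩
    rw [hexact] at ha
    exact ⟨⟨x, ha⟩, rfl⟩
  have hs₂ : Function.Surjective f₂ := by
    rintro ⟨a, ha, ⟨e, rfl⟩⟩
    exact ⟨⟨e, ha⟩, rfl⟩
  have hk₁ : LinearMap.ker f₁ =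
      Submodule.comap (LinearMap.ker (β ∘ₗ r')).subtype (LinearMap.ker r') := by
    ext x
    rw [LinearMap.mem_ker, Submodule.mem_comap, LinearMap.mem_ker]
    constructor
    · intro h
      exact congrArg Subtype.val h
    · intro h
      exact Subtype.ext h
  have hk₂ : LinearMap.ker f₂ =
      Submodule.comap (Submodule.comap α (LinearMap.range r')).subtype (LinearMap.ker α) := by
    ext x
    rw [LinearMap.mem_ker, Submodule.mem_comap, LinearMap.mem_ker]
    constructor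
    · intro h
      exact congrArg Subtype.val h
    · intro h
      exact Subtype.ext h
  exact ⟨(Submodule.quotEquivOfEq _ _ hk₁.symm).trans
    ((f₁.quotKerEquivOfSurjective hs₁).trans
      ((f₂.quotKerEquivOfSurjective hs₂).symm.trans (Submodule.quotEquivOfEq _ _ hk₂)))⟩

end W3

section W4

variable {K : Type*} [AddCommGroup K] [Module R K] (R₀ B Z : Submodule R K)

/-- third isomorphism theorem flavour -/
theorem nonempty_quot_map_equiv (h₀ : R₀ ≤ B) :
    Nonempty ((↥Z ⧸ Submodule.comap Z.subtype B) ≃ₗ[R]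
      (↥(Z.map R₀.mkQ) ⧸ Submodule.comap (Z.map R₀.mkQ).subtype (B.map R₀.mkQ))) := by
  let f : ↥Z →ₗ[R] (↥(Z.map R₀.mkQ) ⧸ Submodule.comap (Z.map R₀.mkQ).subtype (B.map R₀.mkQ)) :=
    (Submodule.mkQ _) ∘ₗ LinearMap.codRestrict (Z.map R₀.mkQ) (R₀.mkQ ∘ₗ Z.subtype)
      (fun z => ⟨z.1, z.2, rfl⟩)
  have hs : Function.Surjective f := by
    intro y
    obtain ⟨⟨_, z, hz, rfl⟩, rfl⟩ := Submodule.mkQ_surjective _ y
    exact ⟨⟨z, hz⟩, rfl⟩
  have hk : LinearMap.ker f = Submodule.comap Z.subtype B := by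
    ext z
    rw [LinearMap.mem_ker, Submodule.mem_comap]
    show Submodule.mkQ _ _ = 0 ↔ _
    rw [Submodule.mkQ_apply, Submodule.Quotient.mk_eq_zero, Submodule.mem_comap]
    show R₀.mkQ z.1 ∈ B.map R₀.mkQ ↔ z.1 ∈ B
    constructor
    · rintro ⟨b, hb, hbz⟩
      have h1 : b - z.1 ∈ R₀ := by
        rw [← Submodule.Quotient.mk_eq_zero, Submodule.Quotient.mk_sub, sub_eq_zero]
        exact hbz
      have h2 : z.1 = b - (b - z.1) := by abel
      rw [h2]
      exact B.sub_mem hb (h₀ h1)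
    · intro h
      exact ⟨z.1, h, rfl⟩
  exact ⟨(Submodule.quotEquivOfEq _ _ hk.symm).trans (f.quotKerEquivOfSurjective hs)⟩

end W4

section Transport

variable {N T T' : Type u} [AddCommGroup N] [Module R N] [AddCommGroup T] [Module R T]
  [AddCommGroup T'] [Module R T']

lemma nonempty_quot_map_linearEquiv (e : T ≃ₗ[R] T') (S S' : Submodule R T) :
    Nonempty ((↥S' ⧸ Submodule.comap S'.subtype S) ≃ₗ[R]
      (↥(S'.map e.toLinearMap) ⧸
        Submodule.comap (S'.map e.toLinearMap).subtype (S.map e.toLinearMap))) := by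
  let g : ↥S' →ₗ[R] (↥(S'.map e.toLinearMap) ⧸
      Submodule.comap (S'.map e.toLinearMap).subtype (S.map e.toLinearMap)) :=
    (Submodule.mkQ _) ∘ₗ LinearMap.codRestrict (S'.map e.toLinearMap) (e.toLinearMap ∘ₗ S'.subtype)
      (fun z => ⟨z.1, z.2, rfl⟩)
  have hs : Function.Surjective g := by
    intro y
    obtain ⟨⟨_, z, hz, rfl⟩, rfl⟩ := Submodule.mkQ_surjective _ y
    exact ⟨⟨z, hz⟩, rfl⟩
  have hk : LinearMap.ker g = Submodule.comap S'.subtype S := by
    ext z
    rw [LinearMap.mem_ker, Submodule.mem_comap]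
    show Submodule.mkQ _ _ = 0 ↔ _
    rw [Submodule.mkQ_apply, Submodule.Quotient.mk_eq_zero, Submodule.mem_comap]
    show e z.1 ∈ S.map e.toLinearMap ↔ z.1 ∈ S
    constructor
    · rintro ⟨s, hs, hsz⟩
      have : s = z.1 := e.injective hsz
      rw [← this]
      exact hs
    · intro h
      exact ⟨z.1, h, rfl⟩
  exact ⟨(Submodule.quotEquivOfEq _ _ hk.symm).trans (g.quotKerEquivOfSurjective hs)⟩

lemma isSubquotient_of_linearEquiv (e : T ≃ₗ[R] T') (h : HTor.IsSubquotient R N T) :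
    HTor.IsSubquotient R N T' := by
  obtain ⟨S, S', hSS', ⟨φ⟩⟩ := h
  obtain ⟨ψ⟩ := nonempty_quot_map_linearEquiv e S S'
  exact ⟨S.map e.toLinearMap, S'.map e.toLinearMap, Submodule.map_mono hSS', ⟨φ.trans ψ⟩⟩

lemma isSubquotient_of_linearEquiv_left {N' : Type u} [AddCommGroup N'] [Module R N']
    (e : N' ≃ₗ[R] N) (h : HTor.IsSubquotient R N T) : HTor.IsSubquotient R N' T := by
  obtain ⟨S, S', hSS', ⟨φ⟩⟩ := h
  exact ⟨S, S', hSS', ⟨e.trans φ⟩⟩

end Transport

end Groth.Agent.Lib.Helper5.SubquoAlg
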