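import Mathlib
import Groth.Prelude.Def_HTor
import Groth.Agent.Lib.Helper5.SubquoAlg

/-!
# Subquotients of the homology of a short complex of abelian groups (helper5)
-/

set_option autoImplicit false
universe u

namespace Groth.Agent.Lib.Helper5.HomologySubquo

open CategoryTheory Groth.Agent.Lib.Helper5.SubquoAlg

theorem isSubquotient_homology (S : ShortComplex AddCommGrpCat.{u}) (Z B : Submodule ℤ S.X₂)
    (hZ : ∀ z ∈ Z, S.g z = 0) (hB : ∀ x : S.X₁, S.f x ∈ B) :
    HTor.IsSubquotient ℤ (↥Z ⧸ Submodule.comap Z.subtype B) S.homology := by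
  let q₀ : ↥Z →+ AddMonoidHom.ker S.g.hom :=
    AddMonoidHom.mk' (fun z => ⟨z.1, hZ z.1 z.2⟩) (fun _ _ => rfl)
  let q : ↥Z →ₗ[ℤ] (AddMonoidHom.ker S.g.hom ⧸ AddMonoidHom.range S.abToCycles) :=
    ((QuotientAddGroup.mk' _).comp q₀).toIntLinearMap
  let S' : Submodule ℤ (AddMonoidHom.ker S.g.hom ⧸ AddMonoidHom.range S.abToCycles) :=
    LinearMap.range q
  let S₀ : Submodule ℤ (AddMonoidHom.ker S.g.hom ⧸ AddMonoidHom.range S.abToCycles) :=
    Submodule.map q (Submodule.comap Z.subtype B)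
  have hSS : S₀ ≤ S' := LinearMap.map_le_range
  let g : ↥Z →ₗ[ℤ] (↥S' ⧸ Submodule.comap S'.subtype S₀) :=
    (Submodule.mkQ _) ∘ₗ q.rangeRestrict
  have hs : Function.Surjective g := by
    intro y
    obtain ⟨⟨_, z, rfl⟩, rfl⟩ := Submodule.mkQ_surjective _ y
    exact ⟨z, rfl⟩
  have hk : LinearMap.ker g = Submodule.comap Z.subtype B := by
    ext z
    rw [LinearMap.mem_ker, Submodule.mem_comap]
    show Submodule.mkQ _ _ = 0 ↔ _
    rw [Submodule.mkQ_apply, Submodule.Quotient.mk_eq_zero, Submodule.mem_comap]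
    show q z ∈ S₀ ↔ z.1 ∈ B
    constructor
    · rintro ⟨b, hb, hbz⟩
      have h1 : (QuotientAddGroup.mk (q₀ b) :
          AddMonoidHom.ker S.g.hom ⧸ AddMonoidHom.range S.abToCycles) =
          QuotientAddGroup.mk (q₀ z) := hbz
      rw [QuotientAddGroup.eq] at h1
      obtain ⟨x, hx⟩ := h1
      have h2 : S.f x = -b.1 + z.1 := congrArg Subtype.val hx
      have h3 : z.1 = b.1 + S.f x := by
        rw [h2]
        abel
      rw [h3]
      exact B.add_mem hb (hB x)
    · intro hz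
      exact ⟨z, hz, rfl⟩
  have h1 : HTor.IsSubquotient ℤ (↥Z ⧸ Submodule.comap Z.subtype B)
      (AddMonoidHom.ker S.g.hom ⧸ AddMonoidHom.range S.abToCycles) :=
    ⟨S₀, S', hSS, ⟨(Submodule.quotEquivOfEq _ _ hk.symm).trans (g.quotKerEquivOfSurjective hs)⟩⟩
  exact isSubquotient_of_linearEquiv
    (S.abHomologyIso.symm.addCommGroupIsoToAddEquiv.toIntLinearEquiv) h1

end Groth.Agent.Lib.Helper5.HomologySubquo
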