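import Mathlib
import Groth.Agent.Lib.Helper5.RestrictCx
import Groth.Agent.Lib.Helper5.SubquoAlg

/-!
# The filtration on `Hom_D(P, Y)` induced by the brutal truncations of `P` (helper5)
-/

set_option autoImplicit false
universe w v u

namespace Groth.Agent.Lib.Helper5.TowerD

open CategoryTheory CategoryTheory.Limits
open Groth.Agent.Lib.Helper5.RestrictCx

/-- degrees `≥ m` -/
def PGE (m n : ℤ) : Prop := m ≤ n
/-- degrees `< m` -/
def PLT (m n : ℤ) : Prop := n < m
/-- the degree `m` -/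
def PEQ (m n : ℤ) : Prop := n = m
/-- all degrees -/
def PT (_ : ℤ) : Prop := True

instance (m : ℤ) : DecidablePred (PGE m) := fun n => Int.decLe m n
instance (m : ℤ) : DecidablePred (PLT m) := fun n => Int.decLt n m
instance (m : ℤ) : DecidablePred (PEQ m) := fun n => Int.decEq n m
instance : DecidablePred PT := fun _ => instDecidableTrue

/-- discharge the side conditions on predicates -/
macro "pred_tac" : tactic =>
  `(tactic| (
    simp only [PGE, PT, PLT, PEQ] at *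
    first
    | omega
    | trivial
    | (constructor <;> intro _ <;> (first | trivial | omega))))

section Cx

variable {C : Type u} [Category.{v} C] [Abelian C] (P : CochainComplex C ℤ)

/-- brutal truncation in degrees `≥ m` -/
noncomputable abbrev T (m : ℤ) : CochainComplex C ℤ := restr P (PGE m)

/-- brutal truncation in degrees `< m` -/
noncomputable abbrev L (m : ℤ) : CochainComplex C ℤ := restr P (PLT m)

/-- the term in degree `m` -/
noncomputable abbrev S (m : ℤ) : CochainComplex C ℤ :=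
  (HomologicalComplex.single C (ComplexShape.up ℤ) m).obj (P.X m)

/-- `T (m+1) ⟶ T m` -/
noncomputable def iT (m : ℤ) : T P (m + 1) ⟶ T P m :=
  rmap P (PGE (m + 1)) (PGE m) (fun n h1 h2 => by pred_tac)

/-- `T m ⟶ P` -/
noncomputable def jT (m : ℤ) : T P m ⟶ P :=
  rmap P (PGE m) PT (fun n h1 h2 => by pred_tac) ≫
    (restrTopIso P PT (fun _ => trivial)).hom

/-- `P ⟶ L m` -/
noncomputable def qL (m : ℤ) : P ⟶ L P m :=
  (restrTopIso P PT (fun _ => trivial)).inv ≫
    rmap P PT (PLT m) (fun n h1 h2 => by pred_tac)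

/-- `T m ⟶ S m` -/
noncomputable def πS (m : ℤ) : T P m ⟶ S P m :=
  rmap P (PGE m) (PEQ m) (fun n h1 h2 => by pred_tac) ≫
    toSingle P (PEQ m) m (fun _ => Iff.rfl)

lemma jT_f (m n : ℤ) : (jT P m).f n = rι P (PGE m) n := by
  show (rι P (PGE m) n ≫ rπ P PT n) ≫ rι P PT n = _
  rw [Category.assoc, rπ_rι, χ_pos P PT trivial, Category.comp_id]

lemma πS_f (m : ℤ) : (πS P m).f m = rι P (PGE m) m ≫
    (HomologicalComplex.singleObjXSelf (ComplexShape.up ℤ) m (P.X m)).inv := by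
  have h1 : (toSingle P (PEQ m) m (fun _ => Iff.rfl)).f m = rι P (PEQ m) m ≫
      (HomologicalComplex.singleObjXSelf (ComplexShape.up ℤ) m (P.X m)).inv := by
    rw [toSingle, HomologicalComplex.mkHomToSingle_f]
    rfl
  show (rι P (PGE m) m ≫ rπ P (PEQ m) m) ≫ (toSingle P (PEQ m) m (fun _ => Iff.rfl)).f m = _
  rw [h1]
  show (rι P (PGE m) m ≫ rπ P (PEQ m) m) ≫ (rι P (PEQ m) m ≫
      (HomologicalComplex.singleObjXSelf (ComplexShape.up ℤ) m (P.X m)).inv) = _
  rw [Category.assoc, rπ_rι_assoc, χ_pos P (PEQ m) (rfl : PEQ m m), Category.id_comp]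

lemma iT_jT (m : ℤ) : iT P m ≫ jT P m = jT P (m + 1) := by
  ext n
  rw [HomologicalComplex.comp_f, jT_f, jT_f]
  show (rι P (PGE (m + 1)) n ≫ rπ P (PGE m) n) ≫ rι P (PGE m) n = _
  rw [Category.assoc, rπ_rι]
  by_cases h : PGE (m + 1) n
  · rw [χ_pos P (PGE m) (by pred_tac), Category.comp_id]
  · rw [rι_eq_zero P _ h, zero_comp]

/-- the first short exact sequence -/
noncomputable def ses1 (m : ℤ) : ShortComplex (CochainComplex C ℤ) :=
  ShortComplex.mk (iT P m) (πS P m) (by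
    have := rmap_comp_zero P (PGE (m + 1)) (PGE m) (PEQ m)
      (fun n h1 h2 => by pred_tac)
      (fun n h1 h2 => by pred_tac)
      (fun n h => by pred_tac)
    rw [iT, πS, reassoc_of% this, zero_comp])

lemma ses1_shortExact (m : ℤ) : (ses1 P m).ShortExact := by
  have h := sc_shortExact P (PGE (m + 1)) (PGE m) (PEQ m)
      (fun n h1 h2 => by pred_tac)
      (fun n h1 h2 => by pred_tac)
      (fun n => by pred_tac)
      (fun n h => by pred_tac)
  refine ShortComplex.shortExact_of_iso ?_ h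
  exact ShortComplex.isoMk (Iso.refl _) (Iso.refl _) (restrSingleIso P (PEQ m) m (fun _ => Iff.rfl))
    (by simp [sc, ses1, iT]) (by simp [sc, ses1, πS, restrSingleIso])

/-- the second short exact sequence -/
noncomputable def ses2 (m : ℤ) : ShortComplex (CochainComplex C ℤ) :=
  ShortComplex.mk (jT P m) (qL P m) (by
    have := rmap_comp_zero P (PGE m) PT (PLT m)
      (fun n h1 h2 => by pred_tac)
      (fun n h1 h2 => by pred_tac)
      (fun n h => by pred_tac)
    rw [jT, qL, Category.assoc, Iso.hom_inv_id_assoc, this])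

lemma ses2_shortExact (m : ℤ) : (ses2 P m).ShortExact := by
  have h := sc_shortExact P (PGE m) PT (PLT m)
      (fun n h1 h2 => by pred_tac)
      (fun n h1 h2 => by pred_tac)
      (fun n => by pred_tac)
      (fun n h => by pred_tac)
  refine ShortComplex.shortExact_of_iso ?_ h
  exact ShortComplex.isoMk (Iso.refl _) (restrTopIso P PT (fun _ => trivial)) (Iso.refl _)
    (by simp [sc, ses2, jT]) (by simp [sc, ses2, qL])

end Cx

section Derived

open DerivedCategory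

variable {C : Type u} [Category.{v} C] [Abelian C] [HasDerivedCategory.{w} C]
  (P : CochainComplex C ℤ) (Y : DerivedCategory C)

lemma exact1 (m : ℤ) (f : Q.obj (T P m) ⟶ Y) (hf : Q.map (iT P m) ≫ f = 0) :
    ∃ g : Q.obj (S P m) ⟶ Y, f = Q.map (πS P m) ≫ g :=
  Pretriangulated.Triangle.yoneda_exact₂ _
    (triangleOfSES_distinguished (ses1_shortExact P m)) f hf

lemma exact2 (m : ℤ) (f : Q.obj P ⟶ Y) (hf : Q.map (jT P m) ≫ f = 0) :
    ∃ g : Q.obj (L P m) ⟶ Y, f = Q.map (qL P m) ≫ g :=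
  Pretriangulated.Triangle.yoneda_exact₂ _
    (triangleOfSES_distinguished (ses2_shortExact P m)) f hf

omit [HasDerivedCategory.{w} C] in
lemma isStrictlyLE_L (m : ℤ) : (L P m).IsStrictlyLE (m - 1) := by
  rw [CochainComplex.isStrictlyLE_iff]
  intro i hi
  exact isZero_rX P (PLT m) (by simp only [PLT]; omega)

lemma hom_L_eq_zero (b m : ℤ) [Y.IsGE b] (hm : m ≤ b) (g : Q.obj (L P m) ⟶ Y) : g = 0 := by
  haveI := isStrictlyLE_L P m
  haveI : TStructure.t.IsLE (Q.obj (L P m)) (m - 1) :=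
    (inferInstance : (Q.obj (L P m)).IsLE (m - 1))
  haveI : TStructure.t.IsGE Y b := (inferInstance : Y.IsGE b)
  exact TStructure.t.zero g (m - 1) b (by omega)

end Derived

section Htpy

variable {C : Type u} [Category.{v} C] [Abelian C] (P : CochainComplex C ℤ)

/-- the homotopy for H5 -/
noncomputable def hom5 (m : ℤ) (i j : ℤ) :
    (T P m).X i ⟶ ((HomologicalComplex.single C (ComplexShape.up ℤ) m).obj (P.X (m + 1))).X j :=
  if h : i = m + 1 ∧ j = m then
    eqToHom (by rw [h.1]; rfl) ≫ rι P (PGE m) (m + 1) ≫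
      (HomologicalComplex.singleObjXSelf (ComplexShape.up ℤ) m (P.X (m + 1))).inv ≫
      eqToHom (by rw [h.2])
  else 0

lemma πS_comp_single_d (m : ℤ) :
    πS P m ≫ (HomologicalComplex.single C (ComplexShape.up ℤ) m).map (P.d m (m + 1)) =
      Homotopy.nullHomotopicMap (hom5 P m) := by
  apply HomologicalComplex.to_single_hom_ext
  rw [HomologicalComplex.comp_f, πS_f, HomologicalComplex.single_map_f_self,
    Homotopy.nullHomotopicMap_f (k₂ := m - 1) (k₁ := m) (k₀ := m + 1) (by simp) (by simp)]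
  have h1 : hom5 P m (m + 1) m = rι P (PGE m) (m + 1) ≫
      (HomologicalComplex.singleObjXSelf (ComplexShape.up ℤ) m (P.X (m + 1))).inv := by
    simp [hom5]
  have h2 : hom5 P m m (m - 1) = 0 := by
    have : ¬ (m = m + 1 ∧ m - 1 = m) := by omega
    simp [hom5]
  rw [h1, h2, zero_comp, add_zero]
  show (rι P (PGE m) m ≫ _) ≫ _ = (rι P (PGE m) m ≫ P.d m (m + 1) ≫ rπ P (PGE m) (m + 1)) ≫ _
  simp only [Category.assoc, Iso.inv_hom_id_assoc]
  rw [rπ_rι_assoc, χ_pos P (PGE m) (by simp only [PGE]; omega), Category.id_comp]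

/-- the map given by the differential `P.X (m-1) ⟶ P.X m` -/
noncomputable def gT (m : ℤ) :
    (HomologicalComplex.single C (ComplexShape.up ℤ) m).obj (P.X (m - 1)) ⟶ T P m :=
  HomologicalComplex.mkHomFromSingle (P.d (m - 1) m ≫ rπ P (PGE m) m) (fun k _ => by
    show (P.d (m - 1) m ≫ rπ P (PGE m) m) ≫ (rι P (PGE m) m ≫ P.d m k ≫ rπ P (PGE m) k) = 0
    rw [Category.assoc, rπ_rι_assoc, χ_pos P (PGE m) (by simp only [PGE]; omega), Category.id_comp,
      P.d_comp_d_assoc, zero_comp])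

lemma gT_πS (m : ℤ) :
    gT P m ≫ πS P m = (HomologicalComplex.single C (ComplexShape.up ℤ) m).map (P.d (m - 1) m) := by
  apply HomologicalComplex.from_single_hom_ext
  rw [HomologicalComplex.comp_f, πS_f, HomologicalComplex.single_map_f_self, gT,
    HomologicalComplex.mkHomFromSingle_f]
  simp only [Category.assoc]
  show _ ≫ P.d (m - 1) m ≫ rπ P (PGE m) m ≫ rι P (PGE m) m ≫ _ = _
  rw [rπ_rι_assoc, χ_pos P (PGE m) (by simp only [PGE]; omega), Category.id_comp]

/-- the homotopy for H6 -/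
noncomputable def hom6 (m : ℤ) (i j : ℤ) :
    ((HomologicalComplex.single C (ComplexShape.up ℤ) m).obj (P.X (m - 1))).X i ⟶ P.X j :=
  if h : i = m ∧ j = m - 1 then
    eqToHom (by rw [h.1]) ≫
      (HomologicalComplex.singleObjXSelf (ComplexShape.up ℤ) m (P.X (m - 1))).hom ≫
      eqToHom (by rw [h.2])
  else 0

lemma gT_jT (m : ℤ) : gT P m ≫ jT P m = Homotopy.nullHomotopicMap (hom6 P m) := by
  apply HomologicalComplex.from_single_hom_ext
  rw [HomologicalComplex.comp_f, jT_f, gT, HomologicalComplex.mkHomFromSingle_f,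
    Homotopy.nullHomotopicMap_f (k₂ := m - 1) (k₁ := m) (k₀ := m + 1) (by simp) (by simp)]
  have h1 : hom6 P m m (m - 1) =
      (HomologicalComplex.singleObjXSelf (ComplexShape.up ℤ) m (P.X (m - 1))).hom := by
    simp [hom6]
  have h2 : hom6 P m (m + 1) m = 0 := by
    simp [hom6]
  rw [h1, h2, comp_zero, zero_add]
  simp only [Category.assoc]
  show _ ≫ P.d (m - 1) m ≫ rπ P (PGE m) m ≫ rι P (PGE m) m = _
  rw [rπ_rι, χ_pos P (PGE m) (by simp only [PGE]; omega), Category.comp_id]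

lemma hom5_zero (m : ℤ) (i j : ℤ) (h : ¬ (ComplexShape.up ℤ).Rel j i) : hom5 P m i j = 0 := by
  have : ¬ (i = m + 1 ∧ j = m) := by
    simp only [ComplexShape.up_Rel] at h
    omega
  simp [hom5, this]

lemma hom6_zero (m : ℤ) (i j : ℤ) (h : ¬ (ComplexShape.up ℤ).Rel j i) : hom6 P m i j = 0 := by
  have : ¬ (i = m ∧ j = m - 1) := by
    simp only [ComplexShape.up_Rel] at h
    omega
  simp [hom6, this]

variable [P.IsStrictlyLE 0]

/-- the inclusion of the degree `0` term -/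
noncomputable def ι₀ : S P 0 ⟶ P :=
  HomologicalComplex.mkHomFromSingle (𝟙 (P.X 0)) (fun k hk => by
    simp only [ComplexShape.up_Rel] at hk
    exact (CochainComplex.isZero_of_isStrictlyLE P 0 k (by omega)).eq_of_tgt _ _)

/-- the section of `πS 0` -/
noncomputable def s₀ : S P 0 ⟶ T P 0 :=
  HomologicalComplex.mkHomFromSingle (rπ P (PGE 0) 0) (fun k hk => by
    simp only [ComplexShape.up_Rel] at hk
    exact (isZero_rX_of_isZero P (PGE 0)
      (CochainComplex.isZero_of_isStrictlyLE P 0 k (by omega))).eq_of_tgt _ _)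

lemma s₀_jT : s₀ P ≫ jT P 0 = ι₀ P := by
  apply HomologicalComplex.from_single_hom_ext
  rw [HomologicalComplex.comp_f, jT_f, s₀, ι₀, HomologicalComplex.mkHomFromSingle_f,
    HomologicalComplex.mkHomFromSingle_f, Category.assoc]
  show _ ≫ rπ P (PGE 0) 0 ≫ rι P (PGE 0) 0 = _
  rw [rπ_rι, χ_pos P (PGE 0) (by simp only [PGE]; omega)]

lemma πS_s₀ : πS P 0 ≫ s₀ P = 𝟙 (T P 0) := by
  ext n
  by_cases hn : n = 0
  · subst hn
    rw [HomologicalComplex.comp_f, πS_f, s₀, HomologicalComplex.mkHomFromSingle_f,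
      HomologicalComplex.id_f]
    show (rι P (PGE 0) 0 ≫ (HomologicalComplex.singleObjXSelf (ComplexShape.up ℤ) 0 (P.X 0)).inv) ≫
      ((HomologicalComplex.singleObjXSelf (ComplexShape.up ℤ) 0 (P.X 0)).hom ≫ rπ P (PGE 0) 0) =
      𝟙 (rX P (PGE 0) 0)
    rw [Category.assoc, Iso.inv_hom_id_assoc]
    exact rι_rπ P (PGE 0) 0
  · apply IsZero.eq_of_src
    by_cases h : n < 0
    · exact isZero_rX P (PGE 0) (by simp only [PGE]; omega)
    · exact isZero_rX_of_isZero P (PGE 0)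
        (CochainComplex.isZero_of_isStrictlyLE P 0 n (by omega))

lemma isZero_T (m : ℤ) (hm : 1 ≤ m) : IsZero (T P m) :=
  isZero_restr P (PGE m) (fun n hn => CochainComplex.isZero_of_isStrictlyLE P 0 n (by
    simp only [PGE] at hn
    omega))

end Htpy

section Filt

open DerivedCategory

variable {C : Type u} [Category.{v} C] [Abelian C] [HasDerivedCategory.{w} C]
  (P : CochainComplex C ℤ) (Y : DerivedCategory C) {Z₀ : DerivedCategory C} (θ : Q.obj P ≅ Z₀)

/-- precomposition as a `ℤ`-linear map -/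
noncomputable abbrev pre {A B : DerivedCategory C} (f : A ⟶ B) : (B ⟶ Y) →ₗ[ℤ] (A ⟶ Y) :=
  (Preadditive.leftComp Y f).toIntLinearMap

lemma pre_apply {A B : DerivedCategory C} (f : A ⟶ B) (g : B ⟶ Y) : pre Y f g = f ≫ g := rfl

/-- restriction to `T m` -/
noncomputable def ρ (m : ℤ) : (Z₀ ⟶ Y) →ₗ[ℤ] (Q.obj (T P m) ⟶ Y) :=
  pre Y (Q.map (jT P m) ≫ θ.hom)

/-- restriction `T m → T (m+1)` -/
noncomputable def β (m : ℤ) : (Q.obj (T P m) ⟶ Y) →ₗ[ℤ] (Q.obj (T P (m + 1)) ⟶ Y) :=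
  pre Y (Q.map (iT P m))

/-- from the graded piece -/
noncomputable def α (m : ℤ) : (Q.obj (S P m) ⟶ Y) →ₗ[ℤ] (Q.obj (T P m) ⟶ Y) :=
  pre Y (Q.map (πS P m))

/-- the filtration -/
noncomputable def G (m : ℤ) : Submodule ℤ (Z₀ ⟶ Y) := LinearMap.ker (ρ P Y θ m)

/-- the cycles -/
noncomputable def Zs (m : ℤ) : Submodule ℤ (Q.obj (S P m) ⟶ Y) :=
  Submodule.comap (α P Y m) (LinearMap.range (ρ P Y θ m))

/-- the boundaries -/
noncomputable def Bs (m : ℤ) : Submodule ℤ (Q.obj (S P m) ⟶ Y) := LinearMap.ker (α P Y m)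

lemma mem_G (m : ℤ) (f : Z₀ ⟶ Y) : f ∈ G P Y θ m ↔ Q.map (jT P m) ≫ θ.hom ≫ f = 0 := by
  rw [G, LinearMap.mem_ker, ρ, pre_apply, Category.assoc]

lemma mem_Bs (m : ℤ) (y : Q.obj (S P m) ⟶ Y) : y ∈ Bs P Y m ↔ Q.map (πS P m) ≫ y = 0 := by
  rw [Bs, LinearMap.mem_ker, α, pre_apply]

lemma mem_Zs (m : ℤ) (y : Q.obj (S P m) ⟶ Y) :
    y ∈ Zs P Y θ m ↔ ∃ f : Z₀ ⟶ Y, Q.map (jT P m) ≫ θ.hom ≫ f = Q.map (πS P m) ≫ y := by
  rw [Zs, Submodule.mem_comap, LinearMap.mem_range]
  constructor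
  · rintro ⟨f, hf⟩
    refine ⟨f, ?_⟩
    rw [ρ, pre_apply, Category.assoc] at hf
    exact hf
  · rintro ⟨f, hf⟩
    refine ⟨f, ?_⟩
    rw [ρ, pre_apply, Category.assoc]
    exact hf

lemma Bs_le_Zs (m : ℤ) : Bs P Y m ≤ Zs P Y θ m := by
  intro y hy
  rw [mem_Bs] at hy
  rw [mem_Zs]
  exact ⟨0, by rw [hy, comp_zero, comp_zero]⟩

lemma β_comp_ρ (m : ℤ) : β P Y m ∘ₗ ρ P Y θ m = ρ P Y θ (m + 1) := by
  ext f
  show Q.map (iT P m) ≫ (Q.map (jT P m) ≫ θ.hom) ≫ f = (Q.map (jT P (m + 1)) ≫ θ.hom) ≫ f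
  rw [← iT_jT, Q.map_comp]
  simp only [Category.assoc]

lemma range_α (m : ℤ) : LinearMap.range (α P Y m) = LinearMap.ker (β P Y m) := by
  ext f
  rw [LinearMap.mem_range, LinearMap.mem_ker]
  constructor
  · rintro ⟨g, rfl⟩
    show Q.map (iT P m) ≫ Q.map (πS P m) ≫ g = 0
    have hz : iT P m ≫ πS P m = 0 := (ses1 P m).zero
    rw [← Category.assoc, ← Q.map_comp, hz, Q.map_zero, zero_comp]
  · intro hf
    obtain ⟨g, hg⟩ := exact1 P Y m f hf
    exact ⟨g, hg.symm⟩

lemma G_mono (m : ℤ) : G P Y θ m ≤ G P Y θ (m + 1) := by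
  intro f hf
  rw [G, LinearMap.mem_ker] at hf ⊢
  rw [← β_comp_ρ, LinearMap.comp_apply, hf, map_zero]

/-- the graded pieces -/
theorem nonempty_gr (m : ℤ) :
    Nonempty ((↥(G P Y θ (m + 1)) ⧸
        Submodule.comap (G P Y θ (m + 1)).subtype (G P Y θ m)) ≃ₗ[ℤ]
      (↥(Zs P Y θ m) ⧸ Submodule.comap (Zs P Y θ m).subtype (Bs P Y m))) := by
  have h := Groth.Agent.Lib.Helper5.SubquoAlg.nonempty_gr_equiv (ρ P Y θ m) (β P Y m) (α P Y m)
    (range_α P Y m)
  rw [β_comp_ρ] at h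
  exact h

lemma single_d_mem_Bs (m : ℤ)
    (w : Q.obj ((HomologicalComplex.single C (ComplexShape.up ℤ) m).obj (P.X (m + 1))) ⟶ Y) :
    Q.map ((HomologicalComplex.single C (ComplexShape.up ℤ) m).map (P.d m (m + 1))) ≫ w ∈
      Bs P Y m := by
  rw [mem_Bs, ← Category.assoc, ← Q.map_comp, πS_comp_single_d,
    Q_map_eq_of_homotopy _ (Homotopy.nullHomotopy _ (hom5_zero P m)), Q.map_zero, zero_comp]

lemma single_d_comp_eq_zero (m : ℤ) (y : Q.obj (S P m) ⟶ Y) (hy : y ∈ Zs P Y θ m) :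
    Q.map ((HomologicalComplex.single C (ComplexShape.up ℤ) m).map (P.d (m - 1) m)) ≫ y = 0 := by
  rw [mem_Zs] at hy
  obtain ⟨f, hf⟩ := hy
  rw [← gT_πS, Q.map_comp, Category.assoc, ← hf, ← Category.assoc, ← Q.map_comp, gT_jT,
    Q_map_eq_of_homotopy _ (Homotopy.nullHomotopy _ (hom6_zero P m)), Q.map_zero, zero_comp]

lemma G_eq_bot (b m : ℤ) [Y.IsGE b] (hm : m ≤ b) : G P Y θ m = ⊥ := by
  rw [eq_bot_iff]
  intro f hf
  rw [mem_G] at hf
  obtain ⟨g, hg⟩ := exact2 P Y m (θ.hom ≫ f) hf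
  rw [hom_L_eq_zero P Y b m hm g, comp_zero] at hg
  rw [Submodule.mem_bot]
  exact (cancel_epi θ.hom).1 (hg.trans comp_zero.symm)

variable [P.IsStrictlyLE 0]

lemma G_eq_top (m : ℤ) (hm : 1 ≤ m) : G P Y θ m = ⊤ := by
  rw [eq_top_iff]
  intro f _
  rw [mem_G]
  exact (Functor.map_isZero Q (isZero_T P m hm)).eq_of_src _ _

lemma mem_G_zero (f : Z₀ ⟶ Y) : f ∈ G P Y θ 0 ↔ Q.map (ι₀ P) ≫ θ.hom ≫ f = 0 := by
  rw [mem_G]
  constructor
  · intro h
    rw [← s₀_jT, Q.map_comp, Category.assoc, h, comp_zero]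
  · intro h
    have h1 : jT P 0 = πS P 0 ≫ ι₀ P := by
      rw [← s₀_jT, ← Category.assoc, πS_s₀, Category.id_comp]
    rw [h1, Q.map_comp, Category.assoc, h, comp_zero]

end Filt

end Groth.Agent.Lib.Helper5.TowerD
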