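import Mathlib
import Groth.Prelude.Def_CohB1
import Groth.Prelude.Def_HTor
import Groth.Agent.Lib.Helper5.TowerD
import Groth.Agent.Lib.Helper5.CechPhi
import Groth.Agent.Lib.Helper5.HomologySubquo

/-!
# The filtration on hypercohomology induced by the Čech resolution (helper5)
-/

set_option autoImplicit false
universe u

namespace Groth.Agent.Lib.Helper5.CechFiltration

open CategoryTheory CategoryTheory.Limits Opposite TopologicalSpace DerivedCategory
open Groth.Agent.Lib.Helper5.CechFreeRes Groth.Agent.Lib.Helper5.CechPhi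
open Groth.Agent.Lib.Helper5.TowerD Groth.Agent.Lib.Helper5.LHomDer
open Groth.Agent.Lib.Helper5.SubquoAlg Groth.Agent.Lib.Helper5.HomologySubquo
open Groth.Agent.Lib.Helper13.CechBasic

variable {X : TopCat.{u}} [HasDerivedCategory.{u} (CohTop.Ab X)] {ι : Type u}
  (U : ι → Opens X) (hcov : iSup U = ⊤) (Y₀ : DerivedCategory (CohTop.Ab X)) (n : ℤ)

/-- the augmentation, with target a single complex -/
noncomputable def ε' : P (X := X) U ⟶
    (HomologicalComplex.single (CohTop.Ab X) (ComplexShape.up ℤ) 0).obj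
      (CohCx.freeSheaf (Opens.grothendieckTopology X) (⊤ : Opens X)) := ε U

omit [HasDerivedCategory.{u} (CohTop.Ab X)] in
include hcov in
lemma quasiIso_ε' : QuasiIso (ε' U) := quasiIso_ε U hcov

omit [HasDerivedCategory.{u} (CohTop.Ab X)] in
lemma ε'_f_zero : (ε' U).f 0 = (PXIso U 0 0 (by simp)).hom ≫ aug U ≫
    (HomologicalComplex.singleObjXSelf (ComplexShape.up ℤ) 0
      (CohCx.freeSheaf (Opens.grothendieckTopology X) (⊤ : Opens X))).inv := ε_f_zero U

/-- single complexes in the derived category -/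
noncomputable def ισ (F : CohTop.Ab X) : (DerivedCategory.singleFunctor (CohTop.Ab X) 0).obj F ≅
    Q.obj ((HomologicalComplex.single (CohTop.Ab X) (ComplexShape.up ℤ) 0).obj F) :=
  (singleFunctorIsoCompQ (CohTop.Ab X) 0).app F

lemma ισ_naturality {F F' : CohTop.Ab X} (g : F ⟶ F') :
    (DerivedCategory.singleFunctor (CohTop.Ab X) 0).map g ≫ (ισ F').hom =
      (ισ F).hom ≫ Q.map ((HomologicalComplex.single (CohTop.Ab X) (ComplexShape.up ℤ) 0).map g) :=
  (singleFunctorIsoCompQ (CohTop.Ab X) 0).hom.naturality g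

/-- the resolution in the derived category -/
noncomputable def θ : (Q.obj (P (X := X) U) : DerivedCategory (CohTop.Ab X)) ≅
    (DerivedCategory.singleFunctor (CohTop.Ab X) 0).obj
      (CohCx.freeSheaf (Opens.grothendieckTopology X) (⊤ : Opens X)) :=
  haveI := quasiIso_ε' U hcov
  asIso (Q.map (ε' U)) ≪≫ (ισ _).symm

lemma θ_hom : (θ U hcov).hom = Q.map (ε' U) ≫
    (ισ (CohCx.freeSheaf (Opens.grothendieckTopology X) (⊤ : Opens X))).inv := rfl

section Gr

variable (p : ℕ) (m : ℤ) (hm : -(p : ℤ) = m)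

include hm in
lemma ham : (p : ℤ) + m = 0 := by omega

lemma hnp : (n - (p : ℤ)) + (p : ℤ) = n := by omega

/-- the identification of the `E₁`-term with Čech cochains -/
noncomputable def Λ : ((Q.obj (S (P (X := X) U) m) : DerivedCategory (CohTop.Ab X)) ⟶ Y₀⟦n⟧) ≃ₗ[ℤ]
    (cx U (CohCx.HDUPresheaf Y₀ (n - (p : ℤ)))).X p :=
  ((homCongrAdd (Q.mapIso ((HomologicalComplex.single (CohTop.Ab X) (ComplexShape.up ℤ) m).mapIso
      (PXIso U m p hm))) (Iso.refl (Y₀⟦n⟧))).trans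
    (AddEquiv.ofBijective (Φ U Y₀ (p : ℤ) m n (n - (p : ℤ)) (ham p m hm) (hnp n p) p)
      ⟨Φ_injective U Y₀ (p : ℤ) m n (n - (p : ℤ)) (ham p m hm) (hnp n p) p,
        Φ_surjective U Y₀ (p : ℤ) m n (n - (p : ℤ)) (ham p m hm) (hnp n p) p⟩)).toIntLinearEquiv

lemma Λ_apply (y : (Q.obj (S (P (X := X) U) m) : DerivedCategory (CohTop.Ab X)) ⟶ Y₀⟦n⟧) :
    Λ U Y₀ n p m hm y = Φ U Y₀ (p : ℤ) m n (n - (p : ℤ)) (ham p m hm) (hnp n p) p
      (Q.map ((HomologicalComplex.single (CohTop.Ab X) (ComplexShape.up ℤ) m).map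
        (PXIso U m p hm).inv) ≫ y) := by
  show Φ U Y₀ (p : ℤ) m n (n - (p : ℤ)) (ham p m hm) (hnp n p) p
    (Q.map ((HomologicalComplex.single (CohTop.Ab X) (ComplexShape.up ℤ) m).map
        (PXIso U m p hm).inv) ≫ y ≫ 𝟙 _) = _
  rw [Category.comp_id]

lemma d_Λ_eq_zero (y : (Q.obj (S (P (X := X) U) m) : DerivedCategory (CohTop.Ab X)) ⟶ Y₀⟦n⟧)
    (hy : y ∈ Zs (P (X := X) U) (Y₀⟦n⟧) (θ U hcov) m) (j : ℕ) :
    ((cx U (CohCx.HDUPresheaf Y₀ (n - (p : ℤ)))).d p j).hom (Λ U Y₀ n p m hm y) = 0 := by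
  by_cases hj : p + 1 = j
  · subst hj
    rw [Λ_apply, ← Φ_d]
    have h1 := P_d U (m - 1) m p (by push_cast; omega) hm
    have h2 : dA U p ≫ (PXIso U m p hm).inv =
        (PXIso U (m - 1) (p + 1) (by push_cast; omega)).inv ≫ (P (X := X) U).d (m - 1) m := by
      rw [h1, Iso.inv_hom_id_assoc]
    have h3 := single_d_comp_eq_zero (P (X := X) U) (Y₀⟦n⟧) (θ U hcov) m y hy
    rw [← Category.assoc, ← Q.map_comp, ← Functor.map_comp, h2, Functor.map_comp, Q.map_comp,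
      Category.assoc, h3, comp_zero, map_zero]
  · rw [(cx U (CohCx.HDUPresheaf Y₀ (n - (p : ℤ)))).shape p j (by simpa using hj)]
    rfl

lemma d_mem_map_Bs (i : ℕ) (x : (cx U (CohCx.HDUPresheaf Y₀ (n - (p : ℤ)))).X i) :
    ((cx U (CohCx.HDUPresheaf Y₀ (n - (p : ℤ)))).d i p).hom x ∈
      (Bs (P (X := X) U) (Y₀⟦n⟧) m).map (Λ U Y₀ n p m hm).toLinearMap := by
  by_cases hi : i + 1 = p
  · subst hi
    obtain ⟨w, rfl⟩ := Φ_surjective U Y₀ ((i + 1 : ℕ) : ℤ) m n (n - ((i + 1 : ℕ) : ℤ))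
      (ham (i + 1) m hm) (hnp n (i + 1)) i x
    rw [← Φ_d]
    have h1 := P_d U m (m + 1) i hm (by push_cast at hm ⊢; omega)
    have h2 : (PXIso U m (i + 1) hm).hom ≫ dA U i =
        (P (X := X) U).d m (m + 1) ≫ (PXIso U (m + 1) i (by push_cast at hm ⊢; omega)).hom := by
      rw [h1, Category.assoc, Category.assoc, Iso.inv_hom_id, Category.comp_id]
    refine ⟨Q.map ((HomologicalComplex.single (CohTop.Ab X) (ComplexShape.up ℤ) m).map
      ((PXIso U m (i + 1) hm).hom ≫ dA U i)) ≫ w, ?_, ?_⟩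
    · rw [h2, Functor.map_comp, Q.map_comp, Category.assoc]
      exact single_d_mem_Bs (P (X := X) U) (Y₀⟦n⟧) m _
    · show Λ U Y₀ n (i + 1) m hm _ = _
      rw [Λ_apply, ← Category.assoc, ← Q.map_comp, ← Functor.map_comp, Iso.inv_hom_id_assoc]
  · rw [(cx U (CohCx.HDUPresheaf Y₀ (n - (p : ℤ)))).shape i p (by simpa using hi)]
    exact Submodule.zero_mem _

include hcov hm in
/-- the graded pieces are subquotients of Čech cohomology -/
theorem isSubquotient_gr :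
    HTor.IsSubquotient ℤ
      (↥(G (P (X := X) U) (Y₀⟦n⟧) (θ U hcov) (m + 1)) ⧸
        Submodule.comap (G (P (X := X) U) (Y₀⟦n⟧) (θ U hcov) (m + 1)).subtype (G (P (X := X) U) (Y₀⟦n⟧) (θ U hcov) m))
      (CohB1.cechHTop U (CohCx.HDUPresheaf Y₀ (n - (p : ℤ))) p) := by
  obtain ⟨e⟩ := nonempty_gr (P (X := X) U) (Y₀⟦n⟧) (θ U hcov) m
  obtain ⟨ψ⟩ := nonempty_quot_map_linearEquiv (Λ U Y₀ n p m hm) (Bs (P (X := X) U) (Y₀⟦n⟧) m)
    (Zs (P (X := X) U) (Y₀⟦n⟧) (θ U hcov) m)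
  have key := isSubquotient_homology ((cx U (CohCx.HDUPresheaf Y₀ (n - (p : ℤ)))).sc p)
    ((Zs (P (X := X) U) (Y₀⟦n⟧) (θ U hcov) m).map (Λ U Y₀ n p m hm).toLinearMap)
    ((Bs (P (X := X) U) (Y₀⟦n⟧) m).map (Λ U Y₀ n p m hm).toLinearMap)
    (by
      rintro _ ⟨y, hy, rfl⟩
      exact d_Λ_eq_zero U hcov Y₀ n p m hm y hy _)
    (fun x => d_mem_map_Bs U Y₀ n p m hm _ x)
  exact isSubquotient_of_linearEquiv_left (e.trans ψ) key

end Gr

section G1

omit [HasDerivedCategory.{u} (CohTop.Ab X)] in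
lemma ι₀_ε : ι₀ (P (X := X) U) ≫ ε' U =
    (HomologicalComplex.single (CohTop.Ab X) (ComplexShape.up ℤ) 0).map
      ((PXIso U 0 0 (by simp)).hom ≫ aug U) := by
  apply HomologicalComplex.from_single_hom_ext
  rw [HomologicalComplex.comp_f, ε'_f_zero, ι₀, HomologicalComplex.mkHomFromSingle_f,
    HomologicalComplex.single_map_f_self]
  simp only [Category.comp_id, Category.assoc]

lemma Q_ι₀_θ : Q.map (ι₀ (P (X := X) U)) ≫ (θ U hcov).hom =
    Q.map ((HomologicalComplex.single (CohTop.Ab X) (ComplexShape.up ℤ) 0).map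
      ((PXIso U 0 0 (by simp)).hom ≫ aug U)) ≫
      (ισ (CohCx.freeSheaf (Opens.grothendieckTopology X) (⊤ : Opens X))).inv := by
  rw [θ_hom, ← Category.assoc, ← Q.map_comp, ι₀_ε]

lemma singleFunctor_map_comp_eq {F : CohTop.Ab X}
    (g : F ⟶ CohCx.freeSheaf (Opens.grothendieckTopology X) (⊤ : Opens X))
    (f : (DerivedCategory.singleFunctor (CohTop.Ab X) 0).obj
      (CohCx.freeSheaf (Opens.grothendieckTopology X) (⊤ : Opens X)) ⟶ Y₀⟦n⟧) :
    (DerivedCategory.singleFunctor (CohTop.Ab X) 0).map g ≫ f =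
      (ισ F).hom ≫ Q.map ((HomologicalComplex.single (CohTop.Ab X) (ComplexShape.up ℤ) 0).map g) ≫
        (ισ (CohCx.freeSheaf (Opens.grothendieckTopology X) (⊤ : Opens X))).inv ≫ f := by
  rw [← Category.assoc (ισ F).hom, ← ισ_naturality, Category.assoc, Iso.hom_inv_id_assoc]

lemma key_iff {F : CohTop.Ab X}
    (g : F ⟶ CohCx.freeSheaf (Opens.grothendieckTopology X) (⊤ : Opens X))
    (f : (DerivedCategory.singleFunctor (CohTop.Ab X) 0).obj
      (CohCx.freeSheaf (Opens.grothendieckTopology X) (⊤ : Opens X)) ⟶ Y₀⟦n⟧) :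
    Q.map ((HomologicalComplex.single (CohTop.Ab X) (ComplexShape.up ℤ) 0).map g) ≫
        (ισ (CohCx.freeSheaf (Opens.grothendieckTopology X) (⊤ : Opens X))).inv ≫ f = 0 ↔
      (DerivedCategory.singleFunctor (CohTop.Ab X) 0).map g ≫ f = 0 := by
  rw [singleFunctor_map_comp_eq]
  constructor
  · intro h
    rw [h, comp_zero]
  · intro h
    exact (cancel_epi (ισ F).hom).1 (h.trans comp_zero.symm)

theorem mem_G_zero_iff (f : (DerivedCategory.singleFunctor (CohTop.Ab X) 0).obj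
      (CohCx.freeSheaf (Opens.grothendieckTopology X) (⊤ : Opens X)) ⟶ Y₀⟦n⟧) :
    f ∈ G (P (X := X) U) (Y₀⟦n⟧) (θ U hcov) 0 ↔
      ∀ i, (DerivedCategory.singleFunctor (CohTop.Ab X) 0).map
        (CohCx.freeSheafMap (Opens.grothendieckTopology X)
          (homOfLE le_top : U i ⟶ (⊤ : Opens X))) ≫ f = 0 := by
  rw [mem_G_zero, ← Category.assoc, Q_ι₀_θ, Category.assoc]
  constructor
  · intro h i
    rw [← key_iff]
    have h1 : CohCx.freeSheafMap (Opens.grothendieckTopology X)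
        (homOfLE le_top : U i ⟶ (⊤ : Opens X)) =
        (CohCx.freeSheafMap (Opens.grothendieckTopology X)
          (Pi.lift (fun _ => 𝟙 (U i)) : U i ⟶ ∏ᶜ (U ∘ (fun _ : Fin 1 => i))) ≫
          c U 0 (fun _ : Fin 1 => i) ≫ (PXIso U 0 0 (by simp)).inv) ≫
          ((PXIso U 0 0 (by simp)).hom ≫ aug U) := by
      simp only [Category.assoc, Iso.inv_hom_id_assoc]
      rw [c_zero_aug, ← CohFree.freeSheafMap_comp]
      exact congrArg _ (Subsingleton.elim _ _)
    rw [h1, Functor.map_comp, Q.map_comp, Category.assoc, h, comp_zero]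
  · intro h
    have h2 : Q.map ((HomologicalComplex.single (CohTop.Ab X) (ComplexShape.up ℤ) 0).map (aug U)) ≫
        (ισ (CohCx.freeSheaf (Opens.grothendieckTopology X) (⊤ : Opens X))).inv ≫ f = 0 := by
      apply Q_single_c_ext U 0 0
      intro σ
      rw [comp_zero, ← Category.assoc, ← Q.map_comp, ← Functor.map_comp, c_zero_aug, key_iff]
      have h3 : CohCx.freeSheafMap (Opens.grothendieckTopology X)
          (homOfLE le_top : ∏ᶜ (U ∘ σ) ⟶ (⊤ : Opens X)) =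
          CohCx.freeSheafMap (Opens.grothendieckTopology X) (Pi.π (U ∘ σ) 0) ≫
            CohCx.freeSheafMap (Opens.grothendieckTopology X)
              (homOfLE le_top : U (σ 0) ⟶ (⊤ : Opens X)) := by
        rw [← CohFree.freeSheafMap_comp]
        exact congrArg _ (Subsingleton.elim _ _)
      rw [h3, Functor.map_comp, Category.assoc, h (σ 0), comp_zero]
    rw [Functor.map_comp, Q.map_comp, Category.assoc, h2, comp_zero]

end G1

include hcov in
/-- the Čech filtration on hypercohomology -/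
theorem main (K : CochainComplex (CohTop.Ab X) ℤ) (a : ℤ)
    (ha : ∀ i : ℤ, i < a → IsZero (K.X i)) (n : ℤ) :
    ∃ (N : ℕ) (G : ℕ → Submodule ℤ (CohCx.HDU (DerivedCategory.Q.obj K) n (⊤ : Opens X))),
      Antitone G ∧ G 0 = ⊤ ∧ G N = ⊥ ∧
      G 1 = ⨅ i, AddSubgroup.toIntSubmodule
        (CohCx.HDUres (DerivedCategory.Q.obj K) n (homOfLE le_top : U i ⟶ (⊤ : Opens X))).ker ∧
      ∀ p : ℕ, HTor.IsSubquotient ℤ (HTor.grDesc G p)
        (CohB1.cechHTop U (CohCx.HDUPresheaf (DerivedCategory.Q.obj K) (n - p)) p) := by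
  haveI : K.IsStrictlyGE a := (CochainComplex.isStrictlyGE_iff _ _).2 ha
  haveI h1 : TStructure.t.IsGE (Q.obj K) a := (inferInstance : (Q.obj K).IsGE a)
  haveI h2 : ((Q.obj K)⟦n⟧).IsGE (a - n) := TStructure.t.isGE_shift (Q.obj K) a n (a - n) (by omega)
  refine ⟨(1 - (a - n)).toNat,
    fun p : ℕ => G (P (X := X) U) ((Q.obj K)⟦n⟧) (θ U hcov) (1 - (p : ℤ)), ?_, ?_, ?_, ?_, ?_⟩
  · apply antitone_nat_of_succ_le
    intro p
    have h := G_mono (P (X := X) U) ((Q.obj K)⟦n⟧) (θ U hcov) (1 - ((p + 1 : ℕ) : ℤ))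
    have e : (1 : ℤ) - ((p + 1 : ℕ) : ℤ) + 1 = 1 - (p : ℤ) := by
      push_cast
      ring
    rw [e] at h
    exact h
  · exact G_eq_top _ _ _ _ (by simp)
  · exact G_eq_bot (P (X := X) U) ((Q.obj K)⟦n⟧) (θ U hcov) (a - n) _ (by omega)
  · ext f
    rw [Submodule.mem_iInf]
    have e : (1 : ℤ) - ((1 : ℕ) : ℤ) = 0 := by simp
    show f ∈ G (P (X := X) U) ((Q.obj K)⟦n⟧) (θ U hcov) (1 - ((1 : ℕ) : ℤ)) ↔ _
    rw [e, mem_G_zero_iff]
    exact forall_congr' (fun i => Iff.rfl)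
  · intro p
    have h := isSubquotient_gr U hcov (Q.obj K) n p (-(p : ℤ)) rfl
    have e1 : (1 : ℤ) - (p : ℤ) = -(p : ℤ) + 1 := by ring
    have e2 : (1 : ℤ) - ((p + 1 : ℕ) : ℤ) = -(p : ℤ) := by
      push_cast
      ring
    show HTor.IsSubquotient ℤ
      (↥(G (P (X := X) U) ((Q.obj K)⟦n⟧) (θ U hcov) (1 - (p : ℤ))) ⧸
        Submodule.comap (G (P (X := X) U) ((Q.obj K)⟦n⟧) (θ U hcov) (1 - (p : ℤ))).subtype
          (G (P (X := X) U) ((Q.obj K)⟦n⟧) (θ U hcov) (1 - ((p + 1 : ℕ) : ℤ)))) _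
    rw [e1, e2]
    exact h

end Groth.Agent.Lib.Helper5.CechFiltration
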