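import Mathlib
import Groth.Agent.Lib.Helper5.CechLowGen

/-!
# Helper5: Čech complexes and product-preserving functors

For `Pf : D ⥤ D'` preserving the iterated products of a family `Y : κ → D`, the Čech complex of
`Pf.op ⋙ Q` with respect to `Y` is exact in a positive degree as soon as the Čech complex of `Q` with
respect to `Pf ∘ Y` is.
-/

set_option autoImplicit false
universe w v₁ v₂ u₁ u₂

namespace Groth.Agent.Lib.Helper5.CechFunct

open CategoryTheory CategoryTheory.Limits Opposite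
open Groth.Agent.Lib.Helper15.CechGen Groth.Agent.Lib.Helper5.CechLowGen

noncomputable section

variable {D : Type u₁} [Category.{v₁} D] [HasFiniteProducts D]
  {D' : Type u₂} [Category.{v₂} D'] [HasFiniteProducts D']
  (Pf : D ⥤ D') {κ : Type w} (Y : κ → D) (Q : D'ᵒᵖ ⥤ AddCommGrpCat.{w})

/-- the image family -/
abbrev Y' : κ → D' := fun j => Pf.obj (Y j)

/-- comparison data between the iterated products of `Y` and of its image family -/
structure Cmp where
  /-- the comparison isomorphisms -/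
  θ : ∀ {n : ℕ} (i : Fin (n + 1) → κ), ∏ᶜ (Y' Pf Y ∘ i) ≅ Pf.obj (∏ᶜ (Y ∘ i))
  θ_π : ∀ {n : ℕ} (i : Fin (n + 1) → κ) (a : Fin (n + 1)),
    (θ i).hom ≫ Pf.map (Pi.π (Y ∘ i) a) = Pi.π (Y' Pf Y ∘ i) a

/-- comparison data from preservation of finite products -/
def cmpOfPreserves [PreservesFiniteProducts Pf] : Cmp Pf Y where
  θ {n} i := (PreservesProduct.iso Pf (Y ∘ i)).symm
  θ_π {n} i a := by
    change (PreservesProduct.iso Pf (Y ∘ i)).inv ≫ Pf.map (Pi.π (Y ∘ i) a) = _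
    rw [Iso.inv_comp_eq, PreservesProduct.iso_hom]
    exact (piComparison_comp_π Pf (Y ∘ i) a).symm

variable {Pf Y} (c : Cmp Pf Y)

lemma Cmp.inv_π {n : ℕ} (i : Fin (n + 1) → κ) (a : Fin (n + 1)) :
    (c.θ i).inv ≫ Pi.π (Y' Pf Y ∘ i) a = Pf.map (Pi.π (Y ∘ i) a) := by
  rw [Iso.inv_comp_eq, c.θ_π]

lemma Cmp.face {n : ℕ} (i : Fin (n + 2) → κ) (k : Fin (n + 2)) :
    (c.θ i).hom ≫ Pf.map (face Y i k) =
      face (Y' Pf Y) i k ≫ (c.θ (i ∘ k.succAbove)).hom := by
  rw [← cancel_mono (c.θ (i ∘ k.succAbove)).inv, Category.assoc, Category.assoc, Iso.hom_inv_id,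
    Category.comp_id]
  apply Pi.hom_ext
  intro a
  rw [Category.assoc, Category.assoc, c.inv_π, ← Pf.map_comp, face_π, c.θ_π]
  exact (face_π (Y' Pf Y) i k a).symm

/-- the comparison map on cochains -/
def φ (n : ℕ) (x : (cx Y (Pf.op ⋙ Q)).X n) : (cx (Y' Pf Y) Q).X n :=
  mk (Y' Pf Y) Q (fun i => (Q.map (c.θ i).hom.op).hom ((proj Y (Pf.op ⋙ Q) n i).hom x))

lemma proj_φ (n : ℕ) (x : (cx Y (Pf.op ⋙ Q)).X n) (i : Fin (n + 1) → κ) :
    (proj (Y' Pf Y) Q n i).hom (φ Q c n x) =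
      (Q.map (c.θ i).hom.op).hom ((proj Y (Pf.op ⋙ Q) n i).hom x) :=
  proj_mk _ _ _ _

lemma φ_injective (n : ℕ) : Function.Injective (φ Q c n) := by
  intro x x' h
  apply ext_elem
  intro i
  have h1 := congrArg (fun y => (proj (Y' Pf Y) Q n i).hom y) h
  simp only [proj_φ] at h1
  have h2 := congrArg (fun y => (Q.map (c.θ i).inv.op).hom y) h1
  simp only [map_map_apply, Iso.inv_hom_id, map_id_apply] at h2
  exact h2

lemma φ_surjective (n : ℕ) : Function.Surjective (φ Q c n) := by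
  intro y
  refine ⟨mk Y (Pf.op ⋙ Q) (fun i => (Q.map (c.θ i).inv.op).hom
    ((proj (Y' Pf Y) Q n i).hom y)), ?_⟩
  apply ext_elem
  intro i
  rw [proj_φ, proj_mk, map_map_apply, Iso.hom_inv_id, map_id_apply]

lemma φ_zero (n : ℕ) : φ Q c n 0 = 0 := by
  apply ext_elem
  intro i
  rw [proj_φ, map_zero, map_zero, map_zero]

lemma φ_d (n : ℕ) (x : (cx Y (Pf.op ⋙ Q)).X n) :
    φ Q c (n + 1) (((cx Y (Pf.op ⋙ Q)).d n (n + 1)).hom x) =
      ((cx (Y' Pf Y) Q).d n (n + 1)).hom (φ Q c n x) := by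
  apply ext_elem
  intro i
  rw [proj_φ, d_apply, d_apply, map_sum]
  refine Finset.sum_congr rfl (fun k _ => ?_)
  rw [map_zsmul, proj_φ]
  congr 1
  change (Q.map (c.θ i).hom.op).hom ((Q.map (Pf.map (face Y i k)).op).hom _) = _
  rw [map_map_apply, map_map_apply, c.face]

include c in
/-- transfer of exactness -/
theorem cechExact_of_cechExact (n : ℕ) (h : CechExact (Y' Pf Y) Q n) :
    CechExact Y (Pf.op ⋙ Q) n := by
  intro x hx
  have h1 : ((cx (Y' Pf Y) Q).d (n + 1) (n + 2)).hom (φ Q c (n + 1) x) = 0 := by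
    rw [← φ_d, hx, φ_zero]
  obtain ⟨b', hb'⟩ := h _ h1
  obtain ⟨b, rfl⟩ := φ_surjective Q c n b'
  refine ⟨b, ?_⟩
  apply φ_injective Q c (n + 1)
  rw [φ_d, hb']

end

end Groth.Agent.Lib.Helper5.CechFunct
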