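import Mathlib
import Groth.Prelude.Def_CohCx
import Groth.Prelude.Def_FreeSh

/-!
# The Čech presentation of a free abelian sheaf on a topological space (helper5)

For a family of opens `U a ≤ V` covering `V`, the sequence
`∐_{a,b} ℤ_{U a ⊓ U b} ⟶ ∐_a ℤ_{U a} ⟶ ℤ_V ⟶ 0` of abelian sheaves is right exact.
-/

set_option autoImplicit false
universe u
open CategoryTheory CategoryTheory.Limits Opposite TopologicalSpace

namespace Groth.Agent.Lib.Helper5.CechPresent

variable {Y : TopCat.{u}} {ι : Type u} (U : ι → Opens Y) (V : Opens Y) (hUV : ∀ a, U a ≤ V)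

local notation "JY" => Opens.grothendieckTopology Y

/-- `∐_a ℤ_{U a}` -/
noncomputable def Q₀ : Sheaf (Opens.grothendieckTopology Y) AddCommGrpCat.{u} :=
  ∐ (fun a : ι => CohCx.freeSheaf (Opens.grothendieckTopology Y) (U a))

/-- `∐_{a,b} ℤ_{U a ⊓ U b}` -/
noncomputable def Q₁ : Sheaf (Opens.grothendieckTopology Y) AddCommGrpCat.{u} :=
  ∐ (fun ab : ι × ι => CohCx.freeSheaf (Opens.grothendieckTopology Y) (U ab.1 ⊓ U ab.2))

/-- inclusions -/
noncomputable def ι₀ (a : ι) : CohCx.freeSheaf (Opens.grothendieckTopology Y) (U a) ⟶ Q₀ U :=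
  Sigma.ι (fun a : ι => CohCx.freeSheaf (Opens.grothendieckTopology Y) (U a)) a

/-- inclusions -/
noncomputable def ι₁ (ab : ι × ι) :
    CohCx.freeSheaf (Opens.grothendieckTopology Y) (U ab.1 ⊓ U ab.2) ⟶ Q₁ U :=
  Sigma.ι (fun ab : ι × ι => CohCx.freeSheaf (Opens.grothendieckTopology Y) (U ab.1 ⊓ U ab.2)) ab

/-- the cofan of `Q₀` is a colimit -/
noncomputable def isColimit₀ : IsColimit (Cofan.mk (Q₀ U) (ι₀ U)) := coproductIsCoproduct _

/-- the cofan of `Q₁` is a colimit -/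
noncomputable def isColimit₁ : IsColimit (Cofan.mk (Q₁ U) (ι₁ U)) := coproductIsCoproduct _

/-- the augmentation `∐ ℤ_{U a} ⟶ ℤ_V` -/
noncomputable def e : Q₀ U ⟶ CohCx.freeSheaf (Opens.grothendieckTopology Y) V :=
  Sigma.desc (fun a => CohCx.freeSheafMap (Opens.grothendieckTopology Y) (homOfLE (hUV a)))

/-- the Čech differential -/
noncomputable def d : Q₁ U ⟶ Q₀ U :=
  Sigma.desc (fun ab : ι × ι =>
    CohCx.freeSheafMap (Opens.grothendieckTopology Y) (Opens.infLELeft (U ab.1) (U ab.2)) ≫ ι₀ U ab.1 -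
    CohCx.freeSheafMap (Opens.grothendieckTopology Y) (Opens.infLERight (U ab.1) (U ab.2)) ≫ ι₀ U ab.2)

@[reassoc]
lemma ι₀_e (a : ι) : ι₀ U a ≫ e U V hUV =
    CohCx.freeSheafMap (Opens.grothendieckTopology Y) (homOfLE (hUV a)) :=
  Sigma.ι_desc _ _

@[reassoc]
lemma ι₁_d (ab : ι × ι) : ι₁ U ab ≫ d U =
    CohCx.freeSheafMap (Opens.grothendieckTopology Y) (Opens.infLELeft (U ab.1) (U ab.2)) ≫ ι₀ U ab.1 -
    CohCx.freeSheafMap (Opens.grothendieckTopology Y) (Opens.infLERight (U ab.1) (U ab.2)) ≫ ι₀ U ab.2 :=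
  Sigma.ι_desc _ _

lemma d_e : d U ≫ e U V hUV = 0 := by
  apply (isColimit₁ U).hom_ext
  rintro ⟨ab⟩
  change ι₁ U ab ≫ d U ≫ e U V hUV = ι₁ U ab ≫ 0
  rw [ι₁_d_assoc, comp_zero, Preadditive.sub_comp, Category.assoc, Category.assoc, ι₀_e, ι₀_e,
    ← CohFree.freeSheafMap_comp, ← CohFree.freeSheafMap_comp, sub_eq_zero]
  rfl

variable (hcov : V ≤ iSup U)

include hcov in
lemma exists_desc (T : Sheaf (Opens.grothendieckTopology Y) AddCommGrpCat.{u}) (h : Q₀ U ⟶ T)
    (hh : d U ≫ h = 0) :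
    ∃ h' : CohCx.freeSheaf (Opens.grothendieckTopology Y) V ⟶ T, e U V hUV ≫ h' = h := by
  let t : ∀ a, ToType (T.obj.obj (op (U a))) := fun a =>
    CohFree.evalGen (Opens.grothendieckTopology Y) (U a) T (ι₀ U a ≫ h)
  have hcompat : TopCat.Presheaf.IsCompatible T.obj U t := by
    intro a b
    have h1 := congrArg (fun m => ι₁ U (a, b) ≫ m) hh
    dsimp only at h1
    rw [ι₁_d_assoc, comp_zero, Preadditive.sub_comp, sub_eq_zero, Category.assoc,
      Category.assoc] at h1
    have h2 := congrArg (CohFree.evalGen (Opens.grothendieckTopology Y) (U a ⊓ U b) T) h1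
    rw [CohFree.evalGen_freeSheafMap_comp, CohFree.evalGen_freeSheafMap_comp] at h2
    exact h2
  obtain ⟨s, hs, -⟩ := TopCat.Sheaf.existsUnique_gluing' (F := T) U V (fun a => homOfLE (hUV a))
    hcov t hcompat
  refine ⟨CohFree.ofSect (Opens.grothendieckTopology Y) V T s, ?_⟩
  apply (isColimit₀ U).hom_ext
  rintro ⟨a⟩
  change ι₀ U a ≫ e U V hUV ≫ _ = ι₀ U a ≫ h
  rw [ι₀_e_assoc]
  apply (CohFree.homEquivSect (Opens.grothendieckTopology Y) (U a) T).injective
  rw [CohFree.homEquivSect_apply, CohFree.homEquivSect_apply, CohFree.evalGen_freeSheafMap_comp,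
    CohFree.evalGen_ofSect]
  exact hs a

include hcov in
lemma epi_e : Epi (e U V hUV) := by
  apply Preadditive.epi_of_cancel_zero
  intro T h hh
  apply (CohFree.homEquivSect (Opens.grothendieckTopology Y) V T).injective
  rw [map_zero, CohFree.homEquivSect_apply]
  have hz : ∀ a, (T.obj.map (homOfLE (hUV a)).op).hom
      (CohFree.evalGen (Opens.grothendieckTopology Y) V T h) = 0 := by
    intro a
    rw [← CohFree.evalGen_freeSheafMap_comp, ← ι₀_e U V hUV a, Category.assoc, hh, comp_zero,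
      map_zero]
  obtain ⟨s, -, huniq⟩ := TopCat.Sheaf.existsUnique_gluing' (F := T) U V
    (fun a => homOfLE (hUV a)) hcov (fun a => (0 : ToType (T.obj.obj (op (U a)))))
    (fun a b => by simp)
  rw [huniq _ hz, huniq 0 (fun a => by simp)]

include hcov in
lemma exact_d_e : (ShortComplex.mk (d U) (e U V hUV) (d_e U V hUV)).Exact := by
  haveI := epi_e U V hUV hcov
  apply ShortComplex.exact_of_g_is_cokernel
  refine CokernelCofork.IsColimit.ofπ _ _
    (fun {T} h hh => (exists_desc U V hUV hcov T h hh).choose)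
    (fun {T} h hh => (exists_desc U V hUV hcov T h hh).choose_spec)
    (fun {T} h hh m hm => ?_)
  rw [← cancel_epi (e U V hUV), hm]
  exact (exists_desc U V hUV hcov T h hh).choose_spec.symm

end Groth.Agent.Lib.Helper5.CechPresent
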