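import Mathlib
import Groth.Prelude.Def_CechOX
import Groth.Agent.Lib.Helper5.CechContr
import Groth.Agent.Lib.Helper13.CBCCechMap
import Groth.Agent.Lib.Helper3.ModBasis

/-!
# The Čech complex of sheaves of an `O_X`-module is a resolution (helper5)
-/

set_option autoImplicit false
universe u
open CategoryTheory CategoryTheory.Limits Opposite AlgebraicGeometry TopologicalSpace

namespace Groth.Agent.Lib.Helper5.CechShRes

open Groth.Agent.Lib.Helper13.CechBasic Groth.Agent.Lib.Helper13.CBCCechMap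
open Groth.Agent.Lib.Helper5.CechContr

section Abstract

universe w v u' u''

variable {D : Type u'} [Category.{w} D] [HasFiniteProducts D] {ι : Type w} (Y : ι → D)
  {A : Type u''} [Category.{v} A] [Preadditive A] [HasProducts.{w} A] (P : Dᵒᵖ ⥤ A)

/-- a compatible family of maps into the values of `P` gives a `0`-cocycle -/
lemma comp_d_zero {Z : A} (a : Z ⟶ (cxA Y P).X 0) (un : ∀ W : D, Z ⟶ P.obj (op W))
    (hu : ∀ {W W' : D} (f : W' ⟶ W), un W ≫ P.map f.op = un W')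
    (ha : ∀ σ : Fin 1 → ι, a ≫ projA Y P 0 σ = un (∏ᶜ (Y ∘ σ))) :
    a ≫ (cxA Y P).d 0 1 = 0 := by
  show a ≫ (cxA Y P).d 0 (0 + 1) = 0
  apply hom_ext_projA Y P
  intro i
  have hk : ∀ k : Fin 2, a ≫ cofaceA Y P 0 k ≫ projA Y P (0 + 1) i = un (∏ᶜ (Y ∘ i)) := by
    intro k
    rw [cofaceA_projA, ← Category.assoc, ha]
    exact hu (face Y i k)
  rw [dA_eq, zero_comp, Category.assoc, Preadditive.sum_comp, Preadditive.comp_sum,
    Fin.sum_univ_two, Preadditive.zsmul_comp, Preadditive.zsmul_comp, Preadditive.comp_zsmul,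
    Preadditive.comp_zsmul, hk, hk]
  simp

end Abstract

variable {X : Scheme.{u}}

/-- products in the poset of opens: lower bound -/
lemma le_piObj {α : Type*} [Finite α] (f : α → X.Opens) (W : X.Opens) (h : ∀ a, W ≤ f a) :
    W ≤ ∏ᶜ f :=
  leOfHom (Pi.lift (fun a => homOfLE (h a)))

lemma piObj_le {α : Type*} [Finite α] (f : α → X.Opens) (a : α) : ∏ᶜ f ≤ f a :=
  leOfHom (Pi.π f a)

lemma TV_eq (W V : X.Opens) : W.ι ''ᵁ (W.ι ⁻¹ᵁ V) = W ⊓ V := by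
  rw [Scheme.Hom.image_preimage_eq_opensRange_inf, Scheme.Opens.opensRange_ι]

/-- `W ↦ j_W (j_W⁻¹ V)` as a functor on opens -/
noncomputable def TV (V : X.Opens) : X.Opens ⥤ X.Opens where
  obj W := W.ι ''ᵁ (W.ι ⁻¹ᵁ V)
  map i := homOfLE (CechOX.image_preimage_mono (leOfHom i) V)
  map_id _ := Subsingleton.elim _ _
  map_comp _ _ := Subsingleton.elim _ _

/-- sections over `V` -/
noncomputable def EV (V : X.Opens) : X.Modules ⥤ AddCommGrpCat.{u} :=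
  Scheme.Modules.toPresheaf X ⋙ (evaluation _ _).obj (op V)

instance (V : X.Opens) : (EV V).Additive := ⟨fun {_ _ _ _} => rfl⟩

noncomputable instance (V : X.Opens) : PreservesLimits (EV V) := by
  unfold EV; infer_instance

lemma EV_map (V : X.Opens) {M N : X.Modules} (φ : M ⟶ N) : (EV V).map φ = φ.app V := rfl

/-- the family `W ↦ (j_W)_* (F|_W)` -/
noncomputable abbrev PF (F : X.Modules) : (X.Opens)ᵒᵖ ⥤ X.Modules := CechOX.pushRestrFam.flip.obj F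

/-- sections over `V` of the family are `F` precomposed with `TV V` -/
noncomputable def eIso (F : X.Modules) (V : X.Opens) :
    PF F ⋙ EV V ≅ (TV V).op ⋙ F.presheaf :=
  NatIso.ofComponents (fun _ => Iso.refl _) (by
    intro W W' i
    simp only [Iso.refl_hom, Category.comp_id, Category.id_comp]
    rfl)


@[simp] lemma TV_obj (V W : X.Opens) : (TV V).obj W = W ⊓ V := TV_eq W V

variable {ι : Type u} (𝒰 : ι → X.Opens) (F : X.Modules) (V : X.Opens)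

/-- the bridge between sections over `V` of the Čech complex of sheaves and the Čech complex of the
presheaf `W ↦ F (W ∩ V)` -/
noncomputable def Ψ :
    ((EV V).mapHomologicalComplex (ComplexShape.up ℕ)).obj ((CechOX.cechSh 𝒰).obj F) ≅
      cx 𝒰 ((TV V).op ⋙ F.presheaf) :=
  cechMapIso 𝒰 (PF F) (EV V) ≪≫ (cechComplexFunctor 𝒰).mapIso (eIso F V)

lemma Ψ_proj (n : ℕ) (σ : Fin (n + 1) → ι) :
    (Ψ 𝒰 F V).hom.f n ≫ proj 𝒰 ((TV V).op ⋙ F.presheaf) n σ =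
      (projA 𝒰 (PF F) n σ).app V := by
  have h1 : (Ψ 𝒰 F V).hom.f n = (XIso 𝒰 (PF F) (EV V) n).hom ≫
      ((cechComplexFunctor 𝒰).map (eIso F V).hom).f n := rfl
  have h2 : (XIso 𝒰 (PF F) (EV V) n).hom ≫ proj 𝒰 (PF F ⋙ EV V) n σ =
      (EV V).map (projA 𝒰 (PF F) n σ) := XIso_hom_projA 𝒰 (PF F) (EV V) n σ
  have h4 : ((cechComplexFunctor 𝒰).map (eIso F V).hom).f n ≫
      proj 𝒰 ((TV V).op ⋙ F.presheaf) n σ = proj 𝒰 (PF F ⋙ EV V) n σ :=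
    (map_proj 𝒰 (eIso F V).hom n σ).trans (Category.comp_id _)
  rw [h1]
  exact (Category.assoc _ _ _).trans
    ((congrArg (fun t => (XIso 𝒰 (PF F) (EV V) n).hom ≫ t) h4).trans h2)

/-- exactness transported along an isomorphism of complexes of abelian groups -/
lemma transport_exact {K L : CochainComplex AddCommGrpCat.{u} ℕ} (e : K ≅ L) (a b c : ℕ)
    (hL : ∀ y : L.X b, (L.d b c).hom y = 0 → ∃ x : L.X a, (L.d a b).hom x = y)
    (ζ : K.X b) (hζ : (K.d b c).hom ζ = 0) : ∃ t : K.X a, (K.d a b).hom t = ζ := by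
  have h1 : (L.d b c).hom ((e.hom.f b).hom ζ) = 0 := by
    have h := ConcreteCategory.congr_hom (e.hom.comm b c) ζ
    have h' : (L.d b c).hom ((e.hom.f b).hom ζ) = (e.hom.f c).hom ((K.d b c).hom ζ) := h
    rw [h', hζ, map_zero]
  obtain ⟨x, hx⟩ := hL _ h1
  refine ⟨(e.inv.f a).hom x, ?_⟩
  have h := ConcreteCategory.congr_hom (e.inv.comm a b) x
  have h' : (K.d a b).hom ((e.inv.f a).hom x) = (e.inv.f b).hom ((L.d a b).hom x) := h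
  rw [h', hx]
  exact ConcreteCategory.congr_hom (HomologicalComplex.Hom.isoApp e b).hom_inv_id ζ


lemma TV_mm (j : ι) (hV : V ≤ 𝒰 j) (n : ℕ) (σ : Fin (n + 1) → ι) :
    (TV V).obj (∏ᶜ (𝒰 ∘ σ)) ≤ (TV V).obj (∏ᶜ (𝒰 ∘ (Fin.cons j σ : Fin (n + 2) → ι))) := by
  rw [TV_obj, TV_obj]
  refine le_inf (le_piObj _ _ (fun a => ?_)) inf_le_right
  refine Fin.cases ?_ (fun a' => ?_) a
  · show _ ≤ 𝒰 ((Fin.cons j σ : Fin (n + 2) → ι) 0)
    rw [Fin.cons_zero]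
    exact inf_le_right.trans hV
  · show _ ≤ 𝒰 ((Fin.cons j σ : Fin (n + 2) → ι) a'.succ)
    rw [Fin.cons_succ]
    exact inf_le_left.trans (piObj_le (𝒰 ∘ σ) a')

/-- local exactness in positive degrees -/
theorem Lp (j : ι) (hV : V ≤ 𝒰 j) (p : ℕ)
    (ζ : Γ(((CechOX.cechSh 𝒰).obj F).X (p + 1), V))
    (hζ : (((CechOX.cechSh 𝒰).obj F).d (p + 1) (p + 2)).app V ζ = 0) :
    ∃ t : Γ(((CechOX.cechSh 𝒰).obj F).X p, V),
      (((CechOX.cechSh 𝒰).obj F).d p (p + 1)).app V t = ζ :=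
  transport_exact (Ψ 𝒰 F V) p (p + 1) (p + 2)
    (fun y hy => exact_succ (TV V) F.presheaf 𝒰 j
      (fun n σ => homOfLE (TV_mm 𝒰 V j hV n σ)) p y hy) ζ hζ

lemma aug_projA (σ : Fin 1 → ι) :
    CechOX.cechShAug 𝒰 F ≫ projA 𝒰 (PF F) 0 σ =
      (Scheme.Modules.restrictAdjunction (∏ᶜ (𝒰 ∘ σ)).ι).unit.app F :=
  Pi.lift_π _ _

lemma aug_proj_app (σ : Fin 1 → ι) (t : Γ(F, V)) :
    (projA 𝒰 (PF F) 0 σ).app V ((CechOX.cechShAug 𝒰 F).app V t) =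
      F.presheaf.map (homOfLE ((∏ᶜ (𝒰 ∘ σ)).ι.image_preimage_le V)).op t :=
  ConcreteCategory.congr_hom
    (congrArg (fun φ => Scheme.Modules.Hom.app φ V) (aug_projA 𝒰 F σ)) t

/-- local exactness in degree `0` -/
theorem L0 (j : ι) (hV : V ≤ 𝒰 j)
    (ζ : Γ(((CechOX.cechSh 𝒰).obj F).X 0, V))
    (hζ : (((CechOX.cechSh 𝒰).obj F).d 0 1).app V ζ = 0) :
    ∃ t : Γ(F, V), (CechOX.cechShAug 𝒰 F).app V t = ζ := by
  have hdc : ((cx 𝒰 ((TV V).op ⋙ F.presheaf)).d 0 1).hom (((Ψ 𝒰 F V).hom.f 0).hom ζ) = 0 := by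
    have h := ConcreteCategory.congr_hom ((Ψ 𝒰 F V).hom.comm 0 1) ζ
    have h' : ((cx 𝒰 ((TV V).op ⋙ F.presheaf)).d 0 1).hom (((Ψ 𝒰 F V).hom.f 0).hom ζ) =
        ((Ψ 𝒰 F V).hom.f 1).hom ((((CechOX.cechSh 𝒰).obj F).d 0 1).app V ζ) := h
    rw [h', hζ]
    exact map_zero _
  have hVj : V ≤ (TV V).obj (∏ᶜ (𝒰 ∘ fun _ : Fin 1 => j)) := by
    rw [TV_obj]
    exact le_inf (le_piObj _ _ (fun _ => hV)) le_rfl
  have hinv : ∀ z, ((Ψ 𝒰 F V).inv.f 0).hom (((Ψ 𝒰 F V).hom.f 0).hom z) = z := fun z =>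
    ConcreteCategory.congr_hom (HomologicalComplex.Hom.isoApp (Ψ 𝒰 F V) 0).hom_inv_id z
  refine ⟨(F.presheaf.map (homOfLE hVj).op).hom
    ((proj 𝒰 ((TV V).op ⋙ F.presheaf) 0 (fun _ => j)).hom (((Ψ 𝒰 F V).hom.f 0).hom ζ)), ?_⟩
  refine (hinv _).symm.trans ((congrArg _ ?_).trans (hinv ζ))
  apply ext_elem
  intro σ
  have hl := ConcreteCategory.congr_hom (Ψ_proj 𝒰 F V 0 σ)
    ((CechOX.cechShAug 𝒰 F).app V ((F.presheaf.map (homOfLE hVj).op).hom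
    ((proj 𝒰 ((TV V).op ⋙ F.presheaf) 0 (fun _ => j)).hom (((Ψ 𝒰 F V).hom.f 0).hom ζ))))
  refine hl.trans ((aug_proj_app 𝒰 F V σ _).trans ?_)
  have hr := exact_zero (TV V) F.presheaf 𝒰 j (fun n σ => homOfLE (TV_mm 𝒰 V j hV n σ))
    (((Ψ 𝒰 F V).hom.f 0).hom ζ) hdc σ
    (homOfLE ((∏ᶜ (𝒰 ∘ σ)).ι.image_preimage_le V) ≫ homOfLE hVj)
  exact (map_map_apply' F.presheaf _ _ _).trans hr.symm


lemma exists_index (h𝒰 : ⨆ i, 𝒰 i = ⊤) (x : X) : ∃ j, x ∈ 𝒰 j := by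
  have hx' : x ∈ (⨆ i, 𝒰 i : X.Opens) := by rw [h𝒰]; trivial
  exact Opens.mem_iSup.mp hx'

/-- the coaugmentation is a monomorphism -/
theorem mono_aug (h𝒰 : ⨆ i, 𝒰 i = ⊤) : Mono (CechOX.cechShAug 𝒰 F) := by
  apply Groth.Agent.Lib.Helper3.ModBasis.mono_of_injective_on_basis
  intro W x hx
  obtain ⟨j, hj⟩ := exists_index 𝒰 h𝒰 x
  refine ⟨W ⊓ 𝒰 j, ⟨hx, hj⟩, inf_le_left, fun t ht => ?_⟩
  have hVj : W ⊓ 𝒰 j ≤ (TV (W ⊓ 𝒰 j)).obj (∏ᶜ (𝒰 ∘ fun _ : Fin 1 => j)) := by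
    rw [TV_obj]
    exact le_inf (le_piObj _ _ (fun _ => inf_le_right)) le_rfl
  have h1 : (F.presheaf.map (homOfLE ((∏ᶜ (𝒰 ∘ fun _ : Fin 1 => j)).ι.image_preimage_le
      (W ⊓ 𝒰 j))).op).hom t = 0 :=
    (aug_proj_app 𝒰 F (W ⊓ 𝒰 j) (fun _ => j) t).symm.trans
      ((congrArg _ ht).trans (map_zero _))
  have h3 := map_map_apply' F.presheaf (homOfLE hVj)
    (homOfLE ((∏ᶜ (𝒰 ∘ fun _ : Fin 1 => j)).ι.image_preimage_le (W ⊓ 𝒰 j))) t
  have h4 : (F.presheaf.map (homOfLE hVj ≫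
      homOfLE ((∏ᶜ (𝒰 ∘ fun _ : Fin 1 => j)).ι.image_preimage_le (W ⊓ 𝒰 j))).op).hom t = t := by
    rw [Subsingleton.elim (homOfLE hVj ≫
      homOfLE ((∏ᶜ (𝒰 ∘ fun _ : Fin 1 => j)).ι.image_preimage_le (W ⊓ 𝒰 j))) (𝟙 _), op_id,
      F.presheaf.map_id]
    rfl
  exact h4.symm.trans (h3.symm.trans ((congrArg _ h1).trans (map_zero _)))

lemma unit_comp_map {W W' : X.Opens} (h : W' ≤ W) :
    (Scheme.Modules.restrictAdjunction W.ι).unit.app F ≫ CechOX.pushRestrMapApp h F =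
      (Scheme.Modules.restrictAdjunction W'.ι).unit.app F := by
  apply Scheme.Modules.hom_ext
  intro V
  rw [Scheme.Modules.Hom.comp_app, CechOX.pushRestrMapApp_app,
    Scheme.Modules.restrictAdjunction_unit_app_app, Scheme.Modules.restrictAdjunction_unit_app_app]
  exact (F.presheaf.map_comp _ _).symm

/-- the composite of the coaugmentation and the first differential vanishes -/
theorem aug_d : CechOX.cechShAug 𝒰 F ≫ ((CechOX.cechSh 𝒰).obj F).d 0 1 = 0 :=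
  comp_d_zero 𝒰 (PF F) (CechOX.cechShAug 𝒰 F)
    (fun W => (Scheme.Modules.restrictAdjunction W.ι).unit.app F)
    (fun f => unit_comp_map F (leOfHom f)) (aug_projA 𝒰 F)

/-- the short complex `F ⟶ 𝔠⁰ ⟶ 𝔠¹` -/
noncomputable def S₀ : ShortComplex X.Modules :=
  ShortComplex.mk (CechOX.cechShAug 𝒰 F) (((CechOX.cechSh 𝒰).obj F).d 0 1) (aug_d 𝒰 F)

theorem S₀_exact (h𝒰 : ⨆ i, 𝒰 i = ⊤) : (S₀ 𝒰 F).Exact := by
  apply Groth.Agent.Lib.Helper3.ModBasis.exact_of_exact_on_basis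
  intro W x hx
  obtain ⟨j, hj⟩ := exists_index 𝒰 h𝒰 x
  exact ⟨W ⊓ 𝒰 j, ⟨hx, hj⟩, inf_le_left, fun s hs => L0 𝒰 F (W ⊓ 𝒰 j) j inf_le_right s hs⟩

theorem exactAt_succ (h𝒰 : ⨆ i, 𝒰 i = ⊤) (p : ℕ) :
    ((CechOX.cechSh 𝒰).obj F).ExactAt (p + 1) := by
  rw [HomologicalComplex.exactAt_iff' _ p (p + 1) (p + 2) (by simp) (by simp)]
  apply Groth.Agent.Lib.Helper3.ModBasis.exact_of_exact_on_basis
  intro W x hx
  obtain ⟨j, hj⟩ := exists_index 𝒰 h𝒰 x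
  exact ⟨W ⊓ 𝒰 j, ⟨hx, hj⟩, inf_le_left, fun s hs => Lp 𝒰 F (W ⊓ 𝒰 j) j inf_le_right p s hs⟩

/-- the Čech complex of sheaves with its coaugmentation is a resolution -/
theorem cechSh_resolution (h𝒰 : ⨆ i, 𝒰 i = ⊤) :
    Mono (CechOX.cechShAug 𝒰 F) ∧
    CechOX.cechShAug 𝒰 F ≫ ((CechOX.cechSh 𝒰).obj F).d 0 1 = 0 ∧
    (∀ (G : X.Modules) (g : G ⟶ ((CechOX.cechSh 𝒰).obj F).X 0),
      g ≫ ((CechOX.cechSh 𝒰).obj F).d 0 1 = 0 →
      ∃! g' : G ⟶ F, g' ≫ CechOX.cechShAug 𝒰 F = g) ∧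
    ∀ p : ℕ, IsZero (((CechOX.cechSh 𝒰).obj F).homology (p + 1)) := by
  haveI hm : Mono (CechOX.cechShAug 𝒰 F) := mono_aug 𝒰 F h𝒰
  refine ⟨hm, aug_d 𝒰 F, fun G g hg => ?_, fun p => ?_⟩
  · haveI : Mono (S₀ 𝒰 F).f := hm
    refine ⟨(S₀_exact 𝒰 F h𝒰).lift g hg, (S₀_exact 𝒰 F h𝒰).lift_f g hg, fun g' hg' => ?_⟩
    exact (cancel_mono (CechOX.cechShAug 𝒰 F)).1
      (Eq.trans hg' ((S₀_exact 𝒰 F h𝒰).lift_f g hg).symm)
  · exact (HomologicalComplex.exactAt_iff_isZero_homology _ _).1 (exactAt_succ 𝒰 F h𝒰 p)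

end Groth.Agent.Lib.Helper5.CechShRes
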