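import Mathlib
import Groth.Prelude.Def_CohCx
import Groth.Agent.Lib.Helper2.GSS.CechDerived
import Groth.Agent.Lib.Helper2.GSS.HomFunctor
import Groth.Agent.Lib.Helper13.ExtAdj
import Groth.Agent.Lib.Helper13.CechLES
set_option autoImplicit false
universe u v' u'
open CategoryTheory CategoryTheory.Limits Opposite

namespace Groth.Agent.Lib.Helper5.CechSieve
open Groth.Agent.Lib.Helper13 Groth.Agent.Lib.Helper13.CechBasic Groth.Agent.Lib.Helper13.CechLow
open Groth.Agent.Lib.Helper13.CechLES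
open Groth.Agent.Lib.Helper2.GSS

noncomputable section

section Generic

variable {A : Type u'} [Category.{v'} A]
  (G : A ⥤ CochainComplex AddCommGrpCat.{u} ℕ) (F : A ⥤ AddCommGrpCat.{u})
  (ι : F ⟶ G ⋙ HomologicalComplex.eval _ _ 0)
  (hι : ∀ P, ι.app P ≫ (G.obj P).d 0 1 = 0)

/-- the comparison `F ⟶ H⁰ ∘ G`. -/
noncomputable def toH0 : F ⟶ G ⋙ HomologicalComplex.homologyFunctor _ _ 0 where
  app P := (G.obj P).liftCycles (ι.app P) 1 (by simp) (hι P) ≫ (G.obj P).homologyπ 0
  naturality P Q f := by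
    have h : F.map f ≫ ι.app Q = ι.app P ≫ (G.map f).f 0 := ι.naturality f
    change F.map f ≫ _ ≫ _ = (_ ≫ _) ≫ HomologicalComplex.homologyMap (G.map f) 0
    rw [Category.assoc, HomologicalComplex.homologyπ_naturality,
      HomologicalComplex.liftCycles_comp_cyclesMap_assoc, ← Category.assoc]
    congr 1
    rw [← cancel_mono ((G.obj Q).iCycles 0), Category.assoc, HomologicalComplex.liftCycles_i,
      HomologicalComplex.liftCycles_i]
    exact h

lemma isIso_toH0_app (P : A) (hinj : Function.Injective (ι.app P).hom)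
    (hsurj : ∀ b : (G.obj P).X 0, ((G.obj P).d 0 1).hom b = 0 → ∃ a, (ι.app P).hom a = b) :
    IsIso ((toH0 G F ι hι).app P) := by
  dsimp [toH0]
  haveI : IsIso ((G.obj P).liftCycles (ι.app P) 1 (by simp) (hι P)) := by
    rw [ConcreteCategory.isIso_iff_bijective]
    constructor
    · intro a a' h
      apply hinj
      have := congrArg ((G.obj P).iCycles 0).hom h
      rw [← ConcreteCategory.comp_apply, ← ConcreteCategory.comp_apply,
        HomologicalComplex.liftCycles_i] at this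
      exact this
    · intro z
      have hz : ((G.obj P).d 0 1).hom (((G.obj P).iCycles 0).hom z) = 0 := by
        rw [← ConcreteCategory.comp_apply, HomologicalComplex.iCycles_d]
        rfl
      obtain ⟨a, ha⟩ := hsurj _ hz
      refine ⟨a, ?_⟩
      have hm : Function.Injective ((G.obj P).iCycles 0).hom :=
        (AddCommGrpCat.mono_iff_injective _).1 inferInstance
      apply hm
      rw [← ConcreteCategory.comp_apply, HomologicalComplex.liftCycles_i]
      exact ha
  have h2 : IsIso ((G.obj P).homologyπ 0) := CochainComplex.isIso_homologyπ₀ (G.obj P)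
  exact @IsIso.comp_isIso _ _ _ _ _ _ _ this h2

end Generic

section Site

variable {C : Type u} [SmallCategory C] [HasPullbacks C] {X : C} {ι : Type u} (Y : ι → Over X)

/-- the sieve generated by the family. -/
abbrev RS : Sieve X := Sieve.ofArrows (fun i => (Y i).left) (fun i => (Y i).hom)

/-- the free abelian presheaf on the sieve. -/
abbrev ZR : Cᵒᵖ ⥤ AddCommGrpCat.{u} := (RS Y).functor ⋙ AddCommGrpCat.free.{u}

/-- restriction of presheaves to `Over X`. -/
abbrev WP (P : Cᵒᵖ ⥤ AddCommGrpCat.{u}) : (Over X)ᵒᵖ ⥤ AddCommGrpCat.{u} := (Over.forget X).op ⋙ P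

omit [HasPullbacks C] in
lemma mem_RS (j : ι) : (RS Y) (Y j).hom := Sieve.ofArrows_mk _ _ j

/-- the generator at `j`. -/
def gen (j : ι) : (RS Y).functor.obj (op (Y j).left) := ⟨(Y j).hom, mem_RS Y j⟩

variable (P : Cᵒᵖ ⥤ AddCommGrpCat.{u})

/-- the map `Hom(ℤ[R], P) → Č⁰`. -/
def iotaFun (φ : ZR Y ⟶ P) : ((cechG Y).obj P).X 0 :=
  mk0 Y (WP P) (fun j => (φ.app (op (Y j).left)).hom (FreeAbelianGroup.of (gen Y j)))

lemma at0_iotaFun (φ : ZR Y ⟶ P) (j : ι) :
    at0 Y (WP P) (iotaFun Y P φ) j = (φ.app (op (Y j).left)).hom (FreeAbelianGroup.of (gen Y j)) :=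
  at0_mk0 Y (WP P) _ j

lemma at0_zero' (j : ι) : at0 Y (WP P) 0 j = 0 := by
  change ((WP P).map (toSingle Y j).op).hom ((proj Y (WP P) 0 (single j)).hom 0) = 0
  rw [map_zero, map_zero]

lemma at0_add' (b b' : (cx Y (WP P)).X 0) (j : ι) :
    at0 Y (WP P) (b + b') j = at0 Y (WP P) b j + at0 Y (WP P) b' j := by
  change ((WP P).map (toSingle Y j).op).hom ((proj Y (WP P) 0 (single j)).hom (b + b')) = _
  rw [map_add, map_add]
  rfl

def iotaHom : (ZR Y ⟶ P) →+ ((cechG Y).obj P).X 0 where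
  toFun := iotaFun Y P
  map_zero' := by
    apply ext0 Y (WP P)
    intro j
    rw [at0_iotaFun, at0_zero']
    rfl
  map_add' φ ψ := by
    apply ext0 Y (WP P)
    intro j
    rw [at0_add', at0_iotaFun, at0_iotaFun, at0_iotaFun]
    rfl

/-- every element of the sieve factors through a member of the family. -/
lemma exists_fac {V : C} (f : (RS Y).functor.obj (op V)) :
    ∃ (j : ι) (g : V ⟶ (Y j).left), g ≫ (Y j).hom = f.1 := by
  obtain ⟨W, g, h, ⟨j⟩, hf⟩ := f.2
  exact ⟨j, g, hf⟩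

omit [HasPullbacks C] in
lemma functor_map_gen {V : C} (j : ι) (g : V ⟶ (Y j).left) (f : (RS Y).functor.obj (op V))
    (h : g ≫ (Y j).hom = f.1) : (RS Y).functor.map g.op (gen Y j) = f :=
  Subtype.ext h

lemma app_of_eq (φ : ZR Y ⟶ P) {V : C} (f : (RS Y).functor.obj (op V)) (j : ι)
    (g : V ⟶ (Y j).left) (h : g ≫ (Y j).hom = f.1) :
    (φ.app (op V)).hom (FreeAbelianGroup.of f) =
      (P.map g.op).hom (at0 Y (WP P) (iotaFun Y P φ) j) := by
  rw [at0_iotaFun, ← functor_map_gen Y j g f h]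
  have := ConcreteCategory.congr_hom (φ.naturality g.op) (FreeAbelianGroup.of (gen Y j))
  refine Eq.trans ?_ this
  change _ = (φ.app (op V)).hom (FreeAbelianGroup.map ((RS Y).functor.map g.op) (FreeAbelianGroup.of (gen Y j)))
  rw [FreeAbelianGroup.map_of_apply]

lemma iotaFun_injective : Function.Injective (iotaFun Y P) := by
  intro φ ψ h
  ext V : 2
  induction V using Opposite.rec with | _ V => ?_
  apply AddCommGrpCat.hom_ext
  apply FreeAbelianGroup.lift_ext
  intro f
  obtain ⟨j, g, hg⟩ := exists_fac Y f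
  change (φ.app (op V)).hom (FreeAbelianGroup.of f) = (ψ.app (op V)).hom (FreeAbelianGroup.of f)
  rw [app_of_eq Y P φ f j g hg, app_of_eq Y P ψ f j g hg, h]

variable {Y P} in
lemma wd (b : ((cechG Y).obj P).X 0) (hb : (((cechG Y).obj P).d 0 1).hom b = 0)
    {V : C} (j j' : ι) (g : V ⟶ (Y j).left) (g' : V ⟶ (Y j').left)
    (h : g ≫ (Y j).hom = g' ≫ (Y j').hom) :
    (P.map g.op).hom (at0 Y (WP P) b j) = (P.map g'.op).hom (at0 Y (WP P) b j') := by
  let i : Fin 2 → ι := ![j, j']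
  let Z : Over X := Over.mk (g ≫ (Y j).hom)
  let a0 : Z ⟶ Y j := Over.homMk g rfl
  let a1 : Z ⟶ Y j' := Over.homMk g' h.symm
  let fam : ∀ a : Fin 2, Z ⟶ (Y ∘ i) a := fun a => match a with
    | 0 => a0
    | 1 => a1
  let t : Z ⟶ ∏ᶜ (Y ∘ i) := Pi.lift fam
  have h0 : t ≫ Pi.π (Y ∘ i) 0 = a0 := Pi.lift_π _ _
  have h1 : t ≫ Pi.π (Y ∘ i) 1 = a1 := Pi.lift_π _ _
  have key := d0_proj Y (WP P) b i
  have hb' : ((cx Y (WP P)).d 0 1).hom b = 0 := hb
  rw [hb', map_zero] at key
  have key' := sub_eq_zero.1 key.symm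
  have := congrArg ((WP P).map t.op).hom key'
  rw [map_map_apply, map_map_apply, h0, h1] at this
  exact this.symm

lemma d_iotaFun (φ : ZR Y ⟶ P) : (((cechG Y).obj P).d 0 1).hom (iotaFun Y P φ) = 0 := by
  apply ext_elem Y (WP P)
  intro i
  have key := d0_proj Y (WP P) (iotaFun Y P φ) i
  refine key.trans ?_
  rw [map_zero, sub_eq_zero]
  -- both sides are the value of `φ` at the same element of the sieve
  let f : (RS Y).functor.obj (op (∏ᶜ (Y ∘ i)).left) :=
    ⟨(∏ᶜ (Y ∘ i)).hom, by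
      have := (RS Y).downward_closed (mem_RS Y (i 0)) (Pi.π (Y ∘ i) 0).left
      have hw : (Pi.π (Y ∘ i) 0).left ≫ (Y (i 0)).hom = (∏ᶜ (Y ∘ i)).hom := Over.w _
      rwa [hw] at this⟩
  have e0 := app_of_eq Y P φ f (i 0) (Pi.π (Y ∘ i) 0).left (Over.w _)
  have e1 := app_of_eq Y P φ f (i 1) (Pi.π (Y ∘ i) 1).left (Over.w _)
  exact e1.symm.trans e0

section Surj

variable {Y P} (b : ((cechG Y).obj P).X 0) (hb : (((cechG Y).obj P).d 0 1).hom b = 0)

/-- the value on an element of the sieve of the family defined by a `0`-cocycle. -/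
def valOf {V : C} (f : (RS Y).functor.obj (op V)) : P.obj (op V) :=
  (P.map (exists_fac Y f).choose_spec.choose.op).hom (at0 Y (WP P) b (exists_fac Y f).choose)

include hb in
lemma valOf_eq {V : C} (f : (RS Y).functor.obj (op V)) (j : ι) (g : V ⟶ (Y j).left)
    (h : g ≫ (Y j).hom = f.1) : valOf b f = (P.map g.op).hom (at0 Y (WP P) b j) :=
  wd b hb _ _ _ _ ((exists_fac Y f).choose_spec.choose_spec.trans h.symm)

include hb in
/-- the morphism `ℤ[R] ⟶ P` attached to a `0`-cocycle. -/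
def liftOf : ZR Y ⟶ P where
  app V := AddCommGrpCat.ofHom (FreeAbelianGroup.lift (fun f => valOf b f))
  naturality V V' a := by
    induction V using Opposite.rec with | _ V => ?_
    induction V' using Opposite.rec with | _ V' => ?_
    apply AddCommGrpCat.hom_ext
    apply FreeAbelianGroup.lift_ext
    intro f
    obtain ⟨j, g, hg⟩ := exists_fac Y f
    change FreeAbelianGroup.lift (fun f => valOf b f)
        (FreeAbelianGroup.map ((RS Y).functor.map a) (FreeAbelianGroup.of f)) =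
      (P.map a).hom (FreeAbelianGroup.lift (fun f => valOf b f) (FreeAbelianGroup.of f))
    rw [FreeAbelianGroup.map_of_apply, FreeAbelianGroup.lift_apply_of, FreeAbelianGroup.lift_apply_of,
      valOf_eq b hb f j g hg,
      valOf_eq b hb ((RS Y).functor.map a f) j (a.unop ≫ g)
        (by rw [Category.assoc, hg]; rfl)]
    exact (map_map_apply P a.unop g _).symm

include hb in
lemma iotaFun_liftOf : iotaFun Y P (liftOf b hb) = b := by
  apply ext0 Y (WP P)
  intro j
  rw [at0_iotaFun]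
  change FreeAbelianGroup.lift (fun f => valOf b f) (FreeAbelianGroup.of (gen Y j)) = _
  rw [FreeAbelianGroup.lift_apply_of, valOf_eq b hb (gen Y j) j (𝟙 _) (Category.id_comp _)]
  exact map_id_apply P _

end Surj

/-- the natural transformation `Hom(ℤ[R], -) ⟶ Č⁰`. -/
def iotaNat : homF (ZR Y) ⟶ cechG Y ⋙ HomologicalComplex.eval _ _ 0 where
  app P := AddCommGrpCat.ofHom (iotaHom Y P)
  naturality P Q τ := by
    apply AddCommGrpCat.hom_ext
    ext φ
    change iotaFun Y Q (φ ≫ τ) = (((cechG Y).map τ).f 0).hom (iotaFun Y P φ)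
    apply ext0 Y (WP Q)
    intro j
    have h := at0_map Y (Functor.whiskerLeft (Over.forget X).op τ) (iotaFun Y P φ) j
    refine Eq.trans ?_ h.symm
    rw [at0_iotaFun, at0_iotaFun]
    rfl

lemma iotaNat_d (P : Cᵒᵖ ⥤ AddCommGrpCat.{u}) :
    (iotaNat Y).app P ≫ ((cechG Y).obj P).d 0 1 = 0 := by
  apply AddCommGrpCat.hom_ext
  ext φ
  exact d_iotaFun Y P φ

/-- `Hom(ℤ[R], -) ≅ Ȟ⁰`. -/
def homFIsoH0 : homF (ZR Y) ≅ H0 (cechG Y) := by
  haveI : ∀ P, IsIso ((toH0 (cechG Y) (homF (ZR Y)) (iotaNat Y) (iotaNat_d Y)).app P) := fun P =>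
    isIso_toH0_app (cechG Y) (homF (ZR Y)) (iotaNat Y) (iotaNat_d Y) P (iotaFun_injective Y P)
      (fun b hb => ⟨liftOf b hb, iotaFun_liftOf b hb⟩)
  haveI : IsIso (toH0 (cechG Y) (homF (ZR Y)) (iotaNat Y) (iotaNat_d Y)) :=
    NatIso.isIso_of_isIso_app _
  exact asIso (toH0 (cechG Y) (homF (ZR Y)) (iotaNat Y) (iotaNat_d Y))

/-- **Čech cohomology of a presheaf for a family is the cohomology of the generated sieve.** -/
theorem nonempty_cechH_iso (M : Cᵒᵖ ⥤ AddCommGrpCat.{u}) (q : ℕ) :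
    Nonempty (CohCx.cechH M Y q ≅ AddCommGrpCat.of (CohCx.HK (J := (⊥ : GrothendieckTopology C))
      ⟨(RS Y).functor, Presheaf.isSheaf_bot _⟩ ⟨M, Presheaf.isSheaf_bot _⟩ q)) := by
  obtain ⟨e1⟩ := nonempty_rightDerived_cech_iso Y q M
  let e2 := Groth.Agent.Lib.Helper13.DerivedCommute.rightDerivedObjIsoOfNatIso (homFIsoH0 Y) q M
  let e3 := rightDerivedHomFIso (ZR Y) M q
  haveI : (sheafToPresheaf (⊥ : GrothendieckTopology C) AddCommGrpCat.{u}).IsEquivalence :=
    (sheafBotEquivalence AddCommGrpCat.{u}).isEquivalence_functor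
  haveI : PreservesFiniteColimits (sheafToPresheaf (⊥ : GrothendieckTopology C) AddCommGrpCat.{u}) :=
    ⟨fun _ _ _ => inferInstance⟩
  let e4 := Groth.Agent.Lib.Helper13.ExtAdj.extAdjEquiv'
    (sheafificationAdjunction (⊥ : GrothendieckTopology C) AddCommGrpCat.{u}) (ZR Y)
    (⟨M, Presheaf.isSheaf_bot _⟩ : Sheaf (⊥ : GrothendieckTopology C) AddCommGrpCat.{u}) q
  exact ⟨e1.symm ≪≫ e2.symm ≪≫ e3 ≪≫ (AddEquiv.toAddCommGrpIso e4).symm⟩

end Site
end
end Groth.Agent.Lib.Helper5.CechSieve
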