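import Mathlib
import Groth.Agent.Lib.Helper13.CechBasic
import Groth.Agent.Lib.Helper5.CechDerived
import Groth.Agent.Lib.Helper5.AbQis

/-!
# A fixed Čech degree of a morphism of complexes of presheaves (helper5)

If a morphism `ψ` of complexes of presheaves of abelian groups is a quasi-isomorphism on sections
over all `(k+1)`-fold products of the members of a family `Y`, then the induced map on the degree
`k` terms of the Čech complexes is a quasi-isomorphism (elementwise form).
-/

set_option autoImplicit false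
universe w u'
open CategoryTheory CategoryTheory.Limits Opposite

noncomputable section
namespace Groth.Agent.Lib.Helper5.CechSlice

open Groth.Agent.Lib.Helper13.CechBasic Groth.Agent.Lib.Helper5.AbQis
  Groth.Agent.Lib.Helper5.CechDerived

variable {D : Type u'} [Category.{w} D] [HasFiniteProducts D] {ι : Type w} (Y : ι → D)

/-- the degree `k` term of the Čech complex, as a functor. -/
abbrev Pk (k : ℕ) : (Dᵒᵖ ⥤ AddCommGrpCat.{w}) ⥤ AddCommGrpCat.{w} :=
  cechComplexFunctor Y ⋙ HomologicalComplex.eval _ _ k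

instance (k : ℕ) : (Pk Y k).PreservesZeroMorphisms := inferInstance

/-- sections over `V`, as a functor on presheaves. -/
abbrev evV (V : D) : (Dᵒᵖ ⥤ AddCommGrpCat.{w}) ⥤ AddCommGrpCat.{w} :=
  (evaluation Dᵒᵖ AddCommGrpCat.{w}).obj (op V)

instance (V : D) : (evV (D := D) V).PreservesZeroMorphisms := inferInstance

variable {A B : CochainComplex (Dᵒᵖ ⥤ AddCommGrpCat.{w}) ℤ} (ψ : A ⟶ B) (k : ℕ)

lemma proj_d (i j : ℤ) (c : Fin (k + 1) → ι)
    (x : (((Pk Y k).mapHomologicalComplex (ComplexShape.up ℤ)).obj A).X i) :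
    (proj Y (A.X j) k c).hom
      (((((Pk Y k).mapHomologicalComplex (ComplexShape.up ℤ)).obj A).d i j).hom x) =
    ((A.d i j).app (op (∏ᶜ (Y ∘ c)))).hom ((proj Y (A.X i) k c).hom x) :=
  map_proj_apply Y (A.d i j) k c x

lemma proj_f (i : ℤ) (c : Fin (k + 1) → ι)
    (x : (((Pk Y k).mapHomologicalComplex (ComplexShape.up ℤ)).obj A).X i) :
    (proj Y (B.X i) k c).hom
      (((((Pk Y k).mapHomologicalComplex (ComplexShape.up ℤ)).map ψ).f i).hom x) =
    ((ψ.f i).app (op (∏ᶜ (Y ∘ c)))).hom ((proj Y (A.X i) k c).hom x) :=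
  map_proj_apply Y (ψ.f i) k c x

theorem eqis_slice
    (h : ∀ c : Fin (k + 1) → ι,
      EQis (((evV (∏ᶜ (Y ∘ c))).mapHomologicalComplex (ComplexShape.up ℤ)).map ψ)) :
    EQis (((Pk Y k).mapHomologicalComplex (ComplexShape.up ℤ)).map ψ) where
  inj i' i j hi hij x hx hw := by
    obtain ⟨w, hw⟩ := hw
    have h1 : ∀ c : Fin (k + 1) → ι, ∃ z : (A.X i').obj (op (∏ᶜ (Y ∘ c))),
        ((A.d i' i).app (op (∏ᶜ (Y ∘ c)))).hom z = (proj Y (A.X i) k c).hom x := by
      intro c
      refine (h c).inj i' i j hi hij ((proj Y (A.X i) k c).hom x) ?_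
        ⟨(proj Y (B.X i') k c).hom w, ?_⟩
      · have := proj_d Y k i j c x
        refine this.symm.trans ?_
        refine (congrArg _ hx).trans (map_zero _)
      · have h2 := proj_d (A := B) Y k i' i c w
        refine h2.symm.trans ?_
        refine (congrArg _ hw).trans ?_
        exact proj_f Y ψ k i c x
    choose z hz using h1
    refine ⟨mk Y (A.X i') z, ?_⟩
    apply ext_elem
    intro c
    refine (proj_d Y k i' i c _).trans ?_
    rw [proj_mk]
    exact hz c
  surj i' i j hi hij y hy := by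
    have h1 : ∀ c : Fin (k + 1) → ι, ∃ (x : (A.X i).obj (op (∏ᶜ (Y ∘ c)))),
        ((A.d i j).app (op (∏ᶜ (Y ∘ c)))).hom x = 0 ∧
        ∃ w : (B.X i').obj (op (∏ᶜ (Y ∘ c))),
          ((B.d i' i).app (op (∏ᶜ (Y ∘ c)))).hom w =
            ((ψ.f i).app (op (∏ᶜ (Y ∘ c)))).hom x - (proj Y (B.X i) k c).hom y := by
      intro c
      refine (h c).surj i' i j hi hij ((proj Y (B.X i) k c).hom y) ?_
      have := proj_d (A := B) Y k i j c y
      refine this.symm.trans ?_
      refine (congrArg _ hy).trans (map_zero _)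
    choose x hx w hw using h1
    refine ⟨mk Y (A.X i) x, ?_, mk Y (B.X i') w, ?_⟩
    · apply ext_elem
      intro c
      refine (proj_d Y k i j c _).trans ?_
      rw [proj_mk, hx c]
      exact (map_zero (proj Y (A.X j) k c).hom).symm
    · apply ext_elem
      intro c
      refine (proj_d (A := B) Y k i' i c _).trans ?_
      rw [proj_mk, hw c]
      refine Eq.trans ?_ (map_sub (proj Y (B.X i) k c).hom _ _).symm
      congr 1
      refine Eq.trans ?_ (proj_f Y ψ k i c _).symm
      rw [proj_mk]

end Groth.Agent.Lib.Helper5.CechSlice
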