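import Mathlib
import Groth.Prelude.Def_CechTot
import Groth.Agent.Lib.Helper23.TotQisI
import Groth.Agent.Lib.Helper5.CechSlice

/-!
# The Čech double complex and quasi-isomorphisms in the complex direction (helper5)

* `quasiIso_total_map_of_rows`: a morphism of uniformly bounded below double complexes whose rows
  (fixed inner degree) are quasi-isomorphisms induces a quasi-isomorphism on total complexes.
* `quasiIso_total_cech₂_map`: a morphism `ψ` of bounded below complexes of presheaves which is a
  quasi-isomorphism on each Čech degree induces a quasi-isomorphism of total Čech complexes.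
-/

set_option autoImplicit false
universe v u
open CategoryTheory CategoryTheory.Limits Opposite

noncomputable section
namespace Groth.Agent.Lib.Helper5.CechTotP2

open Groth.Agent.Lib.Helper23.TotQis Groth.Agent.Lib.Helper5.CechSlice

section General

variable {A : Type u} [Category.{v} A] [Abelian A]

theorem quasiIso_total_map_of_rows {K L : DC A} (φ : K ⟶ L) (a b : ℤ)
    (hK : ∀ p q : ℤ, p < a ∨ q < b → IsZero ((K.X p).X q))
    (hL : ∀ p q : ℤ, p < a ∨ q < b → IsZero ((L.X p).X q))
    [K.HasTotal (ComplexShape.up ℤ)] [L.HasTotal (ComplexShape.up ℤ)]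
    (hφ : ∀ i, QuasiIso (((HomologicalComplex₂.flipFunctor A (ComplexShape.up ℤ)
      (ComplexShape.up ℤ)).map φ).f i)) :
    QuasiIso (HomologicalComplex₂.total.map φ (ComplexShape.up ℤ)) := by
  have hK' : IsBdd K.flip b a := fun i j hij => hK j i hij.symm
  have hL' : IsBdd L.flip b a := fun i j hij => hL j i hij.symm
  have h := quasiIso_total_map_of_degreewise (M := K.flip) (M' := L.flip)
    ((HomologicalComplex₂.flipFunctor A (ComplexShape.up ℤ) (ComplexShape.up ℤ)).map φ) hK' hL'
    hφ
  have e : Arrow.mk (HomologicalComplex₂.total.map (K := K.flip) (L := L.flip)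
      ((HomologicalComplex₂.flipFunctor A (ComplexShape.up ℤ) (ComplexShape.up ℤ)).map φ)
      (ComplexShape.up ℤ)) ≅ Arrow.mk (HomologicalComplex₂.total.map φ (ComplexShape.up ℤ)) :=
    Arrow.isoMk (K.totalFlipIso (ComplexShape.up ℤ)) (L.totalFlipIso (ComplexShape.up ℤ))
      (total_map_flip_naturality φ).symm
  exact quasiIso_of_arrow_mk_iso _ _ e

end General

section Cech

variable {C : Type u} [SmallCategory C] [HasFiniteProducts C] {ι : Type u} (U : ι → C)

/-- the Čech complex functor, extended by zero to negative degrees. -/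
abbrev cechFun : (Cᵒᵖ ⥤ AddCommGrpCat.{u}) ⥤ CochainComplex AddCommGrpCat.{u} ℤ :=
  cechComplexFunctor (A := AddCommGrpCat.{u}) U ⋙
    ComplexShape.embeddingUpNat.extendFunctor AddCommGrpCat.{u}

/-- the row of Čech degree `k`. -/
def rowIso (k : ℕ) :
    cechFun U ⋙ HomologicalComplex.eval AddCommGrpCat.{u} (ComplexShape.up ℤ) (k : ℤ) ≅ Pk U k :=
  NatIso.ofComponents
    (fun P => HomologicalComplex.extendXIso ((cechComplexFunctor U).obj P)
      ComplexShape.embeddingUpNat (i := k) (i' := (k : ℤ)) rfl)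
    (fun {P P'} τ => by
      change (HomologicalComplex.extendMap ((cechComplexFunctor U).map τ)
        ComplexShape.embeddingUpNat).f (k : ℤ) ≫ _ = _ ≫ ((cechComplexFunctor U).map τ).f k
      rw [HomologicalComplex.extendMap_f ((cechComplexFunctor U).map τ)
        ComplexShape.embeddingUpNat (i := k) (i' := (k : ℤ)) rfl]
      simp)

lemma isZero_cechFun_X (P : Cᵒᵖ ⥤ AddCommGrpCat.{u}) (p : ℤ) (hp : p < 0) :
    IsZero (((cechFun U).obj P).X p) := by
  apply HomologicalComplex.isZero_extend_X
  intro i hi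
  have : ComplexShape.embeddingUpNat.f i = (i : ℤ) := rfl
  omega

lemma isBdd_cech₂ (A : CochainComplex (Cᵒᵖ ⥤ AddCommGrpCat.{u}) ℤ) (a : ℤ)
    (hA : ∀ i : ℤ, i < a → IsZero (A.X i)) (q p : ℤ) (h : q < a ∨ p < 0) :
    IsZero (((CechTot.cech₂ U A).X q).X p) := by
  rcases h with h | h
  · exact (cechFun U ⋙ HomologicalComplex.eval _ _ p).map_isZero (hA q h)
  · exact isZero_cechFun_X U (A.X q) p h

theorem quasiIso_total_cech₂_map {A B : CochainComplex (Cᵒᵖ ⥤ AddCommGrpCat.{u}) ℤ} (ψ : A ⟶ B)
    (a : ℤ) (hA : ∀ i : ℤ, i < a → IsZero (A.X i)) (hB : ∀ i : ℤ, i < a → IsZero (B.X i))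
    (h : ∀ k : ℕ, QuasiIso (((Pk U k).mapHomologicalComplex (ComplexShape.up ℤ)).map ψ)) :
    QuasiIso (HomologicalComplex₂.total.map (K := CechTot.cech₂ U A) (L := CechTot.cech₂ U B)
      (((cechFun U).mapHomologicalComplex (ComplexShape.up ℤ)).map ψ) (ComplexShape.up ℤ)) := by
  apply quasiIso_total_map_of_rows _ a 0 (isBdd_cech₂ U A a hA) (isBdd_cech₂ U B a hB)
  intro p
  by_cases hp : p < 0
  · apply quasiIso_of_isZero_X
    · intro q
      exact isZero_cechFun_X U (A.X q) p hp
    · intro q
      exact isZero_cechFun_X U (B.X q) p hp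
  · obtain ⟨k, rfl⟩ : ∃ k : ℕ, p = (k : ℤ) := ⟨p.toNat, by omega⟩
    have h1 : QuasiIso (((cechFun U ⋙ HomologicalComplex.eval AddCommGrpCat.{u}
        (ComplexShape.up ℤ) (k : ℤ)).mapHomologicalComplex (ComplexShape.up ℤ)).map ψ) := by
      have e : Arrow.mk (((cechFun U ⋙ HomologicalComplex.eval AddCommGrpCat.{u}
          (ComplexShape.up ℤ) (k : ℤ)).mapHomologicalComplex (ComplexShape.up ℤ)).map ψ) ≅
          Arrow.mk (((Pk U k).mapHomologicalComplex (ComplexShape.up ℤ)).map ψ) :=
        Arrow.isoMk ((NatIso.mapHomologicalComplex (rowIso U k) (ComplexShape.up ℤ)).app A)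
          ((NatIso.mapHomologicalComplex (rowIso U k) (ComplexShape.up ℤ)).app B)
          ((NatIso.mapHomologicalComplex (rowIso U k) (ComplexShape.up ℤ)).hom.naturality ψ).symm
      have := h k
      exact (quasiIso_iff_of_arrow_mk_iso _ _ e).2 (h k)
    exact h1

end Cech

end Groth.Agent.Lib.Helper5.CechTotP2
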