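import Mathlib

/-!
# The total complex of a double complex concentrated in one row (helper5)

For a cochain complex `G`, the double complex `q ↦ (G^q)[0]` has total complex isomorphic to `G`.
-/

set_option autoImplicit false
universe v u
open CategoryTheory CategoryTheory.Limits

noncomputable section
namespace Groth.Agent.Lib.Helper5.TotSingle

variable {A : Type u} [Category.{v} A] [Abelian A] (G : CochainComplex A ℤ)

variable (A) in
/-- the single functor in degree `0`. -/
abbrev sgl : A ⥤ CochainComplex A ℤ := HomologicalComplex.single A (ComplexShape.up ℤ) 0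

/-- the double complex with rows `(G^q)[0]`. -/
abbrev DG : HomologicalComplex₂ A (ComplexShape.up ℤ) (ComplexShape.up ℤ) :=
  ((sgl A).mapHomologicalComplex (ComplexShape.up ℤ)).obj G

variable [(DG G).HasTotal (ComplexShape.up ℤ)]

/-- the identification of the entries in the row `0`. -/
def sIsoP (q p : ℤ) (hp : p = 0) : ((DG G).X q).X p ≅ G.X q :=
  HomologicalComplex.singleObjXIsoOfEq (ComplexShape.up ℤ) 0 (G.X q) p hp

/-- the identification of the entries in the row `0`. -/
def sIso (q : ℤ) : ((DG G).X q).X 0 ≅ G.X q := sIsoP G q 0 rfl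

/-- the components of the inclusion. -/
def fromG (m : ℤ) : G.X m ⟶ ((DG G).total (ComplexShape.up ℤ)).X m :=
  (sIso G m).inv ≫ (DG G).ιTotal (ComplexShape.up ℤ) m 0 m (by simp)

/-- the components of the projection. -/
def toG (m : ℤ) : ((DG G).total (ComplexShape.up ℤ)).X m ⟶ G.X m :=
  (DG G).totalDesc (fun q p h =>
    if hp : p = 0 then
      (sIsoP G q p hp).hom ≫ eqToHom (congrArg G.X (by subst hp; simpa using h))
    else 0)

lemma fromG_toG (m : ℤ) : fromG G m ≫ toG G m = 𝟙 _ := by
  unfold fromG toG
  rw [Category.assoc, HomologicalComplex₂.ι_totalDesc, dif_pos rfl]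
  change (sIso G m).inv ≫ (sIso G m).hom ≫ eqToHom _ = _
  rw [Iso.inv_hom_id_assoc, eqToHom_refl]

lemma toG_fromG (m : ℤ) : toG G m ≫ fromG G m = 𝟙 _ := by
  apply HomologicalComplex₂.total.hom_ext
  intro q p h
  by_cases hp : p = 0
  · subst hp
    obtain rfl : q = m := by simpa using h
    unfold toG fromG
    rw [HomologicalComplex₂.ι_totalDesc_assoc, dif_pos rfl]
    change ((sIso G q).hom ≫ eqToHom _) ≫ (sIso G q).inv ≫ _ = _
    rw [eqToHom_refl, Category.comp_id, Iso.hom_inv_id_assoc, Category.comp_id]
  · apply IsZero.eq_of_src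
    exact HomologicalComplex.isZero_single_obj_X (ComplexShape.up ℤ) 0 (G.X q) p hp

instance (m : ℤ) : IsIso (fromG G m) := ⟨toG G m, fromG_toG G m, toG_fromG G m⟩

/-- the inclusion `G ⟶ Tot`. -/
def incl : G ⟶ (DG G).total (ComplexShape.up ℤ) where
  f m := fromG G m
  comm' m m' hmm' := by
    have hm : m + 1 = m' := hmm'
    subst hm
    unfold fromG
    rw [Category.assoc, HomologicalComplex₂.total_d, Preadditive.comp_add,
      HomologicalComplex₂.ι_D₁, HomologicalComplex₂.ι_D₂]
    have h2 : (DG G).d₂ (ComplexShape.up ℤ) m 0 (m + 1) = 0 := by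
      rw [HomologicalComplex₂.d₂_eq (DG G) (ComplexShape.up ℤ) m
        (show (ComplexShape.up ℤ).Rel 0 1 by simp) (m + 1) (by simp)]
      have : ((DG G).X m).d 0 1 = 0 := HomologicalComplex.single_obj_d _ _ _ _ _
      rw [this]
      simp
    rw [h2, add_zero]
    rw [HomologicalComplex₂.d₁_eq (DG G) (ComplexShape.up ℤ)
      (show (ComplexShape.up ℤ).Rel m (m + 1) from rfl) 0 (m + 1) (by simp)]
    have h3 : ((DG G).d m (m + 1)).f 0 =
        (sIso G m).hom ≫ G.d m (m + 1) ≫ (sIso G (m + 1)).inv :=
      HomologicalComplex.single_map_f_self _ _ _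
    rw [h3]
    simp

instance : IsIso (incl G) := by
  have : ∀ m, IsIso ((incl G).f m) := fun m => inferInstanceAs (IsIso (fromG G m))
  exact HomologicalComplex.Hom.isIso_of_components _

instance : QuasiIso (incl G) := inferInstance

end Groth.Agent.Lib.Helper5.TotSingle
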