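import Mathlib
import Groth.Prelude.Def_CechTot
import Groth.Agent.Lib.Helper13.CechH0
import Groth.Agent.Lib.Helper13.CechSheaf
import Groth.Agent.Lib.Helper13.CechInjective
import Groth.Agent.Lib.Helper5.CechTotP2
import Groth.Agent.Lib.Helper5.TotSingle
import Groth.Agent.Lib.Helper5.AcycSect

/-!
# The augmentation of the Čech double complex of a complex of injective sheaves (helper5)
-/

set_option autoImplicit false
universe u
open CategoryTheory CategoryTheory.Limits Opposite TopologicalSpace HomologicalComplex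

noncomputable section
namespace Groth.Agent.Lib.Helper5.CechTotP3

open Groth.Agent.Lib.Helper13 Groth.Agent.Lib.Helper23.TotQis

variable {X : TopCat.{u}} {ι : Type u} (U : ι → Opens X) (hcov : iSup U = ⊤)

/-- the augmentation `F(X) ⟶ Č(U, F)` (indexed by `ℕ`). -/
def augN (F : CohTop.Ab X) :
    (single AddCommGrpCat.{u} (ComplexShape.up ℕ) 0).obj (F.obj.obj (op (⊤ : Opens X))) ⟶
      (cechComplexFunctor U).obj F.obj :=
  mkHomFromSingle (CechH0.ε (CechSheaf.topAug U ⊤ hcov) F.obj) (by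
    intro k hk
    have hk' : 0 + 1 = k := hk
    obtain rfl : k = 1 := by omega
    exact CechH0.ε_d _ _)

lemma augN_f0 (F : CohTop.Ab X) : (augN U hcov F).f 0 =
    (singleObjXSelf (ComplexShape.up ℕ) 0 _).hom ≫ CechH0.ε (CechSheaf.topAug U ⊤ hcov) F.obj :=
  mkHomFromSingle_f _ _

lemma homologyMap_augN (F : CohTop.Ab X) :
    (singleObjHomologySelfIso (ComplexShape.up ℕ) 0 (F.obj.obj (op (⊤ : Opens X)))).inv ≫
      homologyMap (augN U hcov F) 0 = CechH0.secToH0 (CechSheaf.topAug U ⊤ hcov) F.obj := by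
  rw [← singleObjCyclesSelfIso_inv_homologyπ, Category.assoc, homologyπ_naturality,
    CechH0.secToH0, ← Category.assoc]
  congr 1
  rw [← cancel_mono (((cechComplexFunctor U).obj F.obj).iCycles 0), Category.assoc, cyclesMap_i,
    singleObjCyclesSelfIso_inv_iCycles_assoc, CechH0.toCycles_i, augN_f0, Iso.inv_hom_id_assoc]

lemma quasiIso_augN (F : CohTop.Ab X) [Injective F] : QuasiIso (augN U hcov F) := by
  rw [quasiIso_iff]
  intro m
  cases m with
  | zero =>
    rw [quasiIsoAt_iff_isIso_homologyMap]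
    have h1 := CechH0.isIso_secToH0 (CechSheaf.topAug U ⊤ hcov) (CechSheaf.isGluing_top U ⊤ hcov F)
    rw [← homologyMap_augN] at h1
    exact IsIso.of_isIso_comp_left
      (singleObjHomologySelfIso (ComplexShape.up ℕ) 0 (F.obj.obj (op (⊤ : Opens X)))).inv _
  | succ p =>
    rw [quasiIsoAt_iff_exactAt _ _ (exactAt_single_obj _ _ _ _ (by simp))]
    rw [exactAt_iff_isZero_homology]
    exact CechInjective.isZero_cechH_top F U p

lemma e0 : ComplexShape.embeddingUpNat.f 0 = 0 := rfl

/-- the augmentation `F(X)[0] ⟶ Č(U, F)` (indexed by `ℤ`). -/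
def augZ (F : CohTop.Ab X) :
    (TotSingle.sgl AddCommGrpCat.{u}).obj (F.obj.obj (op (⊤ : Opens X))) ⟶
      ((cechComplexFunctor U).obj F.obj).extend ComplexShape.embeddingUpNat :=
  (extendSingleIso ComplexShape.embeddingUpNat (F.obj.obj (op (⊤ : Opens X))) 0 0 e0).inv ≫
    extendMap (augN U hcov F) ComplexShape.embeddingUpNat

instance (F : CohTop.Ab X) [Injective F] : QuasiIso (augZ U hcov F) := by
  have := quasiIso_augN U hcov F
  have h1 : QuasiIso (extendMap (augN U hcov F) ComplexShape.embeddingUpNat) := inferInstance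
  exact inferInstanceAs (QuasiIso (_ ≫ _))

lemma augZ_f0 (F : CohTop.Ab X) : (augZ U hcov F).f 0 =
    (singleObjXSelf (ComplexShape.up ℤ) 0 _).hom ≫ CechH0.ε (CechSheaf.topAug U ⊤ hcov) F.obj ≫
      (extendXIso ((cechComplexFunctor U).obj F.obj) ComplexShape.embeddingUpNat
        (i := 0) (i' := 0) e0).inv := by
  unfold augZ
  rw [comp_f, extendSingleIso_inv_f,
    extendMap_f (augN U hcov F) ComplexShape.embeddingUpNat (i := 0) (i' := 0) e0, augN_f0]
  simp only [Category.assoc, Iso.inv_hom_id_assoc]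

lemma augZ_naturality {F F' : CohTop.Ab X} (τ : F ⟶ F') :
    (TotSingle.sgl AddCommGrpCat.{u}).map (τ.hom.app (op (⊤ : Opens X))) ≫ augZ U hcov F' =
      augZ U hcov F ≫ extendMap ((cechComplexFunctor U).map τ.hom) ComplexShape.embeddingUpNat := by
  apply from_single_hom_ext
  rw [comp_f, comp_f, augZ_f0, augZ_f0, single_map_f_self]
  rw [extendMap_f ((cechComplexFunctor U).map τ.hom) ComplexShape.embeddingUpNat
    (i := 0) (i' := 0) e0]
  simp only [Category.assoc, Iso.inv_hom_id_assoc]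
  rw [CechH0.ε_naturality_assoc]

/-- the augmentation as a natural transformation. -/
def aug : AcycSect.ΓV (⊤ : Opens X) ⋙ TotSingle.sgl AddCommGrpCat.{u} ⟶
    sheafToPresheaf (Opens.grothendieckTopology X) AddCommGrpCat.{u} ⋙ CechTotP2.cechFun U where
  app F := augZ U hcov F
  naturality _ _ τ := augZ_naturality U hcov τ

/-- the augmentation of the Čech double complex. -/
def η (J : CochainComplex (CohTop.Ab X) ℤ) :
    ((AcycSect.ΓV (⊤ : Opens X) ⋙ TotSingle.sgl AddCommGrpCat.{u}).mapHomologicalComplex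
      (ComplexShape.up ℤ)).obj J ⟶
    ((sheafToPresheaf (Opens.grothendieckTopology X) AddCommGrpCat.{u} ⋙
      CechTotP2.cechFun U).mapHomologicalComplex (ComplexShape.up ℤ)).obj J :=
  (NatTrans.mapHomologicalComplex (aug U hcov) (ComplexShape.up ℤ)).app J

lemma isBdd_DG (J : CochainComplex (CohTop.Ab X) ℤ) (a : ℤ)
    (hJ : ∀ i : ℤ, i < a → IsZero (J.X i)) :
    IsBdd (((AcycSect.ΓV (⊤ : Opens X) ⋙ TotSingle.sgl AddCommGrpCat.{u}).mapHomologicalComplex
      (ComplexShape.up ℤ)).obj J) a 0 := by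
  intro q p h
  rcases h with h | h
  · exact (AcycSect.ΓV (⊤ : Opens X) ⋙ TotSingle.sgl AddCommGrpCat.{u} ⋙
      HomologicalComplex.eval _ _ p).map_isZero (hJ q h)
  · exact isZero_single_obj_X (ComplexShape.up ℤ) 0 _ p (by omega)

lemma isBdd_cech (J : CochainComplex (CohTop.Ab X) ℤ) (a : ℤ)
    (hJ : ∀ i : ℤ, i < a → IsZero (J.X i)) :
    IsBdd (((sheafToPresheaf (Opens.grothendieckTopology X) AddCommGrpCat.{u} ⋙
      CechTotP2.cechFun U).mapHomologicalComplex (ComplexShape.up ℤ)).obj J) a 0 := by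
  intro q p h
  rcases h with h | h
  · exact (sheafToPresheaf (Opens.grothendieckTopology X) AddCommGrpCat.{u} ⋙
      CechTotP2.cechFun U ⋙ HomologicalComplex.eval _ _ p).map_isZero (hJ q h)
  · exact CechTotP2.isZero_cechFun_X U (J.X q).obj p h

theorem quasiIso_total_η (J : CochainComplex (CohTop.Ab X) ℤ) (a : ℤ)
    (hJ : ∀ i : ℤ, i < a → IsZero (J.X i)) [∀ n, Injective (J.X n)] :
    QuasiIso (HomologicalComplex₂.total.map (η U hcov J) (ComplexShape.up ℤ)) := by
  apply quasiIso_total_map_of_degreewise _ (isBdd_DG J a hJ) (isBdd_cech U J a hJ)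
  intro q
  change QuasiIso (augZ U hcov (J.X q))
  infer_instance

end Groth.Agent.Lib.Helper5.CechTotP3
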