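import Mathlib
import Groth.Agent.Lib.Helper5.ClosedPsi

set_option autoImplicit false
universe u
open CategoryTheory CategoryTheory.Limits Opposite TopologicalSpace Topology Simplicial

noncomputable section
/-!
# The Cech resolution of an abelian sheaf for a locally finite closed covering (helper5)
-/

namespace Groth.Agent.Lib.Helper5.ClosedCech

open Groth.Agent.Lib.Helper5 Groth.Agent.Lib.Helper5.TopLocal Groth.Agent.Lib.Helper5.ClosedPsi

variable {X : TopCat.{u}} {I : Type u} (U : I → Set X) (hU : ∀ i, IsClosed (U i))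
  (F : CohTop.Ab X)

/-- the intersection of the members of a tuple -/
def Zs {n : ℕ} (σ : Fin n → I) : Set X := ⋂ k, U (σ k)

include hU in
lemma isClosed_Zs {n : ℕ} (σ : Fin n → I) : IsClosed (Zs U σ) := isClosed_iInter (fun _ => hU _)

lemma Zs_comp_subset {m n : ℕ} (σ : Fin n → I) (f : Fin m → Fin n) : Zs U σ ⊆ Zs U (σ ∘ f) :=
  fun _ hx => Set.mem_iInter.2 (fun k => Set.mem_iInter.1 hx (f k))

/-- the terms of the Cech complex -/
abbrev term (n : ℕ) : CohTop.Ab X := ∏ᶜ fun σ : Fin (n + 1) → I => Psi F (Zs U σ)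

/-- projection to a component followed by restriction -/
def face {m n : ℕ} (σ : Fin (m + 1) → I) (τ : Fin (n + 1) → I) (h : Zs U τ ⊆ Zs U σ) :
    term U F m ⟶ Psi F (Zs U τ) :=
  Pi.π _ σ ≫ rho F (isClosed_Zs U hU σ) (isClosed_Zs U hU τ) h

lemma face_congr {m n : ℕ} {σ σ' : Fin (m + 1) → I} (e : σ = σ') (τ : Fin (n + 1) → I)
    (h : Zs U τ ⊆ Zs U σ) : face U hU F σ τ h = face U hU F σ' τ (e ▸ h) := by
  subst e
  rfl

lemma face_self {n : ℕ} (τ : Fin (n + 1) → I) (h : Zs U τ ⊆ Zs U τ) :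
    face U hU F τ τ h = Pi.π _ τ := by
  unfold face
  rw [rho_self, Category.comp_id]

lemma face_rho {m n n' : ℕ} (σ : Fin (m + 1) → I) (τ : Fin (n + 1) → I) (τ' : Fin (n' + 1) → I)
    (h : Zs U τ ⊆ Zs U σ) (h' : Zs U τ' ⊆ Zs U τ) :
    face U hU F σ τ h ≫ rho F (isClosed_Zs U hU τ) (isClosed_Zs U hU τ') h' =
      face U hU F σ τ' (h'.trans h) := by
  unfold face
  rw [Category.assoc, rho_comp]

/-- the cosimplicial sheaf -/
def cech : CosimplicialObject (CohTop.Ab X) where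
  obj Δ := term U F Δ.len
  map {Δ Δ'} θ := Pi.lift fun τ => face U hU F (τ ∘ θ.toOrderHom) τ (Zs_comp_subset U τ _)
  map_id Δ := by
    apply Pi.hom_ext
    intro τ
    rw [Pi.lift_π, Category.id_comp]
    exact face_self U hU F τ _
  map_comp {Δ Δ' Δ''} θ θ' := by
    apply Pi.hom_ext
    intro τ
    rw [Pi.lift_π, Category.assoc, Pi.lift_π]
    unfold face
    rw [← Category.assoc, Pi.lift_π]
    exact (face_rho U hU F _ _ _ _ _).symm

/-- the Cech complex, indexed by the natural numbers -/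
def K₀ : CochainComplex (CohTop.Ab X) ℕ :=
  (AlgebraicTopology.alternatingCofaceMapComplex (CohTop.Ab X)).obj (cech U hU F)

lemma K₀_d (n : ℕ) : (K₀ U hU F).d n (n + 1) =
    ∑ k : Fin (n + 2), (-1 : ℤ) ^ (k : ℕ) • (cech U hU F).δ k := by
  unfold K₀
  exact CochainComplex.of_d (fun n => (cech U hU F).obj ⦋n⦌)
    (AlgebraicTopology.AlternatingCofaceMapComplex.objD (cech U hU F)) n

lemma δ_π (n : ℕ) (k : Fin (n + 2)) (τ : Fin (n + 2) → I) :
    (cech U hU F).δ k ≫ Pi.π (fun σ : Fin (n + 1 + 1) → I => Psi F (Zs U σ)) τ =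
      face U hU F (τ ∘ k.succAbove) τ (Zs_comp_subset U τ _) := by
  unfold CosimplicialObject.δ
  exact Pi.lift_π _ _


/-- projection to a component -/
def pr (n : ℕ) (σ : Fin (n + 1) → I) : (K₀ U hU F).X n ⟶ Psi F (Zs U σ) :=
  Pi.π (fun σ : Fin (n + 1) → I => Psi F (Zs U σ)) σ

/-- morphism to a term from its components -/
def lft (n : ℕ) {T : CohTop.Ab X} (f : ∀ σ : Fin (n + 1) → I, T ⟶ Psi F (Zs U σ)) :
    T ⟶ (K₀ U hU F).X n :=
  Pi.lift f

@[reassoc]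
lemma lft_pr (n : ℕ) {T : CohTop.Ab X} (f : ∀ σ : Fin (n + 1) → I, T ⟶ Psi F (Zs U σ))
    (σ : Fin (n + 1) → I) : lft U hU F n f ≫ pr U hU F n σ = f σ :=
  Pi.lift_π _ _

lemma hom_ext_pr (n : ℕ) {T : CohTop.Ab X} (a b : T ⟶ (K₀ U hU F).X n)
    (h : ∀ σ, a ≫ pr U hU F n σ = b ≫ pr U hU F n σ) : a = b :=
  Pi.hom_ext _ _ h

/-- projection to a component followed by restriction -/
def fc {m n : ℕ} (σ : Fin (m + 1) → I) (τ : Fin (n + 1) → I) (h : Zs U τ ⊆ Zs U σ) :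
    (K₀ U hU F).X m ⟶ Psi F (Zs U τ) :=
  pr U hU F m σ ≫ rho F (isClosed_Zs U hU σ) (isClosed_Zs U hU τ) h

lemma fc_congr {m n : ℕ} {σ σ' : Fin (m + 1) → I} (e : σ = σ') (τ : Fin (n + 1) → I)
    (h : Zs U τ ⊆ Zs U σ) : fc U hU F σ τ h = fc U hU F σ' τ (e ▸ h) := by
  subst e
  rfl

lemma d_pr (n : ℕ) (τ : Fin (n + 2) → I) :
    (K₀ U hU F).d n (n + 1) ≫ pr U hU F (n + 1) τ =
      ∑ k : Fin (n + 2), (-1 : ℤ) ^ (k : ℕ) •
        fc U hU F (τ ∘ k.succAbove) τ (Zs_comp_subset U τ _) := by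
  have h1 := K₀_d U hU F n
  have h2 : (∑ k : Fin (n + 2), (-1 : ℤ) ^ (k : ℕ) • (cech U hU F).δ k) ≫
      Pi.π (fun σ : Fin (n + 1 + 1) → I => Psi F (Zs U σ)) τ =
      ∑ k : Fin (n + 2), (-1 : ℤ) ^ (k : ℕ) •
        face U hU F (τ ∘ k.succAbove) τ (Zs_comp_subset U τ _) :=
    (Preadditive.sum_comp _ _ _).trans (Finset.sum_congr rfl (fun k _ =>
      (Preadditive.zsmul_comp _ _ _).trans (congrArg _ (δ_π U hU F n k τ))))
  exact (congrArg (fun t => t ≫ pr U hU F (n + 1) τ) h1).trans h2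

/-- the augmentation -/
def ε₀ : F ⟶ (K₀ U hU F).X 0 := lft U hU F 0 fun σ => eta F (Zs U σ)

lemma ε₀_pr (σ : Fin (0 + 1) → I) : ε₀ U hU F ≫ pr U hU F 0 σ = eta F (Zs U σ) :=
  lft_pr U hU F 0 _ σ

lemma ε₀_fc {n : ℕ} (σ : Fin (0 + 1) → I) (τ : Fin (n + 1) → I) (h : Zs U τ ⊆ Zs U σ) :
    ε₀ U hU F ≫ fc U hU F σ τ h = eta F (Zs U τ) := by
  unfold fc
  rw [← Category.assoc, ε₀_pr, eta_rho]

lemma ε₀_d : ε₀ U hU F ≫ (K₀ U hU F).d 0 1 = 0 := by
  apply hom_ext_pr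
  intro τ
  rw [Category.assoc, zero_comp, d_pr, Preadditive.comp_sum, Fin.sum_univ_two,
    Preadditive.comp_zsmul, Preadditive.comp_zsmul, ε₀_fc, ε₀_fc]
  simp

section Local

variable (hlf : LocallyFinite U)

include hlf hU in
lemma exists_good_nhd (v : X) :
    ∃ (W₀ : Opens X), v ∈ W₀ ∧ ∀ i, (U i ∩ (W₀ : Set X)).Nonempty → v ∈ U i := by
  have h := hlf.iInter_compl_mem_nhds hU v
  refine ⟨⟨interior (⋂ (i) (_ : v ∉ U i), (U i)ᶜ), isOpen_interior⟩,
    mem_interior_iff_mem_nhds.2 h, ?_⟩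
  rintro i ⟨y, hyU, hyW⟩
  by_contra hv
  have h1 := interior_subset hyW
  simp only [Set.mem_iInter, Set.mem_compl_iff] at h1
  exact h1 i hv hyU

lemma cons_comp_succAbove_zero {n : ℕ} (i₀ : I) (σ : Fin (n + 1) → I) :
    (Fin.cons i₀ σ : Fin (n + 2) → I) ∘ (0 : Fin (n + 2)).succAbove = σ := by
  funext j
  simp [Fin.succAbove_zero]

lemma cons_comp_succAbove_succ {n : ℕ} (i₀ : I) (σ : Fin (n + 1) → I) (k : Fin (n + 1)) :
    (Fin.cons i₀ σ : Fin (n + 2) → I) ∘ k.succ.succAbove =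
      (Fin.cons i₀ (σ ∘ k.succAbove) : Fin (n + 1) → I) := by
  funext j
  refine Fin.cases ?_ (fun j' => ?_) j
  · simp
  · simp [Fin.succ_succAbove_succ]

lemma Zs_cons_subset {n : ℕ} (i₀ : I) (σ : Fin n → I) :
    Zs U (Fin.cons i₀ σ : Fin (n + 1) → I) ⊆ Zs U σ := by
  intro y hy
  refine Set.mem_iInter.2 (fun k => ?_)
  have := Set.mem_iInter.1 hy k.succ
  simpa using this

lemma mem_Zs_cons {n : ℕ} (i₀ : I) (σ : Fin n → I) (v : X) (h₀ : v ∈ U i₀) (h : v ∈ Zs U σ) :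
    v ∈ Zs U (Fin.cons i₀ σ : Fin (n + 1) → I) := by
  refine Set.mem_iInter.2 (fun k => ?_)
  refine Fin.cases ?_ (fun k' => ?_) k
  · simpa using h₀
  · simpa using Set.mem_iInter.1 h k'

lemma Zs_cons_face_subset {n : ℕ} (i₀ : I) (σ : Fin (n + 1) → I) (k : Fin (n + 1)) :
    Zs U (Fin.cons i₀ σ : Fin (n + 2) → I) ⊆
      Zs U (Fin.cons i₀ (σ ∘ k.succAbove) : Fin (n + 1) → I) := by
  rw [← cons_comp_succAbove_succ]
  exact Zs_comp_subset U _ _

include hlf in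
/-- the key local statement: a cocycle is, near any point, the alternating sum of units of
sections of `F` -/
theorem core (hcov : ⋃ i, U i = Set.univ) (n : ℕ) {V : Opens X}
    (x : free V ⟶ (K₀ U hU F).X n) (hx : x ≫ (K₀ U hU F).d n (n + 1) = 0) (v : X) (hv : v ∈ V) :
    ∃ (W : Opens X) (_ : v ∈ W) (hW : W ≤ V) (s : (Fin n → I) → (free W ⟶ F)),
      ∀ σ : Fin (n + 1) → I, res hW ≫ x ≫ pr U hU F n σ =
        ∑ k : Fin (n + 1), (-1 : ℤ) ^ (k : ℕ) • (s (σ ∘ k.succAbove) ≫ eta F (Zs U σ)) := by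
  classical
  have hx' : ∀ τ : Fin (n + 2) → I, ∑ k : Fin (n + 2), (-1 : ℤ) ^ (k : ℕ) •
      (x ≫ fc U hU F (τ ∘ k.succAbove) τ (Zs_comp_subset U τ _)) = 0 := by
    intro τ
    have h := congrArg (fun t => t ≫ pr U hU F (n + 1) τ) hx
    rw [Category.assoc, zero_comp, d_pr, Preadditive.comp_sum] at h
    rw [← h]
    exact Finset.sum_congr rfl (fun k _ => (Preadditive.comp_zsmul _ _ _).symm)
  obtain ⟨i₀, hi₀⟩ : ∃ i, v ∈ U i := by
    have : v ∈ ⋃ i, U i := by rw [hcov]; exact Set.mem_univ v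
    exact Set.mem_iUnion.1 this
  let Iv : Set I := {i | v ∈ U i}
  have hIv : Iv.Finite := hlf.point_finite v
  obtain ⟨W₀, hvW₀, hW₀⟩ := exists_good_nhd U hU hlf v
  -- step 1
  have h1 : ∀ σ' : Fin n → I, ∃ (W : Opens X) (_ : v ∈ W) (hW : W ≤ V) (s : free W ⟶ F),
      s ≫ eta F (Zs U (Fin.cons i₀ σ' : Fin (n + 1) → I)) =
        res hW ≫ x ≫ pr U hU F n (Fin.cons i₀ σ') :=
    fun σ' => lift_near' F (isClosed_Zs U hU _) _ v hv
  choose W₁ hvW₁ hW₁V s₁ hs₁ using h1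
  let S' : Set (Fin n → I) := {σ' | ∀ k, σ' k ∈ Iv}
  have hS' : S'.Finite := by
    have : S' = Set.pi Set.univ (fun _ => Iv) := by
      ext σ'
      simp [S']
    rw [this]
    exact Set.Finite.pi (fun _ => hIv)
  obtain ⟨W₂', hvW₂', hW₂'⟩ := exists_nhd_le S' hS' v W₁ (fun a _ => hvW₁ a)
  let W₂ : Opens X := W₂' ⊓ V
  have hvW₂ : v ∈ W₂ := ⟨hvW₂', hv⟩
  have hW₂V : W₂ ≤ V := inf_le_right
  let s₂ : (Fin n → I) → (free W₂ ⟶ F) := fun σ' =>
    if h : σ' ∈ S' then res (inf_le_left.trans (hW₂' σ' h)) ≫ s₁ σ' else 0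
  have hs₂ : ∀ σ' ∈ S', s₂ σ' ≫ eta F (Zs U (Fin.cons i₀ σ' : Fin (n + 1) → I)) =
      res hW₂V ≫ x ≫ pr U hU F n (Fin.cons i₀ σ') := by
    intro σ' h
    simp only [s₂, dif_pos h]
    rw [Category.assoc, hs₁, res_comp_assoc]
  -- step 2
  have h2 : ∀ σ : Fin (n + 1) → I, ∃ (W : Opens X) (_ : v ∈ W) (hW : W ≤ W₂),
      (∀ k, σ k ∈ Iv) → res (hW.trans hW₂V) ≫ x ≫ pr U hU F n σ =
        ∑ k : Fin (n + 1), (-1 : ℤ) ^ (k : ℕ) •
          ((res hW ≫ s₂ (σ ∘ k.succAbove)) ≫ eta F (Zs U σ)) := by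
    intro σ
    by_cases hσ : ∀ k, σ k ∈ Iv
    swap
    · exact ⟨W₂, hvW₂, le_rfl, fun h => absurd h hσ⟩
    obtain ⟨W₃, hvW₃, hW₃V, t, ht⟩ :=
      lift_near' F (isClosed_Zs U hU σ) (x ≫ pr U hU F n σ) v hv
    let W₄ : Opens X := W₂ ⊓ W₃
    have hvW₄ : v ∈ W₄ := ⟨hvW₂, hvW₃⟩
    have hW₄V : W₄ ≤ V := inf_le_left.trans hW₂V
    let τ : Fin (n + 2) → I := Fin.cons i₀ σ
    let u : free W₄ ⟶ F := res (inf_le_right : W₄ ≤ W₃) ≫ t -
      ∑ k : Fin (n + 1), (-1 : ℤ) ^ (k : ℕ) • (res (inf_le_left : W₄ ≤ W₂) ≫ s₂ (σ ∘ k.succAbove))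
    have hσk : ∀ k : Fin (n + 1), σ ∘ k.succAbove ∈ S' := fun k j => hσ _
    have hvτ : v ∈ Zs U τ := mem_Zs_cons U i₀ σ v hi₀ (Set.mem_iInter.2 hσ)
    have c1 : x ≫ fc U hU F σ τ (Zs_cons_subset U i₀ σ) -
        ∑ k : Fin (n + 1), (-1 : ℤ) ^ (k : ℕ) •
          (x ≫ fc U hU F (Fin.cons i₀ (σ ∘ k.succAbove) : Fin (n + 1) → I) τ
            (Zs_cons_face_subset U i₀ σ k)) = 0 := by
      have e0 : fc U hU F (τ ∘ (0 : Fin (n + 2)).succAbove) τ (Zs_comp_subset U τ _) =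
          fc U hU F σ τ (Zs_cons_subset U i₀ σ) :=
        fc_congr U hU F (cons_comp_succAbove_zero i₀ σ) τ _
      have ek : ∀ k : Fin (n + 1),
          fc U hU F (τ ∘ k.succ.succAbove) τ (Zs_comp_subset U τ _) =
          fc U hU F (Fin.cons i₀ (σ ∘ k.succAbove) : Fin (n + 1) → I) τ
            (Zs_cons_face_subset U i₀ σ k) :=
        fun k => fc_congr U hU F (cons_comp_succAbove_succ i₀ σ k) τ _
      have h := hx' τ
      rw [Fin.sum_univ_succ, e0] at h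
      simp only [ek] at h
      rw [← h, sub_eq_add_neg, ← Finset.sum_neg_distrib]
      congr 1
      · simp
      · refine Finset.sum_congr rfl (fun k _ => ?_)
        rw [Fin.val_succ, pow_succ, mul_neg_one, neg_zsmul]
    have c2 : (res (inf_le_right : W₄ ≤ W₃) ≫ t) ≫ eta F (Zs U τ) =
        res hW₄V ≫ x ≫ fc U hU F σ τ (Zs_cons_subset U i₀ σ) := by
      rw [← eta_rho F (isClosed_Zs U hU σ) (isClosed_Zs U hU τ) (Zs_cons_subset U i₀ σ)]
      unfold fc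
      rw [Category.assoc, ← Category.assoc t, ht, Category.assoc, Category.assoc,
        res_comp_assoc]
    have c3 : ∀ k : Fin (n + 1),
        (res (inf_le_left : W₄ ≤ W₂) ≫ s₂ (σ ∘ k.succAbove)) ≫ eta F (Zs U τ) =
        res hW₄V ≫ x ≫ fc U hU F (Fin.cons i₀ (σ ∘ k.succAbove) : Fin (n + 1) → I) τ
            (Zs_cons_face_subset U i₀ σ k) := by
      intro k
      rw [← eta_rho F (isClosed_Zs U hU (Fin.cons i₀ (σ ∘ k.succAbove) : Fin (n + 1) → I))
        (isClosed_Zs U hU τ) (Zs_cons_face_subset U i₀ σ k)]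
      unfold fc
      rw [Category.assoc, ← Category.assoc (s₂ _), hs₂ _ (hσk k), Category.assoc, Category.assoc,
        res_comp_assoc]
    have hu : u ≫ eta F (Zs U τ) = 0 := by
      simp only [u]
      rw [Preadditive.sub_comp, Preadditive.sum_comp, c2]
      simp only [Preadditive.zsmul_comp, c3]
      simp only [← Preadditive.comp_zsmul, ← Preadditive.comp_sum, ← Preadditive.comp_sub]
      have c1' : x ≫ (fc U hU F σ τ (Zs_cons_subset U i₀ σ) -
          ∑ k : Fin (n + 1), (-1 : ℤ) ^ (k : ℕ) •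
            fc U hU F (Fin.cons i₀ (σ ∘ k.succAbove) : Fin (n + 1) → I) τ
              (Zs_cons_face_subset U i₀ σ k)) = 0 := by
        rw [Preadditive.comp_sub, Preadditive.comp_sum]
        simp only [Preadditive.comp_zsmul]
        exact c1
      rw [c1', comp_zero]
    obtain ⟨W₅, hvW₅, hW₅, e⟩ := vanish_near' F (isClosed_Zs U hU τ) u hu v hvτ hvW₄
    refine ⟨W₅, hvW₅, hW₅.trans inf_le_left, fun _ => ?_⟩
    simp only [u] at e
    rw [Preadditive.comp_sub, sub_eq_zero, Preadditive.comp_sum] at e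
    simp only [Preadditive.comp_zsmul, res_comp_assoc] at e
    have e2 : res ((hW₅.trans inf_le_left).trans hW₂V) ≫ x ≫ pr U hU F n σ =
        (res (hW₅.trans inf_le_right) ≫ t) ≫ eta F (Zs U σ) := by
      rw [Category.assoc, ht, res_comp_assoc]
    rw [e2, e, Preadditive.sum_comp]
    refine Finset.sum_congr rfl (fun k _ => ?_)
    rw [Preadditive.zsmul_comp]
  choose W₅ hvW₅ hW₅ hid using h2
  let S : Set (Fin (n + 1) → I) := {σ | ∀ k, σ k ∈ Iv}
  have hS : S.Finite := by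
    have : S = Set.pi Set.univ (fun _ => Iv) := by
      ext σ
      simp [S]
    rw [this]
    exact Set.Finite.pi (fun _ => hIv)
  obtain ⟨W', hvW', hW'⟩ := exists_nhd_le S hS v W₅ (fun a _ => hvW₅ a)
  let W : Opens X := W' ⊓ (W₂ ⊓ W₀)
  have hvW : v ∈ W := ⟨hvW', hvW₂, hvW₀⟩
  have hWW₂ : W ≤ W₂ := inf_le_right.trans inf_le_left
  refine ⟨W, hvW, hWW₂.trans hW₂V, fun σ' => res hWW₂ ≫ s₂ σ', fun σ => ?_⟩
  by_cases hσ : ∀ k, σ k ∈ Iv
  · have h := congrArg (fun t => res (inf_le_left.trans (hW' σ hσ) : W ≤ W₅ σ) ≫ t) (hid σ hσ)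
    rw [res_comp_assoc, Preadditive.comp_sum] at h
    rw [h]
    refine Finset.sum_congr rfl (fun k _ => ?_)
    rw [Preadditive.comp_zsmul, ← Category.assoc, ← Category.assoc, res_comp]
  · have hdisj : Disjoint (W : Set X) (Zs U σ) := by
      rw [Set.disjoint_left]
      intro y hyW hyZ
      apply hσ
      intro k
      exact hW₀ (σ k) ⟨y, Set.mem_iInter.1 hyZ k, hyW.2.2⟩
    rw [zero_of_disjoint F (Zs U σ) hdisj (res (hWW₂.trans hW₂V) ≫ x ≫ pr U hU F n σ)]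
    symm
    refine Finset.sum_eq_zero (fun k _ => ?_)
    rw [zero_of_disjoint F (Zs U σ) hdisj ((res hWW₂ ≫ s₂ (σ ∘ k.succAbove)) ≫ eta F (Zs U σ)),
      smul_zero]

lemma mono_ε₀ (hcov : ⋃ i, U i = Set.univ) : Mono (ε₀ U hU F) := by
  apply CxLocal.mono_of_freeSheaf
  intro V a ha
  apply hom_eq_zero_of_near
  intro v hv
  obtain ⟨i₀, hi₀⟩ : ∃ i, v ∈ U i := by
    have : v ∈ ⋃ i, U i := by rw [hcov]; exact Set.mem_univ v
    exact Set.mem_iUnion.1 this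
  let σ₀ : Fin (0 + 1) → I := fun _ => i₀
  have h1 : a ≫ eta F (Zs U σ₀) = 0 := by
    rw [← ε₀_pr U hU F σ₀, ← Category.assoc, ha, zero_comp]
  exact vanish_near' F (isClosed_Zs U hU σ₀) a h1 v (Set.mem_iInter.2 (fun _ => hi₀)) hv

include hlf in
lemma exact₀ (hcov : ⋃ i, U i = Set.univ) :
    (ShortComplex.mk (ε₀ U hU F) ((K₀ U hU F).d 0 1) (ε₀_d U hU F)).Exact := by
  apply exact_of_near
  intro V z hz v hv
  obtain ⟨W, hvW, hW, s, hs⟩ := core U hU F hlf hcov 0 z hz v hv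
  refine ⟨W, hvW, hW, s Fin.elim0, ?_⟩
  apply hom_ext_pr
  intro σ
  refine Eq.trans ?_ ((Category.assoc _ _ _).trans (hs σ)).symm
  rw [Fin.sum_univ_succ, Fin.sum_univ_zero, add_zero, Fin.val_zero, pow_zero, one_zsmul]
  refine (Category.assoc _ _ _).trans ?_
  rw [ε₀_pr]
  congr 2
  exact Subsingleton.elim _ _

include hlf in
lemma exact_succ (hcov : ⋃ i, U i = Set.univ) (n : ℕ) : (K₀ U hU F).ExactAt (n + 1) := by
  rw [HomologicalComplex.exactAt_iff' _ n (n + 1) (n + 1 + 1) (by simp) (by simp)]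
  apply exact_of_near
  intro V z hz v hv
  obtain ⟨W, hvW, hW, s, hs⟩ := core U hU F hlf hcov (n + 1) z hz v hv
  refine ⟨W, hvW, hW, lft U hU F n (fun σ' => s σ' ≫ eta F (Zs U σ')), ?_⟩
  apply hom_ext_pr
  intro σ
  show (lft U hU F n (fun σ' => s σ' ≫ eta F (Zs U σ')) ≫ (K₀ U hU F).d n (n + 1)) ≫
    pr U hU F (n + 1) σ = (res hW ≫ z) ≫ pr U hU F (n + 1) σ
  refine Eq.trans ?_ ((Category.assoc _ _ _).trans (hs σ)).symm
  refine (Category.assoc _ _ _).trans ?_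
  rw [d_pr, Preadditive.comp_sum]
  refine Finset.sum_congr rfl (fun k _ => ?_)
  rw [Preadditive.comp_zsmul]
  unfold fc
  rw [lft_pr_assoc, Category.assoc, eta_rho]

/-- the augmentation as a morphism of complexes -/
def ε : (CochainComplex.single₀ (CohTop.Ab X)).obj F ⟶ K₀ U hU F :=
  (CochainComplex.fromSingle₀Equiv _ _).symm ⟨ε₀ U hU F, ε₀_d U hU F⟩

include hlf in
lemma quasiIso_ε (hcov : ⋃ i, U i = Set.univ) : QuasiIso (ε U hU F) := ⟨fun n => by
  cases n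
  · rw [CochainComplex.quasiIsoAt₀_iff, ShortComplex.quasiIso_iff_of_zeros]
    · refine (ShortComplex.exact_and_mono_f_iff_of_iso ?_).2
        ⟨exact₀ U hU F hlf hcov, by dsimp; exact mono_ε₀ U hU F hcov⟩
      exact ShortComplex.isoMk (Iso.refl _) (Iso.refl _) (Iso.refl _)
        (by
          simp [ε]
          exact (Category.id_comp _).trans (Category.comp_id _).symm)
        (by
          simp
          exact (Category.id_comp _).trans (Category.comp_id _).symm)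
    all_goals rfl
  · rw [quasiIsoAt_iff_exactAt]
    · exact exact_succ U hU F hlf hcov _
    · apply CochainComplex.exactAt_succ_single_obj⟩

end Local

end Groth.Agent.Lib.Helper5.ClosedCech
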