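import Groth.Agent.Lib.Helper5.StupidSO

/-!
# The first hypercohomology spectral sequence `E₁^{p,q} = R^qS(K^p) ⇒ R^{p+q}S(K)` (helper5)
-/

set_option autoImplicit false
universe w v u v'' u''

namespace Groth.Agent.Lib.Helper5.E1Main

open CategoryTheory CategoryTheory.Limits ComposableArrows
open Groth.Agent.Lib.Helper5.RestrictCx Groth.Agent.Lib.Helper5.StupidSO
open Groth.Agent.Lib.Helper5.E1Core Groth.Agent.Lib.Helper2.GSS

variable {C : Type u} [Category.{v} C] [Abelian C] [HasDerivedCategory.{w} C]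
  [EnoughInjectives C]
  {D : Type u''} [Category.{v''} D] [Abelian D] (S : C ⥤ D) [S.Additive]
  (A : CochainComplex C ℤ) [A.IsStrictlyGE 0]

/-- The spectral object in `D`. -/
noncomputable def soE : Abelian.SpectralObject D EInt := mapHomological (so A 0) (Φ C S)

lemma soE_H_obj (n : ℤ) (i j : EInt) (h : i ≤ j) :
    ((soE S A).H n).obj (mk₁ (homOfLE h)) =
      ((Φ C S).shift n).obj (DerivedCategory.Plus.Q.obj
        ((towerPlus A 0).obj (mk₁ (homOfLE h)))) := rfl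

lemma isZero_towerPlus_obj (i j : EInt) (h : i ≤ j) (hi : ((0 : ℤ) : EInt) ≤ i) :
    IsZero (DerivedCategory.Plus.Q.obj ((towerPlus A 0).obj (mk₁ (homOfLE h)))) := by
  apply IsZero.of_full_of_faithful_of_isZero DerivedCategory.Plus.ι
  change IsZero (DerivedCategory.Q.obj ((tower A).obj (mk₁ (homOfLE h))))
  apply Functor.map_isZero
  apply isZero_restr
  intro n hn
  refine CochainComplex.isZero_of_isStrictlyGE A 0 n ?_
  have h1 : ((0 : ℤ) : EInt) < ((-n : ℤ) : EInt) := lt_of_le_of_lt hi hn.1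
  have := WithBotTop.coe_lt_coe.1 h1
  omega

lemma isStrictlyGE_tower_obj (i j : EInt) (h : i ≤ j) (n : ℤ) (hj : j < ((-n : ℤ) : EInt)) :
    ((tower A).obj (mk₁ (homOfLE h))).IsStrictlyGE (n + 1) := by
  rw [CochainComplex.isStrictlyGE_iff]
  intro m hm
  apply isZero_rX
  intro hP
  have h1 : ((-m : ℤ) : EInt) < ((-n : ℤ) : EInt) := lt_of_le_of_lt hP.2 hj
  have := WithBotTop.coe_lt_coe.1 h1
  omega

lemma isFirstQuadrantE₁ : IsFirstQuadrantE₁ (soE S A) where
  isZero₁ i j hij hi n := by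
    rw [soE_H_obj]
    exact Functor.map_isZero _ (isZero_towerPlus_obj A i j hij hi)
  isZero₂ i j hij n hj := by
    rw [soE_H_obj]
    haveI : ((towerPlus A 0).obj (mk₁ (homOfLE hij))).obj.IsStrictlyGE (n + 1) :=
      isStrictlyGE_tower_obj A i j hij n hj
    haveI := isGE_plusQ_obj ((towerPlus A 0).obj (mk₁ (homOfLE hij))) (n + 1)
    exact isZero_shift_obj_of_isGE S _ (n + 1) n (by omega)

/-- the single complex as a bounded below complex -/
noncomputable def singlePlus (p : ℤ) (M : C) : CochainComplex.Plus C :=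
  ⟨(HomologicalComplex.single C (ComplexShape.up ℤ) p).obj M, ⟨p, inferInstance⟩⟩

/-- `Q⁺(M[-p]) ≅ single_p M` -/
noncomputable def plusQSingleIso (p : ℤ) (M : C) :
    DerivedCategory.Plus.Q.obj (singlePlus p M) ≅ (DerivedCategory.Plus.singleFunctor C p).obj M :=
  let e₀ : (DerivedCategory.singleFunctor C p).obj M ≅
      DerivedCategory.Q.obj ((CochainComplex.singleFunctor C p).obj M) :=
    (DerivedCategory.singleFunctorIsoCompQ C p).app M
  let e : (DerivedCategory.Plus.singleFunctor C p).obj M ≅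
      DerivedCategory.Plus.Q.obj (singlePlus p M) := DerivedCategory.Plus.ι.preimageIso e₀
  e.symm

lemma Pint_single (p m : ℤ) :
    Pint (((-p - 1 : ℤ) : EInt)) (((-p : ℤ) : EInt)) m ↔ m = p := by
  unfold Pint
  rw [WithBotTop.coe_lt_coe, WithBotTop.coe_le_coe]
  omega

/-- the graded pieces of the stupid filtration -/
noncomputable def towerPlusSingleIso (p : ℤ) :
    (towerPlus A 0).obj (mk₁ (homOfLE
      (WithBotTop.coe_le_coe.2 (by omega) : ((-p - 1 : ℤ) : EInt) ≤ ((-p : ℤ) : EInt)))) ≅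
      singlePlus p (A.X p) :=
  (CochainComplex.Plus.fullyFaithfulι C).preimageIso
    (restrSingleIso A _ p (fun m => Pint_single p m))

/-- the first page -/
noncomputable def soEFirstPageIso [HasInjectiveResolutions C] (p : ℤ) (q : ℕ) :
    ((soE S A).H (p + q)).obj (mk₁ (homOfLE
      (WithBotTop.coe_le_coe.2 (by omega) : ((-p - 1 : ℤ) : EInt) ≤ ((-p : ℤ) : EInt)))) ≅
      (S.rightDerived q).obj (A.X p) :=
  ((Φ C S).shift (p + q)).mapIso (DerivedCategory.Plus.Q.mapIso (towerPlusSingleIso A p) ≪≫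
      plusQSingleIso p (A.X p)) ≪≫
    eqToIso (by rw [add_comm]) ≪≫
    shiftSingleIso S (A.X p) (q : ℤ) p ≪≫
    shiftSingleZeroIso S (injectiveResolution (A.X p)) q

lemma Pint_top (m : ℤ) : Pint (⊥ : EInt) ⊤ m :=
  ⟨bot_lt_iff_ne_bot.2 (WithBotTop.coe_ne_bot _), le_top⟩

/-- the abutment -/
noncomputable def soEAbutIso (n : ℤ) (K : CochainComplex.Plus C) (hK : K.obj = A) :
    abut (soE S A) n ≅ ((Φ C S).shift n).obj (DerivedCategory.Plus.Q.obj K) :=
  ((Φ C S).shift n).mapIso (DerivedCategory.Plus.Q.mapIso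
    ((CochainComplex.Plus.fullyFaithfulι C).preimageIso
      (restrTopIso A _ (fun m => Pint_top m) ≪≫ eqToIso hK.symm)))

/-- The first hypercohomology spectral sequence `E₁^{p,q} = R^qS(K^p) ⇒ H^{p+q}(RS(K))` of a
complex `K` in nonnegative degrees. -/
theorem exists_spectralSequence [HasInjectiveResolutions C]
    (K : CochainComplex.Plus C) [K.obj.IsStrictlyGE 0] (H : ℤ → D)
    (hH : ∀ n, Nonempty (H n ≅ ((Φ C S).shift n).obj (DerivedCategory.Plus.Q.obj K))) :
    ∃ (E : CohomologicalSpectralSequence D 1) (a : SpSeq.Abutment E H),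
      (∀ n, a.IsFinite n) ∧ SpSeq.IsBounded E ∧
      (∀ (p q : ℕ), Nonempty ((E.page 1 le_rfl).X ((p : ℤ), (q : ℤ)) ≅
        (S.rightDerived q).obj (K.obj.X (p : ℤ)))) ∧
      (∀ p q : ℤ, (p < 0 ∨ q < 0) → IsZero ((E.page 1 le_rfl).X (p, q))) := by
  have e : ∀ n, H n ≅ abut (soE S K.obj) n := fun n =>
    (hH n).some ≪≫ (soEAbutIso S K.obj n K rfl).symm
  obtain ⟨E, a, ha, hE, h1, h0⟩ := exists_abutment (isFirstQuadrantE₁ S K.obj) H e
  refine ⟨E, a, ha, hE, ?_, h0⟩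
  intro p q
  obtain ⟨e1⟩ := h1 (p : ℤ) (q : ℤ)
  exact ⟨e1 ≪≫ soEFirstPageIso S K.obj (p : ℤ) q⟩

/-- The `if … then … else …` shape used in the statements. -/
theorem exists_spectralSequence_ite [HasInjectiveResolutions C]
    (K : CochainComplex.Plus C) [K.obj.IsStrictlyGE 0] (R : ℕ → D)
    (hR : ∀ n : ℕ, Nonempty (R n ≅ ((Φ C S).shift (n : ℤ)).obj (DerivedCategory.Plus.Q.obj K)))
    (E1 : ℕ → ℕ → D)
    (hE1 : ∀ p q : ℕ, Nonempty (E1 p q ≅ (S.rightDerived q).obj (K.obj.X (p : ℤ))))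
    (Z Z' : D) (hZ : IsZero Z) (hZ' : IsZero Z') :
    ∃ (E : CohomologicalSpectralSequence D 1)
      (a : SpSeq.Abutment E (fun n : ℤ => if 0 ≤ n then R n.toNat else Z)),
      (∀ n, a.IsFinite n) ∧ SpSeq.IsBounded E ∧
      ∀ p q : ℤ, Nonempty ((E.page 1 le_rfl).X (p, q) ≅
        (if 0 ≤ p ∧ 0 ≤ q then E1 p.toNat q.toNat else Z')) := by
  haveI := isGE_plusQ_obj K 0
  obtain ⟨E, a, ha, hE, h1, h0⟩ := exists_spectralSequence S K
    (fun n : ℤ => if 0 ≤ n then R n.toNat else Z)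
    (fun n => by
      by_cases hn : 0 ≤ n
      · obtain ⟨k, rfl⟩ := Int.eq_ofNat_of_zero_le hn
        obtain ⟨e⟩ := hR k
        refine ⟨?_ ≪≫ e⟩
        simp only [hn, if_true, Int.toNat_natCast]
        exact Iso.refl _
      · simp only [hn, if_false]
        exact ⟨IsZero.iso hZ (isZero_shift_obj_of_isGE S _ 0 n (by omega))⟩)
  refine ⟨E, a, ha, hE, ?_⟩
  intro p q
  by_cases hpq : 0 ≤ p ∧ 0 ≤ q
  · obtain ⟨p', rfl⟩ := Int.eq_ofNat_of_zero_le hpq.1
    obtain ⟨q', rfl⟩ := Int.eq_ofNat_of_zero_le hpq.2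
    rw [if_pos hpq, Int.toNat_natCast, Int.toNat_natCast]
    obtain ⟨e⟩ := h1 p' q'
    obtain ⟨e'⟩ := hE1 p' q'
    exact ⟨e ≪≫ e'.symm⟩
  · rw [if_neg hpq]
    refine ⟨IsZero.iso (h0 p q ?_) hZ'⟩
    rw [not_and_or, not_le, not_le] at hpq
    exact hpq

end Groth.Agent.Lib.Helper5.E1Main

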