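import Mathlib

/-!
# `Ext` into a product, for families admitting injective embeddings with exact product (helper5)

Let `P` be a class of families `B : ι → 𝒜` such that each `B ∈ P` admits short exact sequences
`0 → B σ → J σ → Q σ → 0` with `J σ` injective, `Q ∈ P`, and `∏ J → ∏ Q` an epimorphism.  Then
`Ext T (∏ B) q → ∏ Ext T (B σ) q` is bijective for all `q`.
-/

set_option autoImplicit false
universe w v u t

namespace Groth.Agent.Lib.Helper5.ExtPi

open CategoryTheory CategoryTheory.Limits Abelian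

variable {𝒜 : Type u} [Category.{v} 𝒜] [Abelian 𝒜] [HasExt.{w} 𝒜] {ι : Type t}
  [∀ B : ι → 𝒜, HasProduct B]

/-- the comparison map -/
noncomputable def cmp (T : 𝒜) (B : ι → 𝒜) (q : ℕ) (x : Ext T (∏ᶜ B) q) (σ : ι) : Ext T (B σ) q :=
  x.comp (Ext.mk₀ (Pi.π B σ)) (add_zero q)

lemma cmp_add (T : 𝒜) (B : ι → 𝒜) (q : ℕ) (x y : Ext T (∏ᶜ B) q) :
    cmp T B q (x + y) = cmp T B q x + cmp T B q y := by
  funext σ
  exact Ext.add_comp _ _ _ _

lemma cmp_neg (T : 𝒜) (B : ι → 𝒜) (q : ℕ) (x : Ext T (∏ᶜ B) q) :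
    cmp T B q (-x) = -cmp T B q x := by
  funext σ
  exact Ext.neg_comp _ _ _

lemma cmp_zero_bijective (T : 𝒜) (B : ι → 𝒜) : Function.Bijective (cmp T B 0) := by
  constructor
  · intro x y hxy
    obtain ⟨f, rfl⟩ := (Ext.mk₀_bijective T (∏ᶜ B)).2 x
    obtain ⟨g, rfl⟩ := (Ext.mk₀_bijective T (∏ᶜ B)).2 y
    congr 1
    apply Pi.hom_ext
    intro σ
    have h := congrFun hxy σ
    simp only [cmp, Ext.mk₀_comp_mk₀] at h
    exact (Ext.mk₀_bijective T (B σ)).1 h
  · intro y
    choose f hf using fun σ => (Ext.mk₀_bijective T (B σ)).2 (y σ)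
    refine ⟨Ext.mk₀ (Pi.lift f), ?_⟩
    funext σ
    simp only [cmp, Ext.mk₀_comp_mk₀, Pi.lift_π]
    exact hf σ

section Prod

variable {B J Q : ι → 𝒜} (f : ∀ σ, B σ ⟶ J σ) (g : ∀ σ, J σ ⟶ Q σ) (w : ∀ σ, f σ ≫ g σ = 0)

/-- the product short complex -/
noncomputable abbrev prodSC : ShortComplex 𝒜 :=
  ShortComplex.mk (Limits.Pi.map f) (Limits.Pi.map g) (by
    apply Pi.hom_ext
    intro σ
    simp [w σ])

/-- the projection of the product short complex -/
noncomputable def prodSCπ (σ : ι) : prodSC f g w ⟶ ShortComplex.mk (f σ) (g σ) (w σ) where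
  τ₁ := Pi.π B σ
  τ₂ := Pi.π J σ
  τ₃ := Pi.π Q σ
  comm₁₂ := by simp [prodSC]
  comm₂₃ := by simp [prodSC]

lemma prodSC_shortExact (hS : ∀ σ, (ShortComplex.mk (f σ) (g σ) (w σ)).ShortExact)
    (hepi : Epi (Limits.Pi.map g)) : (prodSC f g w).ShortExact := by
  haveI : ∀ σ, Mono (f σ) := fun σ => (hS σ).mono_f
  have hm : Mono (prodSC f g w).f := by
    dsimp [prodSC]
    infer_instance
  have he : Epi (prodSC f g w).g := hepi
  refine ShortComplex.ShortExact.mk' ?_ hm he
  apply ShortComplex.exact_of_f_is_kernel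
  refine KernelFork.IsLimit.ofι _ _
    (fun {W} a ha => Pi.lift (fun σ => (hS σ).exact.lift (a ≫ Pi.π J σ) (by
      have h1 : a ≫ Limits.Pi.map g = 0 := ha
      have h2 := congrArg (fun t => t ≫ Pi.π Q σ) h1
      simpa using h2))) ?_ ?_
  · intro W a ha
    apply Pi.hom_ext
    intro σ
    dsimp [prodSC]
    simp
    exact (hS σ).exact.lift_f _ _
  · intro W a ha b hb
    rw [← cancel_mono (prodSC f g w).f, hb]
    apply Pi.hom_ext
    intro σ
    dsimp [prodSC]
    simp
    exact ((hS σ).exact.lift_f _ _).symm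

end Prod

variable (P : (ι → 𝒜) → Prop)
  (hP : ∀ B, P B → ∃ (J Q : ι → 𝒜) (f : ∀ σ, B σ ⟶ J σ) (g : ∀ σ, J σ ⟶ Q σ)
    (w : ∀ σ, f σ ≫ g σ = 0), (∀ σ, Injective (J σ)) ∧
      (∀ σ, (ShortComplex.mk (f σ) (g σ) (w σ)).ShortExact) ∧ P Q ∧ Epi (Limits.Pi.map g))

include hP in
theorem cmp_bijective (T : 𝒜) :
    ∀ (q : ℕ) (B : ι → 𝒜), P B → Function.Bijective (cmp T B q) := by
  intro q
  induction q with
  | zero => exact fun B _ => cmp_zero_bijective T B
  | succ q ih =>
    intro B hB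
    obtain ⟨J, Q, f, g, w, hJ, hS, hQ, hepi⟩ := hP B hB
    have hSP := prodSC_shortExact f g w hS hepi
    haveI : ∀ σ, Injective (J σ) := hJ
    haveI : Injective (∏ᶜ J) := inferInstance
    have nat : ∀ σ, hSP.extClass.comp (Ext.mk₀ (Pi.π B σ)) (add_zero 1) =
        (Ext.mk₀ (Pi.π Q σ)).comp (hS σ).extClass (zero_add 1) :=
      fun σ => ShortComplex.ShortExact.extClass_naturality hSP (hS σ) (prodSCπ f g w σ)
    have key : ∀ (z : Ext T (∏ᶜ Q) q) (σ : ι),
        cmp T B (q + 1) (z.comp hSP.extClass rfl) σ = (cmp T Q q z σ).comp (hS σ).extClass rfl := by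
      intro z σ
      unfold cmp
      rw [Ext.comp_assoc_of_third_deg_zero, nat σ, Ext.comp_assoc_of_second_deg_zero]
    constructor
    · have h0 : ∀ x : Ext T (∏ᶜ B) (q + 1), cmp T B (q + 1) x = 0 → x = 0 := by
        intro x hx
        have h1 : x.comp (Ext.mk₀ (prodSC f g w).f) (add_zero (q + 1)) = 0 :=
          Ext.eq_zero_of_injective _
        obtain ⟨z, hz⟩ := Ext.covariant_sequence_exact₁ T hSP x h1 rfl
        have h2 : ∀ σ, (cmp T Q q z σ).comp (hS σ).extClass rfl = 0 := by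
          intro σ
          rw [← key, hz, hx]
          rfl
        choose wσ hwσ using fun σ =>
          Ext.covariant_sequence_exact₃ T (hS σ) (cmp T Q q z σ) rfl (h2 σ)
        obtain ⟨W, hW⟩ : ∃ W : Ext T (∏ᶜ J) q, ∀ σ, cmp T J q W σ = wσ σ := by
          cases q with
          | zero =>
            obtain ⟨W, hW⟩ := (cmp_zero_bijective T J).2 wσ
            exact ⟨W, fun σ => congrFun hW σ⟩
          | succ q' =>
            exact ⟨0, fun σ => (Ext.eq_zero_of_injective _).trans (Ext.eq_zero_of_injective _).symm⟩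
        have h3 : z = W.comp (Ext.mk₀ (prodSC f g w).g) (add_zero q) := by
          apply (ih Q hQ).1
          funext σ
          unfold cmp
          rw [Ext.comp_assoc_of_third_deg_zero, Ext.mk₀_comp_mk₀]
          have e1 : (prodSC f g w).g ≫ Pi.π Q σ = Pi.π J σ ≫ g σ := by simp [prodSC]
          rw [e1, ← Ext.mk₀_comp_mk₀, ← Ext.comp_assoc_of_third_deg_zero]
          exact ((congrArg (fun t => t.comp (Ext.mk₀ (g σ)) (add_zero q)) (hW σ)).trans
            (hwσ σ)).symm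
        rw [← hz, h3, Ext.comp_assoc_of_second_deg_zero, hSP.comp_extClass, Ext.comp_zero]
      intro x y hxy
      have := h0 (x + -y) (by rw [cmp_add, cmp_neg, hxy, add_neg_cancel])
      exact add_neg_eq_zero.1 this
    · intro y
      have h1 : ∀ σ, ∃ zσ : Ext T (Q σ) q, zσ.comp (hS σ).extClass rfl = y σ := fun σ =>
        Ext.covariant_sequence_exact₁ T (hS σ) (y σ) (Ext.eq_zero_of_injective _) rfl
      choose zσ hzσ using h1
      obtain ⟨z, hz⟩ := (ih Q hQ).2 zσ
      refine ⟨z.comp hSP.extClass rfl, ?_⟩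
      funext σ
      rw [key, hz, hzσ]

end Groth.Agent.Lib.Helper5.ExtPi
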