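import Mathlib
import Groth.Agent.Lib.Helper5.ClosedPsi
import Groth.Agent.Lib.Helper5.ExtPi
import Groth.Agent.Lib.Helper13.ClosedEmbPush

/-!
# Products of sheaves supported on a locally finite family of closed subsets (helper5)

* `epi_piMap`: a product of epimorphisms of sheaves whose targets are supported on the members of a
  locally finite family of subsets is an epimorphism.
* `nonempty_H_pi_equiv`: `H^q(X, ∏ i_{σ,*} G_σ) ≃ ∏ H^q(Z_σ, G_σ)` for a locally finite family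
  of closed subsets `Z_σ`.
-/

set_option autoImplicit false
universe u
open CategoryTheory CategoryTheory.Limits Opposite TopologicalSpace Topology

noncomputable section
namespace Groth.Agent.Lib.Helper5.LocFinProd

open Groth.Agent.Lib.Helper5 Groth.Agent.Lib.Helper5.TopLocal Groth.Agent.Lib.Helper5.ClosedPsi

variable {X : TopCat.{u}} {ι : Type u} (Z : ι → Set X)

theorem epi_piMap (hlf : LocallyFinite Z) (A B : ι → CohTop.Ab X) (g : ∀ σ, A σ ⟶ B σ)
    [∀ σ, Epi (g σ)]
    (hB : ∀ (σ : ι) (W : Opens X), Disjoint (W : Set X) (Z σ) → ∀ t : free W ⟶ B σ, t = 0) :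
    Epi (Limits.Pi.map g) := by
  classical
  apply epi_of_near
  intro V b x hx
  obtain ⟨t, ht, hfin⟩ := hlf x
  have h1 : ∀ σ, ∃ (W : Opens X) (_ : x ∈ W) (hW : W ≤ V) (a : free W ⟶ A σ),
      a ≫ g σ = res hW ≫ b ≫ Pi.π B σ := fun σ => near_of_epi (g σ) V (b ≫ Pi.π B σ) x hx
  choose W₁ hxW₁ hW₁V a₁ ha₁ using h1
  obtain ⟨W', hxW', hW'⟩ := exists_nhd_le _ hfin x W₁ (fun σ _ => hxW₁ σ)
  let W₀ : Opens X := ⟨interior t, isOpen_interior⟩
  have hxW₀ : x ∈ W₀ := mem_interior_iff_mem_nhds.2 ht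
  let W : Opens X := W' ⊓ (W₀ ⊓ V)
  have hWV : W ≤ V := inf_le_right.trans inf_le_right
  refine ⟨W, ⟨hxW', hxW₀, hx⟩, hWV,
    Pi.lift (fun σ => if h : (Z σ ∩ t).Nonempty then res (inf_le_left.trans (hW' σ h)) ≫ a₁ σ
      else 0), ?_⟩
  apply Pi.hom_ext
  intro σ
  rw [Category.assoc, Limits.Pi.map_π, ← Category.assoc, Pi.lift_π, Category.assoc]
  by_cases h : (Z σ ∩ t).Nonempty
  · rw [dif_pos h, Category.assoc, ha₁, res_comp_assoc]
  · rw [dif_neg h, zero_comp]
    symm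
    apply hB σ W
    rw [Set.disjoint_left]
    intro y hyW hyZ
    exact h ⟨y, hyZ, interior_subset hyW.2.1⟩

variable {Y : ι → TopCat.{u}} (i : ∀ σ, Y σ ⟶ X)

/-- the class of families of pushforwards along the `i σ` -/
def IsPushFamily (B : ι → CohTop.Ab X) : Prop :=
  ∃ G : ∀ σ, CohTop.Ab (Y σ), B = fun σ => (CohTop.push (i σ)).obj (G σ)

variable (hi : ∀ σ, IsClosedEmbedding (i σ))

include hi in
lemma isPushFamily_resolve (hlf : LocallyFinite (fun σ => Set.range (i σ)))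
    (B : ι → CohTop.Ab X) (hB : IsPushFamily i B) :
    ∃ (J Q : ι → CohTop.Ab X) (f : ∀ σ, B σ ⟶ J σ) (g : ∀ σ, J σ ⟶ Q σ)
      (w : ∀ σ, f σ ≫ g σ = 0), (∀ σ, Injective (J σ)) ∧
        (∀ σ, (ShortComplex.mk (f σ) (g σ) (w σ)).ShortExact) ∧ IsPushFamily i Q ∧
          Epi (Limits.Pi.map g) := by
  obtain ⟨G, rfl⟩ := hB
  let S : ∀ σ, ShortComplex (CohTop.Ab (Y σ)) := fun σ =>
    ShortComplex.mk (Injective.ι (G σ)) (cokernel.π (Injective.ι (G σ))) (cokernel.condition _)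
  have hS : ∀ σ, (S σ).ShortExact := fun σ =>
    { exact := ShortComplex.exact_cokernel _
      mono_f := inferInstanceAs (Mono (Injective.ι (G σ)))
      epi_g := inferInstanceAs (Epi (cokernel.π (Injective.ι (G σ)))) }
  have hpush : ∀ σ, ((S σ).map (CohTop.push (i σ))).ShortExact := fun σ => by
    haveI := Groth.Agent.Lib.Helper13.ClosedEmbPush.push_preservesFiniteColimits (hi σ)
    exact (hS σ).map_of_exact _
  refine ⟨fun σ => (CohTop.push (i σ)).obj (Injective.under (G σ)),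
    fun σ => (CohTop.push (i σ)).obj (cokernel (Injective.ι (G σ))),
    fun σ => (CohTop.push (i σ)).map (Injective.ι (G σ)),
    fun σ => (CohTop.push (i σ)).map (cokernel.π (Injective.ι (G σ))),
    fun σ => ((S σ).map (CohTop.push (i σ))).zero, ?_, hpush, ⟨_, rfl⟩, ?_⟩
  · intro σ
    exact Injective.injective_of_adjoint
      (Groth.Agent.Lib.Helper13.ClosedEmbPush.adj (i σ)) _
  · haveI : ∀ σ, Epi ((CohTop.push (i σ)).map (cokernel.π (Injective.ι (G σ)))) :=
      fun σ => Groth.Agent.Lib.Helper13.ClosedEmbPush.push_map_epi (hi σ) _ inferInstance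
    apply epi_piMap _ hlf
    intro σ W hW t
    apply zero_of_map_eq_bot
    ext z
    simp only [Opens.coe_bot, Set.mem_empty_iff_false, iff_false]
    intro hz
    exact Set.disjoint_left.1 hW hz ⟨z, rfl⟩

include hi in
/-- cohomology of a product of pushforwards along a locally finite family of closed embeddings -/
theorem nonempty_H_pi_equiv (hlf : LocallyFinite (fun σ => Set.range (i σ)))
    (G : ∀ σ, CohTop.Ab (Y σ)) (q : ℕ) :
    Nonempty (CohTop.H (∏ᶜ fun σ => (CohTop.push (i σ)).obj (G σ)) q ≃+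
      ∀ σ, CohTop.H (G σ) q) := by
  have hbij := ExtPi.cmp_bijective (IsPushFamily i) (isPushFamily_resolve i hi hlf)
    ((constantSheaf (Opens.grothendieckTopology X) AddCommGrpCat.{u}).obj
      (AddCommGrpCat.of (ULift ℤ))) q
    (fun σ => (CohTop.push (i σ)).obj (G σ)) ⟨G, rfl⟩
  let φ : CohTop.H (∏ᶜ fun σ => (CohTop.push (i σ)).obj (G σ)) q →+
      ∀ σ, CohTop.H ((CohTop.push (i σ)).obj (G σ)) q :=
    AddMonoidHom.mk' (ExtPi.cmp _ _ q) (ExtPi.cmp_add _ _ q)
  let e₁ := AddEquiv.ofBijective φ hbij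
  exact ⟨e₁.trans (AddEquiv.piCongrRight (fun σ =>
    (Groth.Agent.Lib.Helper13.ClosedEmbPush.HEquivPush (hi σ) (G σ) q).symm))⟩

end Groth.Agent.Lib.Helper5.LocFinProd
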