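import Groth.Agent.Lib.Helper5.ClosedCech
import Groth.Agent.Lib.Helper5.LocFinProd
import Groth.Agent.Lib.Helper5.E1Main
import Groth.Agent.Lib.Helper5.CoContCoh
import Groth.Agent.Lib.Helper2.GSS.LeraySite

/-!
# The descent spectral sequence of a locally finite closed covering (helper5)
-/

set_option autoImplicit false
universe w u
open CategoryTheory CategoryTheory.Limits Opposite TopologicalSpace Topology

noncomputable section
namespace Groth.Agent.Lib.Helper5.ClosedCechSS

open Groth.Agent.Lib.Helper5 Groth.Agent.Lib.Helper5.TopLocal Groth.Agent.Lib.Helper5.ClosedPsi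
  Groth.Agent.Lib.Helper5.ClosedCech Groth.Agent.Lib.Helper2.GSS

variable {X : TopCat.{u}} {I : Type u} (U : I → Set X) (hU : ∀ i, IsClosed (U i))
  (F : CohTop.Ab X)

/-- the Cech complex, indexed by the integers -/
def K : CochainComplex (CohTop.Ab X) ℤ := (K₀ U hU F).extend ComplexShape.embeddingUpNat

instance : (K U hU F).IsStrictlyGE 0 := by
  rw [CochainComplex.isStrictlyGE_iff]
  intro i hi
  apply HomologicalComplex.isZero_extend_X
  intro n h
  change (n : ℤ) = i at h
  omega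

/-- the Cech complex as a bounded below complex -/
def KP : CochainComplex.Plus (CohTop.Ab X) := ⟨K U hU F, ⟨0, inferInstance⟩⟩

instance : (KP U hU F).obj.IsStrictlyGE 0 := inferInstanceAs ((K U hU F).IsStrictlyGE 0)

/-- the terms -/
def KXIso (p : ℕ) :
    (KP U hU F).obj.X (p : ℤ) ≅ ∏ᶜ fun σ : Fin (p + 1) → I => Psi F (Zs U σ) :=
  HomologicalComplex.extendXIso _ ComplexShape.embeddingUpNat (i := p) rfl

/-- the augmentation -/
def εZ : (HomologicalComplex.single (CohTop.Ab X) (ComplexShape.up ℤ) 0).obj F ⟶ K U hU F :=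
  (HomologicalComplex.extendSingleIso ComplexShape.embeddingUpNat F 0 0 rfl).inv ≫
    HomologicalComplex.extendMap (ε U hU F) ComplexShape.embeddingUpNat

lemma quasiIso_εZ (hlf : LocallyFinite U) (hcov : ⋃ i, U i = Set.univ) :
    QuasiIso (εZ U hU F) := by
  haveI := quasiIso_ε U hU F hlf hcov
  haveI h1 : QuasiIso (HomologicalComplex.extendMap (ε U hU F) ComplexShape.embeddingUpNat) :=
    (HomologicalComplex.quasiIso_extendMap_iff (ε U hU F) ComplexShape.embeddingUpNat).2
      (quasiIso_ε U hU F hlf hcov)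
  have h2 : QuasiIso (HomologicalComplex.extendSingleIso ComplexShape.embeddingUpNat F 0 0
      rfl).inv := inferInstance
  unfold εZ
  exact quasiIso_comp (hφ := h2) (hφ' := h1) _ _

lemma locallyFinite_Zs (hlf : LocallyFinite U) (n : ℕ) :
    LocallyFinite (fun σ : Fin (n + 1) → I => Zs U σ) := by
  intro x
  obtain ⟨t, ht, hfin⟩ := hlf x
  refine ⟨t, ht, ?_⟩
  refine Set.Finite.subset (Set.Finite.pi (fun _ : Fin (n + 1) => hfin)) ?_
  intro σ hσ
  simp only [Set.mem_pi, Set.mem_univ, Set.mem_ofPred_eq, true_implies]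
  intro k
  obtain ⟨y, hyZ, hyt⟩ := hσ
  exact ⟨y, Set.mem_iInter.1 hyZ k, hyt⟩

section Derived

variable [HasDerivedCategory.{w} (CohTop.Ab X)]

/-- in the derived category the Cech complex is `F` -/
def plusQIso (hlf : LocallyFinite U) (hcov : ⋃ i, U i = Set.univ) :
    DerivedCategory.Plus.Q.obj (E1Main.singlePlus 0 F) ≅
      DerivedCategory.Plus.Q.obj (KP U hU F) :=
  haveI := quasiIso_εZ U hU F hlf hcov
  have h : IsIso (DerivedCategory.Q.map (εZ U hU F)) := by
    rw [DerivedCategory.isIso_Q_map_iff_quasiIso]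
    infer_instance
  let e₀ : DerivedCategory.Q.obj (E1Main.singlePlus 0 F).obj ≅
      DerivedCategory.Q.obj (KP U hU F).obj :=
    @asIso _ _ _ _ (DerivedCategory.Q.map (εZ U hU F)) h
  DerivedCategory.Plus.ι.preimageIso e₀

end Derived

/-- `H^n(⊤, F) ≅ H^n(X, F)` -/
def H'TopIso (G : CohTop.Ab X) (n : ℕ) :
    Sheaf.H' G n (⊤ : Opens X) ≅ AddCommGrpCat.of (CohTop.H G n) :=
  (Groth.Agent.Lib.Helper13.ExtAdj.extIsoLeft
    (CoContCoh.constIsoFreeSheaf (Opens.grothendieckTopology X) isTerminalTop) G n).toAddCommGrpIso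

/-- global sections -/
abbrev Γ (X : TopCat.{u}) : CohTop.Ab X ⥤ AddCommGrpCat.{u} :=
  secF (Opens.grothendieckTopology X) (⊤ : Opens X)

lemma nonempty_E1_iso (hlf : LocallyFinite U) (p q : ℕ) :
    Nonempty (AddCommGrpCat.of (∀ σ : Fin (p + 1) → I,
        CohTop.H ((CohTop.pull (incl (Zs U σ))).obj F) q) ≅
      ((Γ X).rightDerived q).obj ((KP U hU F).obj.X (p : ℤ))) := by
  have hlf' : LocallyFinite (fun σ : Fin (p + 1) → I => Set.range (incl (Zs U σ))) := by
    have e : (fun σ : Fin (p + 1) → I => Set.range (incl (Zs U σ))) = fun σ => Zs U σ :=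
      funext (fun σ => range_incl _)
    rw [e]
    exact locallyFinite_Zs U hlf p
  obtain ⟨e⟩ := LocFinProd.nonempty_H_pi_equiv (fun σ : Fin (p + 1) → I => incl (Zs U σ))
    (fun σ => isClosedEmbedding_incl (isClosed_Zs U hU σ)) hlf'
    (fun σ => (CohTop.pull (incl (Zs U σ))).obj F) q
  exact ⟨e.toAddCommGrpIso.symm ≪≫ (H'TopIso _ q).symm ≪≫
    (rightDerivedSecIso _ (⊤ : Opens X) _ q).symm ≪≫
    ((Γ X).rightDerived q).mapIso (KXIso U hU F p).symm⟩

section Main

variable [HasDerivedCategory.{w} (CohTop.Ab X)]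

lemma nonempty_abut_iso (hlf : LocallyFinite U) (hcov : ⋃ i, U i = Set.univ) (n : ℕ) :
    Nonempty (AddCommGrpCat.of (CohTop.H F n) ≅
      ((Φ (CohTop.Ab X) (Γ X)).shift (n : ℤ)).obj (DerivedCategory.Plus.Q.obj (KP U hU F))) :=
  ⟨(H'TopIso F n).symm ≪≫ (rightDerivedSecIso _ (⊤ : Opens X) F n).symm ≪≫
    (shiftSingleZeroIso (Γ X) (injectiveResolution F) n).symm ≪≫
    ((Φ (CohTop.Ab X) (Γ X)).shift (n : ℤ)).mapIso
      ((E1Main.plusQSingleIso 0 F).symm ≪≫ plusQIso U hU F hlf hcov)⟩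

end Main

include hU in
/-- the descent spectral sequence of a locally finite closed covering -/
theorem exists_spectralSequence (hlf : LocallyFinite U) (hcov : ⋃ i, U i = Set.univ) :
    ∃ (E : CohomologicalSpectralSequence AddCommGrpCat.{u} 1)
      (a : SpSeq.Abutment E (fun n : ℤ =>
        if 0 ≤ n then AddCommGrpCat.of (CohTop.H F n.toNat) else AddCommGrpCat.of PUnit.{u + 1})),
      (∀ n, a.IsFinite n) ∧ SpSeq.IsBounded E ∧
      ∀ p q : ℤ, Nonempty ((E.page 1 le_rfl).X (p, q) ≅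
        (if 0 ≤ p ∧ 0 ≤ q then
          AddCommGrpCat.of (∀ σ : Fin (p.toNat + 1) → I,
            CohTop.H ((CohTop.pull (incl (Zs U σ))).obj F) q.toNat)
         else AddCommGrpCat.of PUnit.{u + 1})) := by
  letI : HasDerivedCategory.{u + 1} (CohTop.Ab X) := HasDerivedCategory.standard _
  exact E1Main.exists_spectralSequence_ite (Γ X) (KP U hU F)
    (fun n => AddCommGrpCat.of (CohTop.H F n)) (nonempty_abut_iso U hU F hlf hcov)
    (fun p q => AddCommGrpCat.of (∀ σ : Fin (p + 1) → I,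
      CohTop.H ((CohTop.pull (incl (Zs U σ))).obj F) q))
    (nonempty_E1_iso U hU F hlf)
    (AddCommGrpCat.of PUnit.{u + 1}) (AddCommGrpCat.of PUnit.{u + 1})
    (AddCommGrpCat.isZero_of_subsingleton _) (AddCommGrpCat.isZero_of_subsingleton _)

end Groth.Agent.Lib.Helper5.ClosedCechSS
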