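import Groth.Prelude.Def_SGA4a

/-!
# Closed complement of an open in a category with products: basic characterisations
-/

set_option autoImplicit false
open CategoryTheory Limits

namespace Groth.Agent.Lib.Helper5.ClosedCompl

variable {E : Type*} [Category E]

section
variable [HasBinaryProducts E] (U : E)

/-- `Z` is in the closed complement of `U` iff there is `c : U ⟶ Z` with `fst ≫ c = snd`. -/
lemma closedCompl_iff (Z : E) :
    SGA4.closedCompl U Z ↔ ∃ c : U ⟶ Z, (prod.fst : U ⨯ Z ⟶ U) ≫ c = prod.snd := by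
  constructor
  · intro (h : IsIso (prod.fst : U ⨯ Z ⟶ U))
    exact ⟨inv (prod.fst : U ⨯ Z ⟶ U) ≫ prod.snd, by rw [IsIso.hom_inv_id_assoc]⟩
  · rintro ⟨c, hc⟩
    show IsIso (prod.fst : U ⨯ Z ⟶ U)
    refine ⟨⟨prod.lift (𝟙 U) c, ?_, ?_⟩⟩
    · apply Limits.prod.hom_ext
      · rw [Category.assoc, prod.lift_fst, Category.comp_id, Category.id_comp]
      · rw [Category.assoc, prod.lift_snd, Category.id_comp, hc]
    · rw [prod.lift_fst]

/-- `Z` is in the closed complement of `U` iff there is `c : U ⟶ Z` through which every map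
into `Z` from an object over `U` factors. -/
lemma closedCompl_iff' (Z : E) :
    SGA4.closedCompl U Z ↔
      ∃ c : U ⟶ Z, ∀ (W : E) (a : W ⟶ U) (b : W ⟶ Z), a ≫ c = b := by
  rw [closedCompl_iff]
  constructor
  · rintro ⟨c, hc⟩
    refine ⟨c, fun W a b => ?_⟩
    calc a ≫ c = (prod.lift a b ≫ prod.fst) ≫ c := by rw [prod.lift_fst]
      _ = prod.lift a b ≫ prod.snd := by rw [Category.assoc, hc]
      _ = b := prod.lift_snd _ _
  · rintro ⟨c, hc⟩
    exact ⟨c, hc _ _ _⟩

lemma closedCompl.eq_of_over {Z : E} (hZ : SGA4.closedCompl U Z) {W : E} (a : W ⟶ U)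
    (b b' : W ⟶ Z) : b = b' := by
  obtain ⟨c, hc⟩ := (closedCompl_iff' U Z).1 hZ
  rw [← hc W a b, ← hc W a b']

lemma closedCompl.exists_hom {Z : E} (hZ : SGA4.closedCompl U Z) : Nonempty (U ⟶ Z) := by
  obtain ⟨c, -⟩ := (closedCompl_iff' U Z).1 hZ
  exact ⟨c⟩

end

section Subterminal
variable [HasTerminal E] {U : E}

lemma isOpen_hom_ext (hU : SGA4.IsOpen U) {W : E} (a b : W ⟶ U) : a = b := by
  haveI : Mono (terminal.from U) := hU
  rw [← cancel_mono (terminal.from U)]
  exact Subsingleton.elim _ _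

lemma mono_snd_of_isOpen [HasBinaryProducts E] (hU : SGA4.IsOpen U) (X : E) :
    Mono (prod.snd : U ⨯ X ⟶ X) where
  right_cancellation f g h := by
    apply Limits.prod.hom_ext
    · exact isOpen_hom_ext hU _ _
    · exact h

end Subterminal

end Groth.Agent.Lib.Helper5.ClosedCompl
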