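import Groth.Agent.Lib.Helper5.ClosedComplSheaf
import Mathlib.CategoryTheory.Sites.Localization
import Mathlib.CategoryTheory.Comma.Over.Pullback
import Mathlib.CategoryTheory.Adjunction.Unique

/-!
# Open and closed parts are jointly conservative
-/

set_option autoImplicit false
open CategoryTheory Limits Opposite
universe u

namespace Groth.Agent.Lib.Helper5.ClosedComplSheaf

open Groth.Agent.Lib.Helper5.ClosedCompl Groth.Agent.Lib.Helper5.ClosedComplPsh
  Groth.Agent.Lib.Helper5.SheafElem

variable {C : Type u} [SmallCategory C] {J : GrothendieckTopology C} {U : Sheaf J (Type u)}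

section
variable {X Y : Sheaf J (Type u)} (m : X ⟶ Y)

lemma prodMap_snd_apply {V : Cᵒᵖ} (z : (U ⨯ X).obj.obj V) :
    (prod.snd : U ⨯ Y ⟶ Y).hom.app V ((prod.map (𝟙 U) m).hom.app V z) =
      m.hom.app V ((prod.snd : U ⨯ X ⟶ X).hom.app V z) := by
  have h : prod.map (𝟙 U) m ≫ (prod.snd : U ⨯ Y ⟶ Y) = prod.snd ≫ m := prod.map_snd _ _
  exact ConcreteCategory.congr_hom (NatTrans.congr_app (congrArg (fun t => t.hom) h) V) z

lemma prodMap_fst_apply {V : Cᵒᵖ} (z : (U ⨯ X).obj.obj V) :
    (prod.fst : U ⨯ Y ⟶ U).hom.app V ((prod.map (𝟙 U) m).hom.app V z) =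
      (prod.fst : U ⨯ X ⟶ U).hom.app V z := by
  have h : prod.map (𝟙 U) m ≫ (prod.fst : U ⨯ Y ⟶ U) = prod.fst := by
    rw [prod.map_fst, Category.comp_id]
  exact ConcreteCategory.congr_hom (NatTrans.congr_app (congrArg (fun t => t.hom) h) V) z

/-- If `𝟙_U × m` is an isomorphism then `m` is bijective on sections over any `V` where `U` has
a section. -/
lemma bijective_of_isIso_prodMap (hm : IsIso (prod.map (𝟙 U) m)) (V : Cᵒᵖ)
    (hV : uP J U V.unop) : Function.Bijective (m.hom.app V) := by
  obtain ⟨p⟩ := hV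
  have hinv1 : ∀ z : (U ⨯ X).obj.obj V,
      (inv (prod.map (𝟙 U) m)).hom.app V ((prod.map (𝟙 U) m).hom.app V z) = z := fun z => by
    have h : prod.map (𝟙 U) m ≫ inv (prod.map (𝟙 U) m) = 𝟙 _ := IsIso.hom_inv_id _
    exact ConcreteCategory.congr_hom (NatTrans.congr_app (congrArg (fun t => t.hom) h) V) z
  have hinv2 : ∀ w : (U ⨯ Y).obj.obj V,
      (prod.map (𝟙 U) m).hom.app V ((inv (prod.map (𝟙 U) m)).hom.app V w) = w := fun w => by
    have h : inv (prod.map (𝟙 U) m) ≫ prod.map (𝟙 U) m = 𝟙 _ := IsIso.inv_hom_id _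
    exact ConcreteCategory.congr_hom (NatTrans.congr_app (congrArg (fun t => t.hom) h) V) w
  constructor
  · intro x x' hxx'
    obtain ⟨z, hz1, hz2⟩ := sheaf_prod_exists J (A := U) (B := X) (V := V) p x
    obtain ⟨z', hz1', hz2'⟩ := sheaf_prod_exists J (A := U) (B := X) (V := V) p x'
    have : (prod.map (𝟙 U) m).hom.app V z = (prod.map (𝟙 U) m).hom.app V z' := by
      refine sheaf_prod_ext J (A := U) (B := Y) (V := V) _ _ ?_ ?_
      · rw [prodMap_fst_apply, prodMap_fst_apply, hz1, hz1']
      · rw [prodMap_snd_apply, prodMap_snd_apply, hz2, hz2', hxx']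
    have hzz' : z = z' := by rw [← hinv1 z, ← hinv1 z', this]
    rw [← hz2, ← hz2', hzz']
  · intro y
    obtain ⟨w, hw1, hw2⟩ := sheaf_prod_exists J (A := U) (B := Y) (V := V) p y
    refine ⟨(prod.snd : U ⨯ X ⟶ X).hom.app V ((inv (prod.map (𝟙 U) m)).hom.app V w), ?_⟩
    rw [← prodMap_snd_apply, hinv2, hw2]

/-- Joint conservativity, concrete form. -/
theorem isIso_of_isIso_prodMap_of_isIso_L₀ (hm : IsIso (prod.map (𝟙 U) m))
    (hL : IsIso ((L₀ J U).map m)) : IsIso m := by
  have hb := bijective_of_isIso_prodMap m hm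
  have hW : J.W ((T₀ (uP J U) (fun f h => uP_of_hom J U f h)).map m.hom) := by
    rw [J.W_iff]
    exact hL
  obtain ⟨hinj, hsurj⟩ := (J.W_iff_isLocallyBijective _).1 hW
  rw [← J.W_sheafToPresheaf_map_iff_isIso, J.W_iff_isLocallyBijective]
  constructor
  · refine ⟨fun {V} x x' hxx' => ?_⟩
    have hmem := hinj.equalizerSieve_mem (X := V)
      ((η₀ (uP J U) (fun f h => uP_of_hom J U f h) X.obj).app V x)
      ((η₀ (uP J U) (fun f h => uP_of_hom J U f h) X.obj).app V x') (by
        funext h
        exact hxx')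
    refine J.superset_covering ?_ hmem
    intro W f hf
    show X.obj.map f.op x = X.obj.map f.op x'
    by_cases hW' : uP J U W
    · apply (hb (op W) hW').1
      have e1 := NatTrans.naturality_apply m.hom f.op x
      have e2 := NatTrans.naturality_apply m.hom f.op x'
      have hxx'' : m.hom.app V x = m.hom.app V x' := hxx'
      exact e1.trans ((congrArg _ hxx'').trans e2.symm)
    · exact congrFun hf hW'
  · refine ⟨fun {V} y => ?_⟩
    have hmem := hsurj.imageSieve_mem (U := V)
      ((η₀ (uP J U) (fun f h => uP_of_hom J U f h) Y.obj).app (op V) y)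
    refine J.superset_covering ?_ hmem
    rintro W f ⟨s, hs⟩
    by_cases hW' : uP J U W
    · exact (hb (op W) hW').2 _
    · exact ⟨s hW', congrFun hs hW'⟩

end

/-- Joint conservativity for an arbitrary left adjoint of the inclusion of the closed
complement. -/
theorem isIso_iff (hU : SGA4.IsOpen U)
    (L : Sheaf J (Type u) ⥤ (SGA4.closedCompl U).FullSubcategory)
    (adjL : L ⊣ (SGA4.closedCompl U).ι) {X Y : Sheaf J (Type u)} (m : X ⟶ Y) :
    IsIso m ↔ IsIso ((Over.star U).map m) ∧ IsIso (L.map m) := by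
  constructor
  · intro h
    exact ⟨inferInstance, inferInstance⟩
  · rintro ⟨h1, h2⟩
    have h1' : IsIso (prod.map (𝟙 U) m) := by
      have : IsIso ((Over.forget U).map ((Over.star U).map m)) := inferInstance
      exact this
    have e : L ≅ L₀' J U := adjL.leftAdjointUniq (adj hU)
    have h2' : IsIso ((L₀' J U).map m) := (NatIso.isIso_map_iff e m).1 h2
    have h2'' : IsIso ((L₀ J U).map m) := by
      have : IsIso ((SGA4.closedCompl U).ι.map ((L₀' J U).map m)) := inferInstance
      exact this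
    exact isIso_of_isIso_prodMap_of_isIso_L₀ m h1' h2''

end Groth.Agent.Lib.Helper5.ClosedComplSheaf
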