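import Mathlib.CategoryTheory.Comma.Basic
import Mathlib.CategoryTheory.Adjunction.FullyFaithful
import Mathlib.CategoryTheory.Limits.Shapes.Pullback.IsPullback.Basic
import Mathlib.CategoryTheory.Limits.Preserves.Shapes.Pullbacks
import Mathlib.CategoryTheory.Equivalence

/-!
# Artin gluing (recollement), abstractly

`E` is a category with pullbacks, `L ⊣ ι` a reflective subcategory `F` with `L` preserving
pullbacks, `S ⊣ R` with `R` fully faithful and `S` preserving pullbacks, such that `S ι Y` is
terminal for all `Y` and `(S, L)` is jointly conservative. Then `E ≌ Comma (𝟭 F) (R ⋙ L)`.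
-/

set_option autoImplicit false
open CategoryTheory Limits

namespace Groth.Agent.Lib.Helper5.Recollement

variable {E F G : Type*} [Category E] [Category F] [Category G]
  {L : E ⥤ F} {ι : F ⥤ E} (adjL : L ⊣ ι) [ι.Full] [ι.Faithful]
  {S : E ⥤ G} {R : G ⥤ E} (adjS : S ⊣ R) [R.Full] [R.Faithful]
  [HasPullbacks E] [PreservesLimitsOfShape WalkingCospan L]
  [PreservesLimitsOfShape WalkingCospan S]
  (hterm : ∀ Y : F, Nonempty (IsTerminal (S.obj (ι.obj Y))))
  (hcons : ∀ {X X' : E} (m : X ⟶ X'), IsIso (S.map m) → IsIso (L.map m) → IsIso m)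

/-- The gluing functor. -/
@[simps]
def Φ : E ⥤ Comma (𝟭 F) (R ⋙ L) where
  obj X := { left := L.obj X, right := S.obj X, hom := L.map (adjS.unit.app X) }
  map {X X'} m :=
    { left := L.map m
      right := S.map m
      w := by
        show L.map m ≫ L.map (adjS.unit.app X') =
          L.map (adjS.unit.app X) ≫ L.map (R.map (S.map m))
        rw [← L.map_comp, ← L.map_comp]
        congr 1
        exact adjS.unit.naturality m }
  map_id X := by
    apply Comma.hom_ext
    · exact L.map_id X
    · exact S.map_id X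
  map_comp f g := by
    apply Comma.hom_ext
    · exact L.map_comp f g
    · exact S.map_comp f g

include adjL in
lemma isIso_L_map_unit (X : E) : IsIso (L.map (adjL.unit.app X)) := by
  have h : L.map (adjL.unit.app X) ≫ adjL.counit.app (L.obj X) = 𝟙 _ :=
    adjL.left_triangle_components X
  have : L.map (adjL.unit.app X) = inv (adjL.counit.app (L.obj X)) :=
    IsIso.eq_inv_of_inv_hom_id h
  rw [this]
  infer_instance

include hterm in
lemma isIso_S_map_ι_map {Y Y' : F} (φ : Y ⟶ Y') : IsIso (S.map (ι.map φ)) := by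
  obtain ⟨h1⟩ := hterm Y
  obtain ⟨h2⟩ := hterm Y'
  have : S.map (ι.map φ) = (h1.uniqueUpToIso h2).hom := h2.hom_ext _ _
  rw [this]
  infer_instance

variable {adjL adjS}

section Square
variable {A B D : E} (f : A ⟶ D) (g : B ⟶ D)

include adjL in
lemma isIso_L_fst {Y : F} {X' : E} (φ : ι.obj Y ⟶ ι.obj (L.obj X')) :
    IsIso (L.map (pullback.fst φ (adjL.unit.app X'))) := by
  haveI := isIso_L_map_unit adjL X'
  exact ((IsPullback.of_hasPullback φ (adjL.unit.app X')).map L).isIso_fst_of_isIso

include hterm in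
lemma isIso_S_snd {Y Y' : F} (φ : Y ⟶ Y') {B : E} (g : B ⟶ ι.obj Y') :
    IsIso (S.map (pullback.snd (ι.map φ) g)) := by
  haveI := isIso_S_map_ι_map hterm φ
  exact ((IsPullback.of_hasPullback (ι.map φ) g).map S).isIso_snd_of_isIso

end Square

include hterm hcons in
/-- The unit square is a pullback. -/
lemma isPullback_units (X : E) :
    IsPullback (adjL.unit.app X) (adjS.unit.app X) (ι.map (L.map (adjS.unit.app X)))
      (adjL.unit.app (R.obj (S.obj X))) := by
  have comm : adjL.unit.app X ≫ ι.map (L.map (adjS.unit.app X)) =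
      adjS.unit.app X ≫ adjL.unit.app (R.obj (S.obj X)) :=
    (adjL.unit.naturality (adjS.unit.app X)).symm
  let θ := pullback.lift (adjL.unit.app X) (adjS.unit.app X) comm
  have h1 : θ ≫ pullback.fst _ _ = adjL.unit.app X := pullback.lift_fst _ _ _
  have h2 : θ ≫ pullback.snd _ _ = adjS.unit.app X := pullback.lift_snd _ _ _
  haveI : IsIso θ := by
    apply hcons
    · -- S θ
      haveI : IsIso (S.map (pullback.snd (ι.map (L.map (adjS.unit.app X)))
          (adjL.unit.app (R.obj (S.obj X))))) := isIso_S_snd hterm _ _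
      haveI : IsIso (S.map (adjS.unit.app X)) := isIso_L_map_unit adjS X
      have h : S.map θ ≫ S.map (pullback.snd _ _) = S.map (adjS.unit.app X) := by
        rw [← S.map_comp, h2]
      exact IsIso.of_isIso_fac_right h
    · haveI : IsIso (L.map (pullback.fst (ι.map (L.map (adjS.unit.app X)))
          (adjL.unit.app (R.obj (S.obj X))))) := isIso_L_fst (adjL := adjL) _
      haveI : IsIso (L.map (adjL.unit.app X)) := isIso_L_map_unit adjL X
      have h : L.map θ ≫ L.map (pullback.fst _ _) = L.map (adjL.unit.app X) := by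
        rw [← L.map_comp, h1]
      exact IsIso.of_isIso_fac_right h
  exact IsPullback.of_iso_pullback ⟨comm⟩ (asIso θ) h1 h2

include adjL hterm hcons in
lemma faithful_Φ : (Φ adjS (L := L)).Faithful where
  map_injective {X₁ X₂} m m' h := by
    have hL : L.map m = L.map m' := congrArg CommaMorphism.left h
    have hS : S.map m = S.map m' := congrArg CommaMorphism.right h
    apply (isPullback_units (adjL := adjL) (adjS := adjS) hterm hcons X₂).hom_ext
    · have e1 : m ≫ adjL.unit.app X₂ = adjL.unit.app X₁ ≫ ι.map (L.map m) :=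
        adjL.unit.naturality m
      have e2 : m' ≫ adjL.unit.app X₂ = adjL.unit.app X₁ ≫ ι.map (L.map m') :=
        adjL.unit.naturality m'
      rw [e1, e2, hL]
    · have e1 : m ≫ adjS.unit.app X₂ = adjS.unit.app X₁ ≫ R.map (S.map m) :=
        adjS.unit.naturality m
      have e2 : m' ≫ adjS.unit.app X₂ = adjS.unit.app X₁ ≫ R.map (S.map m') :=
        adjS.unit.naturality m'
      rw [e1, e2, hS]

include adjL hterm hcons in
lemma full_Φ : (Φ adjS (L := L)).Full where
  map_surjective {X₁ X₂} f := by
    obtain ⟨a, b, hw, ha, hb⟩ : ∃ (a : L.obj X₁ ⟶ L.obj X₂) (b : S.obj X₁ ⟶ S.obj X₂),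
        (a ≫ L.map (adjS.unit.app X₂) = L.map (adjS.unit.app X₁) ≫ L.map (R.map b)) ∧
        a = f.left ∧ b = f.right := ⟨f.left, f.right, f.w, rfl, rfl⟩
    have compat : (adjL.unit.app X₁ ≫ ι.map a) ≫ ι.map (L.map (adjS.unit.app X₂)) =
        (adjS.unit.app X₁ ≫ R.map b) ≫ adjL.unit.app (R.obj (S.obj X₂)) := by
      have e : (adjS.unit.app X₁ ≫ R.map b) ≫ adjL.unit.app (R.obj (S.obj X₂)) =
          adjL.unit.app X₁ ≫ ι.map (L.map (adjS.unit.app X₁ ≫ R.map b)) :=
        adjL.unit.naturality (adjS.unit.app X₁ ≫ R.map b)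
      rw [e, Category.assoc, ← ι.map_comp, hw, ← L.map_comp]
    let HP := isPullback_units (adjL := adjL) (adjS := adjS) hterm hcons X₂
    let m : X₁ ⟶ X₂ := HP.lift _ _ compat
    have hm1 : m ≫ adjL.unit.app X₂ = adjL.unit.app X₁ ≫ ι.map a := HP.lift_fst _ _ compat
    have hm2 : m ≫ adjS.unit.app X₂ = adjS.unit.app X₁ ≫ R.map b := HP.lift_snd _ _ compat
    refine ⟨m, ?_⟩
    apply Comma.hom_ext
    · show L.map m = f.left
      rw [← ha]
      have e : m ≫ adjL.unit.app X₂ = adjL.unit.app X₁ ≫ ι.map (L.map m) :=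
        adjL.unit.naturality m
      have key : adjL.unit.app X₁ ≫ ι.map (L.map m) = adjL.unit.app X₁ ≫ ι.map a := by
        rw [← e, hm1]
      refine (adjL.homEquiv X₁ (L.obj X₂)).injective ?_
      rw [Adjunction.homEquiv_unit, Adjunction.homEquiv_unit]
      exact key
    · show S.map m = f.right
      rw [← hb]
      have e : m ≫ adjS.unit.app X₂ = adjS.unit.app X₁ ≫ R.map (S.map m) :=
        adjS.unit.naturality m
      have key : adjS.unit.app X₁ ≫ R.map (S.map m) = adjS.unit.app X₁ ≫ R.map b := by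
        rw [← e, hm2]
      refine (adjS.homEquiv X₁ (S.obj X₂)).injective ?_
      rw [Adjunction.homEquiv_unit, Adjunction.homEquiv_unit]
      exact key

include adjL hterm in
lemma essSurj_Φ : (Φ adjS (L := L)).EssSurj where
  mem_essImage c := by
    let X := pullback (ι.map c.hom) (adjL.unit.app (R.obj c.right))
    let p₁ : X ⟶ ι.obj c.left := pullback.fst _ _
    let p₂ : X ⟶ R.obj c.right := pullback.snd _ _
    haveI i1 : IsIso (L.map p₁) := isIso_L_fst (adjL := adjL) _
    haveI i2 : IsIso (S.map p₂) := isIso_S_snd hterm _ _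
    let α : L.obj X ≅ c.left := asIso (L.map p₁) ≪≫ asIso (adjL.counit.app c.left)
    let β : S.obj X ≅ c.right := asIso (S.map p₂) ≪≫ asIso (adjS.counit.app c.right)
    refine ⟨X, ⟨Comma.isoMk α β ?_⟩⟩
    show (L.map p₁ ≫ adjL.counit.app c.left) ≫ c.hom =
      L.map (adjS.unit.app X) ≫ L.map (R.map (S.map p₂ ≫ adjS.counit.app c.right))
    have lhs : (L.map p₁ ≫ adjL.counit.app c.left) ≫ c.hom = L.map p₂ := by
      have e : L.map (ι.map c.hom) ≫ adjL.counit.app (L.obj (R.obj c.right)) =
          adjL.counit.app c.left ≫ c.hom := adjL.counit.naturality c.hom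
      rw [Category.assoc, ← e, ← Category.assoc, ← L.map_comp,
        show p₁ ≫ ι.map c.hom = p₂ ≫ adjL.unit.app (R.obj c.right) from pullback.condition,
        L.map_comp, Category.assoc, adjL.left_triangle_components, Category.comp_id]
    have rhs : L.map (adjS.unit.app X) ≫
        L.map (R.map (S.map p₂ ≫ adjS.counit.app c.right)) = L.map p₂ := by
      have e : p₂ ≫ adjS.unit.app (R.obj c.right) =
          adjS.unit.app X ≫ R.map (S.map p₂) := adjS.unit.naturality p₂
      rw [← L.map_comp, R.map_comp, ← Category.assoc, ← e, Category.assoc,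
        adjS.right_triangle_components, Category.comp_id]
    rw [lhs, rhs]

include adjL adjS hterm hcons in
/-- Artin gluing. -/
theorem nonempty_equivalence : Nonempty (E ≌ Comma (𝟭 F) (R ⋙ L)) := by
  haveI := faithful_Φ (adjL := adjL) (adjS := adjS) hterm hcons
  haveI := full_Φ (adjL := adjL) (adjS := adjS) hterm hcons
  haveI := essSurj_Φ (adjL := adjL) (adjS := adjS) hterm
  haveI : (Φ adjS (L := L)).IsEquivalence := { }
  exact ⟨(Φ adjS (L := L)).asEquivalence⟩

end Groth.Agent.Lib.Helper5.Recollement
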