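import Groth.Agent.Lib.Helper5.ClosedComplConservative
import Groth.Agent.Lib.Helper5.Recollement
import Mathlib.CategoryTheory.Adjunction.Triple
import Mathlib.CategoryTheory.Adjunction.Limits

/-!
# Gluing a sheaf topos from an open and its closed complement
-/

set_option autoImplicit false
open CategoryTheory Limits Opposite
universe u

namespace Groth.Agent.Lib.Helper5.ClosedComplSheaf

open Groth.Agent.Lib.Helper5.ClosedCompl

section Abstract
variable {E : Type*} [Category E] [HasBinaryProducts E] {U : E}

/-- For a subterminal `U`, the forgetful functor `Over U ⥤ E` is fully faithful. -/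
def fullyFaithfulForget (hU : ∀ (W : E) (a b : W ⟶ U), a = b) :
    (Over.forget U).FullyFaithful where
  preimage {A B} f := Over.homMk f (hU _ _ _)

/-- The right adjoint of `Over.star U` is fully faithful when `U` is subterminal. -/
noncomputable def fullyFaithfulRightAdjoint (hU : ∀ (W : E) (a b : W ⟶ U), a = b)
    [(Over.star U).IsLeftAdjoint] : ((Over.star U).rightAdjoint).FullyFaithful :=
  (Adjunction.Triple.fullyFaithfulEquiv
    { adj₁ := Over.forgetAdjStar U
      adj₂ := Adjunction.ofIsLeftAdjoint (Over.star U) }) (fullyFaithfulForget hU)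

lemma isTerminal_star_of_closedCompl {Z : E} (hZ : SGA4.closedCompl U Z) :
    Nonempty (IsTerminal ((Over.star U).obj Z)) := by
  haveI : IsIso (prod.fst : U ⨯ Z ⟶ U) := hZ
  have hhom : ((Over.star U).obj Z).hom = (prod.fst : U ⨯ Z ⟶ U) := by
    simp only [Over.star, coalgebraToOver, Functor.comp_obj, Over.mk_hom]
    exact prod.lift_fst _ _
  let e0 : U ⨯ Z ≅ U := asIso (prod.fst : U ⨯ Z ⟶ U)
  have e : (Over.star U).obj Z ≅ Over.mk (𝟙 U) :=
    Over.isoMk e0 (by
      show (prod.fst : U ⨯ Z ⟶ U) ≫ 𝟙 U = ((Over.star U).obj Z).hom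
      rw [Category.comp_id, hhom])
  exact ⟨IsTerminal.ofIso Over.mkIdTerminal e.symm⟩

end Abstract

variable {C : Type u} [SmallCategory C] {J : GrothendieckTopology C} {U : Sheaf J (Type u)}

theorem nonempty_glue_equivalence (hU : SGA4.IsOpen U) [(Over.star U).IsLeftAdjoint]
    (L : Sheaf J (Type u) ⥤ (SGA4.closedCompl U).FullSubcategory)
    (adjL : L ⊣ (SGA4.closedCompl U).ι) :
    Nonempty (Sheaf J (Type u) ≌
      Comma (𝟭 (SGA4.closedCompl U).FullSubcategory) ((Over.star U).rightAdjoint ⋙ L)) := by
  have hsub : ∀ (W : Sheaf J (Type u)) (a b : W ⟶ U), a = b := fun W a b => isOpen_hom_ext hU a b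
  let ffR := fullyFaithfulRightAdjoint (U := U) hsub
  haveI := ffR.full
  haveI := ffR.faithful
  haveI : PreservesLimitsOfShape WalkingCospan L := by
    have e : L ≅ L₀' J U := adjL.leftAdjointUniq (adj hU)
    exact preservesLimitsOfShape_of_natIso e.symm
  haveI : PreservesLimitsOfShape WalkingCospan (Over.star U) := by
    haveI := (Over.forgetAdjStar U).rightAdjoint_preservesLimits
    infer_instance
  exact Recollement.nonempty_equivalence (adjL := adjL)
    (adjS := Adjunction.ofIsLeftAdjoint (Over.star U))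
    (fun Y => isTerminal_star_of_closedCompl Y.property)
    (fun {X X'} m h1 h2 => (isIso_iff hU L adjL m).2 ⟨h1, h2⟩)

end Groth.Agent.Lib.Helper5.ClosedComplSheaf
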