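import Mathlib.CategoryTheory.Limits.FunctorCategory.Basic
import Mathlib.CategoryTheory.Limits.Types.Limits
import Mathlib.CategoryTheory.Limits.Yoneda
import Mathlib.CategoryTheory.Limits.Preserves.Finite

/-!
# The presheaf-level "closed complement" functor `P ↦ (V ↦ (¬ u V → P V))`
-/

set_option autoImplicit false
open CategoryTheory Limits Opposite
universe w v₁ u₁

namespace Groth.Agent.Lib.Helper5.ClosedComplPsh

variable {C : Type u₁} [Category.{v₁} C] (u : C → Prop)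
  (hu : ∀ {V W : C} (_ : W ⟶ V), u V → u W)

/-- `T₀ P (V) = (¬ u V → P V)`. -/
def T₀obj (P : Cᵒᵖ ⥤ Type w) : Cᵒᵖ ⥤ Type w where
  obj V := (¬ u V.unop → P.obj V)
  map {V V'} f := TypeCat.ofHom (fun s h' => P.map f (s (fun hv => h' (hu f.unop hv))))
  map_id V := by
    ext s h
    show P.map (𝟙 V) (s _) = s h
    rw [FunctorToTypes.map_id_apply]
  map_comp {V₁ V₂ V₃} f g := by
    ext s h
    show P.map (f ≫ g) (s _) = P.map g (P.map f (s _))
    rw [FunctorToTypes.map_comp_apply]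

lemma T₀obj_map_apply (P : Cᵒᵖ ⥤ Type w) {V V' : Cᵒᵖ} (f : V ⟶ V') (s : (T₀obj u hu P).obj V)
    (h' : ¬ u V'.unop) :
    ((T₀obj u hu P).map f s) h' = P.map f (s (fun hv => h' (hu f.unop hv))) := rfl

/-- The functor `T₀`. -/
def T₀ : (Cᵒᵖ ⥤ Type w) ⥤ (Cᵒᵖ ⥤ Type w) where
  obj P := T₀obj u hu P
  map {P P'} φ :=
    { app := fun V => TypeCat.ofHom (fun s h => φ.app V (s h))
      naturality := fun V V' f => by
        ext s
        funext h
        exact NatTrans.naturality_apply φ f _ }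
  map_id P := by
    ext V s
    rfl
  map_comp φ ψ := by
    ext V s
    rfl

lemma T₀_map_app_apply {P P' : Cᵒᵖ ⥤ Type w} (φ : P ⟶ P') (V : Cᵒᵖ)
    (s : ((T₀ u hu).obj P).obj V) (h : ¬ u V.unop) :
    (((T₀ u hu).map φ).app V s) h = φ.app V (s h) := rfl

/-- The unit `P ⟶ T₀ P`, `x ↦ (fun _ => x)`. -/
def η₀ (P : Cᵒᵖ ⥤ Type w) : P ⟶ (T₀ u hu).obj P where
  app V := TypeCat.ofHom (fun x _ => x)
  naturality V V' f := by
    ext x
    rfl

lemma η₀_app_apply (P : Cᵒᵖ ⥤ Type w) (V : Cᵒᵖ) (x : P.obj V) (h : ¬ u V.unop) :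
    ((η₀ u hu P).app V x) h = x := rfl

lemma η₀_naturality {P P' : Cᵒᵖ ⥤ Type w} (φ : P ⟶ P') :
    η₀ u hu P ≫ (T₀ u hu).map φ = φ ≫ η₀ u hu P' := by
  ext V x
  rfl

lemma T₀_subsingleton (P : Cᵒᵖ ⥤ Type w) (V : Cᵒᵖ) (hV : u V.unop) :
    Subsingleton (((T₀ u hu).obj P).obj V) :=
  ⟨fun _ _ => funext fun h => absurd hV h⟩

lemma T₀_eq_η₀ (P : Cᵒᵖ ⥤ Type w) (V : Cᵒᵖ) (hV : ¬ u V.unop) (s : ((T₀ u hu).obj P).obj V) :
    s = (η₀ u hu P).app V (s hV) :=
  funext fun _ => rfl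

/-- `T₀` composed with evaluation is evaluation composed with a corepresentable functor. -/
def T₀CompEvaluation (V : Cᵒᵖ) :
    T₀ u hu ⋙ (evaluation Cᵒᵖ (Type w)).obj V ≅
      (evaluation Cᵒᵖ (Type w)).obj V ⋙ coyoneda.obj (op (ULift.{w} (PLift (¬ u V.unop)))) :=
  NatIso.ofComponents
    (fun P =>
      { hom := TypeCat.ofHom (fun s => TypeCat.ofHom (fun h => s h.down.down))
        inv := TypeCat.ofHom (fun t h =>
          (show ULift.{w} (PLift (¬ u V.unop)) ⟶ P.obj V from t) ⟨⟨h⟩⟩)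
        hom_inv_id := by
          ext s
          rfl
        inv_hom_id := by
          ext t
          rfl })
    (fun {P P'} φ => by
      ext s
      rfl)

instance : PreservesLimitsOfSize.{w, w} (T₀.{w} u hu) :=
  preservesLimits_of_evaluation _ fun V =>
    preservesLimits_of_natIso (T₀CompEvaluation u hu V).symm

end Groth.Agent.Lib.Helper5.ClosedComplPsh
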