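import Mathlib.CategoryTheory.Sites.Sheafification
import Mathlib.CategoryTheory.Sites.Limits
import Mathlib.CategoryTheory.Limits.Preserves.Shapes.BinaryProducts
import Mathlib.CategoryTheory.Limits.Types.Products

/-!
# Elementwise tools for products in sheaf categories
-/

set_option autoImplicit false
open CategoryTheory Limits Opposite
universe w v₁ u₁

namespace Groth.Agent.Lib.Helper5.SheafElem

section General
variable {D : Type*} [Category D] (F : D ⥤ Type w) {A B : D} [HasBinaryProduct A B]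
  [PreservesLimit (pair A B) F]

lemma exists_of_preservesProd (a : F.obj A) (b : F.obj B) :
    ∃ z : F.obj (A ⨯ B), F.map prod.fst z = a ∧ F.map prod.snd z = b := by
  have hl : IsLimit (BinaryFan.mk (F.map (prod.fst : A ⨯ B ⟶ A)) (F.map prod.snd)) :=
    mapIsLimitOfPreservesOfIsLimit F _ _ (prodIsProd A B)
  obtain ⟨l, h1, h2⟩ := BinaryFan.IsLimit.lift' hl
    (TypeCat.ofHom (fun _ : PUnit.{w + 1} => a)) (TypeCat.ofHom (fun _ : PUnit.{w + 1} => b))
  refine ⟨l PUnit.unit, ?_, ?_⟩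
  · exact ConcreteCategory.congr_hom h1 PUnit.unit
  · exact ConcreteCategory.congr_hom h2 PUnit.unit

lemma ext_of_preservesProd (z z' : F.obj (A ⨯ B))
    (h₁ : F.map prod.fst z = F.map prod.fst z') (h₂ : F.map prod.snd z = F.map prod.snd z') :
    z = z' := by
  have hl : IsLimit (BinaryFan.mk (F.map (prod.fst : A ⨯ B ⟶ A)) (F.map prod.snd)) :=
    mapIsLimitOfPreservesOfIsLimit F _ _ (prodIsProd A B)
  have : (TypeCat.ofHom (fun _ : PUnit.{w + 1} => z)) =
      (TypeCat.ofHom (fun _ : PUnit.{w + 1} => z')) := by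
    apply BinaryFan.IsLimit.hom_ext hl
    · ext x
      exact h₁
    · ext x
      exact h₂
  exact ConcreteCategory.congr_hom this PUnit.unit

end General

section Sheaf
variable {C : Type u₁} [Category.{v₁} C] (J : GrothendieckTopology C)
  {A B : Sheaf J (Type w)} [HasBinaryProduct A B]
  [∀ V : Cᵒᵖ, PreservesLimit (pair A B) (sheafToPresheaf J (Type w) ⋙ (evaluation _ _).obj V)]

lemma sheaf_prod_exists {V : Cᵒᵖ} (a : A.obj.obj V) (b : B.obj.obj V) :
    ∃ z : (A ⨯ B).obj.obj V, (prod.fst : A ⨯ B ⟶ A).hom.app V z = a ∧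
      (prod.snd : A ⨯ B ⟶ B).hom.app V z = b :=
  exists_of_preservesProd (sheafToPresheaf J (Type w) ⋙ (evaluation _ _).obj V) a b

lemma sheaf_prod_ext {V : Cᵒᵖ} (z z' : (A ⨯ B).obj.obj V)
    (h₁ : (prod.fst : A ⨯ B ⟶ A).hom.app V z = (prod.fst : A ⨯ B ⟶ A).hom.app V z')
    (h₂ : (prod.snd : A ⨯ B ⟶ B).hom.app V z = (prod.snd : A ⨯ B ⟶ B).hom.app V z') :
    z = z' :=
  ext_of_preservesProd (sheafToPresheaf J (Type w) ⋙ (evaluation _ _).obj V) z z' h₁ h₂

end Sheaf

end Groth.Agent.Lib.Helper5.SheafElem
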