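import Groth.Agent.Lib.Helper5.ClosedComplBasic
import Groth.Agent.Lib.Helper5.ClosedComplPsh
import Groth.Agent.Lib.Helper5.SheafElem
import Mathlib.CategoryTheory.Sites.LocallyBijective
import Mathlib.CategoryTheory.Sites.LeftExact

/-!
# The closed complement of an open in a sheaf topos: concrete reflector
-/

set_option autoImplicit false
open CategoryTheory Limits Opposite
universe u

namespace Groth.Agent.Lib.Helper5.ClosedComplSheaf

open Groth.Agent.Lib.Helper5.ClosedCompl Groth.Agent.Lib.Helper5.ClosedComplPsh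
  Groth.Agent.Lib.Helper5.SheafElem

variable {C : Type u} [SmallCategory C] (J : GrothendieckTopology C) (U : Sheaf J (Type u))

/-- `U` has a section over `V`. -/
def uP (V : C) : Prop := Nonempty (U.obj.obj (op V))

lemma uP_of_hom {V W : C} (f : W ⟶ V) (h : uP J U V) : uP J U W :=
  h.elim fun p => ⟨U.obj.map f.op p⟩

variable {J U}

lemma subsingleton_sections (hU : SGA4.IsOpen U) (V : Cᵒᵖ) : Subsingleton (U.obj.obj V) := by
  refine ⟨fun p p' => ?_⟩
  obtain ⟨z, hz1, hz2⟩ := sheaf_prod_exists J (A := U) (B := U) p p'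
  have : (prod.fst : U ⨯ U ⟶ U) = prod.snd := isOpen_hom_ext hU _ _
  rw [← hz1, ← hz2, this]

/-- Pointwise characterisation of the closed complement. -/
lemma closedCompl_iff_pointwise (Z : Sheaf J (Type u)) :
    SGA4.closedCompl U Z ↔ ∀ V : C, uP J U V → Nonempty (Unique (Z.obj.obj (op V))) := by
  constructor
  · intro h V hV
    obtain ⟨c, hc⟩ := (closedCompl_iff U Z).1 h
    obtain ⟨p⟩ := hV
    refine ⟨⟨⟨c.hom.app _ p⟩, fun z => ?_⟩⟩
    obtain ⟨w, hw1, hw2⟩ := sheaf_prod_exists J (A := U) (B := Z) p z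
    have := ConcreteCategory.congr_hom (NatTrans.congr_app (congrArg (fun t => t.hom) hc) (op V)) w
    show z = c.hom.app _ p
    rw [← hw1, ← hw2]
    exact this.symm
  · intro h
    rw [closedCompl_iff]
    let c₀ : U.obj ⟶ Z.obj :=
      { app := fun V => TypeCat.ofHom (fun p => (h V.unop ⟨p⟩).some.default)
        naturality := fun V V' f => by
          ext p
          haveI := (h V'.unop ⟨U.obj.map f p⟩).some
          exact Subsingleton.elim _ _ }
    refine ⟨ObjectProperty.homMk c₀, ?_⟩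
    apply Sheaf.hom_ext
    ext V w
    haveI := (h V.unop ⟨(prod.fst : U ⨯ Z ⟶ U).hom.app V w⟩).some
    exact Subsingleton.elim _ _

/-- The sheafification of a presheaf with singleton sections over `U` lies in the closed
complement. -/
lemma closedCompl_sheafify (Q : Cᵒᵖ ⥤ Type u)
    (hQ : ∀ V : C, uP J U V → Nonempty (Unique (Q.obj (op V)))) :
    SGA4.closedCompl U ((presheafToSheaf J (Type u)).obj Q) := by
  rw [closedCompl_iff_pointwise]
  intro V hV
  obtain ⟨iV⟩ := hQ V hV
  refine ⟨⟨⟨(toSheafify J Q).app (op V) iV.default⟩, fun s => ?_⟩⟩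
  have hsep := ((isSheaf_iff_isSheaf_of_type J _).1
    ((presheafToSheaf J (Type u)).obj Q).property).isSeparated
  have hcov := Presheaf.imageSieve_mem J (toSheafify J Q) (U := op V) s
  refine (hsep _ hcov).ext ?_
  intro W f ⟨t, ht⟩
  obtain ⟨iW⟩ := hQ W (uP_of_hom J U f hV)
  have e1 : t = Q.map f.op iV.default := (iW.uniq t).trans (iW.uniq _).symm
  have := NatTrans.naturality_apply (toSheafify J Q) f.op iV.default
  rw [← ht, e1]
  exact this


section Pushout
variable (J U) (X : Sheaf J (Type u))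

attribute [local instance] Classical.propDecidable

/-- The presheaf `V ↦ (¬ U(V) ≠ ∅ → X(V))`. -/
abbrev Qp : Cᵒᵖ ⥤ Type u := (T₀ (uP J U) (fun f h => uP_of_hom J U f h)).obj X.obj

/-- The concrete closed reflection of `X`. -/
noncomputable abbrev LX : Sheaf J (Type u) := (presheafToSheaf J (Type u)).obj (Qp J U X)

/-- `X ⟶ LX`. -/
noncomputable def inr₀ : X ⟶ LX J U X :=
  ObjectProperty.homMk (η₀ (uP J U) (fun f h => uP_of_hom J U f h) X.obj ≫ toSheafify J (Qp J U X))

/-- `U ⟶ Q X` at the presheaf level. -/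
def c₀ : U.obj ⟶ Qp J U X where
  app V := TypeCat.ofHom (fun p h => absurd (⟨p⟩ : uP J U V.unop) h)
  naturality V V' f := by
    ext p
    funext h
    exact absurd (⟨U.obj.map f p⟩ : uP J U V'.unop) h

/-- `U ⟶ LX`. -/
noncomputable def inl₀ : U ⟶ LX J U X :=
  ObjectProperty.homMk (c₀ J U X ≫ toSheafify J (Qp J U X))

lemma closedCompl_LX : SGA4.closedCompl U (LX J U X) :=
  closedCompl_sheafify _ (fun V hV =>
    ⟨⟨⟨fun h => absurd hV h⟩, fun s => funext fun h => absurd hV h⟩⟩)

/-- The presheaf-level descent map. -/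
noncomputable def descPsh {Z : Sheaf J (Type u)} (f : U ⟶ Z) (g : X ⟶ Z)
    (hsub : ∀ V : Cᵒᵖ, Subsingleton (U.obj.obj V))
    (compat : ∀ (V : Cᵒᵖ) (p : U.obj.obj V) (x : X.obj.obj V),
      f.hom.app V p = g.hom.app V x) :
    Qp J U X ⟶ Z.obj where
  app V := TypeCat.ofHom (fun q =>
    if hV : uP J U V.unop then f.hom.app V hV.some else g.hom.app V (q hV))
  naturality V V' r := by
    ext q
    show (if hV' : uP J U V'.unop then f.hom.app V' hV'.some
        else g.hom.app V' ((Qp J U X).map r q hV')) =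
      Z.obj.map r (if hV : uP J U V.unop then f.hom.app V hV.some else g.hom.app V (q hV))
    by_cases hV : uP J U V.unop
    · have hV' : uP J U V'.unop := uP_of_hom J U r.unop hV
      rw [dif_pos hV, dif_pos hV']
      have := NatTrans.naturality_apply f.hom r hV.some
      rw [← this]
      congr 1
      haveI := hsub V'
      exact Subsingleton.elim _ _
    · rw [dif_neg hV]
      by_cases hV' : uP J U V'.unop
      · rw [dif_pos hV']
        have := NatTrans.naturality_apply g.hom r (q hV)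
        rw [← this]
        exact compat _ _ _
      · rw [dif_neg hV']
        have := NatTrans.naturality_apply g.hom r (q hV)
        rw [← this]
        rfl

variable {J U X} in
lemma compat_of_comm {Z : Sheaf J (Type u)} (f : U ⟶ Z) (g : X ⟶ Z)
    (h : (prod.fst : U ⨯ X ⟶ U) ≫ f = prod.snd ≫ g) (V : Cᵒᵖ) (p : U.obj.obj V)
    (x : X.obj.obj V) : f.hom.app V p = g.hom.app V x := by
  obtain ⟨z, hz1, hz2⟩ := sheaf_prod_exists J (A := U) (B := X) p x
  have := ConcreteCategory.congr_hom (NatTrans.congr_app (congrArg (fun t => t.hom) h) V) z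
  rw [← hz1, ← hz2]
  exact this

variable {J U X} in
/-- The induced map out of `LX`. -/
noncomputable def desc (hU : SGA4.IsOpen U) {Z : Sheaf J (Type u)} (f : U ⟶ Z) (g : X ⟶ Z)
    (h : (prod.fst : U ⨯ X ⟶ U) ≫ f = prod.snd ≫ g) : LX J U X ⟶ Z :=
  ObjectProperty.homMk (sheafifyLift J
    (descPsh J U X f g (subsingleton_sections hU) (compat_of_comm f g h)) Z.property)

variable {J U X} in
lemma inl₀_desc (hU : SGA4.IsOpen U) {Z : Sheaf J (Type u)} (f : U ⟶ Z) (g : X ⟶ Z)
    (h : (prod.fst : U ⨯ X ⟶ U) ≫ f = prod.snd ≫ g) :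
    inl₀ J U X ≫ desc hU f g h = f := by
  apply Sheaf.hom_ext
  show (c₀ J U X ≫ toSheafify J (Qp J U X)) ≫ sheafifyLift J _ Z.property = f.hom
  rw [Category.assoc, toSheafify_sheafifyLift]
  ext V p
  have hV : uP J U V.unop := ⟨p⟩
  show (if hV : uP J U V.unop then f.hom.app V hV.some else _) = f.hom.app V p
  rw [dif_pos hV]
  congr 1
  haveI := subsingleton_sections hU V
  exact Subsingleton.elim _ _

variable {J U X} in
lemma inr₀_desc (hU : SGA4.IsOpen U) {Z : Sheaf J (Type u)} (f : U ⟶ Z) (g : X ⟶ Z)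
    (h : (prod.fst : U ⨯ X ⟶ U) ≫ f = prod.snd ≫ g) :
    inr₀ J U X ≫ desc hU f g h = g := by
  apply Sheaf.hom_ext
  show (η₀ _ _ X.obj ≫ toSheafify J (Qp J U X)) ≫ sheafifyLift J _ Z.property = g.hom
  rw [Category.assoc, toSheafify_sheafifyLift]
  ext V x
  show (if hV : uP J U V.unop then f.hom.app V hV.some else g.hom.app V x) = g.hom.app V x
  by_cases hV : uP J U V.unop
  · rw [dif_pos hV]
    exact compat_of_comm f g h V _ _
  · rw [dif_neg hV]

variable {J U X} in
lemma desc_uniq (hU : SGA4.IsOpen U) {Z : Sheaf J (Type u)} (f : U ⟶ Z) (g : X ⟶ Z)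
    (h : (prod.fst : U ⨯ X ⟶ U) ≫ f = prod.snd ≫ g) (m : LX J U X ⟶ Z)
    (h1 : inl₀ J U X ≫ m = f) (h2 : inr₀ J U X ≫ m = g) : m = desc hU f g h := by
  apply Sheaf.hom_ext
  refine sheafifyLift_unique J _ Z.property m.hom ?_
  ext V q
  show (toSheafify J (Qp J U X) ≫ m.hom).app V q =
    (if hV : uP J U V.unop then f.hom.app V hV.some else g.hom.app V (q hV))
  by_cases hV : uP J U V.unop
  · rw [dif_pos hV]
    have hq : q = (c₀ J U X).app V hV.some := funext fun h' => absurd hV h'
    have := ConcreteCategory.congr_hom (NatTrans.congr_app (congrArg (fun t => t.hom) h1) V) hV.some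
    rw [hq]
    exact this
  · rw [dif_neg hV]
    have hq : q = (η₀ _ _ X.obj).app V (q hV) := T₀_eq_η₀ _ _ _ V hV q
    have := ConcreteCategory.congr_hom (NatTrans.congr_app (congrArg (fun t => t.hom) h2) V) (q hV)
    rw [hq]
    exact this

theorem isPushout (hU : SGA4.IsOpen U) :
    IsPushout (prod.fst : U ⨯ X ⟶ U) (prod.snd : U ⨯ X ⟶ X) (inl₀ J U X) (inr₀ J U X) := by
  have w : (prod.fst : U ⨯ X ⟶ U) ≫ inl₀ J U X = prod.snd ≫ inr₀ J U X :=
    closedCompl.eq_of_over U (closedCompl_LX J U X) prod.fst _ _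
  refine ⟨⟨w⟩, ⟨PushoutCocone.IsColimit.mk _
    (fun s => desc hU s.inl s.inr s.condition) ?_ ?_ ?_⟩⟩
  · intro s
    exact inl₀_desc hU _ _ _
  · intro s
    exact inr₀_desc hU _ _ _
  · intro s m h1 h2
    exact desc_uniq hU _ _ _ m h1 h2

end Pushout

section Functor
variable (J U)

/-- The functor `L₀ : Sheaf ⥤ Sheaf`, `X ↦ a (T₀ X)`. -/
noncomputable def L₀ : Sheaf J (Type u) ⥤ Sheaf J (Type u) :=
  sheafToPresheaf J (Type u) ⋙ T₀ (uP J U) (fun f h => uP_of_hom J U f h) ⋙
    presheafToSheaf J (Type u)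

instance : PreservesFiniteLimits (L₀ J U) := by
  haveI h1 : PreservesFiniteLimits (sheafToPresheaf J (Type u)) :=
    PreservesLimitsOfSize.preservesFiniteLimits.{u, u} _
  haveI h2 : PreservesFiniteLimits (T₀.{u} (uP J U) (fun f h => uP_of_hom J U f h)) :=
    PreservesLimitsOfSize.preservesFiniteLimits.{u, u} _
  haveI h3 : PreservesFiniteLimits (presheafToSheaf J (Type u)) := inferInstance
  haveI h4 := comp_preservesFiniteLimits (T₀.{u} (uP J U) (fun f h => uP_of_hom J U f h))
    (presheafToSheaf J (Type u))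
  exact comp_preservesFiniteLimits (sheafToPresheaf J (Type u)) _

lemma inr₀_naturality {X X' : Sheaf J (Type u)} (m : X ⟶ X') :
    inr₀ J U X ≫ (L₀ J U).map m = m ≫ inr₀ J U X' := by
  apply Sheaf.hom_ext
  show (η₀ _ _ X.obj ≫ toSheafify J (Qp J U X)) ≫
      sheafifyMap J ((T₀ (uP J U) (fun f h => uP_of_hom J U f h)).map m.hom) =
    m.hom ≫ η₀ _ _ X'.obj ≫ toSheafify J (Qp J U X')
  have h1 := (sheafificationAdjunction J (Type u)).unit.naturality
    ((T₀ (uP J U) (fun f h => uP_of_hom J U f h)).map m.hom)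
  have h2 := η₀_naturality (uP J U) (fun f h => uP_of_hom J U f h) m.hom
  rw [Category.assoc]
  erw [← h1]
  rw [← Category.assoc, ← Category.assoc]
  erw [h2]

/-- The corestriction of `L₀` to the closed complement. -/
noncomputable def L₀' : Sheaf J (Type u) ⥤ (SGA4.closedCompl U).FullSubcategory :=
  ObjectProperty.lift _ (L₀ J U) (fun X => closedCompl_LX J U X)

instance : PreservesFiniteLimits (L₀' J U) := by
  haveI : PreservesFiniteLimits (L₀' J U ⋙ (SGA4.closedCompl U).ι) :=
    (inferInstance : PreservesFiniteLimits (L₀ J U))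
  exact ⟨fun K _ _ => ⟨fun {F} =>
    preservesLimit_of_reflects_of_preserves (L₀' J U) (SGA4.closedCompl U).ι⟩⟩

variable {J U}

/-- The canonical map `U ⟶ Y` for `Y` in the closed complement. -/
noncomputable def cY (Y : (SGA4.closedCompl U).FullSubcategory) : U ⟶ Y.obj :=
  (closedCompl.exists_hom U Y.property).some

lemma hcomm (Y : (SGA4.closedCompl U).FullSubcategory) {X : Sheaf J (Type u)} (g : X ⟶ Y.obj) :
    (prod.fst : U ⨯ X ⟶ U) ≫ cY Y = prod.snd ≫ g :=
  closedCompl.eq_of_over U Y.property prod.fst _ _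

/-- The inverse of the adjunction bijection. -/
noncomputable def adjInv (hU : SGA4.IsOpen U) {X : Sheaf J (Type u)}
    (Y : (SGA4.closedCompl U).FullSubcategory) (g : X ⟶ Y.obj) : (L₀' J U).obj X ⟶ Y :=
  ObjectProperty.homMk (desc hU (cY Y) g (hcomm Y g))

lemma adjInv_hom (hU : SGA4.IsOpen U) {X : Sheaf J (Type u)}
    (Y : (SGA4.closedCompl U).FullSubcategory) (g : X ⟶ Y.obj) :
    (adjInv hU Y g).hom = desc hU (cY Y) g (hcomm Y g) := rfl

lemma adjInv_naturality (hU : SGA4.IsOpen U) {X' X : Sheaf J (Type u)}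
    (Y : (SGA4.closedCompl U).FullSubcategory) (m : X' ⟶ X) (g : X ⟶ Y.obj) :
    adjInv hU Y (m ≫ g) = (L₀' J U).map m ≫ adjInv hU Y g := by
  apply ObjectProperty.hom_ext
  show desc hU (cY Y) (m ≫ g) (hcomm Y _) = (L₀ J U).map m ≫ desc hU (cY Y) g (hcomm Y g)
  symm
  have e1 : inr₀ J U X' ≫ (L₀ J U).map m = m ≫ inr₀ J U X := inr₀_naturality J U m
  exact desc_uniq hU (cY Y) (m ≫ g) (hcomm Y _)
    ((L₀ J U).map m ≫ desc hU (cY Y) g (hcomm Y g))
    (closedCompl.eq_of_over U Y.property (𝟙 U) _ _)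
    ((Category.assoc _ _ _).symm.trans
      ((congrArg (fun t => t ≫ desc hU (cY Y) g (hcomm Y g)) e1).trans
        ((Category.assoc _ _ _).trans
          (congrArg (fun t => m ≫ t) (inr₀_desc hU (cY Y) g (hcomm Y g))))))

/-- The adjunction `L₀' ⊣ ι`. -/
noncomputable def adj (hU : SGA4.IsOpen U) : L₀' J U ⊣ (SGA4.closedCompl U).ι :=
  Adjunction.mkOfHomEquiv
    { homEquiv := fun X Y =>
        { toFun := fun f => inr₀ J U X ≫ f.hom
          invFun := fun g => adjInv hU Y g
          left_inv := fun f => by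
            apply ObjectProperty.hom_ext
            exact (desc_uniq hU (cY Y) (inr₀ J U X ≫ f.hom) (hcomm Y _) f.hom
              (closedCompl.eq_of_over U Y.property (𝟙 U) _ _) rfl).symm
          right_inv := fun g => inr₀_desc hU (cY Y) g (hcomm Y g) }
      homEquiv_naturality_left_symm := fun {X' X Y} m g => adjInv_naturality hU Y m g
      homEquiv_naturality_right := fun {X Y Y'} f k => by
        show inr₀ J U X ≫ (f ≫ k).hom = (inr₀ J U X ≫ f.hom) ≫ k.hom
        rw [Category.assoc]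
        rfl }

lemma adj_unit_app (hU : SGA4.IsOpen U) (X : Sheaf J (Type u)) :
    (adj hU).unit.app X = inr₀ J U X := by
  show inr₀ J U X ≫ (𝟙 ((L₀' J U).obj X) : (L₀' J U).obj X ⟶ _).hom = inr₀ J U X
  exact Category.comp_id _

end Functor

end Groth.Agent.Lib.Helper5.ClosedComplSheaf
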