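import Groth.Agent.Lib.Helper5.LTorsion
import Groth.Agent.S0099

/-!
# Helper5: a sheaf which is a filtered union of subsheaves with vanishing `H^q` has vanishing `H^q`
-/

set_option autoImplicit false
universe u
open CategoryTheory CategoryTheory.Limits AlgebraicGeometry Opposite

namespace Groth.Agent.Lib.Helper5.FilteredUnion

open Groth.Agent.Lib.Helper5.LTorsion

variable {Z : Scheme.{u}} {J : Type u} [SmallCategory J] [IsFiltered J]

instance hasExact : HasExactColimitsOfShape J (EtCoh.Ab Z) := by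
  haveI : IsFiltered (AsSmall.{u + 1} J) :=
    IsFiltered.of_equivalence (AsSmall.equiv.{u, u, u + 1} (C := J))
  haveI : HasExactColimitsOfShape (AsSmall.{u + 1} J) (EtCoh.Ab Z) := inferInstance
  exact HasExactColimitsOfShape.of_domain_equivalence _
    (AsSmall.equiv.{u, u, u + 1} (C := J)).symm

variable (D : J ⥤ EtCoh.Ab Z) (c : Cocone D)

lemma mono_desc (hm : ∀ a, Mono (c.ι.app a)) : Mono (colimit.desc D c) := by
  haveI : Mono c.ι := NatTrans.mono_of_mono_app c.ι
  haveI : IsConnected J := IsFiltered.isConnected _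
  haveI : PreservesFiniteLimits (colim : (J ⥤ EtCoh.Ab Z) ⥤ EtCoh.Ab Z) :=
    HasExactColimitsOfShape.preservesFiniteLimits
  haveI : (colim : (J ⥤ EtCoh.Ab Z) ⥤ EtCoh.Ab Z).PreservesMonomorphisms := inferInstance
  refine colim.map_mono' c.ι (colimit.isColimit _) (isColimitConstCocone _ c.pt)
    (colimit.desc D c) ?_
  intro a
  have h1 : colimit.ι D a ≫ colimit.desc D c = c.ι.app a := colimit.ι_desc _ _
  have h2 : c.ι.app a ≫ 𝟙 c.pt = c.ι.app a := Category.comp_id _
  exact h1.trans h2.symm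

lemma epi_desc
    (hl : ∀ (U : Z.Etale) (s : c.pt.obj.obj (op U)) (x : U.left),
      ∃ (V : Z.Etale) (g : V ⟶ U) (v : V.left) (a : J) (t : (D.obj a).obj.obj (op V)),
        g.left.base v = x ∧ (c.ι.app a).hom.app (op V) t = c.pt.obj.map g.op s) :
    Epi (colimit.desc D c) := by
  rw [← Sheaf.isLocallySurjective_iff_epi']
  constructor
  intro U s
  apply mem_smallEtale_of_pointwise
  intro x
  obtain ⟨V, g, v, a, t, hv, ht⟩ := hl U s x
  refine ⟨V, g, v, ?_, hv⟩
  refine ⟨((colimit.ι D a).hom.app (op V)).hom t, ?_⟩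
  have h1 : colimit.ι D a ≫ colimit.desc D c = c.ι.app a := colimit.ι_desc _ _
  have h2 := congrArg (fun φ => (φ.hom.app (op V)).hom t) h1
  exact h2.trans ht

lemma isIso_desc (hm : ∀ a, Mono (c.ι.app a))
    (hl : ∀ (U : Z.Etale) (s : c.pt.obj.obj (op U)) (x : U.left),
      ∃ (V : Z.Etale) (g : V ⟶ U) (v : V.left) (a : J) (t : (D.obj a).obj.obj (op V)),
        g.left.base v = x ∧ (c.ι.app a).hom.app (op V) t = c.pt.obj.map g.op s) :
    IsIso (colimit.desc D c) := by
  haveI := mono_desc D c hm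
  haveI := epi_desc D c hl
  exact isIso_of_mono_of_epi _

/-- on a qcqs scheme, a filtered union of subsheaves with vanishing `H^q` has vanishing `H^q`. -/
theorem subsingleton_H [CompactSpace Z] [QuasiSeparatedSpace Z]
    (hm : ∀ a, Mono (c.ι.app a))
    (hl : ∀ (U : Z.Etale) (s : c.pt.obj.obj (op U)) (x : U.left),
      ∃ (V : Z.Etale) (g : V ⟶ U) (v : V.left) (a : J) (t : (D.obj a).obj.obj (op V)),
        g.left.base v = x ∧ (c.ι.app a).hom.app (op V) t = c.pt.obj.map g.op s)
    (q : ℕ) (h : ∀ a, Subsingleton (EtCoh.H Z (D.obj a) q)) :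
    Subsingleton (EtCoh.H Z c.pt q) := by
  haveI := Groth.Agent.S0099.result Z q J
  haveI := isIso_desc D c hm hl
  have hc' : IsColimit ((EtCoh.HF Z q).mapCocone (colimit.cocone D)) :=
    isColimitOfPreserves (EtCoh.HF Z q) (colimit.isColimit D)
  have hz : IsZero ((EtCoh.HF Z q).obj (colimit D)) := by
    rw [IsZero.iff_id_eq_zero]
    apply hc'.hom_ext
    intro a
    have hj : IsZero ((EtCoh.HF Z q).obj (D.obj a)) := by
      haveI : Subsingleton ((EtCoh.HF Z q).obj (D.obj a) : AddCommGrpCat.{u + 1}) := h a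
      exact AddCommGrpCat.isZero_of_subsingleton _
    exact hj.eq_of_src _ _
  have hz' : IsZero ((EtCoh.HF Z q).obj c.pt) :=
    hz.of_iso ((EtCoh.HF Z q).mapIso (asIso (colimit.desc D c)).symm)
  exact AddCommGrpCat.subsingleton_of_isZero hz'

/-- middle term of a short exact sequence with vanishing outer `H^q`. -/
theorem subsingleton_H_of_shortExact (S : ShortComplex (EtCoh.Ab Z)) (hS : S.ShortExact) (q : ℕ)
    (h1 : Subsingleton (EtCoh.H Z S.X₁ q)) (h3 : Subsingleton (EtCoh.H Z S.X₃ q)) :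
    Subsingleton (EtCoh.H Z S.X₂ q) := by
  refine ⟨fun x y => ?_⟩
  have hx : ∀ x₂ : EtCoh.H Z S.X₂ q, x₂ = 0 := by
    intro x₂
    obtain ⟨x₁, hx₁⟩ := Abelian.Ext.covariant_sequence_exact₂ _ hS x₂ (Subsingleton.elim _ _)
    have h0 : x₁ = 0 := Subsingleton.elim _ _
    rw [← hx₁, h0]
    exact Abelian.Ext.zero_comp _ q (Abelian.Ext.mk₀ S.f) q (add_zero q)
  rw [hx x, hx y]

/-- a sheaf all of whose sections vanish is zero. -/
lemma isZero_of_sections (G : EtCoh.Ab Z) (h : ∀ U : Z.Etale, IsZero (G.obj.obj (op U))) :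
    IsZero G := by
  rw [IsZero.iff_id_eq_zero]
  apply ObjectProperty.hom_ext
  ext U : 2
  induction U using Opposite.rec with
  | _ U => exact (h U).eq_of_src _ _

end Groth.Agent.Lib.Helper5.FilteredUnion
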