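import Mathlib

/-!
# Coproducts are preserved by functors preserving finite coproducts and filtered colimits
-/

set_option autoImplicit false
universe w v₁ v₂ u₁ u₂
open CategoryTheory CategoryTheory.Limits

namespace Groth.Agent.Lib.Helper5.CoprodFilt

open CoproductsFromFiniteFiltered

variable {A : Type u₁} [Category.{v₁} A] {B : Type u₂} [Category.{v₂} B]
  [HasFiniteCoproducts A] (G : A ⥤ B) {α : Type w} [PreservesFiniteCoproducts G]

section

variable (f : α → A) (s : Cocone (Discrete.functor f ⋙ G))

/-- The finite sub-cofans. -/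
noncomputable abbrev subCofan (S : Finset (Discrete α)) :
    Cocone (Discrete.functor fun x : S => f x.1.as) :=
  Cofan.mk (∐ fun x : S => f x.1.as) (Sigma.ι fun x : S => f x.1.as)

noncomputable def hS (S : Finset (Discrete α)) : IsColimit (G.mapCocone (subCofan f S)) :=
  isColimitOfPreserves G (coproductIsCoproduct (fun x : S => f x.1.as))

/-- The restriction of a cocone to a finite subset. -/
def subCocone (S : Finset (Discrete α)) :
    Cocone ((Discrete.functor fun x : S => f x.1.as) ⋙ G) where
  pt := s.pt
  ι := Discrete.natTrans (fun x => s.ι.app x.as.1)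

/-- The induced map out of the image of a finite subcoproduct. -/
noncomputable def dS (S : Finset (Discrete α)) : G.obj (∐ fun x : S => f x.1.as) ⟶ s.pt :=
  (hS G f S).desc (subCocone G f s S)

lemma dS_fac (S : Finset (Discrete α)) (x : S) :
    G.map (Sigma.ι (fun x : S => f x.1.as) x) ≫ dS G f s S = s.ι.app x.1 :=
  (hS G f S).fac (subCocone G f s S) ⟨x⟩

lemma dS_ext (S : Finset (Discrete α)) {T : B} (a b : G.obj (∐ fun x : S => f x.1.as) ⟶ T)
    (h : ∀ x : S, G.map (Sigma.ι (fun x : S => f x.1.as) x) ≫ a =
      G.map (Sigma.ι (fun x : S => f x.1.as) x) ≫ b) : a = b :=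
  (hS G f S).hom_ext (fun ⟨x⟩ => h x)

/-- The cocone over the finite subcoproducts induced by a cocone over the summands. -/
noncomputable def finCocone : Cocone (liftToFinsetObj (Discrete.functor f) ⋙ G) where
  pt := s.pt
  ι :=
    { app := fun S => dS G f s S
      naturality := fun S T h => by
        apply dS_ext G f S
        intro x
        show G.map (Sigma.ι (fun x : S => f x.1.as) x) ≫
          G.map (Sigma.desc fun y : S => Sigma.ι (fun x : T => f x.1.as)
            ⟨y.1, h.down.down y.2⟩) ≫ dS G f s T =
          G.map (Sigma.ι (fun x : S => f x.1.as) x) ≫ dS G f s S ≫ 𝟙 s.pt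
        rw [Category.comp_id, dS_fac, ← Category.assoc, ← G.map_comp, Sigma.ι_desc, dS_fac] }

end

variable [HasColimitsOfShape (Finset (Discrete α)) A]
  [PreservesColimitsOfShape (Finset (Discrete α)) G]

/-- The inclusion of a finite subcoproduct. -/
noncomputable def incl (f : α → A) [HasCoproduct f] (S : Finset (Discrete α)) :
    (∐ fun x : S => f x.1.as) ⟶ ∐ f :=
  Sigma.desc (fun x : S => Sigma.ι f x.1.as)

omit [PreservesFiniteCoproducts G] [HasColimitsOfShape (Finset (Discrete α)) A] in
lemma ι_incl (f : α → A) [HasCoproduct f] (S : Finset (Discrete α)) (x : S) :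
    Sigma.ι (fun x : S => f x.1.as) x ≫ incl f S = Sigma.ι f x.1.as :=
  Sigma.ι_desc _ _

/-- The image of the coproduct cofan is a colimit. -/
theorem nonempty_isColimitMapCofan (f : α → A) [HasCoproduct f] :
    Nonempty (IsColimit (G.mapCocone (Cofan.mk (∐ f) (Sigma.ι f)))) := by
  classical
  have hfin : IsColimit (G.mapCocone (finiteSubcoproductsCocone f)) :=
    isColimitOfPreserves G (isColimitFiniteSubproductsCocone f)
  obtain ⟨dd, hfac⟩ : ∃ dd : ∀ s : Cocone (Discrete.functor f ⋙ G), G.obj (∐ f) ⟶ s.pt,
      ∀ (s : Cocone (Discrete.functor f ⋙ G)) (S : Finset (Discrete α)),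
        G.map (incl f S) ≫ dd s = dS G f s S :=
    ⟨fun s => hfin.desc (finCocone G f s), fun s S => hfin.fac (finCocone G f s) S⟩
  have hext : ∀ {T : B} (a b : G.obj (∐ f) ⟶ T),
      (∀ S : Finset (Discrete α), G.map (incl f S) ≫ a = G.map (incl f S) ≫ b) → a = b :=
    fun a b h => hfin.hom_ext h
  refine ⟨
    { desc := fun s => dd s
      fac := ?_
      uniq := ?_ }⟩
  · intro s j
    show G.map (Sigma.ι f j.as) ≫ dd s = s.ι.app j
    have := ι_incl f {j} ⟨j, by simp⟩
    rw [← this, G.map_comp, Category.assoc, hfac, dS_fac]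
  · intro s m hm
    apply hext
    intro S
    rw [hfac]
    apply dS_ext G f S
    intro x
    rw [dS_fac, ← Category.assoc, ← G.map_comp, ι_incl]
    exact hm x.1

/-- A functor preserving finite coproducts and filtered colimits preserves coproducts. -/
theorem preservesColimitsOfShape_discrete [HasColimitsOfShape (Discrete α) A] :
    PreservesColimitsOfShape (Discrete α) G where
  preservesColimit {K} := by
    let f : α → A := fun a => K.obj ⟨a⟩
    have e : K ≅ Discrete.functor f := Discrete.natIsoFunctor
    haveI : PreservesColimit (Discrete.functor f) G :=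
      preservesColimit_of_preserves_colimit_cocone (coproductIsCoproduct f)
        (nonempty_isColimitMapCofan G f).some
    exact preservesColimit_of_iso_diagram G e.symm

end Groth.Agent.Lib.Helper5.CoprodFilt
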