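import Groth.Agent.Lib.Helper5.EtSectDerived
import Groth.Agent.Lib.Helper5.CoprodFilt
import Groth.Agent.Lib.Helper15.FinitePushExact
import Groth.Agent.S0073
import Groth.Agent.S0099

/-!
# Helper5: cohomology of coproducts of skyscraper sheaves at closed points
-/

set_option autoImplicit false
universe u
open CategoryTheory CategoryTheory.Limits AlgebraicGeometry Opposite

namespace Groth.Agent.Lib.Helper5.SkyCoprod

open Groth.Agent.Lib.Helper5.EtSectDerived
open Groth.Agent.Lib.Helper13.DerivedCommute Groth.Agent.Lib.Helper13.EdgeInIso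

/-- for finite `π`, `H^q(Z, π_* G) ≅ H^q(W, G)`. -/
noncomputable def finitePushHIso {W Z : Scheme.{u}} (π : W ⟶ Z) [IsFinite π] (G : EtCoh.Ab W)
    (q : ℕ) :
    AddCommGrpCat.of (EtCoh.H Z ((EtCoh.push π).obj G) q) ≅ AddCommGrpCat.of (EtCoh.H W G q) := by
  haveI : (EtCoh.pull π).PreservesMonomorphisms := inferInstance
  haveI : (EtCoh.push π).PreservesInjectiveObjects :=
    Functor.preservesInjectiveObjects_of_adjunction_of_preservesMonomorphisms (EtCoh.pullPushAdj π)
  haveI : PreservesFiniteLimits (EtCoh.push π) := by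
    haveI := (EtCoh.pullPushAdj π).rightAdjoint_preservesLimits
    infer_instance
  haveI := isIso_edgeIn (EtCoh.push π) (EtCore.gsec Z) G
    (fun n => Groth.Agent.Lib.Helper15.FinitePushExact.isZero_Rpush π G n) q
  exact (gsecDerivedIso _ _ q).symm ≪≫
      asIso (RDer.edgeIn (EtCoh.push π) (EtCore.gsec Z) q G) ≪≫
      rightDerivedObjIsoOfNatIso (EtCore.pushGsecIso π) q G ≪≫ gsecDerivedIso W G q

lemma isSepClosed_of_surjective {F E : Type*} [Field F] [Field E] [IsSepClosed F] (φ : F →+* E)
    (hφ : Function.Surjective φ) : IsSepClosed E := by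
  letI := φ.toAlgebra
  haveI : Algebra.IsIntegral F E := Algebra.isIntegral_of_surjective hφ
  exact Algebra.IsAlgebraic.isSepClosed (F := F) (E := E)

/-- cohomology of the spectrum of a separably closed field vanishes in positive degrees. -/
theorem subsingleton_H_of_isSepClosed (K : Type u) [Field K] [IsSepClosed K]
    (F : EtCoh.Ab (Spec (CommRingCat.of K))) (p : ℕ) (hp : 1 ≤ p) :
    Subsingleton (EtCoh.H (Spec (CommRingCat.of K)) F p) := by
  haveI : IsSepClosed (IsLocalRing.ResidueField K) :=
    isSepClosed_of_surjective (IsLocalRing.residue K) IsLocalRing.residue_surjective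
  exact Groth.Agent.S0073.result K F p hp

instance HF_additive (X : Scheme.{u}) (i : ℕ) : (EtCoh.HF X i).Additive := by
  unfold EtCoh.HF
  infer_instance

/-- the cohomology of a skyscraper sheaf at a closed point with separably closed residue field
vanishes in positive degrees. -/
theorem subsingleton_H_sky {X : Scheme.{u}} (x : X) (hx : IsClosed ({x} : Set X))
    [IsSepClosed (X.residueField x)] (G : EtCoh.Ab (Spec (X.residueField x))) (q : ℕ)
    (hq : 1 ≤ q) :
    Subsingleton (EtCoh.H X ((EtCoh.push (X.fromSpecResidueField x)).obj G) q) := by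
  haveI : IsClosedImmersion (X.fromSpecResidueField x) :=
    isClosed_singleton_iff_isClosedImmersion.1 hx
  haveI : IsFinite (X.fromSpecResidueField x) := inferInstance
  haveI := subsingleton_H_of_isSepClosed (X.residueField x) G q hq
  exact (finitePushHIso (X.fromSpecResidueField x) G q).addCommGroupIsoToAddEquiv.subsingleton

/-- on a qcqs scheme, cohomology commutes with coproducts indexed by a `u`-small type. -/
theorem preservesCoproducts_HF (X : Scheme.{u}) [CompactSpace X] [QuasiSeparatedSpace X] (q : ℕ)
    (α : Type u) : PreservesColimitsOfShape (Discrete α) (EtCoh.HF X q) := by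
  classical
  haveI : PreservesColimitsOfShape (Finset (Discrete α)) (EtCoh.HF X q) :=
    Groth.Agent.S0099.result X q (Finset (Discrete α))
  exact Groth.Agent.Lib.Helper5.CoprodFilt.preservesColimitsOfShape_discrete (α := α)
    (EtCoh.HF X q)

/-- a coproduct of sheaves with vanishing `H^q` has vanishing `H^q` (qcqs). -/
theorem subsingleton_H_coprod (X : Scheme.{u}) [CompactSpace X] [QuasiSeparatedSpace X] (q : ℕ)
    {α : Type u} (Fx : α → EtCoh.Ab X) (c : Cofan Fx) (hc : IsColimit c)
    (h : ∀ a, Subsingleton (EtCoh.H X (Fx a) q)) : Subsingleton (EtCoh.H X c.pt q) := by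
  haveI := preservesCoproducts_HF X q α
  have hc' : IsColimit ((EtCoh.HF X q).mapCocone c) := isColimitOfPreserves (EtCoh.HF X q) hc
  have hz : IsZero ((EtCoh.HF X q).obj c.pt) := by
    rw [IsZero.iff_id_eq_zero]
    apply hc'.hom_ext
    intro j
    have hj : IsZero ((EtCoh.HF X q).obj (Fx j.as)) := by
      haveI : Subsingleton ((EtCoh.HF X q).obj (Fx j.as) : AddCommGrpCat.{u + 1}) := h j.as
      exact AddCommGrpCat.isZero_of_subsingleton _
    exact hj.eq_of_src _ _
  exact AddCommGrpCat.subsingleton_of_isZero hz

/-- `H^q(X, ⊕_x i_{x*} G_x) = 0` over closed points with separably closed residue fields. -/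
theorem subsingleton_H_coprod_sky (X : Scheme.{u}) [CompactSpace X] [QuasiSeparatedSpace X]
    (hX : ∀ x : X, IsClosed ({x} : Set X) → IsSepClosed (X.residueField x))
    (G : ∀ x : {x : X // IsClosed ({x} : Set X)}, EtCoh.Ab (Spec (X.residueField x.1)))
    (c : Cofan fun x : {x : X // IsClosed ({x} : Set X)} =>
      (EtCoh.push (X.fromSpecResidueField x.1)).obj (G x))
    (hc : IsColimit c) (q : ℕ) (hq : 1 ≤ q) : Subsingleton (EtCoh.H X c.pt q) := by
  refine subsingleton_H_coprod X q _ c hc ?_
  intro x
  haveI := hX x.1 x.2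
  exact subsingleton_H_sky x.1 x.2 (G x) q hq

/-- residue fields at closed points of a scheme locally of finite type over an algebraically
closed field are separably closed. -/
theorem isSepClosed_residueField_of_isClosed {k : Type u} [Field k] [IsAlgClosed k]
    {X : Scheme.{u}} (f : X ⟶ Spec (CommRingCat.of k)) [LocallyOfFiniteType f] (x : X)
    (hx : IsClosed ({x} : Set X)) : IsSepClosed (X.residueField x) := by
  let e := residueFieldIsoBase f x hx
  have hs : Function.Surjective e.inv.hom := (ConcreteCategory.bijective_of_isIso e.inv).2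
  exact isSepClosed_of_surjective (F := k) e.inv.hom hs

end Groth.Agent.Lib.Helper5.SkyCoprod
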