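import Groth.Agent.Lib.Helper5.SuppSections
import Groth.Agent.Lib.Helper5.FilteredUnion
import Groth.Agent.Lib.Helper5.SkyCoprod
import Groth.Agent.S0068

/-!
# Helper5: sheaves supported on finitely many closed points have no higher cohomology
-/

set_option autoImplicit false
universe u
open CategoryTheory CategoryTheory.Limits AlgebraicGeometry Opposite

namespace Groth.Agent.Lib.Helper5.ClosedPtSupp

open Groth.Agent.Lib.Helper5.SuppSections Groth.Agent.Lib.Helper5.FilteredUnion
open Groth.Agent.Lib.Helper5.SkyCoprod Groth.Agent.Lib.Helper5.LTorsion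

set_option backward.isDefEq.respectTransparency.types false

variable {X : Scheme.{u}}

/-- the sections of `G` vanish over étale `U` whose image misses `T`. -/
def VanishOff (G : EtCoh.Ab X) (T : Set X) : Prop :=
  ∀ U : X.Etale, Disjoint (Set.range U.hom.base) T → IsZero (G.obj.obj (op U))

lemma isZero_of_vanishOff_empty (G : EtCoh.Ab X) (h : VanishOff G ∅) : IsZero G :=
  isZero_of_sections G (fun U => h U (Set.disjoint_empty _))

theorem subsingleton_H_of_vanishOff_singleton (x : X) (hx : IsClosed ({x} : Set X))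
    [IsSepClosed (X.residueField x)] (G : EtCoh.Ab X) (h : VanishOff G {x}) (q : ℕ) (hq : 1 ≤ q) :
    Subsingleton (EtCoh.H X G q) := by
  haveI : IsClosedImmersion (X.fromSpecResidueField x) :=
    isClosed_singleton_iff_isClosedImmersion.1 hx
  have hess : (EtCoh.push (X.fromSpecResidueField x)).essImage G := by
    rw [Groth.Agent.S0068.result]
    intro U hU
    apply h U
    rwa [Scheme.range_fromSpecResidueField] at hU
  obtain ⟨G₀, ⟨e⟩⟩ := hess
  haveI : Subsingleton ↑((EtCoh.HF X q).obj ((EtCoh.push (X.fromSpecResidueField x)).obj G₀)) :=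
    subsingleton_H_sky x hx G₀ q hq
  exact ((EtCoh.HF X q).mapIso e).symm.addCommGroupIsoToAddEquiv.subsingleton

section step

variable {U : Scheme.{u}} (j : U ⟶ X) [IsOpenImmersion j]

lemma vanishOff_Γs (G : EtCoh.Ab X) (T' : Set X) (hj : Set.range j.base = T'ᶜ) :
    VanishOff (Γs j G) T' := by
  intro V hV
  have h0 : ∀ a : (Γs j G).obj.obj (op V), a = 0 := by
    intro a
    apply incl_injective j G V
    rw [map_zero]
    apply eq_zero_of_sectSupp_subset_empty
    refine (sectSupp_incl j G V a).trans ?_
    intro w hw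
    rw [hj, compl_compl] at hw
    exact (Set.disjoint_left.1 hV ⟨w, rfl⟩ hw).elim
  haveI : Subsingleton ((Γs j G).obj.obj (op V)) := ⟨fun a b => (h0 a).trans (h0 b).symm⟩
  exact AddCommGrpCat.isZero_of_subsingleton _

lemma vanishOff_coker (G : EtCoh.Ab X) (T' : Set X) (hj : Set.range j.base = T'ᶜ) (x : X)
    (hG : VanishOff G (insert x T')) : VanishOff (cokernel (ιs j G)) {x} := by
  intro V hV
  have h0 : ∀ t : (cokernel (ιs j G)).obj.obj (op V), t = 0 := by
    intro t
    refine Groth.Agent.Lib.Helper15.EtGlue.eq_of_locally_ab _ t 0 ?_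
    intro u
    have hepi : Sheaf.IsLocallySurjective (cokernel.π (ιs j G)) :=
      (Sheaf.isLocallySurjective_iff_epi' (φ := cokernel.π (ιs j G))).2 inferInstance
    obtain ⟨W, g, w, ⟨s, hs⟩, hw⟩ := pointwise_of_mem_smallEtale _
      (Presheaf.imageSieve_mem X.smallEtaleTopology (cokernel.π (ιs j G)).hom t) u
    refine ⟨W, g, w, hw, ?_⟩
    have hz : IsZero (G.obj.obj (op ((EtShriek.compEtale j).obj ((EtCoh.bc j).obj W)))) := by
      apply hG
      rw [Set.disjoint_left]
      rintro _ ⟨p, rfl⟩ hp
      have hw1 : ((EtShriek.compEtale j).obj ((EtCoh.bc j).obj W)).hom =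
          (ρ j W).left ≫ W.hom := (MorphismProperty.Over.w (ρ j W)).symm
      have hw2 : ((EtShriek.compEtale j).obj ((EtCoh.bc j).obj W)).hom =
          pullback.snd W.hom j ≫ j := rfl
      rcases hp with hp | hp
      · have hgw : g.left ≫ V.hom = W.hom := MorphismProperty.Over.w g
        refine Set.disjoint_left.1 hV ⟨g.left.base ((ρ j W).left.base p), ?_⟩ rfl
        rw [← hp, hw1, ← hgw]
        rfl
      · have : ((EtShriek.compEtale j).obj ((EtCoh.bc j).obj W)).hom.base p ∈ Set.range j.base := by
          rw [hw2]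
          exact ⟨(pullback.snd W.hom j).base p, rfl⟩
        rw [hj] at this
        exact this hp
    have hsub : Subsingleton (G.obj.obj (op ((EtShriek.compEtale j).obj ((EtCoh.bc j).obj W)))) :=
      AddCommGrpCat.subsingleton_of_isZero hz
    obtain ⟨s', hs'⟩ := exists_incl_eq j G W s (Subsingleton.elim _ _)
    have hc := congrArg (fun m => m.hom.app (op W) s') (cokernel.condition (ιs j G))
    have hc' : (cokernel.π (ιs j G)).hom.app (op W) (incl j G W s') = 0 := hc
    rw [hs'] at hc'
    rw [map_zero]
    exact hs.symm.trans hc'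
  haveI : Subsingleton ((cokernel (ιs j G)).obj.obj (op V)) :=
    ⟨fun a b => (h0 a).trans (h0 b).symm⟩
  exact AddCommGrpCat.isZero_of_subsingleton _

end step

lemma isClosed_coe_finset (T : Finset X) (h : ∀ x ∈ T, IsClosed ({x} : Set X)) :
    IsClosed (↑T : Set X) := by
  have : (↑T : Set X) = ⋃ y ∈ T, {y} := by
    ext z
    simp
  rw [this]
  exact isClosed_biUnion_finset h

theorem subsingleton_H_of_vanishOff_finset
    (hX : ∀ x : X, IsClosed ({x} : Set X) → IsSepClosed (X.residueField x)) (q : ℕ) (hq : 1 ≤ q)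
    (T : Finset X) : (∀ x ∈ T, IsClosed ({x} : Set X)) → ∀ G : EtCoh.Ab X,
      VanishOff G ↑T → Subsingleton (EtCoh.H X G q) := by
  classical
  induction T using Finset.induction_on with
  | empty =>
    intro _ G hG
    exact Sheaf.subsingleton_H_of_isZero (isZero_of_vanishOff_empty G (by simpa using hG)) q
  | insert x T' hx ih =>
    intro hcl G hG
    have hcl' : ∀ y ∈ T', IsClosed ({y} : Set X) := fun y hy => hcl y (Finset.mem_insert_of_mem hy)
    have hxcl : IsClosed ({x} : Set X) := hcl x (Finset.mem_insert_self _ _)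
    let Uo : X.Opens := ⟨(↑T' : Set X)ᶜ, (isClosed_coe_finset T' hcl').isOpen_compl⟩
    have hj : Set.range Uo.ι.base = (↑T' : Set X)ᶜ := Scheme.Opens.range_ι Uo
    have h1 := ih hcl' (Γs Uo.ι G) (vanishOff_Γs Uo.ι G _ hj)
    haveI := hX x hxcl
    have hG' : VanishOff G (insert x (↑T' : Set X)) := by
      rwa [Finset.coe_insert] at hG
    have h3 := subsingleton_H_of_vanishOff_singleton x hxcl (cokernel (ιs Uo.ι G))
      (vanishOff_coker Uo.ι G _ hj x hG') q hq
    have hS : (ShortComplex.mk (ιs Uo.ι G) (cokernel.π _) (cokernel.condition _)).ShortExact :=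
      ShortComplex.ShortExact.mk' (ShortComplex.exact_of_g_is_cokernel _ (cokernelIsCokernel _))
        inferInstance inferInstance
    exact subsingleton_H_of_shortExact _ hS q h1 h3

end Groth.Agent.Lib.Helper5.ClosedPtSupp
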