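import Groth.Agent.Lib.Helper5.ClosedPtSupp

/-!
# Helper5: sheaves supported on closed points of a Noetherian scheme with separably closed residue
fields at closed points have vanishing higher cohomology
-/

set_option autoImplicit false
universe u
open CategoryTheory CategoryTheory.Limits AlgebraicGeometry Opposite TopologicalSpace

namespace Groth.Agent.Lib.Helper5.ClosedPtSupp

open Groth.Agent.Lib.Helper5.SuppSections Groth.Agent.Lib.Helper5.FilteredUnion
open Groth.Agent.Lib.Helper5.SkyCoprod Groth.Agent.Lib.Helper5.LTorsion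

set_option backward.isDefEq.respectTransparency.types false

/-- a closed subset of a Noetherian quasi-sober space all of whose points map to closed points has
finite image. -/
lemma finite_image_of_closedPts {Y X : Type*} [TopologicalSpace Y] [TopologicalSpace X]
    [QuasiSober Y] [NoetherianSpace Y] (g : Y → X) (hg : Continuous g) (Z : Set Y)
    (hZ : IsClosed Z) (hcl : ∀ z ∈ Z, IsClosed ({g z} : Set X)) : (g '' Z).Finite := by
  obtain ⟨S, hSf, hSc, hSi, rfl⟩ := NoetherianSpace.exists_finite_set_isClosed_irreducible hZ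
  rw [Set.sUnion_eq_biUnion, Set.image_iUnion₂]
  refine Set.Finite.biUnion hSf ?_
  intro t ht
  obtain ⟨η, hη⟩ := QuasiSober.sober (hSi t ht) (hSc t ht)
  refine (Set.finite_singleton (g η)).subset ?_
  rintro _ ⟨z, hz, rfl⟩
  have hη_mem : η ∈ t := hη.mem
  have h1 : g z ∈ closure {g η} := by
    have hz' : z ∈ closure {η} := by
      rw [hη.def]
      exact hz
    have h2 := image_closure_subset_closure_image hg (s := {η}) ⟨z, hz', rfl⟩
    simpa using h2
  rw [(hcl η (Set.mem_sUnion.2 ⟨t, ht, hη_mem⟩)).closure_eq] at h1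
  exact h1

/-- residue fields at closed points of a scheme locally of finite type over a separably
closed field are separably closed. -/
theorem isSepClosed_residueField_of_isClosed' {K : Type u} [Field K] [IsSepClosed K]
    {X : Scheme.{u}} (f : X ⟶ Spec (CommRingCat.of K)) [LocallyOfFiniteType f] (x : X)
    (hx : IsClosed ({x} : Set X)) : IsSepClosed (X.residueField x) := by
  have hfin : IsFinite (X.fromSpecResidueField x ≫ f) := by
    rw [isClosed_singleton_iff_isClosedImmersion] at hx
    rw [isFinite_iff_locallyOfFiniteType_of_jacobsonSpace]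
    infer_instance
  let φ : CommRingCat.of K ⟶ X.residueField x := Spec.preimage (X.fromSpecResidueField x ≫ f)
  have hint : φ.hom.IsIntegral := by
    rw [← IsIntegralHom.SpecMap_iff, Spec.map_preimage]
    infer_instance
  letI := φ.hom.toAlgebra
  haveI : Algebra.IsIntegral K (X.residueField x) := ⟨hint⟩
  exact Algebra.IsAlgebraic.isSepClosed (F := K) (E := X.residueField x)

/-- finite sets of closed points. -/
structure Idx (X : Scheme.{u}) : Type u where
  T : Finset X
  h : ∀ x ∈ T, IsClosed ({x} : Set X)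

variable {X : Scheme.{u}}

instance : Preorder (Idx X) where
  le a b := a.T ⊆ b.T
  le_refl a := Finset.Subset.refl _
  le_trans a b c := Finset.Subset.trans

instance : Nonempty (Idx X) := ⟨⟨∅, by simp⟩⟩

instance : IsDirected (Idx X) (· ≤ ·) := by
  classical
  exact ⟨fun a b => ⟨⟨a.T ∪ b.T, fun x hx => (Finset.mem_union.1 hx).elim (a.h x) (b.h x)⟩,
    Finset.subset_union_left, Finset.subset_union_right⟩⟩

instance : IsFiltered (Idx X) := inferInstance

/-- the open complement of a finite set of closed points. -/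
def Uo (a : Idx X) : X.Opens := ⟨(↑a.T : Set X)ᶜ, (isClosed_coe_finset a.T a.h).isOpen_compl⟩

lemma range_Uo (a : Idx X) : Set.range (Uo a).ι.base = (↑a.T : Set X)ᶜ :=
  Scheme.Opens.range_ι (Uo a)

lemma range_Uo_anti {a b : Idx X} (h : a ≤ b) :
    Set.range (Uo b).ι.base ⊆ Set.range (Uo a).ι.base := by
  rw [range_Uo, range_Uo]
  intro x hx hxa
  exact hx (h hxa)

variable (F : EtCoh.Ab X)

/-- the diagram of subsheaves of sections supported on finite sets of closed points. -/
noncomputable def D : Idx X ⥤ EtCoh.Ab X where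
  obj a := Γs (Uo a).ι F
  map {a b} h := ΓsMap (Uo a).ι (Uo b).ι F (range_Uo_anti (leOfHom h))
  map_id a := by
    rw [← cancel_mono (ιs (Uo a).ι F), ΓsMap_ι, Category.id_comp]
  map_comp {a b c} h h' := by
    rw [← cancel_mono (ιs (Uo c).ι F), ΓsMap_ι, Category.assoc, ΓsMap_ι, ΓsMap_ι]

/-- the cocone of inclusions. -/
noncomputable def coc : Cocone (D F) where
  pt := F
  ι := { app := fun a => ιs (Uo a).ι F
         naturality := fun a b h => by
          simp only [Functor.const_obj_obj, Functor.const_obj_map, Category.comp_id]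
          exact ΓsMap_ι (Uo a).ι (Uo b).ι F (range_Uo_anti (leOfHom h)) }

lemma local_lift [IsLocallyNoetherian X]
    (hF : ∀ x ∈ EtPBC.supp F, IsClosed ({x} : Set X))
    (U : X.Etale) (s : F.obj.obj (op U)) (u : U.left) :
    ∃ (V : X.Etale) (g : V ⟶ U) (v : V.left) (a : Idx X) (t : ((D F).obj a).obj.obj (op V)),
      g.left.base v = u ∧ ((coc F).ι.app a).hom.app (op V) t = F.obj.map g.op s := by
  classical
  haveI : Etale U.hom := U.prop
  haveI : IsLocallyNoetherian U.left :=
    @LocallyOfFiniteType.isLocallyNoetherian U.left X U.hom inferInstance ‹_›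
  obtain ⟨W₀, hW₀aff, huW₀, -⟩ := U.left.isBasis_affineOpens.exists_subset_of_mem_open
    (Set.mem_univ u) isOpen_univ
  obtain ⟨W₀, rfl⟩ : ∃ W : U.left.Opens, (W : Set U.left) = W₀ := by
    obtain ⟨W, hW, rfl⟩ := hW₀aff
    exact ⟨W, rfl⟩
  have hW₀aff' : IsAffineOpen W₀ := by
    obtain ⟨W, hW, hWe⟩ := hW₀aff
    have : W = W₀ := TopologicalSpace.Opens.ext hWe
    exact this ▸ hW
  haveI : IsNoetherianRing Γ(U.left, W₀) :=
    IsLocallyNoetherian.component_noetherian ⟨W₀, hW₀aff'⟩
  haveI hN : NoetherianSpace W₀ := noetherianSpace_of_isAffineOpen W₀ hW₀aff'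
  let V : X.Etale := Scheme.Etale.mk (W₀.ι ≫ U.hom)
  let g : V ⟶ U := MorphismProperty.Over.homMk W₀.ι rfl trivial
  let s' : F.obj.obj (op V) := F.obj.map g.op s
  have hZ : IsClosed (EtShriek.sectSupp F V s') := (Groth.Agent.S0671.result F).1 V s'
  have hcl : ∀ z ∈ EtShriek.sectSupp F V s', IsClosed ({V.hom.base z} : Set X) := by
    intro z hz
    apply hF
    rw [(Groth.Agent.S0671.result F).2]
    exact Set.mem_iUnion.2 ⟨V, Set.mem_iUnion.2 ⟨s', z, hz, rfl⟩⟩
  haveI : NoetherianSpace V.left := hN
  have hfin := finite_image_of_closedPts (Y := V.left) (X := X)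
    (fun z : V.left => (V.hom.base z : X)) V.hom.continuous
    (EtShriek.sectSupp F V s') hZ hcl
  let a : Idx X := ⟨hfin.toFinset, fun x hx => by
    obtain ⟨z, hz, rfl⟩ := hfin.mem_toFinset.1 hx
    exact hcl z hz⟩
  have hsub : EtShriek.sectSupp F V s' ⊆ V.hom.base ⁻¹' (Set.range (Uo a).ι.base)ᶜ := by
    intro z hz
    rw [range_Uo, compl_compl]
    show V.hom.base z ∈ (↑hfin.toFinset : Set X)
    rw [Set.Finite.coe_toFinset]
    exact ⟨z, hz, rfl⟩
  obtain ⟨t, ht⟩ := exists_incl_eq_of_sectSupp (Uo a).ι F V s' hsub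
  exact ⟨V, g, ⟨u, huW₀⟩, a, t, rfl, ht⟩

/-- On a Noetherian scheme whose closed points have separably closed residue fields, a sheaf
supported on closed points has vanishing higher cohomology. -/
theorem subsingleton_H_of_supp_closedPts [IsLocallyNoetherian X] [CompactSpace X]
    (hX : ∀ x : X, IsClosed ({x} : Set X) → IsSepClosed (X.residueField x))
    (hF : ∀ x ∈ EtPBC.supp F, IsClosed ({x} : Set X)) (q : ℕ) (hq : 1 ≤ q) :
    Subsingleton (EtCoh.H X F q) := by
  refine subsingleton_H (D F) (coc F) (fun a => inferInstanceAs (Mono (ιs (Uo a).ι F)))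
    (local_lift F hF) q ?_
  intro a
  exact subsingleton_H_of_vanishOff_finset hX q hq a.T a.h _
    (vanishOff_Γs (Uo a).ι F (↑a.T) (range_Uo a))

end Groth.Agent.Lib.Helper5.ClosedPtSupp
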