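import Mathlib

set_option autoImplicit false
open CategoryTheory CategoryTheory.Limits Opposite Abelian

namespace Groth.Agent.Lib.Helper5.CoExtAdj

universe w w' v v' u u'

variable {C : Type u} [Category.{v} C] [Abelian C] [HasExt.{w} C]
  {D : Type u'} [Category.{v'} D] [Abelian D] [HasExt.{w'} D]
  {Lf : D ⥤ C} {R : C ⥤ D} (adj : Lf ⊣ R) [Lf.Additive] [PreservesFiniteLimits Lf]
  [PreservesFiniteColimits Lf] [R.Additive]

/-- The comparison map `Ext^n (A, R B) → Ext^n (L A, B)`: apply the exact functor `L` and compose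
with the counit. -/
noncomputable def coMap (A : D) (B : C) (n : ℕ) :
    Ext.{w'} A (R.obj B) n →+ Ext.{w} (Lf.obj A) B n :=
  ((Ext.mk₀ (adj.counit.app B)).postcomp (Lf.obj A) (add_zero n)).comp
    (Lf.mapExtAddHom A (R.obj B) n)

lemma coMap_apply (A : D) (B : C) (n : ℕ) (x : Ext.{w'} A (R.obj B) n) :
    coMap adj A B n x = (x.mapExactFunctor Lf).comp (Ext.mk₀ (adj.counit.app B)) (add_zero n) :=
  rfl

lemma coMap_mk₀ (A : D) (B : C) (g : A ⟶ R.obj B) :
    coMap adj A B 0 (Ext.mk₀ g) = Ext.mk₀ ((adj.homEquiv A B).symm g) := by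
  rw [coMap_apply, Ext.mapExactFunctor_mk₀, Ext.mk₀_comp_mk₀, Adjunction.homEquiv_counit]

lemma coMap_bijective_zero (A : D) (B : C) : Function.Bijective (coMap adj A B 0) := by
  constructor
  · intro e₁ e₂ h
    obtain ⟨g₁, rfl⟩ := (Ext.mk₀_bijective _ _).2 e₁
    obtain ⟨g₂, rfl⟩ := (Ext.mk₀_bijective _ _).2 e₂
    rw [coMap_mk₀, coMap_mk₀] at h
    have := (Ext.mk₀_bijective _ _).1 h
    rw [(adj.homEquiv A B).symm.injective this]
  · intro e
    obtain ⟨g, rfl⟩ := (Ext.mk₀_bijective _ _).2 e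
    exact ⟨Ext.mk₀ (adj.homEquiv A B g), by rw [coMap_mk₀, Equiv.symm_apply_apply]⟩

lemma coMap_comp_mk₀ (A : D) {B B' : C} (φ : B ⟶ B') (n : ℕ) (x : Ext.{w'} A (R.obj B) n) :
    coMap adj A B' n (x.comp (Ext.mk₀ (R.map φ)) (add_zero n)) =
      (coMap adj A B n x).comp (Ext.mk₀ φ) (add_zero n) := by
  rw [coMap_apply, coMap_apply, Ext.mapExactFunctor_comp, Ext.mapExactFunctor_mk₀,
    Ext.comp_assoc_of_third_deg_zero, Ext.comp_assoc_of_third_deg_zero, Ext.mk₀_comp_mk₀,
    Ext.mk₀_comp_mk₀]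
  congr 2
  exact adj.counit.naturality φ

lemma coMap_extClass (A : D) {S : ShortComplex C} (hS : S.ShortExact)
    (hSR : (S.map R).ShortExact) (n : ℕ) (x : Ext.{w'} A (S.map R).X₃ n) :
    coMap adj A S.X₁ (n + 1) (x.comp hSR.extClass rfl) =
      (coMap adj A S.X₃ n x).comp hS.extClass rfl := by
  let f : (S.map R).map Lf ⟶ S :=
    { τ₁ := adj.counit.app S.X₁
      τ₂ := adj.counit.app S.X₂
      τ₃ := adj.counit.app S.X₃
      comm₁₂ := (adj.counit.naturality S.f).symm
      comm₂₃ := (adj.counit.naturality S.g).symm }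
  have hnat : (hSR.map_of_exact Lf).extClass.comp (Ext.mk₀ (adj.counit.app S.X₁)) (add_zero 1) =
      (Ext.mk₀ (adj.counit.app S.X₃)).comp hS.extClass (zero_add 1) :=
    ShortComplex.ShortExact.extClass_naturality (hSR.map_of_exact Lf) hS f
  have e1 : (x.comp hSR.extClass rfl).mapExactFunctor Lf =
      (x.mapExactFunctor Lf).comp (hSR.map_of_exact Lf).extClass rfl := by
    rw [Ext.mapExactFunctor_comp, Ext.mapExactFunctor_extClass]
    rfl
  calc coMap adj A S.X₁ (n + 1) (x.comp hSR.extClass rfl)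
      = ((x.comp hSR.extClass rfl).mapExactFunctor Lf).comp
          (Ext.mk₀ (adj.counit.app S.X₁)) (add_zero (n + 1)) := rfl
    _ = ((x.mapExactFunctor Lf).comp (hSR.map_of_exact Lf).extClass rfl).comp
          (Ext.mk₀ (adj.counit.app S.X₁)) (add_zero (n + 1)) := by rw [e1]; rfl
    _ = (x.mapExactFunctor Lf).comp ((hSR.map_of_exact Lf).extClass.comp
          (Ext.mk₀ (adj.counit.app S.X₁)) (add_zero 1)) rfl :=
        Ext.comp_assoc_of_third_deg_zero _ _ _ _
    _ = (x.mapExactFunctor Lf).comp ((Ext.mk₀ (adj.counit.app S.X₃)).comp hS.extClass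
          (zero_add 1)) rfl := by rw [hnat]
    _ = ((x.mapExactFunctor Lf).comp (Ext.mk₀ (adj.counit.app S.X₃)) (add_zero n)).comp
          hS.extClass rfl := (Ext.comp_assoc_of_second_deg_zero _ _ _ _).symm
    _ = (coMap adj A S.X₃ n x).comp hS.extClass rfl := rfl

/-- Dimension shifting: `coMap` is bijective on a class of objects stable under cokernels of
embeddings into injectives, on which `R` is exact, provided `R` sends injectives to
`Ext(A, -)`-acyclic objects. -/
theorem coMap_bijective_of_class [EnoughInjectives C] (A : D) (P : C → Prop)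
    (hP_inj : ∀ I : C, Injective I → P I)
    (hP_coker : ∀ S : ShortComplex C, S.ShortExact → Injective S.X₂ → P S.X₁ →
      P S.X₃ ∧ (S.map R).ShortExact)
    (hR : ∀ I : C, Injective I → ∀ (n : ℕ) (x : Ext.{w'} A (R.obj I) (n + 1)), x = 0) :
    ∀ (n : ℕ) (B : C), P B → Function.Bijective (coMap adj A B n) := by
  intro n
  induction n with
  | zero => exact fun B _ => coMap_bijective_zero adj A B
  | succ n hn =>
    intro B hB
    let I : InjectivePresentation B := Classical.arbitrary _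
    let S := ShortComplex.mk _ _ (cokernel.condition I.f)
    have hI : Injective S.X₂ := I.injective
    have hS : S.ShortExact := { exact := ShortComplex.exact_cokernel I.f }
    obtain ⟨hQ, hSR⟩ := hP_coker S hS hI hB
    exact AddMonoidHom.bijective_of_surjective_of_bijective_of_right_exact _ _ _ _
      (coMap adj A S.X₂ n) (coMap adj A S.X₃ n) (coMap adj A S.X₁ (n + 1))
      (by
        ext x
        exact (coMap_comp_mk₀ adj A S.g n x).symm)
      (by
        ext x
        exact (coMap_extClass adj A hS hSR n x).symm)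
      ((ShortComplex.ab_exact_iff_function_exact _).mp
        (Ext.covariant_sequence_exact₃' A hSR n (n + 1) rfl))
      ((ShortComplex.ab_exact_iff_function_exact _).mp
        (Ext.covariant_sequence_exact₃' (Lf.obj A) hS n (n + 1) rfl))
      (hn S.X₂ (hP_inj _ hI)).surjective (hn S.X₃ hQ)
      (fun x₁ ↦ Ext.covariant_sequence_exact₁ _ hSR x₁ (hR S.X₂ hI n _) rfl)
      (fun y₁ ↦ Ext.covariant_sequence_exact₁ _ hS y₁ (Ext.eq_zero_of_injective _) rfl)

end Groth.Agent.Lib.Helper5.CoExtAdj
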