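import Groth.Agent.Lib.Helper5.CommaGiraud
import Mathlib.CategoryTheory.Sites.Subsheaf
import Mathlib.CategoryTheory.Presentable.Presheaf
import Mathlib.CategoryTheory.Presentable.Type

/-!
# Accessible functors between sheaf topoi satisfy a solution set condition
-/

set_option autoImplicit false
open CategoryTheory Limits Opposite
universe w v u

namespace Groth.Agent.Lib.Helper5.CommaGiraud

section LocSurj

variable {D : Type u} [Category.{v} D] (K : GrothendieckTopology D) {I : Type*} [Category I]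
  {Fd : I ⥤ Sheaf K (Type w)} (c : Cocone Fd) (hc : IsColimit c)

include hc in
/-- The legs of a colimit cocone of sheaves are jointly locally surjective. -/
lemma colimit_jointly_locally_surjective (d : D) (ξ : c.pt.obj.obj (op d)) :
    ∃ S : Sieve d, S ∈ K d ∧ ∀ ⦃V : D⦄ (g : V ⟶ d), S g →
      ∃ (j : I) (ψ : (Fd.obj j).obj.obj (op V)),
        (c.ι.app j).hom.app (op V) ψ = c.pt.obj.map g.op ξ := by
  let ι' : ∀ j, (Fd.obj j).obj ⟶ c.pt.obj := fun j => (c.ι.app j).hom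
  obtain ⟨G, hG⟩ : ∃ G : Subfunctor c.pt.obj, G = ⨆ j, Subfunctor.range (ι' j) := ⟨_, rfl⟩
  have hGle : ∀ j, Subfunctor.range (ι' j) ≤ G := fun j => by
    rw [hG]
    exact le_iSup (fun j => Subfunctor.range (ι' j)) j
  have hpt : Presieve.IsSheaf K c.pt.obj := (isSheaf_iff_isSheaf_of_type _ _).1 c.pt.property
  obtain ⟨S, hSdef⟩ : ∃ S, S = G.sheafify K := ⟨_, rfl⟩
  have hS : Presieve.IsSheaf K S.toFunctor := by
    rw [hSdef]
    exact G.sheafify_isSheaf hpt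
  have hle : ∀ j, Subfunctor.range (ι' j) ≤ S := fun j => by
    rw [hSdef]
    exact (hGle j).trans (G.le_sheafify K)
  let Sh : Sheaf K (Type w) := ⟨S.toFunctor, (isSheaf_iff_isSheaf_of_type _ _).2 hS⟩
  let m : Sh ⟶ c.pt := ObjectProperty.homMk S.ι
  let l : ∀ j, Fd.obj j ⟶ Sh := fun j => ObjectProperty.homMk (Subfunctor.lift (ι' j) (hle j))
  have hl : ∀ j, l j ≫ m = c.ι.app j := fun j => by
    apply Sheaf.hom_ext
    rfl
  have hm : ∀ {Z : Sheaf K (Type w)} (a b : Z ⟶ Sh), a ≫ m = b ≫ m → a = b := by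
    intro Z a b hab
    apply Sheaf.hom_ext
    apply NatTrans.ext
    funext U
    ext x
    apply Subtype.ext
    have h1 : (a ≫ m).hom.app U x = (b ≫ m).hom.app U x := by rw [hab]
    exact h1
  let s : Cocone Fd := ⟨Sh, ⟨fun j => l j, fun i j u => by
    apply hm
    rw [Category.assoc, hl]
    show Fd.map u ≫ c.ι.app j = (l i ≫ 𝟙 Sh) ≫ m
    rw [Category.comp_id, hl]
    exact c.w u⟩⟩
  have hdm : hc.desc s ≫ m = 𝟙 _ := by
    refine hc.hom_ext (fun j => ?_)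
    rw [← Category.assoc, hc.fac s j, Category.comp_id]
    exact hl j
  have h1 : (hc.desc s ≫ m).hom.app (op d) ξ = ξ := by
    rw [hdm]
    rfl
  have h2 : ((hc.desc s).hom.app (op d) ξ).1 = ξ := h1
  have h3 : ξ ∈ S.obj (op d) := by
    rw [← h2]
    exact ((hc.desc s).hom.app (op d) ξ).2
  rw [hSdef] at h3
  refine ⟨G.sieveOfSection ξ, h3, ?_⟩
  intro V g hg
  have h4 : c.pt.obj.map g.op ξ ∈ G.obj (op V) := hg
  rw [hG, Subfunctor.iSup_obj] at h4
  obtain ⟨_, ⟨j, rfl⟩, ψ, hψ⟩ := h4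
  exact ⟨j, ψ, hψ⟩

end LocSurj

section Bounded

variable {C D : Type u} [SmallCategory C] [SmallCategory D] (J : GrothendieckTopology C)
  (K : GrothendieckTopology D) (ρ : Sheaf J (Type u) ⥤ Sheaf K (Type u)) [ρ.IsAccessible.{u}]

/-- An accessible functor between sheaf topoi satisfies a solution set condition. -/
lemma exists_small_bound :
    ∃ (P : ObjectProperty (Cᵒᵖ ⥤ Type u)) (_ : ObjectProperty.Small.{u} P),
      ∀ (X : Sheaf J (Type u)) (d : D) (ξ : (ρ.obj X).obj.obj (op d)),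
        ∃ S : Sieve d, S ∈ K d ∧ ∀ ⦃V : D⦄ (g : V ⟶ d), S g →
          ∃ (Q : Cᵒᵖ ⥤ Type u) (_ : P Q) (b : (presheafToSheaf J (Type u)).obj Q ⟶ X)
            (ψ : (ρ.obj ((presheafToSheaf J (Type u)).obj Q)).obj.obj (op V)),
            (ρ.map b).hom.app (op V) ψ = (ρ.obj X).obj.map g.op ξ := by
  obtain ⟨κ, hκ, hρ⟩ := Functor.IsAccessible.exists_cardinal (F := ρ)
  obtain ⟨P, hPs, hP⟩ := HasCardinalFilteredGenerator.exists_small_generator (Cᵒᵖ ⥤ Type u) κ
  refine ⟨P, hPs, ?_⟩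
  intro X d ξ
  obtain ⟨I, _, _, ⟨pres⟩⟩ := hP.exists_colimitsOfShape ((sheafToPresheaf J (Type u)).obj X)
  let a := presheafToSheaf J (Type u)
  let c₁ : Cocone (pres.diag ⋙ a) := a.mapCocone ⟨_, pres.ι⟩
  have hc₁ : IsColimit c₁ := isColimitOfPreserves a pres.isColimit
  let ε : a.obj X.obj ≅ X := asIso ((sheafificationAdjunction J (Type u)).counit.app X)
  haveI := ρ.preservesColimitsOfShape_of_isCardinalAccessible κ I
  have hc₂ : IsColimit (ρ.mapCocone c₁) := isColimitOfPreserves ρ hc₁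
  obtain ⟨S, hS, hS'⟩ := colimit_jointly_locally_surjective K (ρ.mapCocone c₁) hc₂ d
    ((ρ.map ε.inv).hom.app (op d) ξ)
  refine ⟨S, hS, fun V g hg => ?_⟩
  obtain ⟨j, ψ, hψ⟩ := hS' g hg
  refine ⟨pres.diag.obj j, pres.prop_diag_obj j, c₁.ι.app j ≫ ε.hom, ψ, ?_⟩
  rw [ρ.map_comp]
  show (ρ.map ε.hom).hom.app (op V) ((ρ.map (c₁.ι.app j)).hom.app (op V) ψ) = _
  have h1 : (ρ.map (c₁.ι.app j)).hom.app (op V) ψ =
      (ρ.obj (a.obj X.obj)).obj.map g.op ((ρ.map ε.inv).hom.app (op d) ξ) := hψ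
  rw [h1]
  have h2 := NatTrans.naturality_apply (ρ.map ε.hom).hom g.op ((ρ.map ε.inv).hom.app (op d) ξ)
  rw [h2]
  congr 1
  have h3 : (ρ.map ε.inv ≫ ρ.map ε.hom).hom.app (op d) ξ = ξ := by
    rw [← ρ.map_comp, ε.inv_hom_id, ρ.map_id]
    rfl
  exact h3

end Bounded

end Groth.Agent.Lib.Helper5.CommaGiraud
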