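import Groth.Agent.Lib.Helper5.CommaBound

/-!
# A small detecting family for the glued category of an accessible left exact functor
-/


set_option autoImplicit false
open CategoryTheory Limits Opposite
universe u

namespace Groth.Agent.Lib.Helper5.CommaGiraud

section GenNat

variable {C : Type u} [SmallCategory C] (J : GrothendieckTopology C)

lemma genEquiv_map {c c' : C} (g : c' ⟶ c) (W : Sheaf J (Type u))
    (a : (SheafToposGiraud.gen J).obj c ⟶ W) :
    SheafToposGiraud.genEquiv J c' W ((SheafToposGiraud.gen J).map g ≫ a) =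
      W.obj.map g.op (SheafToposGiraud.genEquiv J c W a) := by
  simp only [SheafToposGiraud.genEquiv, Equiv.trans_apply, SheafToposGiraud.gen,
    Functor.comp_map, Adjunction.homEquiv_naturality_left]
  exact (yonedaEquiv_naturality _ g).symm

lemma genEquiv_symm_map {c c' : C} (g : c' ⟶ c) (W : Sheaf J (Type u)) (s : W.obj.obj (op c)) :
    (SheafToposGiraud.gen J).map g ≫ (SheafToposGiraud.genEquiv J c W).symm s =
      (SheafToposGiraud.genEquiv J c' W).symm (W.obj.map g.op s) := by
  apply (SheafToposGiraud.genEquiv J c' W).injective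
  rw [genEquiv_map, Equiv.apply_symm_apply, Equiv.apply_symm_apply]

end GenNat

section Detect

variable {C D : Type u} [SmallCategory C] [SmallCategory D] (J : GrothendieckTopology C)
  (K : GrothendieckTopology D) (ρ : Sheaf J (Type u) ⥤ Sheaf K (Type u))

/-- Test objects of the first kind: `(∅, y c, !)`. -/
noncomputable def testObj₁ (c : C) : Gl K ρ :=
  { left := ⊥_ (Sheaf K (Type u))
    right := (SheafToposGiraud.gen J).obj c
    hom := initial.to _ }

/-- Test objects of the second kind: `(y d, a Q, ψ)`. -/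
noncomputable def testObj₂ (d : D) (Q : Cᵒᵖ ⥤ Type u)
    (ψ : (SheafToposGiraud.gen K).obj d ⟶ ρ.obj ((presheafToSheaf J (Type u)).obj Q)) : Gl K ρ :=
  { left := (SheafToposGiraud.gen K).obj d
    right := (presheafToSheaf J (Type u)).obj Q
    hom := ψ }

variable {J K ρ} in
/-- Morphisms out of a test object of the first kind. -/
noncomputable def homTest₁ {c : C} {M : Gl K ρ} (b : (SheafToposGiraud.gen J).obj c ⟶ M.right) :
    testObj₁ J K ρ c ⟶ M :=
  { left := initial.to _
    right := b
    w := initialIsInitial.hom_ext _ _ }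

lemma isIso_right_of_test {M N : Gl K ρ} (f : M ⟶ N)
    (hf : ∀ (c : C) (h : testObj₁ J K ρ c ⟶ N), ∃! h' : testObj₁ J K ρ c ⟶ M, h' ≫ f = h) :
    IsIso f.right := by
  apply SheafToposGiraud.gen_detecting J
  intro c h
  obtain ⟨H', hH', hu⟩ := hf c (homTest₁ h)
  refine ⟨H'.right, ?_, ?_⟩
  · exact congrArg CommaMorphism.right hH'
  · intro h'' hh''
    have := hu (homTest₁ h'') (by
      refine CommaMorphism.ext (initialIsInitial.hom_ext _ _) ?_
      exact hh'')
    rw [← this]
    rfl

variable {J K ρ} in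
/-- Morphisms out of a test object of the second kind, from sections. -/
noncomputable def homTest₂ {d : D} {Q : Cᵒᵖ ⥤ Type u}
    {ψ : (SheafToposGiraud.gen K).obj d ⟶ ρ.obj ((presheafToSheaf J (Type u)).obj Q)}
    {M : Gl K ρ} (s : M.left.obj.obj (op d)) (b : (presheafToSheaf J (Type u)).obj Q ⟶ M.right)
    (h : M.hom.hom.app (op d) s =
      (ρ.map b).hom.app (op d) (SheafToposGiraud.genEquiv K d _ ψ)) :
    testObj₂ J K ρ d Q ψ ⟶ M :=
  { left := (SheafToposGiraud.genEquiv K d M.left).symm s
    right := b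
    w := by
      apply (SheafToposGiraud.genEquiv K d _).injective
      show SheafToposGiraud.genEquiv K d _ ((SheafToposGiraud.genEquiv K d M.left).symm s ≫ M.hom) =
        SheafToposGiraud.genEquiv K d _ (ψ ≫ ρ.map b)
      rw [SheafToposGiraud.genEquiv_comp, SheafToposGiraud.genEquiv_comp, Equiv.apply_symm_apply]
      exact h }

lemma isIso_left_of_test (P : ObjectProperty (Cᵒᵖ ⥤ Type u))
    (hbound : ∀ (X : Sheaf J (Type u)) (d : D) (ξ : (ρ.obj X).obj.obj (op d)),
        ∃ S : Sieve d, S ∈ K d ∧ ∀ ⦃V : D⦄ (g : V ⟶ d), S g →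
          ∃ (Q : Cᵒᵖ ⥤ Type u) (_ : P Q) (b : (presheafToSheaf J (Type u)).obj Q ⟶ X)
            (ψ : (ρ.obj ((presheafToSheaf J (Type u)).obj Q)).obj.obj (op V)),
            (ρ.map b).hom.app (op V) ψ = (ρ.obj X).obj.map g.op ξ)
    {M N : Gl K ρ} (f : M ⟶ N) [IsIso f.right]
    (hf : ∀ (d : D) (Q : Cᵒᵖ ⥤ Type u) (_ : P Q)
      (ψ : (SheafToposGiraud.gen K).obj d ⟶ ρ.obj ((presheafToSheaf J (Type u)).obj Q))
      (h : testObj₂ J K ρ d Q ψ ⟶ N), ∃! h' : testObj₂ J K ρ d Q ψ ⟶ M, h' ≫ f = h) :
    IsIso f.left := by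
  have hw : ∀ (V : D) (t : M.left.obj.obj (op V)),
      (ρ.map f.right).hom.app (op V) (M.hom.hom.app (op V) t) =
        N.hom.hom.app (op V) (f.left.hom.app (op V) t) := by
    intro V t
    have := congrArg (fun φ => φ.hom.app (op V) t) f.w
    exact this.symm
  refine (Sheaf.isLocallyBijective_iff_isIso f.left).1 ⟨?_, ?_⟩
  · -- locally injective
    constructor
    intro d x y hxy
    obtain ⟨S, hS, hS'⟩ := hbound N.right d.unop (N.hom.hom.app d (f.left.hom.app d x))
    refine K.superset_covering ?_ hS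
    intro V g hg
    obtain ⟨Q, hQ, b, ψ, hψ⟩ := hS' g hg
    show M.left.obj.map g.op x = M.left.obj.map g.op y
    let ψ' := (SheafToposGiraud.genEquiv K V _).symm ψ
    have key : ∀ z : M.left.obj.obj d, f.left.hom.app d z = f.left.hom.app d x →
        M.hom.hom.app (op V) (M.left.obj.map g.op z) =
          (ρ.map (b ≫ inv f.right)).hom.app (op V) (SheafToposGiraud.genEquiv K V _ ψ') := by
      intro z hz
      have hmono : Function.Injective ((ρ.map f.right).hom.app (op V)) := by
        have : IsIso ((ρ.map f.right).hom.app (op V)) := inferInstance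
        exact ((isIso_iff_bijective _).1 this).1
      apply hmono
      rw [hw, Equiv.apply_symm_apply]
      have e1 : (ρ.map f.right).hom.app (op V) ((ρ.map (b ≫ inv f.right)).hom.app (op V) ψ) =
          (ρ.map b).hom.app (op V) ψ := by
        have : ρ.map (b ≫ inv f.right) ≫ ρ.map f.right = ρ.map b := by
          rw [← ρ.map_comp, Category.assoc, IsIso.inv_hom_id, Category.comp_id]
        exact congrArg (fun φ => φ.hom.app (op V) ψ) this
      rw [e1, hψ]
      have e2 := NatTrans.naturality_apply f.left.hom g.op z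
      have e3 := NatTrans.naturality_apply N.hom.hom g.op (f.left.hom.app d x)
      rw [e2, hz]
      exact e3
    let H₁ : testObj₂ J K ρ V Q ψ' ⟶ M := homTest₂ (M.left.obj.map g.op x) (b ≫ inv f.right)
      (key x rfl)
    let H₂ : testObj₂ J K ρ V Q ψ' ⟶ M := homTest₂ (M.left.obj.map g.op y) (b ≫ inv f.right)
      (key y hxy.symm)
    obtain ⟨H', -, hu⟩ := hf V Q hQ ψ' (H₁ ≫ f)
    have h1 := hu H₁ rfl
    have h2 := hu H₂ (by
      refine CommaMorphism.ext ?_ rfl
      show (SheafToposGiraud.genEquiv K V M.left).symm _ ≫ f.left =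
        (SheafToposGiraud.genEquiv K V M.left).symm _ ≫ f.left
      apply (SheafToposGiraud.genEquiv K V _).injective
      rw [SheafToposGiraud.genEquiv_comp, SheafToposGiraud.genEquiv_comp,
        Equiv.apply_symm_apply, Equiv.apply_symm_apply]
      have e2 := NatTrans.naturality_apply f.left.hom g.op x
      have e3 := NatTrans.naturality_apply f.left.hom g.op y
      rw [e2, e3, hxy])
    have h3 : H₁.left = H₂.left := by rw [h1, h2]
    exact (SheafToposGiraud.genEquiv K V M.left).symm.injective h3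
  · -- locally surjective
    constructor
    intro d s
    obtain ⟨S, hS, hS'⟩ := hbound N.right d (N.hom.hom.app (op d) s)
    refine K.superset_covering ?_ hS
    intro V g hg
    obtain ⟨Q, hQ, b, ψ, hψ⟩ := hS' g hg
    let ψ' := (SheafToposGiraud.genEquiv K V _).symm ψ
    let H : testObj₂ J K ρ V Q ψ' ⟶ N := homTest₂ (N.left.obj.map g.op s) b (by
      rw [Equiv.apply_symm_apply, hψ]
      exact NatTrans.naturality_apply N.hom.hom g.op s)
    obtain ⟨H', hH', -⟩ := hf V Q hQ ψ' H
    refine ⟨SheafToposGiraud.genEquiv K V M.left H'.left, ?_⟩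
    have h1 : H'.left ≫ f.left = H.left := congrArg CommaMorphism.left hH'
    refine (SheafToposGiraud.genEquiv_comp K V H'.left f.left).symm.trans ?_
    exact (congrArg (SheafToposGiraud.genEquiv K V N.left) h1).trans
      (Equiv.apply_symm_apply _ _)

/-- The detecting family of the glued category. -/
def detP (P : ObjectProperty (Cᵒᵖ ⥤ Type u)) : ObjectProperty (Gl K ρ) :=
  ObjectProperty.ofObj (testObj₁ J K ρ) ⊔
    ObjectProperty.ofObj (fun t : (Σ (d : D) (Q : Subtype P),
      ((SheafToposGiraud.gen K).obj d ⟶ ρ.obj ((presheafToSheaf J (Type u)).obj Q.1))) =>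
      testObj₂ J K ρ t.1 t.2.1.1 t.2.2)

instance detP_small (P : ObjectProperty (Cᵒᵖ ⥤ Type u)) [ObjectProperty.Small.{u} P] :
    ObjectProperty.Small.{u} (detP J K ρ P) := by
  unfold detP
  infer_instance

theorem exists_small_detecting [ρ.IsAccessible.{u}] :
    ∃ P : ObjectProperty (Gl K ρ), ObjectProperty.Small.{u} P ∧ P.IsDetecting := by
  obtain ⟨P, hPs, hbound⟩ := exists_small_bound J K ρ
  refine ⟨detP J K ρ P, inferInstance, ?_⟩
  intro M N f hf
  haveI : IsIso f.right := isIso_right_of_test J K ρ f (fun c h =>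
    hf _ (Or.inl (ObjectProperty.ofObj_apply _ c)) h)
  haveI : IsIso f.left := isIso_left_of_test J K ρ P hbound f (fun d Q hQ ψ h =>
    hf _ (Or.inr (ObjectProperty.ofObj_apply (fun t : (Σ (d : D) (Q : Subtype P),
      ((SheafToposGiraud.gen K).obj d ⟶ ρ.obj ((presheafToSheaf J (Type u)).obj Q.1))) =>
      testObj₂ J K ρ t.1 t.2.1.1 t.2.2) ⟨d, ⟨Q, hQ⟩, ψ⟩)) h)
  exact isIso_of_isIso_left_right f

end Detect

end Groth.Agent.Lib.Helper5.CommaGiraud
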