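import Groth.Agent.Lib.Helper5.SheafToposGiraud
import Mathlib.CategoryTheory.Limits.Comma
import Mathlib.CategoryTheory.Limits.Preserves.Shapes.BinaryProducts

set_option autoImplicit false
open CategoryTheory Limits Opposite
universe w w' v₁ v₂ v₃ u₁ u₂ u₃ u

namespace Groth.Agent.Lib.Helper5.CommaGiraud

section General

variable {A : Type u₁} [Category.{v₁} A] {B : Type u₂} [Category.{v₂} B] {T : Type u₃}
  [Category.{v₃} T] {L : A ⥤ T} {R : B ⥤ T}

instance preservesLimitsOfShape_fst {I : Type w} [Category.{w'} I] [HasLimitsOfShape I A]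
    [HasLimitsOfShape I B] [PreservesLimitsOfShape I R] :
    PreservesLimitsOfShape I (Comma.fst L R) where
  preservesLimit :=
    preservesLimit_of_preserves_limit_cone
      (Comma.coneOfPreservesIsLimit _ (limit.isLimit _) (limit.isLimit _))
      (limit.isLimit _)

instance preservesLimitsOfShape_snd {I : Type w} [Category.{w'} I] [HasLimitsOfShape I A]
    [HasLimitsOfShape I B] [PreservesLimitsOfShape I R] :
    PreservesLimitsOfShape I (Comma.snd L R) where
  preservesLimit :=
    preservesLimit_of_preserves_limit_cone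
      (Comma.coneOfPreservesIsLimit _ (limit.isLimit _) (limit.isLimit _))
      (limit.isLimit _)

instance preservesFiniteLimits_fst [HasFiniteLimits A] [HasFiniteLimits B]
    [PreservesFiniteLimits R] : PreservesFiniteLimits (Comma.fst L R) where
  preservesFiniteLimits _ _ _ := inferInstance

instance preservesFiniteLimits_snd [HasFiniteLimits A] [HasFiniteLimits B]
    [PreservesFiniteLimits R] : PreservesFiniteLimits (Comma.snd L R) where
  preservesFiniteLimits _ _ _ := inferInstance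

lemma isIso_of_isIso_left_right {M N : Comma L R} (f : M ⟶ N) [IsIso f.left] [IsIso f.right] :
    IsIso f := by
  have : f = (Comma.isoMk (asIso f.left) (asIso f.right) (by simp)).hom := by
    ext <;> rfl
  rw [this]
  infer_instance

lemma mono_of_mono_left_right {M N : Comma L R} (f : M ⟶ N) [Mono f.left] [Mono f.right] :
    Mono f := by
  constructor
  intro Z g h hgh
  ext
  · rw [← cancel_mono f.left]
    exact congrArg CommaMorphism.left hgh
  · rw [← cancel_mono f.right]
    exact congrArg CommaMorphism.right hgh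

end General

section Discrete

variable {A : Type*} [Category A] {ι : Type*} {F : Discrete ι ⥤ A} (c : Cocone F)

/-- The cofan associated to a cocone over a discrete diagram. -/
def toCofan : Cofan (fun i => F.obj ⟨i⟩) := Cofan.mk c.pt (fun i => c.ι.app ⟨i⟩)

lemma toCofan_isColimit (hc : IsColimit c) : Nonempty (IsColimit (toCofan c)) := by
  refine ⟨Cofan.IsColimit.mk _ (fun s => hc.desc ⟨s.pt, Discrete.natTrans (fun ⟨i⟩ => s.inj i)⟩)
    (fun s i => ?_) (fun s m hm => ?_)⟩
  · exact hc.fac _ ⟨i⟩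
  · refine hc.uniq ⟨s.pt, Discrete.natTrans (fun ⟨i⟩ => s.inj i)⟩ m ?_
    rintro ⟨i⟩
    exact hm i

end Discrete

section SheafDiscrete

variable {C : Type u} [SmallCategory C] (J : GrothendieckTopology C) {ι : Type u}
  {F : Discrete ι ⥤ Sheaf J (Type u)} (c : Cocone F) (hc : IsColimit c)
include hc

lemma sheaf_discrete_mono (j : Discrete ι) : Mono (c.ι.app j) := by
  obtain ⟨h⟩ := toCofan_isColimit c hc
  haveI := Giraud.coproductDisjoint (SheafToposGiraud.hb J) (fun i => F.obj ⟨i⟩)
  exact Mono.of_coproductDisjoint h j.as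

lemma sheaf_discrete_isInitial_of_isPullback {i j : Discrete ι} (hij : i ≠ j)
    {Z : Sheaf J (Type u)} {a : Z ⟶ F.obj i} {b : Z ⟶ F.obj j}
    (h : IsPullback a b (c.ι.app i) (c.ι.app j)) : Nonempty (IsInitial Z) := by
  obtain ⟨h'⟩ := toCofan_isColimit c hc
  haveI := Giraud.coproductDisjoint (SheafToposGiraud.hb J) (fun i => F.obj ⟨i⟩)
  have hij' : i.as ≠ j.as := fun e => hij (Discrete.ext e)
  exact ⟨IsInitial.ofCoproductDisjointOfIsColimitOfIsLimit hij' h' h.isLimit⟩

lemma sheaf_discrete_isUniversal : IsUniversalColimit c := by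
  obtain ⟨h'⟩ := toCofan_isColimit c hc
  have hu := Giraud.isUniversal_of_isColimit (SheafToposGiraud.hb J) (toCofan c) h'
  let e : F ≅ Discrete.functor (fun i => F.obj ⟨i⟩) := Discrete.natIsoFunctor
  have hu' := hu.precompose_isIso e.hom
  refine hu'.of_iso (Cocone.ext (Iso.refl _) ?_)
  rintro ⟨i⟩
  simp [e, toCofan, Discrete.natIsoFunctor]

end SheafDiscrete

section Lex

variable {A B : Type*} [Category A] [Category B] [HasFiniteLimits A] (F : A ⥤ B)
  [PreservesFiniteLimits F]

lemma jointlyMono₂_map_of_lex {R X : A} (p₁ p₂ : R ⟶ X) [JointlyMono₂ p₁ p₂] :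
    JointlyMono₂ (F.map p₁) (F.map p₂) where
  right_cancellation {Y} f g h₁ h₂ := by
    haveI : Mono (prod.lift p₁ p₂) := ⟨fun a b hab => by
      apply JointlyMono₂.right_cancellation (p₁ := p₁) (p₂ := p₂)
      · have := congrArg (fun t => t ≫ prod.fst) hab
        simpa only [Category.assoc, prod.lift_fst] using this
      · have := congrArg (fun t => t ≫ prod.snd) hab
        simpa only [Category.assoc, prod.lift_snd] using this⟩
    haveI : Mono (F.map (prod.lift p₁ p₂)) := inferInstance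
    rw [← cancel_mono (F.map (prod.lift p₁ p₂)), ← cancel_mono (prodComparison F X X)]
    apply Limits.prod.hom_ext
    · simp only [Category.assoc, prodComparison_fst, ← F.map_comp, prod.lift_fst]
      exact h₁
    · simp only [Category.assoc, prodComparison_snd, ← F.map_comp, prod.lift_snd]
      exact h₂

end Lex

section SheafKer

variable {C : Type u} [SmallCategory C] (J : GrothendieckTopology C)

lemma isKernelPair_of_isColimit {R X B : Sheaf J (Type u)} {p₁ p₂ : R ⟶ X}
    (e : EquivalenceRelation p₁ p₂) {π : X ⟶ B} (w : p₁ ≫ π = p₂ ≫ π)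
    (hc : IsColimit (Cofork.ofπ π w)) : IsKernelPair π p₁ p₂ := by
  have h0 := SheafEqRel.isKernelPair_coequalizer_π.{u} J e
  let φ := (coequalizerIsCoequalizer p₁ p₂).coconePointUniqueUpToIso hc
  have h1 : coequalizer.π p₁ p₂ ≫ φ.hom = π :=
    (coequalizerIsCoequalizer p₁ p₂).comp_coconePointUniqueUpToIso_hom hc WalkingParallelPair.one
  rw [← h1]
  exact h0.comp_of_mono

end SheafKer

section Glue

/-- The glued category. -/
abbrev Gl {C D : Type u} [SmallCategory C] [SmallCategory D] {J : GrothendieckTopology C}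
    (K : GrothendieckTopology D) (ρ : Sheaf J (Type u) ⥤ Sheaf K (Type u)) :=
  Comma (𝟭 (Sheaf K (Type u))) ρ

variable {C D : Type u} [SmallCategory C] [SmallCategory D] (J : GrothendieckTopology C)
  (K : GrothendieckTopology D) (ρ : Sheaf J (Type u) ⥤ Sheaf K (Type u)) [PreservesFiniteLimits ρ]

omit [PreservesFiniteLimits ρ] in
lemma isInitial_of_isInitial_left_right (Z : Gl K ρ) (h₁ : IsInitial Z.left) (h₂ : IsInitial Z.right) :
    Nonempty (IsInitial Z) :=
  ⟨IsInitial.ofUniqueHom (fun Y => ⟨h₁.to _, h₂.to _, h₁.hom_ext _ _⟩) (fun Y m =>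
    CommaMorphism.ext (h₁.hom_ext _ _) (h₂.hom_ext _ _))⟩

lemma glue_isUniversal {ι : Type u} {F : Discrete ι ⥤ Gl K ρ} (c : Cocone F) (hc : IsColimit c) :
    IsUniversalColimit c := by
  intro F' c' α f h hα H
  have hu₁ := sheaf_discrete_isUniversal K ((Comma.fst _ _).mapCocone c)
    (isColimitOfPreserves (Comma.fst _ _) hc)
  have hu₂ := sheaf_discrete_isUniversal J ((Comma.snd _ _).mapCocone c)
    (isColimitOfPreserves (Comma.snd _ _) hc)
  obtain ⟨h₁⟩ := hu₁ ((Comma.fst _ _).mapCocone c') (Functor.whiskerRight α (Comma.fst _ _))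
    ((Comma.fst _ _).map f) (by
      refine NatTrans.ext (funext fun j => ?_)
      have := congrArg (fun t => (Comma.fst _ _).map t) (congr_app h j)
      simpa using this) (hα.whiskerRight _) (fun j => (H j).map (Comma.fst _ _))
  obtain ⟨h₂⟩ := hu₂ ((Comma.snd _ _).mapCocone c') (Functor.whiskerRight α (Comma.snd _ _))
    ((Comma.snd _ _).map f) (by
      refine NatTrans.ext (funext fun j => ?_)
      have := congrArg (fun t => (Comma.snd _ _).map t) (congr_app h j)
      simpa using this) (hα.whiskerRight _) (fun j => (H j).map (Comma.snd _ _))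
  exact ⟨Comma.fstSndJointlyReflectColimit h₁ h₂⟩

theorem glue_hb : SGA4.HasDisjointUniversalCoproducts.{u + 1, u} (Gl K ρ) := by
  intro ι X
  let c : Cofan X := colimit.cocone (Discrete.functor X)
  have hc : IsColimit c := colimit.isColimit _
  refine ⟨c, hc, ?_, glue_isUniversal J K ρ c hc⟩
  have hc₁ := isColimitOfPreserves (Comma.fst (𝟭 (Sheaf K (Type u))) ρ) hc
  have hc₂ := isColimitOfPreserves (Comma.snd (𝟭 (Sheaf K (Type u))) ρ) hc
  haveI : ∀ i, Mono (c.inj i) := fun i => by
    haveI : Mono (c.inj i).left := sheaf_discrete_mono K _ hc₁ ⟨i⟩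
    haveI : Mono (c.inj i).right := sheaf_discrete_mono J _ hc₂ ⟨i⟩
    exact mono_of_mono_left_right _
  refine CoproductDisjoint.of_cofan hc (fun {i j} _ => pullback.cone (c.inj i) (c.inj j))
    (fun {i j} _ => pullback.isLimit _ _) (fun {i j} hij => ?_)
  have hpb := IsPullback.of_hasPullback (c.inj i) (c.inj j)
  have hij' : (⟨i⟩ : Discrete ι) ≠ ⟨j⟩ := fun e => hij (congrArg Discrete.as e)
  have h₁ := (sheaf_discrete_isInitial_of_isPullback K _ hc₁ hij'
    (hpb.map (Comma.fst (𝟭 (Sheaf K (Type u))) ρ))).some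
  have h₂ := (sheaf_discrete_isInitial_of_isPullback J _ hc₂ hij'
    (hpb.map (Comma.snd (𝟭 (Sheaf K (Type u))) ρ))).some
  exact (isInitial_of_isInitial_left_right J K ρ _ h₁ h₂).some

end Glue

section Glue2

variable {C D : Type u} [SmallCategory C] [SmallCategory D] (J : GrothendieckTopology C)
  (K : GrothendieckTopology D) (ρ : Sheaf J (Type u) ⥤ Sheaf K (Type u)) [PreservesFiniteLimits ρ]

theorem glue_hc : ∀ (R A : Gl K ρ) (p₁ p₂ : R ⟶ A), SGA4.IsEquivRel p₁ p₂ →
    SGA4.IsEffectiveUniversalEquivRel p₁ p₂ := by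
  intro R A p₁ p₂ h
  obtain ⟨e⟩ := SheafToposGiraud.equivalenceRelation_of_isEquivRel h
  haveI := e.toJointlyMono₂
  let Φ₁ := Comma.fst (𝟭 (Sheaf K (Type u))) ρ
  let Φ₂ := Comma.snd (𝟭 (Sheaf K (Type u))) ρ
  haveI : JointlyMono₂ (Φ₁.map p₁) (Φ₁.map p₂) := jointlyMono₂_map_of_lex Φ₁ p₁ p₂
  haveI : JointlyMono₂ (Φ₂.map p₁) (Φ₂.map p₂) := jointlyMono₂_map_of_lex Φ₂ p₁ p₂
  have e₁ : EquivalenceRelation (Φ₁.map p₁) (Φ₁.map p₂) := SheafEqRel.equivalenceRelationMap e Φ₁
  have e₂ : EquivalenceRelation (Φ₂.map p₁) (Φ₂.map p₂) := SheafEqRel.equivalenceRelationMap e Φ₂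
  let π := coequalizer.π p₁ p₂
  have w : p₁ ≫ π = p₂ ≫ π := coequalizer.condition p₁ p₂
  have hq : IsColimit (Cofork.ofπ π w) := coequalizerIsCoequalizer p₁ p₂
  have hq₁ := isColimitCoforkMapOfIsColimit Φ₁ w hq
  have hq₂ := isColimitCoforkMapOfIsColimit Φ₂ w hq
  have hk₁ : IsKernelPair (Φ₁.map π) (Φ₁.map p₁) (Φ₁.map p₂) := isKernelPair_of_isColimit K e₁ _ hq₁
  have hk₂ : IsKernelPair (Φ₂.map π) (Φ₂.map p₁) (Φ₂.map p₂) := isKernelPair_of_isColimit J e₂ _ hq₂
  have hpb : IsPullback p₁ p₂ π π := by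
    refine ⟨⟨w⟩, ⟨Comma.fstSndJointlyReflectLimit ?_ ?_⟩⟩
    · exact (isLimitMapConePullbackConeEquiv Φ₁ w).symm hk₁.isLimit
    · exact (isLimitMapConePullbackConeEquiv Φ₂ w).symm hk₂.isLimit
  have hpo : IsPushout p₁ p₂ π π :=
    SheafEqRel.isPushout_of_isColimit_of_section w hq e.r e.reflexivity₁ e.reflexivity₂
  refine ⟨_, π, hpb, hpo, fun B' g => ?_⟩
  haveI : Epi (Φ₁.map π) := Cofork.IsColimit.epi hq₁
  haveI : Epi (Φ₂.map π) := Cofork.IsColimit.epi hq₂
  let π' := pullback.snd π g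
  have hsq := IsPullback.of_hasPullback π g
  haveI : Epi (Φ₁.map π') := SheafGrpQuot.epi_of_isPullback.{u} K (hsq.map Φ₁).flip
  haveI : Epi (Φ₂.map π') := SheafGrpQuot.epi_of_isPullback.{u} J (hsq.map Φ₂).flip
  haveI : EffectiveEpi (Φ₁.map π') := SheafGrpQuot.effectiveEpi_of_epi.{u} K _
  haveI : EffectiveEpi (Φ₂.map π') := SheafGrpQuot.effectiveEpi_of_epi.{u} J _
  have hkp := IsPullback.of_hasPullback π' π'
  have hc₁ := (EffectiveEpi.getStruct (Φ₁.map π')).isColimitCoforkOfIsPullback (hkp.map Φ₁)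
  have hc₂ := (EffectiveEpi.getStruct (Φ₂.map π')).isColimitCoforkOfIsPullback (hkp.map Φ₂)
  refine effectiveEpi_of_kernelPair π' (Comma.fstSndJointlyReflectColimit ?_ ?_)
  · exact (isColimitMapCoconeCoforkEquiv Φ₁ _).symm hc₁
  · exact (isColimitMapCoconeCoforkEquiv Φ₂ _).symm hc₂

end Glue2

end Groth.Agent.Lib.Helper5.CommaGiraud
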