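import Mathlib
import Groth.Agent.Lib.Helper13.DiscFibLan

/-!
# Helper5: colimits over a category with pushouts and coequalizers are exact in `Ab`

Each connected component of such a category is filtered; the colimit is the coproduct over the
components of the filtered colimits.  Formally: `colim_K ≅ π.lan ⋙ colim_{Discrete π₀ K}`, where
`π : K ⥤ Discrete (π₀ K)`; the second functor is exact by AB4, the first by AB5 since
`CostructuredArrow π c` is filtered.
-/

set_option autoImplicit false
open CategoryTheory CategoryTheory.Limits Opposite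

namespace Groth.Agent.Lib.Helper5.CompFiltered

universe v u

section
variable {K : Type u} [Category.{v} K]

/-- upper bounds within a connected component -/
lemma exists_cocone_of_zigzag [HasPushouts K] {k k' : K} (h : Zigzag k k') :
    ∃ (m : K) (_ : k ⟶ m) (_ : k' ⟶ m), True := by
  induction h with
  | refl => exact ⟨k, 𝟙 k, 𝟙 k, trivial⟩
  | tail _ hz ih =>
    obtain ⟨m, f, g, -⟩ := ih
    rcases hz with ⟨⟨a⟩⟩ | ⟨⟨a⟩⟩
    · exact ⟨pushout g a, f ≫ pushout.inl _ _, pushout.inr _ _, trivial⟩
    · exact ⟨m, f, a ≫ g, trivial⟩

variable (K) in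
/-- the projection to the set of connected components -/
abbrev π : K ⥤ Discrete (ConnectedComponents K) := ConnectedComponents.functorToDiscrete _ id

instance isFiltered_costructuredArrow [HasPushouts K] [HasCoequalizers K]
    (c : Discrete (ConnectedComponents K)) : IsFiltered (CostructuredArrow (π K) c) where
  cocone_objs X Y := by
    have hX : Quotient.mk (Zigzag.setoid K) X.left = c.as := Discrete.eq_of_hom X.hom
    have hY : Quotient.mk (Zigzag.setoid K) Y.left = c.as := Discrete.eq_of_hom Y.hom
    have hz : Zigzag X.left Y.left := Quotient.exact (hX.trans hY.symm)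
    obtain ⟨m, f, g, -⟩ := exists_cocone_of_zigzag hz
    refine ⟨CostructuredArrow.mk (Y := m) (Discrete.eqToHom ?_), CostructuredArrow.homMk f
      (Subsingleton.elim _ _), CostructuredArrow.homMk g (Subsingleton.elim _ _), trivial⟩
    exact (Quotient.sound (Zigzag.of_hom f)).symm.trans hX
  cocone_maps X Y f g := by
    refine ⟨CostructuredArrow.mk (Y := coequalizer f.left g.left) (Discrete.eqToHom ?_),
      CostructuredArrow.homMk (coequalizer.π f.left g.left) (Subsingleton.elim _ _), ?_⟩
    · have hY : Quotient.mk (Zigzag.setoid K) Y.left = c.as := Discrete.eq_of_hom Y.hom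
      exact (Quotient.sound (Zigzag.of_hom (coequalizer.π f.left g.left))).symm.trans hY
    · ext
      exact coequalizer.condition f.left g.left
  nonempty := by
    obtain ⟨k, hk⟩ := Quotient.exists_rep c.as
    exact ⟨CostructuredArrow.mk (Y := k) (Discrete.eqToHom hk)⟩

end

section
variable (K : Type u) [SmallCategory K] [HasPushouts K] [HasCoequalizers K]

theorem preservesFiniteLimits_lan_π :
    PreservesFiniteLimits ((π K).lan : (K ⥤ AddCommGrpCat.{u}) ⥤ _) := by
  apply preservesFiniteLimits_of_preservesFiniteLimitsOfSize.{0}
  intro J _ _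
  apply preservesLimitsOfShape_of_evaluation
  intro c
  exact preservesLimitsOfShape_of_natIso
    (Helper13.DiscFibLan.lanEvaluationIsoColim' AddCommGrpCat.{u} (π K) c).symm

theorem preservesFiniteLimits_colim :
    PreservesFiniteLimits (colim : (K ⥤ AddCommGrpCat.{u}) ⥤ AddCommGrpCat.{u}) := by
  haveI := preservesFiniteLimits_lan_π K
  haveI : PreservesFiniteLimits
      (colim : (Discrete (ConnectedComponents K) ⥤ AddCommGrpCat.{u}) ⥤ AddCommGrpCat.{u}) :=
    inferInstance
  exact preservesFiniteLimits_of_natIso ((π K).lanCompColimIso (H := AddCommGrpCat.{u}))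

end

end Groth.Agent.Lib.Helper5.CompFiltered
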