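import Groth.Agent.Lib.Helper5.CompactBdd

/-!
# From `Ext^p(E, -)` commuting with coproducts to finite support of maps from `E[0]`
-/

set_option autoImplicit false
universe w' w v u
open CategoryTheory CategoryTheory.Limits CategoryTheory.Pretriangulated Opposite
open Groth.Agent.Lib.Helper2.CompactEnv

namespace Groth.Agent.Lib.Helper5.CompactBdd

/-- In a coproduct cofan of abelian groups, every element is a finite sum of elements coming from
the summands. -/
lemma mem_closure_of_isColimit_cofan {κ : Type*} (G : κ → AddCommGrpCat.{w}) (c : Cofan G)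
    (hc : IsColimit c) (x : c.pt) :
    x ∈ AddSubgroup.closure (⋃ i, Set.range (c.inj i)) := by
  set S := AddSubgroup.closure (⋃ i, Set.range (c.inj i)) with hS
  let q : c.pt ⟶ AddCommGrpCat.of (c.pt ⧸ S) := AddCommGrpCat.ofHom (QuotientAddGroup.mk' S)
  have hq : q = 0 := by
    apply Cofan.IsColimit.hom_ext hc
    intro i
    ext y
    change QuotientAddGroup.mk' S (c.inj i y) = 0
    rw [QuotientAddGroup.mk'_apply, QuotientAddGroup.eq_zero_iff]
    exact AddSubgroup.subset_closure (Set.mem_iUnion.2 ⟨i, ⟨y, rfl⟩⟩)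
  have := congrArg (fun f => (f : c.pt ⟶ AddCommGrpCat.of (c.pt ⧸ S)) x) hq
  change QuotientAddGroup.mk' S x = 0 at this
  rwa [QuotientAddGroup.mk'_apply, QuotientAddGroup.eq_zero_iff] at this

section

open DerivedCategory Abelian

variable {A : Type u} [Category.{v} A] [Abelian A] [HasDerivedCategory.{w} A] [HasExt.{w'} A]
  [∀ κ : Type w, HasColimitsOfShape (Discrete κ) A]
  [∀ κ : Type w, HasExactColimitsOfShape (Discrete κ) A]

/-- The dictionary `Ext^p(E, F) → Hom(E[0], F[-b])`, `p + b = 0`. -/
noncomputable def extToHom (E F : A) (p : ℕ) (b : ℤ) (hb : (p : ℤ) + b = 0) (x : Ext.{w'} E F p) :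
    (singleFunctor A 0).obj E ⟶ (singleFunctor A b).obj F :=
  x.hom ≫ ((singleFunctors A).shiftIso (p : ℤ) b 0 hb).hom.app F

lemma extToHom_surjective (E F : A) (p : ℕ) (b : ℤ) (hb : (p : ℤ) + b = 0)
    (φ : (singleFunctor A 0).obj E ⟶ (singleFunctor A b).obj F) :
    ∃ x : Ext.{w'} E F p, extToHom E F p b hb x = φ := by
  obtain ⟨x, hx⟩ := (Ext.homEquiv (X := E) (Y := F) (n := p)).surjective
    (φ ≫ ((singleFunctors A).shiftIso (p : ℤ) b 0 hb).inv.app F)
  refine ⟨x, ?_⟩
  unfold extToHom
  change Ext.homEquiv x ≫ _ = _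
  rw [hx, Category.assoc, Iso.inv_hom_id_app, Category.comp_id]

lemma extToHom_zero (E F : A) (p : ℕ) (b : ℤ) (hb : (p : ℤ) + b = 0) :
    extToHom E F p b hb (0 : Ext.{w'} E F p) = 0 := by
  unfold extToHom
  rw [Ext.zero_hom, zero_comp]

lemma extToHom_add (E F : A) (p : ℕ) (b : ℤ) (hb : (p : ℤ) + b = 0) (x y : Ext.{w'} E F p) :
    extToHom E F p b hb (x + y) = extToHom E F p b hb x + extToHom E F p b hb y := by
  unfold extToHom
  rw [Ext.add_hom, Preadditive.add_comp]

lemma extToHom_neg (E F : A) (p : ℕ) (b : ℤ) (hb : (p : ℤ) + b = 0) (x : Ext.{w'} E F p) :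
    extToHom E F p b hb (-x) = - extToHom E F p b hb x := by
  unfold extToHom
  rw [Ext.neg_hom, Preadditive.neg_comp]

lemma extToHom_comp_mk₀ (E : A) {F F' : A} (f : F ⟶ F') (p : ℕ) (b : ℤ) (hb : (p : ℤ) + b = 0)
    (x : Ext.{w'} E F p) :
    extToHom E F' p b hb (x.comp (Ext.mk₀ f) (add_zero p)) =
      extToHom E F p b hb x ≫ (singleFunctor A b).map f := by
  unfold extToHom
  rw [Ext.comp_hom, Ext.mk₀_hom, ShiftedHom.comp_mk₀, Category.assoc, Category.assoc]
  congr 1
  exact (((singleFunctors A).shiftIso (p : ℤ) b 0 hb).hom.naturality f)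

/-- If every element of `Ext^p(E, ∐ B)` is a finite sum of elements coming from the summands, then
maps from `E[0]` to coproducts of objects concentrated in one degree have finite support. -/
theorem isFin_single_of_closure (E : A)
    (hcl : ∀ (p : ℕ) (κ : Type w) (B : κ → A) (x : Ext.{w'} E (∐ B) p),
      x ∈ AddSubgroup.closure (⋃ i, Set.range
        (fun z : Ext.{w'} E (B i) p => z.comp (Ext.mk₀ (Sigma.ι B i)) (add_zero p))))
    (b : ℤ) (κ : Type w) (B : κ → A)
    (φ : (singleFunctor A 0).obj E ⟶ ∐ fun i => (singleFunctor A b).obj (B i)) :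
    IsFin _ φ := by
  by_cases hb : 0 < b
  · haveI : (∐ fun i => (singleFunctor A b).obj (B i)).IsGE 1 :=
      isGE_sigma _ 1 (fun k =>
        TStructure.t.isGE_of_ge ((singleFunctor A b).obj (B k)) 1 b (by omega))
    rw [TStructure.t.zero_of_isLE_of_isGE φ 0 1 (by omega) inferInstance this]
    exact zero_mem _
  · obtain ⟨p, hp⟩ : ∃ p : ℕ, (p : ℤ) + b = 0 := ⟨(-b).toNat, by omega⟩
    let θ := sigmaComparison (singleFunctor A b) B
    haveI : IsIso θ := inferInstance
    obtain ⟨x, hx⟩ := extToHom_surjective E (∐ B) p b hp (φ ≫ θ)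
    have hcl' := hcl p κ B x
    have key : ∀ y : Ext.{w'} E (∐ B) p,
        y ∈ AddSubgroup.closure (⋃ i, Set.range
          (fun z : Ext.{w'} E (B i) p => z.comp (Ext.mk₀ (Sigma.ι B i)) (add_zero p))) →
        IsFin (fun i => (singleFunctor A b).obj (B i)) (extToHom E (∐ B) p b hp y ≫ inv θ) := by
      intro y hy
      induction hy using AddSubgroup.closure_induction with
      | mem z hz =>
        obtain ⟨i, ⟨z', rfl⟩⟩ := Set.mem_iUnion.1 hz
        dsimp only
        rw [extToHom_comp_mk₀, Category.assoc]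
        have : (singleFunctor A b).map (Sigma.ι B i) ≫ inv θ =
            Sigma.ι (fun i => (singleFunctor A b).obj (B i)) i := by
          rw [IsIso.comp_inv_eq]
          exact (ι_comp_sigmaComparison (singleFunctor A b) B i).symm
        rw [this]
        exact isFin_comp_ι i _
      | zero => rw [extToHom_zero, zero_comp]; exact zero_mem _
      | add a c _ _ ha hc => rw [extToHom_add, Preadditive.add_comp]; exact add_mem ha hc
      | neg a _ ha => rw [extToHom_neg, Preadditive.neg_comp]; exact neg_mem ha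
    have h2 : φ = extToHom E (∐ B) p b hp x ≫ inv θ := by
      rw [hx, Category.assoc, IsIso.hom_inv_id, Category.comp_id]
    rw [h2]
    exact key x hcl'

/-- If every `Ext^p(E, -)` commutes with coproducts, then maps from `E[0]` to coproducts of
objects concentrated in one degree have finite support. -/
theorem isFin_single_of_preserves (E : A)
    (hExt : ∀ (p : ℕ) (κ : Type w), PreservesColimitsOfShape (Discrete κ)
      ((extFunctor.{w'} p).obj (op E)))
    (b : ℤ) (κ : Type w) (B : κ → A)
    (φ : (singleFunctor A 0).obj E ⟶ ∐ fun i => (singleFunctor A b).obj (B i)) :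
    IsFin _ φ := by
  refine isFin_single_of_closure E (fun p κ B x => ?_) b κ B φ
  let F : A ⥤ AddCommGrpCat.{w'} := (extFunctor.{w'} p).obj (op E)
  haveI := hExt p κ
  exact mem_closure_of_isColimit_cofan (fun i => F.obj (B i))
    (Cofan.mk (F.obj (∐ B)) (fun i => F.map (Sigma.ι B i)))
    (isColimitCofanMkObjOfIsColimit F B _ (coproductIsCoproduct B)) x

open CoproductsFromFiniteFiltered in
/-- An additive functor to abelian groups which preserves the filtered colimit of finite
subcoproducts sends a coproduct to a group generated by the images of the summands. -/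
theorem mem_closure_of_preserves_filtered (G : A ⥤ AddCommGrpCat.{w}) [G.Additive]
    {κ : Type w} (B : κ → A) [HasColimitsOfShape (Finset (Discrete κ)) A]
    [PreservesColimit (liftToFinsetObj (Discrete.functor B)) G] (x : G.obj (∐ B)) :
    x ∈ AddSubgroup.closure (⋃ i, Set.range (G.map (Sigma.ι B i))) := by
  classical
  have hc := isColimitOfPreserves G (isColimitFiniteSubproductsCocone B)
  obtain ⟨S, y, rfl⟩ := Concrete.isColimit_exists_rep _ hc x
  -- the finite coproduct
  let Bs : S → A := fun s => B s.1.as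
  let incl : ∐ Bs ⟶ ∐ B := Sigma.desc (fun s => Sigma.ι B s.1.as)
  have hincl : (finiteSubcoproductsCocone B).ι.app S = incl := rfl
  let f : G.obj (∐ Bs) →+ G.obj (∐ B) := (G.map incl).hom
  have hy : (show G.obj (∐ Bs) from y) ∈ AddSubgroup.closure (⋃ s : S, Set.range
      (G.map (Sigma.ι Bs s))) :=
    mem_closure_of_isColimit_cofan (fun s : S => G.obj (Bs s))
      (Cofan.mk (G.obj (∐ Bs)) (fun s => G.map (Sigma.ι Bs s)))
      (isColimitCofanMkObjOfIsColimit G Bs _ (coproductIsCoproduct Bs)) y
  have h1 : f y ∈ (AddSubgroup.closure (⋃ s : S, Set.range (G.map (Sigma.ι Bs s)))).map f :=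
    AddSubgroup.mem_map_of_mem f hy
  rw [AddMonoidHom.map_closure] at h1
  refine AddSubgroup.closure_mono ?_ h1
  rintro _ ⟨z, hz, rfl⟩
  obtain ⟨s, ⟨z', rfl⟩⟩ := Set.mem_iUnion.1 hz
  refine Set.mem_iUnion.2 ⟨s.1.as, ⟨z', ?_⟩⟩
  change _ = (G.map incl) ((G.map (Sigma.ι Bs s)) z')
  rw [← ConcreteCategory.comp_apply, ← G.map_comp, Sigma.ι_desc]

end

end Groth.Agent.Lib.Helper5.CompactBdd
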