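import Groth.Agent.Lib.Helper5.CompactExt
import Groth.Agent.Lib.Helper5.ModGen
import Groth.Agent.Lib.Helper13.ModSiteFreeOn
import Groth.Agent.S0862

/-!
# `j_{U!} O_U` is compact for bounded below sums, from abelian sheaf cohomology
-/

set_option autoImplicit false
universe u
open CategoryTheory CategoryTheory.Limits Opposite
open Groth.Agent.Lib.Helper2.ModHomAcyclic Groth.Agent.Lib.Helper13.ModSiteFreeOn

namespace Groth.Agent.Lib.Helper5.CompactMod

variable {C : Type u} [SmallCategory C] {J : GrothendieckTopology C} (O : Sheaf J CommRingCat.{u})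

/-- `j_{U!} O_U ≅ O ⊗_ℤ ℤ_U`. -/
noncomputable def freeOnIsoLO (U : C) :
    ModSite.freeOn O U ≅ (LO O).obj (CohCx.freeSheaf J U) :=
  isoOfCorepr (F := fun M : ModSite.Mod O => M.val.obj (op U))
    (fun f x => f.val.app (op U) x)
    (freeOnHomEquiv O U) (fun M => ((ModGen.gen O).ev U M).toEquiv)
    (fun h f => freeOnHomEquiv_naturality O U h f)
    (fun h f => (ModGen.gen O).ev_comp U h f)

section

open Abelian Groth.Agent.Lib.Helper13.ExtAdj

variable [HasExt.{u} (ModSite.Mod O)] [HasExt.{u} (Sheaf J AddCommGrpCat.{u})]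

lemma hR (U : C) : ∀ I : ModSite.Mod O, Injective I → ∀ (n : ℕ)
    (x : Ext.{u} (CohCx.freeSheaf J U) ((toAbF O).obj I) (n + 1)), x = 0 := by
  intro I hI n x
  exact PushAcyclic.cAcyc_of_isTotallyAcyclic J _
    (Groth.Agent.Lib.Helper2.ExtUnitH.isTotallyAcyclic_of_injective O I) U n x

/-- `Ext^p_O(O ⊗ ℤ_U, -) ≅ Ext^p_ℤ(ℤ_U, -)` as functors on `Mod O`. -/
noncomputable def extIso (p : ℕ) (U : C) :
    (extFunctor.{u} p).obj (op ((LO O).obj (CohCx.freeSheaf J U))) ≅
      toAbF O ⋙ (extFunctor.{u} p).obj (op (CohCx.freeSheaf J U)) :=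
  haveI : EnoughInjectives (ModSite.Mod O) :=
    Groth.Agent.Lib.Helper13.ModGrothendieck.enoughInjectives (ModSite.ringSh O)
  NatIso.ofComponents
    (fun Y => (ExtAdjAcyclic.extAdjEquivAcyclic (adjLO O) (CohCx.freeSheaf J U)
      (hR O U) Y p).toAddCommGrpIso)
    (by
      intro Y Y' f
      ext z
      change extAdjMap (adjLO O) (CohCx.freeSheaf J U) Y' p (z.comp (Ext.mk₀ f) (add_zero p)) =
        (extAdjMap (adjLO O) (CohCx.freeSheaf J U) Y p z).comp
          (Ext.mk₀ ((toAbF O).map f)) (add_zero p)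
      have key : ∀ z' : Ext.{u} ((LO O).obj (CohCx.freeSheaf J U)) Y p,
          extAdjMap (adjLO O) (CohCx.freeSheaf J U) Y' p (z'.comp (Ext.mk₀ f) (add_zero p)) =
          (extAdjMap (adjLO O) (CohCx.freeSheaf J U) Y p z').comp
            (Ext.mk₀ ((toAbF O).map f)) (add_zero p) := by
        intro z'
        rw [extAdjMap_comp, Ext.mapExactFunctor_mk₀]
      exact key z)

end

section Main

open DerivedCategory Groth.Agent.Lib.Helper5.CompactBdd Groth.Agent.Lib.Helper2.CompactEnv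
open CoproductsFromFiniteFiltered

variable [HasPullbacks C]
    (B : Set C) (Cov : ∀ (U : C) (ι : Type u), (ι → Over U) → Prop)
    (h1 : ∀ (U : C) (ι : Type u) (Y : ι → Over U), Cov U ι Y → Finite ι ∧ U ∈ B ∧
      Sieve.ofArrows (fun i => (Y i).left) (fun i => (Y i).hom) ∈ J U ∧
      ∀ (p : ℕ) (a : Fin (p + 1) → ι), (∏ᶜ fun k => Y (a k)).left ∈ B)
    (h2 : ∀ U ∈ B, ∀ T ∈ J U, ∃ (ι : Type u) (Y : ι → Over U), Cov U ι Y ∧ ∀ i, T.arrows (Y i).hom)
    [HasDerivedCategory.{u} (ModSite.Mod O)]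

include h1 h2 in
theorem isFin_freeOn (U : C) (hU : U ∈ B) {I : Type u}
    (M : I → DerivedCategory (ModSite.Mod O)) [HasCoproduct M]
    (a : ℤ) (hM : ∀ i, (M i).IsGE a)
    (φ : (DerivedCategory.singleFunctor (ModSite.Mod O) 0).obj (ModSite.freeOn O U) ⟶ ∐ M) :
    IsFin M φ := by
  haveI : ∀ κ : Type u, HasExactColimitsOfShape (Discrete κ) (ModSite.Mod O) :=
    fun κ => Groth.Agent.Lib.Helper13.ModSiteFlat.hasExactColimitsOfShape_mod O (Discrete κ)
  let E' : ModSite.Mod O := (LO O).obj (CohCx.freeSheaf J U)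
  let e : (DerivedCategory.singleFunctor (ModSite.Mod O) 0).obj (ModSite.freeOn O U) ≅
      (DerivedCategory.singleFunctor (ModSite.Mod O) 0).obj E' :=
    (DerivedCategory.singleFunctor (ModSite.Mod O) 0).mapIso (freeOnIsoLO O U)
  have hcl : ∀ (p : ℕ) (κ : Type u) (Bf : κ → ModSite.Mod O) (x : Abelian.Ext.{u} E' (∐ Bf) p),
      x ∈ AddSubgroup.closure (⋃ i, Set.range
        (fun z : Abelian.Ext.{u} E' (Bf i) p =>
          z.comp (Abelian.Ext.mk₀ (Sigma.ι Bf i)) (add_zero p))) := by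
    intro p κ Bf x
    haveI : PreservesColimit (liftToFinsetObj (Discrete.functor Bf) ⋙ toAbF O)
        ((Abelian.extFunctor.{u} p).obj (op (CohCx.freeSheaf J U))) :=
      Groth.Agent.S0862.result J B Cov h1 h2 U hU p (Finset (Discrete κ))
        (liftToFinsetObj (Discrete.functor Bf) ⋙ toAbF O)
    haveI : PreservesColimit (liftToFinsetObj (Discrete.functor Bf))
        (toAbF O ⋙ (Abelian.extFunctor.{u} p).obj (op (CohCx.freeSheaf J U))) :=
      inferInstance
    haveI : PreservesColimit (liftToFinsetObj (Discrete.functor Bf))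
        ((Abelian.extFunctor.{u} p).obj (op E')) :=
      preservesColimit_of_natIso _ (extIso O p U).symm
    haveI : ((Abelian.extFunctor.{u} p).obj (op E')).Additive :=
      inferInstanceAs ((Abelian.extFunctorObj E' p).Additive)
    exact mem_closure_of_preserves_filtered ((Abelian.extFunctor.{u} p).obj (op E')) Bf x
  have h3 : IsFin M (e.inv ≫ φ) :=
    isFin_of_isGE _ (isFin_single_of_closure E' hcl) a M hM _
  have h4 := h3.precomp e.hom
  rwa [e.hom_inv_id_assoc] at h4

end Main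

end Groth.Agent.Lib.Helper5.CompactMod
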