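import Mathlib.CategoryTheory.Sites.PrecoverageToGrothendieck
import Mathlib.CategoryTheory.Sites.IsSheafFor
import Mathlib.CategoryTheory.Sites.Sheaf

/-!
# Composite covers for the topology generated by two precoverages (SGA 3 IV 6.2.1)
-/

set_option autoImplicit false
open CategoryTheory Limits
universe w v₁ u₁

namespace Groth.Agent.Lib.Helper5.CompositeCover

variable {C : Type u₁} [Category.{v₁} C]

/-- The sieve `S'` contains a composite family `P' ∘ P` with middle sources in `C'`. -/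
def Comp (C' : C → Prop) (P P' : Precoverage C) {X : C} (S' : Sieve X) : Prop :=
  ∃ R : Presieve X, R ∈ P X ∧ (∀ ⦃Y : C⦄ ⦃f : Y ⟶ X⦄, R f → C' Y) ∧
    ∀ ⦃Y : C⦄ ⦃f : Y ⟶ X⦄, R f →
      ∃ R' : Presieve Y, R' ∈ P' Y ∧ ∀ ⦃Z : C⦄ ⦃g : Z ⟶ Y⦄, R' g → S' (g ≫ f)

/-- Indexed version of `Comp`. -/
def CompI (C' : C → Prop) (P P' : Precoverage C) {X : C} (S' : Sieve X) : Prop :=
  ∃ (ι : Type (max u₁ v₁)) (Y : ι → C) (f : ∀ i, Y i ⟶ X),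
    Presieve.ofArrows Y f ∈ P X ∧ (∀ i, C' (Y i)) ∧
    ∀ i, ∃ R' : Presieve (Y i), R' ∈ P' (Y i) ∧ ∀ ⦃Z : C⦄ ⦃g : Z ⟶ Y i⦄, R' g → S' (g ≫ f i)

variable {C' : C → Prop} {P P' : Precoverage C}

lemma comp_of_compI {X : C} {S' : Sieve X} (h : CompI C' P P' S') : Comp C' P P' S' := by
  obtain ⟨ι, Y, f, hP, hC, hR⟩ := h
  refine ⟨Presieve.ofArrows Y f, hP, ?_, ?_⟩
  · rintro _ _ ⟨i⟩; exact hC i
  · rintro _ _ ⟨i⟩; exact hR i

lemma compI_of_comp {X : C} {S' : Sieve X} (h : Comp C' P P' S') : CompI C' P P' S' := by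
  obtain ⟨R, hP, hC, hR⟩ := h
  obtain ⟨ι, Y, f, rfl⟩ := R.exists_eq_ofArrows
  exact ⟨ι, Y, f, hP, fun i => hC ⟨i⟩, fun i => hR ⟨i⟩⟩

lemma hbI (hb : ∀ X : C, ∃ R ∈ P X, ∀ ⦃Y : C⦄ ⦃f : Y ⟶ X⦄, R f → C' Y) (X : C) :
    ∃ (ι : Type (max u₁ v₁)) (Y : ι → C) (f : ∀ i, Y i ⟶ X),
      Presieve.ofArrows Y f ∈ P X ∧ ∀ i, C' (Y i) := by
  obtain ⟨R, hR, hC⟩ := hb X
  obtain ⟨ι, Y, f, rfl⟩ := R.exists_eq_ofArrows
  exact ⟨ι, Y, f, hR, fun i => hC ⟨i⟩⟩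

lemma refine [P.IsStableUnderComposition]
    (hb : ∀ X : C, ∃ R ∈ P X, ∀ ⦃Y : C⦄ ⦃f : Y ⟶ X⦄, R f → C' Y)
    {X : C} {ι : Type (max u₁ v₁)} {Y : ι → C} (f : ∀ i, Y i ⟶ X)
    (hf : Presieve.ofArrows Y f ∈ P X) :
    ∃ (σ : ι → Type (max u₁ v₁)) (Z : ∀ i, σ i → C) (g : ∀ i k, Z i k ⟶ Y i),
      Presieve.ofArrows (fun p : Σ i, σ i => Z p.1 p.2) (fun p => g p.1 p.2 ≫ f p.1) ∈ P X ∧
      ∀ i k, C' (Z i k) := by
  choose σ Z g hg hC using fun i => hbI hb (Y i)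
  exact ⟨σ, Z, g, P.comp_mem_coverings f hf g hg, hC⟩

section
variable [P.HasPullbacks] [P.IsStableUnderBaseChange] [P.IsStableUnderComposition]
    (hP'C : ∀ ⦃X : C⦄ ⦃R : Presieve X⦄, R ∈ P' X → C' X ∧ ∀ ⦃Y : C⦄ ⦃f : Y ⟶ X⦄, R f → C' Y)
    (hP'id : ∀ ⦃X : C⦄, C' X → Presieve.singleton (𝟙 X) ∈ P' X)
    (ha : ∀ ⦃X : C⦄ ⦃R : Presieve X⦄, R ∈ P' X → ∀ ⦃T : C⦄ (g : T ⟶ X), C' T →
      ∃ _ : R.HasPullbacks g, Presieve.pullbackArrows g R ∈ P' T)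
    (hb : ∀ X : C, ∃ R ∈ P X, ∀ ⦃Y : C⦄ ⦃f : Y ⟶ X⦄, R f → C' Y)
    (hc : ∀ ⦃S : C⦄ ⦃R₁ : Presieve S⦄, R₁ ∈ P' S →
      ∀ (R₂ : ∀ ⦃Y : C⦄ ⦃f : Y ⟶ S⦄, R₁ f → Presieve Y),
        (∀ ⦃Y : C⦄ ⦃f : Y ⟶ S⦄ (hf : R₁ f), R₂ hf ∈ P Y ∧ ∀ ⦃Z : C⦄ ⦃g : Z ⟶ Y⦄, R₂ hf g → C' Z) →
      ∀ (R₃ : ∀ ⦃Y : C⦄ ⦃f : Y ⟶ S⦄ (hf : R₁ f) ⦃Z : C⦄ ⦃g : Z ⟶ Y⦄, R₂ hf g → Presieve Z),
        (∀ ⦃Y : C⦄ ⦃f : Y ⟶ S⦄ (hf : R₁ f) ⦃Z : C⦄ ⦃g : Z ⟶ Y⦄ (hg : R₂ hf g), R₃ hf hg ∈ P' Z) →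
      ∃ T ∈ P' S, ∀ ⦃W : C⦄ ⦃q : W ⟶ S⦄, T q →
        ∃ (Y Z V : C) (f : Y ⟶ S) (hf : R₁ f) (g : Z ⟶ Y) (hg : R₂ hf g) (h : V ⟶ Z) (_ : R₃ hf hg h)
          (r : W ⟶ V), r ≫ h ≫ g ≫ f = q)

include hP'id hb in
lemma compI_of_P {X : C} {R : Presieve X} (hR : R ∈ P X) :
    CompI C' P P' (Sieve.generate R) := by
  obtain ⟨ι, Y, f, rfl⟩ := R.exists_eq_ofArrows
  obtain ⟨σ, Z, g, hg, hC⟩ := refine hb f hR
  refine ⟨Σ i, σ i, _, _, hg, fun p => hC p.1 p.2,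
    fun p => ⟨Presieve.singleton (𝟙 _), hP'id (hC p.1 p.2), ?_⟩⟩
  rintro _ _ ⟨⟩
  rw [Category.id_comp]
  exact ⟨_, g p.1 p.2, f p.1, ⟨p.1⟩, rfl⟩

include hP'id hb in
lemma compI_top (X : C) : CompI C' P P' (⊤ : Sieve X) := by
  obtain ⟨ι, Y, f, hf, hC⟩ := hbI hb X
  exact ⟨ι, Y, f, hf, hC, fun i => ⟨Presieve.singleton (𝟙 _), hP'id (hC i), fun _ _ _ => trivial⟩⟩

include hP'C ha hb in
lemma compI_of_P' {X : C} {R : Presieve X} (hR : R ∈ P' X) :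
    CompI C' P P' (Sieve.generate R) := by
  obtain ⟨ι, Y, f, hf, hC⟩ := hbI hb X
  refine ⟨ι, Y, f, hf, hC, fun i => ?_⟩
  obtain ⟨hpb, hmem⟩ := ha hR (f i) (hC i)
  refine ⟨_, hmem, ?_⟩
  rintro _ _ ⟨W, h, hh⟩
  have := R.hasPullback (f i) hh
  rw [← pullback.condition]
  exact ⟨_, _, _, hh, rfl⟩

include ha hb in
lemma compI_pullback {X : C} {S : Sieve X} (hS : CompI C' P P' S) {T : C} (u : T ⟶ X) :
    CompI C' P P' (S.pullback u) := by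
  obtain ⟨ι, Y, f, hf, hC, hR⟩ := hS
  have hpb : (Presieve.ofArrows Y f).HasPullbacks u := P.hasPullbacks_of_mem u hf
  have (i : ι) : HasPullback (f i) u := Presieve.hasPullback u (Presieve.ofArrows.mk i)
  have h1 : Presieve.ofArrows (fun i => pullback (f i) u) (fun i => pullback.snd (f i) u) ∈ P T :=
    P.mem_coverings_of_isPullback f hf u _ (fun i => pullback.fst (f i) u)
      fun i => (IsPullback.of_hasPullback _ _).flip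
  obtain ⟨σ, Z, g, hg, hCZ⟩ := refine hb _ h1
  refine ⟨Σ i, σ i, _, _, hg, fun p => hCZ p.1 p.2, fun p => ?_⟩
  obtain ⟨R', hR', hS'⟩ := hR p.1
  obtain ⟨hpb', hmem⟩ := ha hR' (g p.1 p.2 ≫ pullback.fst (f p.1) u) (hCZ p.1 p.2)
  refine ⟨_, hmem, ?_⟩
  rintro _ _ ⟨W, h, hh⟩
  have := R'.hasPullback (g p.1 p.2 ≫ pullback.fst (f p.1) u) hh
  change S ((pullback.snd h (g p.1 p.2 ≫ pullback.fst (f p.1) u) ≫
    g p.1 p.2 ≫ pullback.snd (f p.1) u) ≫ u)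
  have : (pullback.snd h (g p.1 p.2 ≫ pullback.fst (f p.1) u) ≫
      g p.1 p.2 ≫ pullback.snd (f p.1) u) ≫ u =
      pullback.fst h (g p.1 p.2 ≫ pullback.fst (f p.1) u) ≫ h ≫ f p.1 := by
    rw [Category.assoc, Category.assoc, ← pullback.condition, pullback.condition_assoc,
      Category.assoc]
  rw [this]
  exact S.downward_closed (hS' hh) _

include hc in
lemma compI_trans {X : C} {S T : Sieve X} (hS : CompI C' P P' S)
    (hT : ∀ ⦃Y : C⦄ ⦃f : Y ⟶ X⦄, S f → Comp C' P P' (T.pullback f)) :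
    CompI C' P P' T := by
  obtain ⟨ι, Y, f, hf, hC, hR⟩ := hS
  refine ⟨ι, Y, f, hf, hC, fun i => ?_⟩
  obtain ⟨R₁, hR₁, hS₁⟩ := hR i
  choose R₂ hR₂ hC₂ H using fun ⦃Z : C⦄ ⦃g : Z ⟶ Y i⦄ (hg : R₁ g) => hT (hS₁ hg)
  choose R₃ hR₃ hT₃ using H
  obtain ⟨T', hT', hfac⟩ := hc hR₁ (fun _ _ hg => R₂ hg) (fun _ _ hg => ⟨hR₂ hg, hC₂ hg⟩)
    (fun _ _ hg _ _ hg' => R₃ hg hg') (fun _ _ hg _ _ hg' => hR₃ hg hg')
  refine ⟨T', hT', fun W q hq => ?_⟩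
  obtain ⟨Y₁, Z₁, V₁, g, hg, g', hg', h, hh, r, rfl⟩ := hfac hq
  have := hT₃ hg hg' hh
  simp only [Sieve.pullback_apply, Category.assoc] at this
  simpa only [Category.assoc] using T.downward_closed this r

include hP'C hP'id ha hb hc in
theorem compI_of_mem {X : C} {S : Sieve X} (hS : S ∈ (P ⊔ P').toGrothendieck X) :
    CompI C' P P' S := by
  induction hS with
  | of X R hR =>
    rcases hR with hR | hR
    · exact compI_of_P hP'id hb hR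
    · exact compI_of_P' hP'C ha hb hR
  | top X => exact compI_top hP'id hb X
  | pullback X S _ Y f ih => exact compI_pullback ha hb ih f
  | transitive X S R _ _ ih1 ih2 =>
    exact compI_trans hc ih1 fun _ _ hf => comp_of_compI (ih2 hf)

end

theorem mem_of_comp {X : C} {S : Sieve X} (hS : Comp C' P P' S) :
    S ∈ (P ⊔ P').toGrothendieck X := by
  obtain ⟨R, hR, -, hR'⟩ := hS
  refine (P ⊔ P').toGrothendieck.transitive
    (Precoverage.generate_mem_toGrothendieck (Or.inl hR : R ∈ (P ⊔ P') X)) S ?_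
  rintro Y f ⟨Y', h, g, hg, rfl⟩
  rw [Sieve.pullback_comp]
  refine (P ⊔ P').toGrothendieck.pullback_stable h ?_
  obtain ⟨R', hR'', hS'⟩ := hR' hg
  refine (P ⊔ P').toGrothendieck.superset_covering ?_
    (Precoverage.generate_mem_toGrothendieck (Or.inr hR'' : R' ∈ (P ⊔ P') Y'))
  rw [Sieve.generate_le_iff]
  intro Z k hk
  exact hS' hk

section Sheaf
variable {F : Cᵒᵖ ⥤ Type w}
  (hcomp : ∀ ⦃X : C⦄ ⦃S : Sieve X⦄, S ∈ (P ⊔ P').toGrothendieck X → CompI C' P P' S)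
  (hP : ∀ ⦃X : C⦄ ⦃R : Presieve X⦄, R ∈ P X → Presieve.IsSheafFor F R)
  (hP' : ∀ ⦃X : C⦄ ⦃R : Presieve X⦄, R ∈ P' X → Presieve.IsSheafFor F R)

include hcomp hP hP' in
lemma isSeparated : Presieve.IsSeparated (P ⊔ P').toGrothendieck F := by
  intro X S hS
  obtain ⟨ι, Y, f, hf, hC, hR⟩ := hcomp hS
  intro x t₁ t₂ h₁ h₂
  refine (hP hf).isSeparatedFor.ext ?_
  rintro _ _ ⟨i⟩
  obtain ⟨R', hR', hS'⟩ := hR i
  refine (hP' hR').isSeparatedFor.ext fun Z g hg => ?_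
  have e₁ := h₁ (g ≫ f i) (hS' hg)
  have e₂ := h₂ (g ≫ f i) (hS' hg)
  simp only [op_comp, Functor.map_comp_apply] at e₁ e₂
  exact e₁.trans e₂.symm

include hcomp hP hP' in
theorem isSheaf_of : Presieve.IsSheaf (P ⊔ P').toGrothendieck F := by
  have hsep := isSeparated hcomp hP hP'
  intro X S hS
  rw [← Presieve.isSeparatedFor_and_exists_isAmalgamation_iff_isSheafFor]
  refine ⟨hsep S hS, fun x hx => ?_⟩
  obtain ⟨ι, Y, f, hf, hC, hR⟩ := hcomp hS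
  choose R' hR' hS' using hR
  have hxs := hx.to_sieveCompatible
  have hxeq : ∀ ⦃V : C⦄ (k k' : V ⟶ X) (_ : k = k') (hk : S k) (hk' : S k'),
      x k hk = x k' hk' := by
    intro V k k' h hk hk'; subst h; rfl
  have hy : ∀ i, Presieve.FamilyOfElements.Compatible (P := F) (R := R' i)
      (fun Z (g : Z ⟶ Y i) (hg : R' i g) => x (g ≫ f i) (hS' i hg)) := by
    intro i Z₁ Z₂ W g₁ g₂ k₁ k₂ hk₁ hk₂ e
    exact hx g₁ g₂ (hS' i hk₁) (hS' i hk₂) (by rw [reassoc_of% e])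
  let z : ∀ i, F.obj (Opposite.op (Y i)) := fun i => (hP' (hR' i)).amalgamate _ (hy i)
  have hz : ∀ i ⦃Z⦄ (g : Z ⟶ Y i) (hg : R' i g),
      F.map g.op (z i) = x (g ≫ f i) (hS' i hg) :=
    fun i Z g hg => (hP' (hR' i)).valid_glue (hy i) g hg
  have hz' : ∀ i ⦃V⦄ (d : V ⟶ Y i) (_ : Sieve.generate (R' i) d) (hk : S (d ≫ f i)),
      F.map d.op (z i) = x (d ≫ f i) hk := by
    rintro i V d ⟨Z, c, g, hg, rfl⟩ hk
    rw [op_comp, Functor.map_comp_apply, hz i g hg, ← hxs]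
    exact hxeq _ _ (by simp) _ _
  have hzc : Presieve.Arrows.Compatible F f z := by
    intro i j W a b e
    have hK : (Sieve.generate (R' i)).pullback a ⊓ (Sieve.generate (R' j)).pullback b ∈
        (P ⊔ P').toGrothendieck W :=
      (P ⊔ P').toGrothendieck.intersection_covering
        ((P ⊔ P').toGrothendieck.pullback_stable a
          (Precoverage.generate_mem_toGrothendieck (Or.inr (hR' i) : R' i ∈ (P ⊔ P') (Y i))))
        ((P ⊔ P').toGrothendieck.pullback_stable b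
          (Precoverage.generate_mem_toGrothendieck (Or.inr (hR' j) : R' j ∈ (P ⊔ P') (Y j))))
    refine (hsep _ hK).ext ?_
    rintro V c ⟨hc₁, hc₂⟩
    have h1 : S ((c ≫ a) ≫ f i) := by
      obtain ⟨Z, c', g, hg, e'⟩ := hc₁
      rw [← e', Category.assoc]
      exact S.downward_closed (hS' i hg) c'
    have h2 : S ((c ≫ b) ≫ f j) := by
      obtain ⟨Z, c', g, hg, e'⟩ := hc₂
      rw [← e', Category.assoc]
      exact S.downward_closed (hS' j hg) c'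
    rw [← Functor.map_comp_apply, ← op_comp, ← Functor.map_comp_apply, ← op_comp,
      hz' i _ hc₁ h1, hz' j _ hc₂ h2]
    exact hxeq _ _ (by simp [e]) _ _
  obtain ⟨t, ht, -⟩ := (Presieve.isSheafFor_arrows_iff F f).1 (hP hf) z hzc
  refine ⟨t, fun Y' k hk => ?_⟩
  let T₀ : Sieve X :=
    { arrows := fun V m => ∃ i, ∃ d : V ⟶ Y i, Sieve.generate (R' i) d ∧ d ≫ f i = m
      downward_closed := by
        rintro V V' m ⟨i, d, hd, rfl⟩ e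
        exact ⟨i, e ≫ d, (Sieve.generate (R' i)).downward_closed hd e, by simp⟩ }
  have hT₀ : T₀ ∈ (P ⊔ P').toGrothendieck X :=
    mem_of_comp (C' := C') (comp_of_compI ⟨ι, Y, f, hf, hC, fun i => ⟨R' i, hR' i,
      fun Z g hg => ⟨i, g, ⟨_, 𝟙 _, g, hg, Category.id_comp _⟩, rfl⟩⟩⟩)
  refine (hsep _ ((P ⊔ P').toGrothendieck.pullback_stable k hT₀)).ext ?_
  rintro V c ⟨i, d, hd, e⟩
  have h1 : S (d ≫ f i) := by rw [e]; exact S.downward_closed hk c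
  rw [← Functor.map_comp_apply, ← op_comp, ← e, op_comp, Functor.map_comp_apply,
    ht i, hz' i d hd h1, ← hxs]
  exact hxeq _ _ e _ _

end Sheaf

end Groth.Agent.Lib.Helper5.CompositeCover
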