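import Groth.Agent.Lib.Helper5.ToposCohColim

/-!
# The constant sheaf `ℤ` is the free abelian sheaf on the terminal sheaf of sets (helper5)
-/

set_option autoImplicit false
universe u

open CategoryTheory CategoryTheory.Limits Opposite

noncomputable section

namespace Groth.Agent.Lib.Helper5.ConstFree

open Groth.Agent.Lib.Helper5.CechFlasque

variable {C : Type u} [SmallCategory C] (J : GrothendieckTopology C)

/-- free abelian presheaf on a presheaf of singletons is constant `ℤ` -/
def freePreIsoConst (P : Cᵒᵖ ⥤ Type u) [∀ V, Unique (P.obj V)] :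
    P ⋙ AddCommGrpCat.free.{u} ≅ (Functor.const Cᵒᵖ).obj (AddCommGrpCat.of (ULift.{u} ℤ)) :=
  NatIso.ofComponents (fun V =>
    (AddEquiv.toAddCommGrpIso
      ((FreeAbelianGroup.uniqueEquiv (P.obj V)).trans AddEquiv.ulift.symm))) (by
    intro V V' g
    apply AddCommGrpCat.hom_ext
    apply FreeAbelianGroup.lift_ext
    intro f
    show AddEquiv.ulift.symm ((FreeAbelianGroup.uniqueEquiv (P.obj V'))
        (FreeAbelianGroup.map (P.map g) (FreeAbelianGroup.of f))) =
      AddEquiv.ulift.symm ((FreeAbelianGroup.uniqueEquiv (P.obj V)) (FreeAbelianGroup.of f))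
    rw [FreeAbelianGroup.map_of_apply]
    simp [FreeAbelianGroup.uniqueEquiv])

instance uniqueTerminalSections (V : Cᵒᵖ) : Unique ((⊤_ (Sheaf J (Type u))).obj.obj V) :=
  Types.isTerminalEquivUnique _
    (terminalIsTerminal.isTerminalObj (sheafToPresheaf J (Type u) ⋙ (evaluation _ _).obj V))

/-- the constant sheaf `ℤ` is the free abelian sheaf on the terminal sheaf of sets -/
def constIsoΦTerminal :
    (constantSheaf J AddCommGrpCat.{u}).obj (AddCommGrpCat.of (ULift.{u} ℤ)) ≅
      (Φ J).obj (⊤_ (Sheaf J (Type u))) :=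
  (presheafToSheaf J AddCommGrpCat.{u}).mapIso
    (freePreIsoConst (⊤_ (Sheaf J (Type u))).obj).symm

/-- the constant sheaf `ℤ` -/
abbrev Zc : Sheaf J AddCommGrpCat.{u} :=
  (constantSheaf J AddCommGrpCat.{u}).obj (AddCommGrpCat.of (ULift.{u} ℤ))

/-- `H^q(E, -)` is the `Ext` functor out of the constant sheaf -/
def functorHIso₀ (q : ℕ) :
    (Sheaf.functorH J q : Sheaf J AddCommGrpCat.{u} ⥤ AddCommGrpCat.{u}) ≅
      Abelian.extFunctorObj.{u} (Zc J) q :=
  NatIso.ofComponents (fun X => Iso.refl ((Abelian.extFunctorObj.{u} (Zc J) q).obj X))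
    (fun {X Y} f => by
      show (Abelian.extFunctorObj.{u} (Zc J) q).map f ≫ 𝟙 _ =
        𝟙 _ ≫ (Abelian.extFunctorObj.{u} (Zc J) q).map f
      rw [Category.comp_id, Category.id_comp])

/-- `H^q(E, -)` as an `Ext` functor out of the free abelian sheaf on the terminal object -/
def functorHIso (q : ℕ) :
    (Sheaf.functorH J q : Sheaf J AddCommGrpCat.{u} ⥤ AddCommGrpCat.{u}) ≅
      Abelian.extFunctorObj.{u} ((Φ J).obj (⊤_ (Sheaf J (Type u)))) q :=
  functorHIso₀ J q ≪≫ ((Abelian.extFunctor.{u} q).mapIso (constIsoΦTerminal J).symm.op)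

end Groth.Agent.Lib.Helper5.ConstFree
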