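import Mathlib

/-!
# The cochain complex of a contravariant functor on an augmented simplicial object
with an extra degeneracy (helper5)
-/

set_option autoImplicit false

namespace Groth.Agent.Lib.Helper5.CosimpExact

open CategoryTheory CategoryTheory.Limits Opposite Simplicial

universe v u v' u'

variable {T : Type u'} [Category.{v'} T] {C : Type u} [Category.{v} C] [Abelian C]
  (Ψ : Tᵒᵖ ⥤ C) (X : SimplicialObject.Augmented T)

/-- The augmented simplicial object in `Cᵒᵖ`. -/
abbrev Y : SimplicialObject.Augmented Cᵒᵖ :=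
  ((SimplicialObject.Augmented.whiskering _ _).obj Ψ.rightOp).obj X

/-- The alternating face map complex in `Cᵒᵖ`. -/
noncomputable abbrev K : ChainComplex Cᵒᵖ ℕ :=
  AlgebraicTopology.AlternatingFaceMapComplex.obj (SimplicialObject.Augmented.drop.obj (Y Ψ X))

/-- The cochain complex `Ψ(X_0) ⟶ Ψ(X_1) ⟶ ⋯`, extended by zero to the integers. -/
noncomputable def R : CochainComplex C ℤ :=
  ((K Ψ X).unop : HomologicalComplex C (ComplexShape.up ℕ)).extend ComplexShape.embeddingUpNat

/-- The terms. -/
noncomputable def RXIso (n : ℕ) : (R Ψ X).X (n : ℤ) ≅ Ψ.obj (op (X.left.obj (op ⦋n⦌))) :=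
  HomologicalComplex.extendXIso _ ComplexShape.embeddingUpNat (i := n) rfl

lemma isZero_RX_of_neg (p : ℤ) (hp : p < 0) : IsZero ((R Ψ X).X p) := by
  apply HomologicalComplex.isZero_extend_X
  intro i h
  change (i : ℤ) = p at h
  omega

variable (ed : SimplicialObject.Augmented.ExtraDegeneracy X)

include ed in
lemma isZero_homology (p : ℤ) (hp : p ≠ 0) : IsZero ((R Ψ X).homology p) := by
  by_cases h : 0 ≤ p
  · obtain ⟨n, rfl⟩ := Int.eq_ofNat_of_zero_le h
    have hn : n ≠ 0 := by rintro rfl; exact hp rfl
    refine IsZero.of_iso ?_ (HomologicalComplex.extendHomologyIso _ ComplexShape.embeddingUpNat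
      (j := n) rfl)
    refine IsZero.of_iso ?_ (HomologicalComplex.homologyUnop (K Ψ X) n)
    have h1 := (ed.map Ψ.rightOp).homotopyEquiv.toHomologyIso n
    have h2 : IsZero (((ChainComplex.single₀ Cᵒᵖ).obj
        (SimplicialObject.Augmented.point.obj (Y Ψ X))).homology n) :=
      HomologicalComplex.isZero_single_obj_homology (ComplexShape.down ℕ) 0 _ n hn
    exact (IsZero.of_iso h2 h1).unop
  · rw [← HomologicalComplex.exactAt_iff_isZero_homology]
    apply HomologicalComplex.extend_exactAt
    intro i h'
    change (i : ℤ) = p at h'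
    omega

/-- The zeroth cohomology is the value at the augmentation. -/
noncomputable def homologyZeroIso (ed : SimplicialObject.Augmented.ExtraDegeneracy X) :
    (R Ψ X).homology 0 ≅ Ψ.obj (op X.right) :=
  HomologicalComplex.extendHomologyIso _ ComplexShape.embeddingUpNat (j := 0) rfl ≪≫
    HomologicalComplex.homologyUnop (K Ψ X) 0 ≪≫
    (((ed.map Ψ.rightOp).homotopyEquiv.toHomologyIso 0) ≪≫
      (HomologicalComplex.singleObjHomologySelfIso (ComplexShape.down ℕ) 0
        (SimplicialObject.Augmented.point.obj (Y Ψ X)))).symm.unop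

end Groth.Agent.Lib.Helper5.CosimpExact
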