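import Mathlib
import Groth.Agent.Lib.Helper2.GSS.DimShift

/-!
# Helper5: `Rⁿ lim` over the simplex category is computed by the alternating coface map complex
-/

set_option autoImplicit false
universe v u
open CategoryTheory CategoryTheory.Limits Opposite Simplicial AlgebraicTopology

namespace Groth.Agent.Lib.Helper5.CosimpLim

variable {𝒜 : Type u} [Category.{v} 𝒜] [Abelian 𝒜]

/-- the alternating coface map complex functor on cosimplicial objects -/
abbrev G (𝒜 : Type u) [Category.{v} 𝒜] [Abelian 𝒜] :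
    (SimplexCategory ⥤ 𝒜) ⥤ CochainComplex 𝒜 ℕ := alternatingCofaceMapComplex 𝒜

lemma G_map_f {X Y : SimplexCategory ⥤ 𝒜} (f : X ⟶ Y) (n : ℕ) :
    ((G 𝒜).map f).f n = f.app ⦋n⦌ := rfl

lemma G_obj_d (X : SimplexCategory ⥤ 𝒜) (n : ℕ) :
    ((G 𝒜).obj X).d n (n + 1) = AlternatingCofaceMapComplex.objD X n := by
  dsimp only [G, alternatingCofaceMapComplex, AlternatingCofaceMapComplex.obj]
  rw [CochainComplex.of_d]

instance additive_G : (G 𝒜).Additive where
  map_add {X Y f g} := by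
    ext n
    rfl

lemma shortExact_map_G (S : ShortComplex (SimplexCategory ⥤ 𝒜)) (hS : S.ShortExact) :
    (S.map (G 𝒜)).ShortExact := by
  apply HomologicalComplex.shortExact_of_degreewise_shortExact
  intro n
  exact hS.map_of_exact ((evaluation SimplexCategory 𝒜).obj ⦋n⦌)

section H0

variable (K : CochainComplex 𝒜 ℕ)

/-- the inclusion of `H⁰` into the degree zero term -/
noncomputable def ιH : K.homology 0 ⟶ K.X 0 := K.isoHomologyπ₀.inv ≫ K.iCycles 0

instance : Mono (ιH K) := mono_comp _ _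

lemma ιH_d : ιH K ≫ K.d 0 1 = 0 := by
  dsimp only [ιH]
  rw [Category.assoc, HomologicalComplex.iCycles_d, comp_zero]

/-- lifting cycles to `H⁰` -/
noncomputable def liftH {Z : 𝒜} (z : Z ⟶ K.X 0) (hz : z ≫ K.d 0 1 = 0) : Z ⟶ K.homology 0 :=
  K.liftCycles z 1 (by simp) hz ≫ K.homologyπ 0

lemma liftH_ι {Z : 𝒜} (z : Z ⟶ K.X 0) (hz : z ≫ K.d 0 1 = 0) : liftH K z hz ≫ ιH K = z := by
  dsimp only [liftH, ιH]
  rw [Category.assoc, ← Category.assoc (K.homologyπ 0)]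
  have : K.homologyπ 0 ≫ K.isoHomologyπ₀.inv = 𝟙 _ := K.isoHomologyπ₀.hom_inv_id
  rw [this, Category.id_comp, HomologicalComplex.liftCycles_i]

variable {K} in
lemma ιH_naturality {L : CochainComplex 𝒜 ℕ} (φ : K ⟶ L) :
    HomologicalComplex.homologyMap φ 0 ≫ ιH L = ιH K ≫ φ.f 0 := by
  dsimp only [ιH]
  rw [CochainComplex.isoHomologyπ₀_inv_naturality_assoc, HomologicalComplex.cyclesMap_i,
    Category.assoc]

end H0

section Lim

variable (F : SimplexCategory ⥤ 𝒜)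

lemma d01 : ((G 𝒜).obj F).d 0 1 =
    F.map (SimplexCategory.δ (0 : Fin 2)) - F.map (SimplexCategory.δ (1 : Fin 2)) := by
  rw [G_obj_d]
  dsimp only [AlternatingCofaceMapComplex.objD]
  rw [Fin.sum_univ_two]
  simp only [Fin.val_zero, pow_zero, one_smul, Fin.val_one, pow_one, neg_smul]
  exact (sub_eq_add_neg _ _).symm

lemma comp_d01_eq_zero_iff {Z : 𝒜} (z : Z ⟶ F.obj ⦋0⦌) :
    (show Z ⟶ ((G 𝒜).obj F).X 0 from z) ≫ ((G 𝒜).obj F).d 0 1 = 0 ↔
      z ≫ F.map (SimplexCategory.δ (0 : Fin 2)) = z ≫ F.map (SimplexCategory.δ (1 : Fin 2)) := by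
  rw [d01]
  have h : z ≫ (F.map (SimplexCategory.δ (0 : Fin 2)) - F.map (SimplexCategory.δ (1 : Fin 2))) = 0 ↔
      z ≫ F.map (SimplexCategory.δ (0 : Fin 2)) = z ≫ F.map (SimplexCategory.δ (1 : Fin 2)) := by
    rw [Preadditive.comp_sub, sub_eq_zero]
  exact h

/-- the inclusion of `H⁰` into the degree zero term -/
noncomputable def ι0 : ((G 𝒜).obj F).homology 0 ⟶ F.obj ⦋0⦌ := ιH ((G 𝒜).obj F)

instance : Mono (ι0 F) := inferInstanceAs (Mono (ιH ((G 𝒜).obj F)))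

lemma ι0_δ : ι0 F ≫ F.map (SimplexCategory.δ (0 : Fin 2)) =
    ι0 F ≫ F.map (SimplexCategory.δ (1 : Fin 2)) := by
  exact (comp_d01_eq_zero_iff F (ι0 F)).1 (ιH_d ((G 𝒜).obj F))

lemma ι0_const {l : ℕ} (b : Fin (l + 1)) :
    ι0 F ≫ F.map (SimplexCategory.const ⦋0⦌ ⦋l⦌ b) =
      ι0 F ≫ F.map (SimplexCategory.const ⦋0⦌ ⦋l⦌ 0) := by
  have e0 : SimplexCategory.δ (0 : Fin 2) ≫ SimplexCategory.mkOfLe 0 b (Fin.zero_le b) =
      SimplexCategory.const ⦋0⦌ ⦋l⦌ b := by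
    ext i
    fin_cases i
    rfl
  have e1 : SimplexCategory.δ (1 : Fin 2) ≫ SimplexCategory.mkOfLe 0 b (Fin.zero_le b) =
      SimplexCategory.const ⦋0⦌ ⦋l⦌ 0 := by
    ext i
    fin_cases i
    rfl
  rw [← e0, ← e1, F.map_comp, F.map_comp, reassoc_of% (ι0_δ F)]

/-- the cone with vertex `H⁰` -/
noncomputable def cone0 : Cone F where
  pt := ((G 𝒜).obj F).homology 0
  π :=
    { app := fun x => ι0 F ≫ F.map (SimplexCategory.const ⦋0⦌ x 0)
      naturality := by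
        intro x y g
        dsimp
        rw [Category.id_comp, Category.assoc, ← F.map_comp, SimplexCategory.const_comp]
        exact (ι0_const F (l := y.len) _).symm }

lemma cone0_π_zero : (cone0 F).π.app ⦋0⦌ = ι0 F := by
  dsimp only [cone0]
  have : SimplexCategory.const ⦋0⦌ ⦋0⦌ 0 = 𝟙 _ := by
    ext i; fin_cases i; rfl
  rw [this, F.map_id, Category.comp_id]

/-- the lift to `H⁰` -/
noncomputable def lift0 (s : Cone F) : s.pt ⟶ ((G 𝒜).obj F).homology 0 :=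
  liftH ((G 𝒜).obj F) (s.π.app ⦋0⦌) ((comp_d01_eq_zero_iff F (s.π.app ⦋0⦌)).2
    ((s.w (SimplexCategory.δ (0 : Fin 2))).trans (s.w (SimplexCategory.δ (1 : Fin 2))).symm))

lemma lift0_ι0 (s : Cone F) : lift0 F s ≫ ι0 F = s.π.app ⦋0⦌ :=
  liftH_ι ((G 𝒜).obj F) _ _

/-- `H⁰` of the coface complex is the limit -/
noncomputable def isLimitCone0 : IsLimit (cone0 F) where
  lift s := lift0 F s
  fac s x := by
    change lift0 F s ≫ ι0 F ≫ F.map (SimplexCategory.const ⦋0⦌ x 0) = s.π.app x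
    rw [reassoc_of% (lift0_ι0 F s)]
    exact s.w _
  uniq s m hm := by
    have hm0 := hm ⦋0⦌
    rw [cone0_π_zero] at hm0
    apply (cancel_mono (ι0 F)).1
    exact hm0.trans (lift0_ι0 F s).symm

end Lim

section NatIso

variable (𝒜) [HasLimitsOfShape SimplexCategory 𝒜]

variable {𝒜} in
/-- `H⁰` of the coface complex is the limit -/
noncomputable def e0 (F : SimplexCategory ⥤ 𝒜) : ((G 𝒜).obj F).homology 0 ≅ limit F :=
  (isLimitCone0 F).conePointUniqueUpToIso (limit.isLimit F)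

variable {𝒜} in
lemma e0_hom_π (F : SimplexCategory ⥤ 𝒜) (x : SimplexCategory) :
    (e0 F).hom ≫ limit.π F x = ι0 F ≫ F.map (SimplexCategory.const ⦋0⦌ x 0) :=
  IsLimit.conePointUniqueUpToIso_hom_comp (isLimitCone0 F) (limit.isLimit F) x

omit [HasLimitsOfShape SimplexCategory 𝒜] in
variable {𝒜} in
lemma ι0_naturality {F F' : SimplexCategory ⥤ 𝒜} (f : F ⟶ F') :
    HomologicalComplex.homologyMap ((G 𝒜).map f) 0 ≫ ι0 F' = ι0 F ≫ f.app ⦋0⦌ :=
  ιH_naturality ((G 𝒜).map f)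

/-- `H⁰ ∘ G ≅ lim` -/
noncomputable def h0Iso : Groth.Agent.Lib.Helper2.GSS.H0 (G 𝒜) ≅
    (lim : (SimplexCategory ⥤ 𝒜) ⥤ 𝒜) :=
  NatIso.ofComponents (fun F => e0 F) (by
      intro F F' f
      apply limit.hom_ext
      intro x
      change (HomologicalComplex.homologyMap ((G 𝒜).map f) 0 ≫ (e0 F').hom) ≫ limit.π F' x =
        ((e0 F).hom ≫ limMap f) ≫ limit.π F' x
      rw [Category.assoc, Category.assoc, limMap_π, e0_hom_π, reassoc_of% (e0_hom_π F x),
        reassoc_of% (ι0_naturality f)]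
      congr 1
      exact (f.naturality _).symm)

end NatIso

section RD

variable {C : Type*} [Category C] [Abelian C] [EnoughInjectives C] {D : Type*} [Category D]
  [Abelian D]

/-- isomorphic functors have isomorphic right derived functors -/
noncomputable def rightDerivedIso {F F' : C ⥤ D} [F.Additive] [F'.Additive] (e : F ≅ F') (n : ℕ) :
    F.rightDerived n ≅ F'.rightDerived n where
  hom := NatTrans.rightDerived e.hom n
  inv := NatTrans.rightDerived e.inv n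
  hom_inv_id := by rw [← NatTrans.rightDerived_comp, e.hom_inv_id, NatTrans.rightDerived_id]
  inv_hom_id := by rw [← NatTrans.rightDerived_comp, e.inv_hom_id, NatTrans.rightDerived_id]

end RD


section Coinduced

open SSet.Augmented.StandardSimplex

variable [HasLimitsOfSize.{0, 0} 𝒜] (A : ℕ → 𝒜)

/-- the index type of the coinduced cosimplicial object -/
abbrev Idx (x : SimplexCategory) : Type := Σ m : ℕ, (x ⟶ ⦋m⦌)

/-- the cosimplicial object `x ↦ ∏_{m, x ⟶ [m]} A m` -/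
noncomputable def E : SimplexCategory ⥤ 𝒜 where
  obj x := ∏ᶜ fun p : Idx x => A p.1
  map {x y} g := Pi.lift fun q : Idx y => Pi.π (fun p : Idx x => A p.1) ⟨q.1, g ≫ q.2⟩
  map_id x := by
    apply Pi.hom_ext
    intro q
    rw [Pi.lift_π, Category.id_comp, Category.id_comp]
  map_comp {x y z} f g := by
    apply Pi.hom_ext
    intro q
    have h1 : (Pi.lift fun q : Idx z => Pi.π (fun p : Idx y => A p.1) ⟨q.1, g ≫ q.2⟩) ≫
        Pi.π (fun p : Idx z => A p.1) q = Pi.π (fun p : Idx y => A p.1) ⟨q.1, g ≫ q.2⟩ :=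
      Pi.lift_π _ _
    have h2 : (Pi.lift fun q : Idx y => Pi.π (fun p : Idx x => A p.1) ⟨q.1, f ≫ q.2⟩) ≫
        Pi.π (fun p : Idx y => A p.1) ⟨q.1, g ≫ q.2⟩ =
          Pi.π (fun p : Idx x => A p.1) ⟨q.1, f ≫ g ≫ q.2⟩ :=
      Pi.lift_π _ _
    refine (Pi.lift_π _ _).trans ?_
    refine Eq.trans ?_ (Category.assoc _ _ _).symm
    rw [h1, h2, Category.assoc]

/-- projections of the coinduced object -/
noncomputable def Eπ (x : SimplexCategory) (p : Idx x) : (E A).obj x ⟶ A p.1 :=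
  Pi.π (fun p : Idx x => A p.1) p

/-- morphisms into the coinduced object -/
noncomputable def Elift {Z : 𝒜} (x : SimplexCategory) (f : ∀ p : Idx x, Z ⟶ A p.1) :
    Z ⟶ (E A).obj x :=
  Pi.lift f

omit [Abelian 𝒜] in
lemma Elift_π {Z : 𝒜} (x : SimplexCategory) (f : ∀ p : Idx x, Z ⟶ A p.1) (p : Idx x) :
    Elift A x f ≫ Eπ A x p = f p :=
  Pi.lift_π _ _

omit [Abelian 𝒜] in
lemma E_hom_ext {Z : 𝒜} {x : SimplexCategory} {f g : Z ⟶ (E A).obj x}
    (h : ∀ p : Idx x, f ≫ Eπ A x p = g ≫ Eπ A x p) : f = g :=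
  Pi.hom_ext _ _ h

omit [Abelian 𝒜] in
lemma E_map_π {x y : SimplexCategory} (g : x ⟶ y) (q : Idx y) :
    (E A).map g ≫ Eπ A y q = Eπ A x ⟨q.1, g ≫ q.2⟩ :=
  Pi.lift_π _ _

lemma δ_zero_shift {k : ℕ} {Δ : SimplexCategory} (φ : ⦋k⦌ ⟶ Δ) :
    SimplexCategory.δ (0 : Fin (k + 2)) ≫ shift φ = φ := by
  apply SimplexCategory.Hom.ext
  ext i : 2
  rfl

lemma δ_succ_shift {k : ℕ} {Δ : SimplexCategory} (φ : ⦋k + 1⦌ ⟶ Δ) (j : Fin (k + 2)) :
    SimplexCategory.δ j.succ ≫ shift φ = shift (SimplexCategory.δ j ≫ φ) := by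
  apply SimplexCategory.Hom.ext
  ext i : 2
  dsimp [SimplexCategory.δ]
  cases i using Fin.cases with
  | zero => first | rfl | (simp; done) | (simp; rfl)
  | succ i => first | rfl | (simp; done) | (simp; rfl)

/-- the contracting homotopy -/
noncomputable def hE (k : ℕ) : (E A).obj ⦋k + 1⦌ ⟶ (E A).obj ⦋k⦌ :=
  Elift A ⦋k⦌ fun p : Idx ⦋k⦌ => Eπ A ⦋k + 1⦌ ⟨p.1, shift p.2⟩

omit [Abelian 𝒜] in
lemma hE_π (k : ℕ) (p : Idx ⦋k⦌) :
    hE A k ≫ Eπ A ⦋k⦌ p = Eπ A ⦋k + 1⦌ ⟨p.1, shift p.2⟩ :=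
  Elift_π _ _ _ _

omit [Abelian 𝒜] in
lemma δ_zero_hE (k : ℕ) : (E A).map (SimplexCategory.δ (0 : Fin (k + 2))) ≫ hE A k = 𝟙 _ := by
  apply E_hom_ext
  intro p
  rw [Category.assoc, hE_π, E_map_π, Category.id_comp, δ_zero_shift]

omit [Abelian 𝒜] in
lemma δ_succ_hE (k : ℕ) (j : Fin (k + 2)) :
    (E A).map (SimplexCategory.δ j.succ) ≫ hE A (k + 1) =
      hE A k ≫ (E A).map (SimplexCategory.δ j) := by
  apply E_hom_ext
  intro p
  rw [Category.assoc, hE_π, E_map_π, Category.assoc, E_map_π, hE_π, δ_succ_shift]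

lemma homotopy_E (k : ℕ) :
    AlternatingCofaceMapComplex.objD (E A) (k + 1) ≫ hE A (k + 1) +
      hE A k ≫ AlternatingCofaceMapComplex.objD (E A) k = 𝟙 _ := by
  dsimp only [AlternatingCofaceMapComplex.objD]
  rw [Fin.sum_univ_succ, Preadditive.add_comp, Preadditive.sum_comp, Preadditive.comp_sum]
  have h0 : ((-1 : ℤ) ^ ((0 : Fin (k + 1 + 2)) : ℕ) • CosimplicialObject.δ (E A) 0) ≫
      hE A (k + 1) = 𝟙 _ := by
    rw [Fin.val_zero, pow_zero, one_smul]
    exact δ_zero_hE A (k + 1)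
  rw [h0, add_assoc, ← Finset.sum_add_distrib]
  have hs : ∀ j : Fin (k + 2),
      ((-1 : ℤ) ^ (j.succ : ℕ) • CosimplicialObject.δ (E A) j.succ) ≫ hE A (k + 1) +
      hE A k ≫ ((-1 : ℤ) ^ (j : ℕ) • CosimplicialObject.δ (E A) j) = 0 := by
    intro j
    rw [Preadditive.zsmul_comp, Preadditive.comp_zsmul]
    have := δ_succ_hE A k j
    change CosimplicialObject.δ (E A) j.succ ≫ hE A (k + 1) =
      hE A k ≫ CosimplicialObject.δ (E A) j at this
    rw [this, Fin.val_succ, pow_succ, mul_neg, mul_one, neg_smul, neg_add_cancel]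
  rw [Finset.sum_congr rfl (fun j _ => hs j), Finset.sum_const_zero, add_zero]

lemma exact_E (n : ℕ) {Z : 𝒜} (x : Z ⟶ (E A).obj ⦋n + 1⦌)
    (hx : x ≫ AlternatingCofaceMapComplex.objD (E A) (n + 1) = 0) :
    x = (x ≫ hE A n) ≫ AlternatingCofaceMapComplex.objD (E A) n := by
  have h := homotopy_E A n
  have h2 : x = x ≫ (AlternatingCofaceMapComplex.objD (E A) (n + 1) ≫ hE A (n + 1) +
      hE A n ≫ AlternatingCofaceMapComplex.objD (E A) n) := by
    rw [h]
    exact (Category.comp_id _).symm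
  rw [Preadditive.comp_add, reassoc_of% hx, zero_comp, zero_add] at h2
  rw [Category.assoc]
  exact h2

lemma isZero_homology_E (n : ℕ) : IsZero (((G 𝒜).obj (E A)).homology (n + 1)) := by
  rw [← HomologicalComplex.exactAt_iff_isZero_homology,
    HomologicalComplex.exactAt_iff_exact_up_to_refinements _ n (n + 1) (n + 2) (by simp) (by simp)]
  intro Z x₂ hx₂
  refine ⟨Z, 𝟙 Z, inferInstance, x₂ ≫ hE A n, ?_⟩
  rw [G_obj_d] at hx₂ ⊢
  rw [Category.id_comp]
  exact exact_E A n x₂ hx₂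

variable (I : SimplexCategory ⥤ 𝒜)

/-- the canonical embedding into the coinduced object -/
noncomputable def toE : I ⟶ E (fun m => I.obj ⦋m⦌) where
  app x := Elift (fun m => I.obj ⦋m⦌) x fun p : Idx x => I.map p.2
  naturality x y g := by
    apply E_hom_ext
    intro q
    rw [Category.assoc, Category.assoc, E_map_π, Elift_π, Elift_π, I.map_comp]

omit [Abelian 𝒜] in
lemma toE_π (x : SimplexCategory) (p : Idx x) :
    (toE I).app x ≫ Eπ (fun m => I.obj ⦋m⦌) x p = I.map p.2 :=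
  Elift_π (fun m => I.obj ⦋m⦌) x (fun p : Idx x => I.map p.2) p

instance mono_toE : Mono (toE I) := by
  have : ∀ x, Mono ((toE I).app x) := by
    intro x
    have h : (toE I).app x ≫ Eπ (fun m => I.obj ⦋m⦌) x ⟨x.len, 𝟙 x⟩ = 𝟙 _ := by
      rw [toE_π]
      exact I.map_id x
    exact mono_of_mono_fac h
  exact NatTrans.mono_of_mono_app _

lemma isZero_homology_of_injective [Injective I] (n : ℕ) :
    IsZero (((G 𝒜).obj I).homology (n + 1)) := by
  let r := Injective.factorThru (𝟙 I) (toE I)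
  have hr : toE I ≫ r = 𝟙 I := Injective.comp_factorThru _ _
  let Hn := G 𝒜 ⋙ HomologicalComplex.homologyFunctor 𝒜 (ComplexShape.up ℕ) (n + 1)
  have h1 : Hn.map (toE I) ≫ Hn.map r = 𝟙 _ := by
    rw [← Hn.map_comp, hr, Hn.map_id]
  have hz : IsZero (Hn.obj (E (fun m => I.obj ⦋m⦌))) := isZero_homology_E _ n
  change IsZero (Hn.obj I)
  rw [IsZero.iff_id_eq_zero, ← h1, hz.eq_of_tgt (Hn.map (toE I)) 0, zero_comp]

end Coinduced

section Main

variable (𝒜) [HasLimitsOfSize.{0, 0} 𝒜] [HasLimitsOfShape SimplexCategory 𝒜]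
  [EnoughInjectives (SimplexCategory ⥤ 𝒜)]
  [(lim : (SimplexCategory ⥤ 𝒜) ⥤ 𝒜).Additive]

theorem nonempty_rightDerived_lim_iso (F : SimplexCategory ⥤ 𝒜) (n : ℕ) :
    Nonempty (((lim : (SimplexCategory ⥤ 𝒜) ⥤ 𝒜).rightDerived n).obj F ≅
      ((alternatingCofaceMapComplex 𝒜).obj F).homology n) := by
  obtain ⟨e1⟩ := Groth.Agent.Lib.Helper2.GSS.nonempty_rightDerived_iso_homology (G 𝒜)
    (fun S hS => shortExact_map_G S hS)
    (fun I _ k => isZero_homology_of_injective I k) n F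
  exact ⟨(rightDerivedIso (h0Iso 𝒜).symm n).app F ≪≫ e1⟩

end Main

end Groth.Agent.Lib.Helper5.CosimpLim
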