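import Groth.Agent.Lib.Helper5.FilteredUnion

/-!
# Helper5: isomorphisms in the long exact cohomology sequence
-/

set_option autoImplicit false
universe u
open CategoryTheory CategoryTheory.Limits AlgebraicGeometry Opposite

namespace Groth.Agent.Lib.Helper5.HLes

variable {Z : Scheme.{u}}

lemma HF_map_apply {F G : EtCoh.Ab Z} (φ : F ⟶ G) (q : ℕ) (x : EtCoh.H Z F q) :
    ((EtCoh.HF Z q).map φ).hom x = x.comp (Abelian.Ext.mk₀ φ) (add_zero q) := rfl

theorem isIso_HF_map_g (S : ShortComplex (EtCoh.Ab Z)) (hS : S.ShortExact) (q : ℕ)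
    (h1 : Subsingleton (EtCoh.H Z S.X₁ q)) (h2 : Subsingleton (EtCoh.H Z S.X₁ (q + 1))) :
    IsIso ((EtCoh.HF Z q).map S.g) := by
  rw [ConcreteCategory.isIso_iff_bijective]
  constructor
  · refine (injective_iff_map_eq_zero ((EtCoh.HF Z q).map S.g).hom).2 ?_
    intro x₂ hx₂
    obtain ⟨x₁, hx₁⟩ := Abelian.Ext.covariant_sequence_exact₂ _ hS x₂ hx₂
    have h0 : x₁ = 0 := Subsingleton.elim _ _
    rw [← hx₁, h0]
    exact Abelian.Ext.zero_comp _ q (Abelian.Ext.mk₀ S.f) q (add_zero q)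
  · intro x₃
    obtain ⟨x₂, hx₂⟩ := Abelian.Ext.covariant_sequence_exact₃ _ hS x₃ rfl
      (Subsingleton.elim _ _)
    exact ⟨x₂, hx₂⟩

theorem isIso_HF_map_f (S : ShortComplex (EtCoh.Ab Z)) (hS : S.ShortExact) (q : ℕ)
    (h1 : Subsingleton (EtCoh.H Z S.X₃ q)) (h2 : Subsingleton (EtCoh.H Z S.X₃ (q + 1))) :
    IsIso ((EtCoh.HF Z (q + 1)).map S.f) := by
  rw [ConcreteCategory.isIso_iff_bijective]
  constructor
  · refine (injective_iff_map_eq_zero ((EtCoh.HF Z (q + 1)).map S.f).hom).2 ?_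
    intro x₁ hx₁
    obtain ⟨x₃, hx₃⟩ := Abelian.Ext.covariant_sequence_exact₁ _ hS x₁ hx₁ rfl
    have h0 : x₃ = 0 := Subsingleton.elim _ _
    rw [← hx₃, h0]
    exact Abelian.Ext.zero_comp _ q hS.extClass (q + 1) rfl
  · intro x₂
    obtain ⟨x₁, hx₁⟩ := Abelian.Ext.covariant_sequence_exact₂ _ hS x₂ (Subsingleton.elim _ _)
    exact ⟨x₁, hx₁⟩

end Groth.Agent.Lib.Helper5.HLes
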