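import Groth.Agent.Lib.Helper5.CurveSupp
import Groth.Agent.Lib.Helper5.HLes
import Groth.Agent.Lib.Helper13.StalkConservative

/-!
# Helper5: a map of sheaves with supports of kernel and cokernel having no higher cohomology
-/

set_option autoImplicit false
universe u
open CategoryTheory CategoryTheory.Limits AlgebraicGeometry Opposite TopologicalSpace

namespace Groth.Agent.Lib.Helper5.CurveIso

open Groth.Agent.Lib.Helper5.HLes Groth.Agent.Lib.Helper13.StalkConservative

variable {Z : Scheme.{u}} {F G : EtCoh.Ab Z} (φ : F ⟶ G)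

lemma isZero_stalk_kernel {Ω : Type u} [Field Ω] [IsSepClosed Ω]
    (ξ : Spec (CommRingCat.of Ω) ⟶ Z) (h : IsIso ((EtCoh.stalk ξ).map φ)) :
    IsZero ((EtCoh.stalk ξ).obj (kernel φ)) :=
  IsZero.of_iso (isZero_kernel_of_mono _) (PreservesKernel.iso (EtCoh.stalk ξ) φ)

lemma isZero_stalk_cokernel {Ω : Type u} [Field Ω] [IsSepClosed Ω]
    (ξ : Spec (CommRingCat.of Ω) ⟶ Z) (h : IsIso ((EtCoh.stalk ξ).map φ)) :
    IsZero ((EtCoh.stalk ξ).obj (cokernel φ)) :=
  IsZero.of_iso (isZero_cokernel_of_epi _) (PreservesCokernel.iso (EtCoh.stalk ξ) φ)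

/-- the short exact sequence `0 → ker φ → F → im φ → 0`. -/
lemma shortExact_ker_im :
    (ShortComplex.mk (kernel.ι φ) (Abelian.factorThruImage φ) (by
      rw [← cancel_mono (Abelian.image.ι φ), Category.assoc, Abelian.image.fac, kernel.condition,
        zero_comp])).ShortExact := by
  have h1 : (ShortComplex.mk (kernel.ι φ) φ (kernel.condition φ)).Exact :=
    ShortComplex.exact_of_f_is_kernel _ (kernelIsKernel _)
  let S₁ : ShortComplex (EtCoh.Ab Z) := ShortComplex.mk (kernel.ι φ) (Abelian.factorThruImage φ) (by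
      rw [← cancel_mono (Abelian.image.ι φ), Category.assoc, Abelian.image.fac, kernel.condition,
        zero_comp])
  let S₂ : ShortComplex (EtCoh.Ab Z) := ShortComplex.mk (kernel.ι φ) φ (kernel.condition φ)
  let α : S₁ ⟶ S₂ :=
    { τ₁ := 𝟙 _
      τ₂ := 𝟙 _
      τ₃ := Abelian.image.ι φ
      comm₁₂ := by simp [S₁, S₂]
      comm₂₃ := by simp [S₁, S₂] }
  haveI : Epi α.τ₁ := inferInstanceAs (Epi (𝟙 _))
  haveI : IsIso α.τ₂ := inferInstanceAs (IsIso (𝟙 _))
  haveI : Mono α.τ₃ := inferInstanceAs (Mono (Abelian.image.ι φ))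
  have h2 : S₁.Exact := (ShortComplex.exact_iff_of_epi_of_isIso_of_mono α).2 h1
  exact ShortComplex.ShortExact.mk' h2 (inferInstanceAs (Mono (kernel.ι φ)))
    (inferInstanceAs (Epi (Abelian.factorThruImage φ)))

/-- the short exact sequence `0 → im φ → G → coker φ → 0`. -/
lemma shortExact_im_coker :
    (ShortComplex.mk (Abelian.image.ι φ) (cokernel.π φ) (kernel.condition _)).ShortExact :=
  ShortComplex.ShortExact.mk' (ShortComplex.exact_of_f_is_kernel _ (kernelIsKernel _))
    (inferInstanceAs (Mono (kernel.ι (cokernel.π φ)))) inferInstance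

/-- if kernel and cokernel of `φ` have no higher cohomology, `φ` is an isomorphism on `H^q`,
`q > 1`, and for `q = 1` if `φ` is an epimorphism. -/
theorem isIso_HF_map (hK : ∀ q : ℕ, 1 ≤ q → Subsingleton (EtCoh.H Z (kernel φ) q))
    (hQ : ∀ q : ℕ, 1 ≤ q → Subsingleton (EtCoh.H Z (cokernel φ) q)) :
    (∀ q : ℕ, 1 < q → IsIso ((EtCoh.HF Z q).map φ)) ∧ (Epi φ → IsIso ((EtCoh.HF Z 1).map φ)) := by
  constructor
  · intro q hq
    obtain ⟨q', rfl⟩ : ∃ q', q = q' + 1 := ⟨q - 1, by omega⟩
    have hq' : 1 ≤ q' := by omega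
    have e1 := isIso_HF_map_g _ (shortExact_ker_im φ) (q' + 1) (hK _ (by omega)) (hK _ (by omega))
    have e2 := isIso_HF_map_f _ (shortExact_im_coker φ) q' (hQ _ hq') (hQ _ (by omega))
    have hfac : (EtCoh.HF Z (q' + 1)).map φ =
        (EtCoh.HF Z (q' + 1)).map (Abelian.factorThruImage φ) ≫
          (EtCoh.HF Z (q' + 1)).map (Abelian.image.ι φ) := by
      rw [← Functor.map_comp, Abelian.image.fac]
    rw [hfac]
    haveI : IsIso ((EtCoh.HF Z (q' + 1)).map (Abelian.factorThruImage φ)) := e1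
    haveI : IsIso ((EtCoh.HF Z (q' + 1)).map (Abelian.image.ι φ)) := e2
    infer_instance
  · intro hepi
    have hS : (ShortComplex.mk (kernel.ι φ) φ (kernel.condition φ)).ShortExact :=
      ShortComplex.ShortExact.mk' (ShortComplex.exact_of_f_is_kernel _ (kernelIsKernel _))
        (inferInstanceAs (Mono (kernel.ι φ))) hepi
    exact isIso_HF_map_g _ hS 1 (hK 1 le_rfl) (hK 2 (by omega))

end Groth.Agent.Lib.Helper5.CurveIso
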