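import Groth.Agent.Lib.Helper5.ClosedPtSupp2

/-!
# Helper5: on a curve, a sheaf with vanishing generic stalks is supported on closed points
-/

set_option autoImplicit false
universe u
open CategoryTheory CategoryTheory.Limits AlgebraicGeometry Opposite TopologicalSpace

namespace Groth.Agent.Lib.Helper5.CurveSupp

/-- in a `T0` space of dimension `≤ 1`, a point with a proper generalization is closed. -/
lemma isClosed_singleton_of_specializes {Y : Type*} [TopologicalSpace Y] [T0Space Y]
    (hdim : topologicalKrullDim Y ≤ 1) {x y : Y} (hyx : y ⤳ x) (hne : y ≠ x) :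
    IsClosed ({x} : Set Y) := by
  let cl : Y → IrreducibleCloseds Y := fun a =>
    ⟨closure {a}, isIrreducible_singleton.closure, isClosed_closure⟩
  have hlt : ∀ {a b : Y}, a ⤳ b → a ≠ b → cl b < cl a := by
    intro a b hab hne'
    have hle : cl b ≤ cl a := by
      show closure {b} ⊆ closure {a}
      exact (specializes_iff_closure_subset.1 hab)
    refine lt_of_le_of_ne hle ?_
    intro heq
    apply hne'
    have h1 : closure ({b} : Set Y) = closure {a} := congrArg (fun c : IrreducibleCloseds Y => (c : Set Y)) heq
    have h2 : a ⤳ b := hab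
    have h3 : b ⤳ a := specializes_iff_closure_subset.2 h1.ge
    exact (h2.antisymm h3).eq
  rw [← closure_eq_iff_isClosed]
  apply Set.Subset.antisymm _ subset_closure
  intro z hz
  by_contra hzx
  have hxz : x ⤳ z := specializes_iff_mem_closure.2 hz
  have hxz' : x ≠ z := fun h => hzx (h ▸ rfl)
  rcases (Order.krullDim_le_one_iff.1 hdim) (cl x) with h | h
  · exact (h.not_lt (hlt hxz hxz'))
  · exact (h.not_lt (hlt hyx hne))

variable {C : Scheme.{u}}

/-- if the stalks of `F` vanish at the geometric points over points without proper generalizations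
and `dim C ≤ 1`, then the support of `F` consists of closed points. -/
lemma isClosed_of_mem_supp (hdim : topologicalKrullDim C ≤ 1) (F : EtCoh.Ab C)
    (hgen : ∀ (Ω : Type u) [Field Ω] [IsSepClosed Ω] (ξ : Spec (CommRingCat.of Ω) ⟶ C),
      (∀ x ∈ Set.range ξ.base, ∀ y : C, y ⤳ x → y = x) → IsZero ((EtCoh.stalk ξ).obj F))
    (x : C) (hx : x ∈ EtPBC.supp F) : IsClosed ({x} : Set C) := by
  obtain ⟨Ω, _, _, ξ, hξ, hnz⟩ := hx
  by_contra hcl
  apply hnz
  apply hgen Ω ξ
  intro x' hx' y hy
  have hx'' : x' = x := by
    have : x' ∈ Set.range ξ := hx'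
    rw [hξ] at this
    exact this
  subst hx''
  by_contra hne
  exact hcl (isClosed_singleton_of_specializes hdim hy hne)

end Groth.Agent.Lib.Helper5.CurveSupp
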