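import Mathlib
import Groth.Prelude.Def_EtDual

/-!
# Helper5: the cyclotomic étale cover
-/

set_option autoImplicit false
universe u

namespace Groth.Agent.Lib.Helper5.CycloCover

open CategoryTheory Limits AlgebraicGeometry Opposite Polynomial

/-- the standard étale pair `(Φ_n, 1)` over a ring in which `n` is invertible. -/
noncomputable def pair {A : Type u} [CommRing A] (n : ℕ) (hn : IsUnit (n : A)) : StandardEtalePair A where
  f := cyclotomic n A
  monic_f := cyclotomic.monic n A
  g := 1
  cond := by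
    have h1 : (X ^ n - C ((1 : Aˣ) : A) : A[X]).Separable := separable_X_pow_sub_C_unit 1 hn
    have h2 : (cyclotomic n A).Separable := by
      refine h1.of_dvd ?_
      simpa using cyclotomic.dvd_X_pow_sub_one n A
    obtain ⟨a, b, hab⟩ := h2
    exact ⟨b, a, 0, by rw [pow_zero, ← hab]; ring⟩

lemma aeval_X_pair {A : Type u} [CommRing A] (n : ℕ) (hn : IsUnit (n : A)) :
    aeval (pair n hn).X (cyclotomic n ℤ) = 0 := by
  have h := (pair n hn).hasMap_X.1
  change aeval (pair n hn).X (cyclotomic n A) = 0 at h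
  rw [← map_cyclotomic_int n A] at h
  exact (aeval_map_algebraMap A (pair n hn).X (cyclotomic n ℤ)).symm.trans h

lemma exists_prime_over {A : Type u} [CommRing A] (n : ℕ) (hn : IsUnit (n : A)) (hn1 : 0 < n)
    (p : PrimeSpectrum A) :
    ∃ q : PrimeSpectrum (pair n hn).Ring, PrimeSpectrum.comap (algebraMap A (pair n hn).Ring) q = p := by
  let K := p.asIdeal.ResidueField
  let Kb := AlgebraicClosure K
  obtain ⟨z, hz⟩ := IsAlgClosed.exists_root (cyclotomic n Kb)
    (degree_cyclotomic_pos n Kb hn1).ne'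
  have hmap : (pair n hn).HasMap z := by
    refine ⟨?_, ?_⟩
    · change aeval z (cyclotomic n A) = 0
      rw [aeval_def, eval₂_eq_eval_map, map_cyclotomic]
      exact hz
    · change IsUnit (aeval z (1 : A[X]))
      rw [map_one]
      exact isUnit_one
  let ψ : (pair n hn).Ring →ₐ[A] Kb := (pair n hn).lift z hmap
  refine ⟨⟨RingHom.ker ψ.toRingHom, RingHom.ker_isPrime _⟩, ?_⟩
  ext a
  change ψ (algebraMap A _ a) = 0 ↔ a ∈ p.asIdeal
  rw [ψ.commutes, IsScalarTower.algebraMap_apply A K Kb, map_eq_zero_iff _ (algebraMap K Kb).injective]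
  have h := Ideal.ker_algebraMap_residueField p.asIdeal
  exact (RingHom.mem_ker (f := algebraMap A K)).symm.trans (by rw [h])

lemma aeval_ringHom_int {A B : Type*} [CommRing A] [CommRing B] (f : A →+* B) (a : A)
    (p : Polynomial ℤ) : Polynomial.aeval (f a) p = f (Polynomial.aeval a p) := by
  rw [Polynomial.aeval_def, Polynomial.aeval_def, Polynomial.hom_eval₂]
  congr 1
  exact Subsingleton.elim _ _

/-- Étale-locally on a scheme on which `n` is invertible there is a root of the `n`-th cyclotomic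
polynomial. -/
theorem exists_cover (X : Scheme.{u}) (n : ℕ) (hn : IsUnit (n : Γ(X, ⊤))) (x : X) :
    ∃ (Y : Scheme.{u}) (g : Y ⟶ X) (_ : Etale g) (ζ : Γ(Y, ⊤)), x ∈ Set.range g.base ∧ 1 ≤ n ∧
      Polynomial.aeval ζ (Polynomial.cyclotomic n ℤ) = 0 := by
  obtain ⟨V, hV, hxV, -⟩ := exists_isAffineOpen_mem_and_subset (x := x) (U := ⊤) trivial
  have hnA : IsUnit (n : Γ(X, V)) := by
    have := hn.map (X.presheaf.map (homOfLE le_top : V ⟶ ⊤).op).hom
    rwa [map_natCast] at this
  let p : PrimeSpectrum Γ(X, V) := hV.primeIdealOf ⟨x, hxV⟩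
  have hn1 : 0 < n := by
    rcases Nat.eq_zero_or_pos n with h0 | h0
    · exfalso
      subst h0
      rw [Nat.cast_zero, isUnit_zero_iff] at hnA
      have := p.isPrime.ne_top
      apply this
      rw [Ideal.eq_top_iff_one, ← hnA]
      exact Ideal.zero_mem _
    · exact h0
  let P := pair n hnA
  obtain ⟨q, hq⟩ := exists_prime_over n hnA hn1 p
  let φ : CommRingCat.of Γ(X, V) ⟶ CommRingCat.of P.Ring := CommRingCat.ofHom (algebraMap Γ(X, V) P.Ring)
  haveI : Etale (Spec.map φ) := by
    rw [HasRingHomProperty.Spec_iff (P := @Etale)]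
    exact RingHom.etale_algebraMap.2 inferInstance
  refine ⟨Spec (CommRingCat.of P.Ring), Spec.map φ ≫ hV.fromSpec, inferInstance,
    (Scheme.ΓSpecIso (CommRingCat.of P.Ring)).inv.hom P.X, ⟨q, ?_⟩, hn1, ?_⟩
  · have h1 : (Spec.map φ).base q = p := hq
    have h2 : hV.fromSpec.base p = x := hV.fromSpec_primeIdealOf ⟨x, hxV⟩
    change hV.fromSpec.base ((Spec.map φ).base q) = x
    rw [h1, h2]
  · rw [aeval_ringHom_int, aeval_X_pair, map_zero]

end Groth.Agent.Lib.Helper5.CycloCover
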