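import Groth.Agent.Lib.Helper5.DRTermZero
import Groth.Agent.Lib.Helper1.DerFin

/-!
# Terms of the de Rham complex of a morphism of finite type (helper5)

Coherence of the terms and vanishing of the high terms on a quasi-compact scheme.
-/

set_option autoImplicit false
universe u
open CategoryTheory CategoryTheory.Limits AlgebraicGeometry TopologicalSpace Opposite exteriorPower

namespace Groth.Agent.Lib.Helper5.DRProper

/-- an exterior power of a module above the number of generators vanishes. -/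
lemma subsingleton_extPow_of_span {B M : Type*} [CommRing B] [AddCommGroup M] [Module B M] {r : ℕ}
    (v : Fin r → M) (hv : Submodule.span B (Set.range v) = ⊤) (p : ℕ) (hp : r < p) :
    Subsingleton ↥(⋀[B]^p M) := by
  haveI hE : IsEmpty (Set.powersetCard (Fin r) p) := ⟨fun s => by
    have h1 : (s : Finset (Fin r)).card = p := s.2
    have h2 := Finset.card_le_univ (s : Finset (Fin r))
    rw [Fintype.card_fin] at h2
    omega⟩
  have h := exteriorPower.ιMulti_family_span_of_span B (n := p) hv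
  rw [Set.range_eq_empty, Submodule.span_empty] at h
  haveI := subsingleton_of_bot_eq_top h
  exact Submodule.subsingleton_iff B |>.1 inferInstance

/-- a quasi-coherent module whose sections over an affine neighbourhood of each point vanish has
no sections. -/
theorem subsingleton_sections_of_local {X : Scheme.{u}} (M : X.Modules) [M.IsQuasicoherent]
    (h : ∀ x : X, ∃ W : X.Opens, IsAffineOpen W ∧ x ∈ W ∧ Subsingleton Γ(M, W))
    (W'' : X.Opens) : Subsingleton Γ(M, W'') := by
  have key : ∀ (x : ↥X), x ∈ W'' →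
      ∃ N : X.Opens, N ≤ W'' ∧ x ∈ N ∧ Subsingleton Γ(M, N) := by
    intro x hx
    obtain ⟨W, hW, hxW, hs⟩ := h x
    obtain ⟨g, hg1, hg2⟩ := hW.exists_basicOpen_le (V := W'') ⟨x, hx⟩ hxW
    exact ⟨X.basicOpen g, hg1, hg2,
      Groth.Agent.Lib.Helper5.DRTermZero.subsingleton_sections_basicOpen M hW g⟩
  choose N hN1 hN2 hN3 using key
  refine ⟨fun s t => ?_⟩
  let Ms : TopCat.Sheaf Ab X := ⟨M.presheaf, M.isSheaf⟩
  refine Ms.eq_of_locally_eq' (fun x : W'' => N x.1 x.2) W'' (fun x => homOfLE (hN1 x.1 x.2)) ?_ s t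
    (fun x => ?_)
  · intro x hx
    exact TopologicalSpace.Opens.mem_iSup.mpr ⟨⟨x, hx⟩, hN2 x hx⟩
  · haveI := hN3 x.1 x.2
    exact Subsingleton.elim (α := Γ(M, N x.1 x.2)) _ _

lemma isZero_toAb_of_sections {X : Scheme.{u}} (M : X.Modules)
    (h : ∀ U : X.Opens, Subsingleton Γ(M, U)) : IsZero (Coh.toAb M) := by
  rw [IsZero.iff_id_eq_zero]
  apply Sheaf.hom_ext
  apply NatTrans.ext
  funext U
  apply AddCommGrpCat.hom_ext
  apply AddMonoidHom.ext
  intro x
  haveI := h U.unop
  exact Subsingleton.elim (α := Γ(M, U.unop)) _ _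

theorem isCoh_term {X Y : Scheme.{u}} (f : X ⟶ Y) [QuasiSeparated f] [LocallyOfFiniteType f]
    (D : DeRhamSh.OmegaCx f) (p : ℕ) : Coh.IsCoh (D.term p) := by
  have qΩ : (Omega.sheaf f).IsQuasicoherent :=
    Groth.Agent.Lib.Helper17.PbStalk.isQuasicoherent_pullback
      (Limits.pullback.diagonal f) (ClSub.idealMod (Limits.pullback.diagonal f).ker)
  have hΩ : Coh.IsCoh (Omega.sheaf f) :=
    ⟨qΩ, Groth.Agent.Lib.Helper1.DerFin.isFT f (OmegaSh.dOmega f) (Groth.Agent.S5005.result f)⟩
  exact Groth.Agent.Lib.Helper17.ExtPowCoh.isCoh_of_isExtPow hΩ (D.isExtPow p)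

/-- the high terms of the de Rham complex of a morphism locally of finite type with quasi-compact
source vanish. -/
theorem exists_bound {X Y : Scheme.{u}} (f : X ⟶ Y) [QuasiSeparated f] [LocallyOfFiniteType f]
    [CompactSpace X] (D : DeRhamSh.OmegaCx f) : ∃ N : ℕ, ∀ p, N < p → IsZero (D.K.X p) := by
  have hd := Groth.Agent.S5005.result f
  haveI qΩ : (Omega.sheaf f).IsQuasicoherent :=
    Groth.Agent.Lib.Helper17.PbStalk.isQuasicoherent_pullback
      (Limits.pullback.diagonal f) (ClSub.idealMod (Limits.pullback.diagonal f).ker)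
  have key : ∀ x : X, ∃ (W : X.Opens) (r : ℕ), IsAffineOpen W ∧ x ∈ W ∧
      ∃ v : Fin r → Γ(Omega.sheaf f, W), Submodule.span Γ(X, W) (Set.range v) = ⊤ := by
    intro x
    obtain ⟨U, V, hU, hV, hxU, -, hUV⟩ :=
      Groth.Agent.Lib.Helper1.DerUnram.exists_small_affine f x ⊤ trivial
    haveI := Groth.Agent.Lib.Helper1.DerFin.finite_sections f (OmegaSh.dOmega f) hU hV hUV hd
    obtain ⟨r, v, hv⟩ := Module.Finite.exists_fin (R := Γ(X, U)) (M := Γ(Omega.sheaf f, U))
    exact ⟨U, r, hU, hxU, v, hv⟩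
  choose W r hW hxW v hv using key
  obtain ⟨t, ht⟩ := CompactSpace.elim_nhds_subcover (fun x => ((W x : X.Opens) : Set X))
    (fun x => (W x).isOpen.mem_nhds (hxW x))
  refine ⟨t.sup r, fun p hp => ?_⟩
  haveI : (D.term p).IsQuasicoherent :=
    Groth.Agent.Lib.Helper17.ExtPowCoh.isQuasicoherent_of_isExtPow (D.isExtPow p)
  have hz : IsZero (Coh.toAb (D.term p)) := by
    apply isZero_toAb_of_sections
    apply subsingleton_sections_of_local
    intro x
    have hx : x ∈ ⋃ y ∈ t, ((W y : X.Opens) : Set X) := by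
      rw [ht]
      trivial
    simp only [Set.mem_iUnion] at hx
    obtain ⟨y, hy, hxy⟩ := hx
    refine ⟨W y, hW y, hxy, ?_⟩
    have hr : r y < p := lt_of_le_of_lt (Finset.le_sup hy) hp
    haveI := subsingleton_extPow_of_span (v y) (hv y) p hr
    exact (D.loc p ⟨W y, hW y⟩).toEquiv.subsingleton
  exact IsZero.of_iso hz (D.iso p)

end Groth.Agent.Lib.Helper5.DRProper
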