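import Groth.Agent.S15309

/-!
# The high terms of a de Rham complex of a smooth morphism vanish (helper5)
-/

set_option autoImplicit false
universe u
open CategoryTheory CategoryTheory.Limits AlgebraicGeometry TopologicalSpace Opposite exteriorPower

namespace Groth.Agent.Lib.Helper5.DRTermZero

attribute [local instance] Groth.Agent.Lib.Helper3.SecLoc.modBasicOpen

lemma subsingleton_sections_basicOpen {X : Scheme.{u}} (M : X.Modules) [M.IsQuasicoherent]
    {W : X.Opens} (hW : IsAffineOpen W) (g : Γ(X, W)) [Subsingleton Γ(M, W)] :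
    Subsingleton Γ(M, X.basicOpen g) := by
  haveI := Groth.Agent.Lib.Helper3.SecLoc.isLocalizedModule_resLin M hW g
  exact IsLocalizedModule.subsingleton_of_subsingleton (Submonoid.powers g)
    (Groth.Agent.Lib.Helper3.SecLoc.resLin M g)

/-- all sections of the terms above the dimension vanish. -/
theorem subsingleton_term {X Y : Scheme.{u}} (f : X ⟶ Y) [QuasiSeparated f] [Smooth f]
    (D : DeRhamSh.OmegaCx f) (n : ℕ) (hn : topologicalKrullDim ↥X ≤ n) (p : ℕ) (hp : n < p)
    (W'' : X.Opens) : Subsingleton Γ(D.term p, W'') := by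
  haveI qΩ : (Omega.sheaf f).IsQuasicoherent :=
    Groth.Agent.Lib.Helper17.PbStalk.isQuasicoherent_pullback
      (Limits.pullback.diagonal f) (ClSub.idealMod (Limits.pullback.diagonal f).ker)
  haveI : (D.term p).IsQuasicoherent :=
    Groth.Agent.Lib.Helper17.ExtPowCoh.isQuasicoherent_of_isExtPow (D.isExtPow p)
  have hd := Groth.Agent.S5005.result f
  have key : ∀ (x : ↥X), x ∈ W'' →
      ∃ N : X.Opens, N ≤ W'' ∧ x ∈ N ∧ Subsingleton Γ(D.term p, N) := by
    intro x hx
    obtain ⟨W, hW, r, hxW, ⟨b⟩, hdim⟩ :=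
      Groth.Agent.S15309.exists_affine_basis f (Omega.sheaf f) (OmegaSh.dOmega f) hd x
    have hr : r ≤ n := by
      have h1 : ((r : ℕ∞) : WithBot ℕ∞) ≤ ((n : ℕ∞) : WithBot ℕ∞) := by
        have := (Groth.Agent.S15309.fibreDimAt_le_dim f x).trans hn
        rw [hdim] at this
        exact_mod_cast this
      exact_mod_cast h1
    haveI := Groth.Agent.S15309.subsingleton_extPow_of_basis b p (lt_of_le_of_lt hr hp)
    haveI : Subsingleton Γ(D.term p, W) := (D.loc p ⟨W, hW⟩).toEquiv.subsingleton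
    obtain ⟨g, hg1, hg2⟩ := hW.exists_basicOpen_le (V := W'') ⟨x, hx⟩ hxW
    exact ⟨X.basicOpen g, hg1, hg2, subsingleton_sections_basicOpen (D.term p) hW g⟩
  choose N hN1 hN2 hN3 using key
  refine ⟨fun s t => ?_⟩
  let Ms : TopCat.Sheaf Ab X := ⟨(D.term p).presheaf, (D.term p).isSheaf⟩
  refine Ms.eq_of_locally_eq' (fun x : W'' => N x.1 x.2) W'' (fun x => homOfLE (hN1 x.1 x.2)) ?_ s t
    (fun x => ?_)
  · intro x hx
    exact TopologicalSpace.Opens.mem_iSup.mpr ⟨⟨x, hx⟩, hN2 x hx⟩
  · haveI := hN3 x.1 x.2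
    exact Subsingleton.elim (α := Γ(D.term p, N x.1 x.2)) _ _

/-- the terms above the dimension are zero. -/
theorem isZero_term {X Y : Scheme.{u}} (f : X ⟶ Y) [QuasiSeparated f] [Smooth f]
    (D : DeRhamSh.OmegaCx f) (n : ℕ) (hn : topologicalKrullDim ↥X ≤ n) (p : ℕ) (hp : n < p) :
    IsZero (D.K.X p) := by
  have hz : IsZero (Coh.toAb (D.term p)) := by
    rw [IsZero.iff_id_eq_zero]
    apply Sheaf.hom_ext
    apply NatTrans.ext
    funext U
    apply AddCommGrpCat.hom_ext
    apply AddMonoidHom.ext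
    intro x
    haveI := subsingleton_term f D n hn p hp U.unop
    exact Subsingleton.elim (α := Γ(D.term p, U.unop)) _ _
  exact IsZero.of_iso hz (D.iso p)

end Groth.Agent.Lib.Helper5.DRTermZero
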