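import Mathlib
import Groth.Prelude.Def_SpSeq

set_option autoImplicit false

namespace Groth.Agent.Lib.Helper5.DegenSS

open CategoryTheory CategoryTheory.Limits

universe v u
variable {C : Type u} [Category.{v} C] [Abelian C]

/-- The shape of the `r`-th page. -/
abbrev cs (r : ℤ) : ComplexShape (ℤ × ℤ) := ComplexShape.up' (⟨r, 1 - r⟩ : ℤ × ℤ)

lemma cs_rel_iff (r : ℤ) (a b : ℤ × ℤ) : (cs r).Rel a b ↔ a.1 + r = b.1 ∧ a.2 + (1 - r) = b.2 := by
  change a + (r, 1 - r) = b ↔ _
  rw [Prod.ext_iff]
  rfl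

variable (R : ℤ → CochainComplex C ℤ)

/-- The first page: the rows `R q` put side by side. -/
noncomputable def page1 : HomologicalComplex C (cs 1) where
  X pq := (R pq.2).X pq.1
  d pq pq' := if h : pq.2 = pq'.2 then (R pq.2).d pq.1 pq'.1 ≫ eqToHom (by rw [h]) else 0
  shape pq pq' h := by
    by_cases hq : pq.2 = pq'.2
    · rw [dif_pos hq, (R pq.2).shape, zero_comp]
      intro h'
      apply h
      rw [cs_rel_iff]
      refine ⟨h', ?_⟩
      omega
    · rw [dif_neg hq]
  d_comp_d' a b c hab hbc := by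
    rw [cs_rel_iff] at hab hbc
    obtain ⟨a1, a2⟩ := a
    obtain ⟨b1, b2⟩ := b
    obtain ⟨c1, c2⟩ := c
    dsimp at hab hbc ⊢
    obtain rfl : a2 = b2 := by omega
    obtain rfl : a2 = c2 := by omega
    simp

lemma page1_d_same (p p' q : ℤ) : (page1 R).d (p, q) (p', q) = (R q).d p p' := by
  simp [page1]

/-- The homology of the first page is the homology of the rows. -/
noncomputable def page1HomologyIso (p q : ℤ) :
    (page1 R).homology (p, q) ≅ (R q).homology p :=
  (page1 R).homologyIsoSc' (p - 1, q) (p, q) (p + 1, q)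
      ((cs 1).prev_eq' (by rw [cs_rel_iff]; constructor <;> dsimp <;> omega))
      ((cs 1).next_eq' (by rw [cs_rel_iff]; constructor <;> dsimp <;> omega)) ≪≫
    ShortComplex.homologyMapIso
      (show (page1 R).sc' (p - 1, q) (p, q) (p + 1, q) ≅ (R q).sc' (p - 1) p (p + 1) from
        ShortComplex.isoMk (Iso.refl _) (Iso.refl _) (Iso.refl _)
          (by
            change 𝟙 ((R q).X (p - 1)) ≫ (R q).d (p - 1) p =
              (page1 R).d (p - 1, q) (p, q) ≫ 𝟙 ((R q).X p)
            rw [page1_d_same]; exact (Category.id_comp _).trans (Category.comp_id _).symm)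
          (by
            change 𝟙 ((R q).X p) ≫ (R q).d p (p + 1) =
              (page1 R).d (p, q) (p + 1, q) ≫ 𝟙 ((R q).X (p + 1))
            rw [page1_d_same]; exact (Category.id_comp _).trans (Category.comp_id _).symm)) ≪≫
    ((R q).homologyIsoSc' (p - 1) p (p + 1) (by simp) (by simp)).symm

/-- The later pages: the homology of the first page with zero differentials. -/
noncomputable def pageZ (r : ℤ) : HomologicalComplex C (cs r) where
  X pq := (page1 R).homology pq
  d _ _ := 0
  shape _ _ _ := rfl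
  d_comp_d' _ _ _ _ _ := zero_comp

/-- The homology of a page with zero differentials. -/
noncomputable def pageZHomologyIso (r : ℤ) (pq : ℤ × ℤ) :
    (pageZ R r).homology pq ≅ (page1 R).homology pq :=
  (ShortComplex.HomologyData.ofZeros ((pageZ R r).sc pq) rfl rfl).left.homologyIso

open Classical in
/-- All the pages. -/
noncomputable def pg (r : ℤ) : HomologicalComplex C (cs r) :=
  if h : r = 1 then (by subst h; exact page1 R) else pageZ R r

lemma pg_one : pg R 1 = page1 R := by
  rw [pg, dif_pos rfl]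

lemma pg_of_ne (r : ℤ) (h : r ≠ 1) : pg R r = pageZ R r := by
  rw [pg, dif_neg h]

/-- The degenerate spectral sequence. -/
noncomputable def E : CohomologicalSpectralSequence C 1 where
  page r _ := pg R r
  iso r r' pq hrr' hr := by
    by_cases h : r = 1
    · subst h
      obtain rfl : r' = 2 := by omega
      exact (HomologicalComplex.homologyFunctor _ _ pq).mapIso (eqToIso (pg_one R)) ≪≫
        ((HomologicalComplex.eval _ _ pq).mapIso (eqToIso (pg_of_ne R 2 (by norm_num)))).symm
    · exact (HomologicalComplex.homologyFunctor _ _ pq).mapIso (eqToIso (pg_of_ne R r h)) ≪≫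
        pageZHomologyIso R r pq ≪≫
        ((HomologicalComplex.eval _ _ pq).mapIso (eqToIso (pg_of_ne R r' (by omega)))).symm

/-- The first page objects. -/
noncomputable def pageOneXIso (p q : ℤ) : ((E R).page 1 le_rfl).X (p, q) ≅ (R q).X p :=
  (HomologicalComplex.eval _ _ (p, q)).mapIso (eqToIso (pg_one R))

/-- The later page objects. -/
noncomputable def pageXIso (r : ℤ) (hr : 1 ≤ r) (h : r ≠ 1) (p q : ℤ) :
    ((E R).page r hr).X (p, q) ≅ (R q).homology p :=
  (HomologicalComplex.eval _ _ (p, q)).mapIso (eqToIso (pg_of_ne R r h)) ≪≫ page1HomologyIso R p q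

lemma page_d_eq_zero (r : ℤ) (hr : 1 ≤ r) (h : r ≠ 1) (a b : ℤ × ℤ) :
    ((E R).page r hr).d a b = 0 := by
  change (pg R r).d a b = 0
  rw [pg_of_ne R r h]
  rfl


section Abut

variable {X : C}

/-- `⊤ / ⊥` is everything. -/
noncomputable def cokernelOfLEIso (A B : Subobject X) (h : A ≤ B) (hA : A = ⊥) (hB : B = ⊤) :
    cokernel (A.ofLE B h) ≅ X := by
  subst hA hB
  have hz : IsZero ((⊥ : Subobject X) : C) := IsZero.of_iso (isZero_zero C) Subobject.botCoeIsoZero
  exact cokernelIsoOfEq (hz.eq_of_src _ 0) ≪≫ cokernelZeroIsoTarget ≪≫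
    asIso (⊤ : Subobject X).arrow

lemma isZero_cokernel_ofLE (A B : Subobject X) (h : A ≤ B) (hAB : A = B) :
    IsZero (cokernel (A.ofLE B h)) := by
  subst hAB
  rw [Subobject.ofLE_refl]
  exact isZero_cokernel_of_epi _

end Abut

variable (H : ℤ → C) (e0 : ∀ q, (R q).homology 0 ≅ H q)
  (hp : ∀ q p, p ≠ 0 → IsZero ((R q).homology p))

/-- The filtration of the abutment: everything in degrees `≤ 0`, nothing above. -/
noncomputable def fil (n : ℤ) (p : ℤ) : Subobject (H n) := if p ≤ 0 then ⊤ else ⊥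

lemma fil_anti (n : ℤ) : Antitone (fil H n) := by
  intro p p' h
  by_cases h1 : p ≤ 0
  · change fil H n p' ≤ fil H n p
    rw [show fil H n p = ⊤ from if_pos h1]
    exact le_top
  · change fil H n p' ≤ fil H n p
    rw [show fil H n p' = ⊥ from if_neg (by omega)]
    exact bot_le

lemma fil_of_le (n p : ℤ) (h : p ≤ 0) : fil H n p = ⊤ := if_pos h

lemma fil_of_pos (n p : ℤ) (h : 0 < p) : fil H n p = ⊥ := if_neg (by omega)

include hp in
lemma isZero_page_two (p q : ℤ) (h : p ≠ 0) : IsZero (((E R).page 2 (by norm_num)).X (p, q)) :=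
  IsZero.of_iso (hp q p h) (pageXIso R 2 (by norm_num) (by norm_num) p q)

/-- The abutment data. -/
noncomputable def abut : SpSeq.Abutment (E R) H where
  fil n := fil H n
  anti n := fil_anti H n
  rk _ := 2
  stat pq := ⟨by norm_num, fun r' h₀ hr' =>
    ⟨page_d_eq_zero R r' h₀ (by omega) _ _, page_d_eq_zero R r' h₀ (by omega) _ _⟩⟩
  β pq := by
    obtain ⟨p, q⟩ := pq
    by_cases h : p = 0
    · subst h
      exact pageXIso R 2 (by norm_num) (by norm_num) 0 q ≪≫ e0 q ≪≫
        eqToIso (by dsimp only; rw [zero_add]) ≪≫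
        (cokernelOfLEIso _ _ _ (fil_of_pos H _ _ (by norm_num)) (fil_of_le H _ _ le_rfl)).symm
    · refine IsZero.iso (isZero_page_two R hp p q h) ?_
      apply isZero_cokernel_ofLE
      rcases lt_or_gt_of_ne h with h' | h'
      · dsimp only
        rw [fil_of_le H _ _ (by omega), fil_of_le H _ _ (by omega)]
      · dsimp only
        rw [fil_of_pos H _ _ (by omega), fil_of_pos H _ _ (by omega)]

lemma abut_isFinite (n : ℤ) : (abut R H e0 hp).IsFinite n :=
  ⟨⟨0, fil_of_le H n 0 le_rfl⟩, ⟨1, fil_of_pos H n 1 (by norm_num)⟩⟩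

include e0 hp in
/-- The degenerate spectral sequence of a family of rows which are resolutions. -/
theorem exists_of_rows (hb : ∀ p q : ℤ, (p < 0 ∨ q < 0) → IsZero ((R q).X p)) :
    ∃ (E : CohomologicalSpectralSequence C 1) (a : SpSeq.Abutment E H),
      (∀ n, a.IsFinite n) ∧ SpSeq.IsBounded E ∧
      ∀ p q : ℤ, Nonempty ((E.page 1 le_rfl).X (p, q) ≅ (R q).X p) := by
  refine ⟨E R, abut R H e0 hp, abut_isFinite R H e0 hp, ?_, fun p q => ⟨pageOneXIso R p q⟩⟩
  intro n
  apply (Set.finite_Icc (0 : ℤ) n).subset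
  intro p hp'
  simp only [Set.mem_ofPred_eq] at hp'
  by_contra h
  simp only [Set.mem_Icc, not_and_or, not_le] at h
  apply hp'
  refine IsZero.of_iso (hb p (n - p) ?_) (pageOneXIso R p (n - p))
  omega

end Groth.Agent.Lib.Helper5.DegenSS
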