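import Mathlib

/-!
# Morphisms from a presheaf of sets to a sheaf are determined on a locally generating subpresheaf
(helper5)
-/

set_option autoImplicit false
universe w v u

namespace Groth.Agent.Lib.Helper5.DenseSub

open CategoryTheory CategoryTheory.Limits Opposite

variable {C : Type u} [Category.{v} C] {J : GrothendieckTopology C}
  {K 𝒢 : Cᵒᵖ ⥤ Type w} (K' : Subfunctor K)
  (hK' : ∀ (U : Cᵒᵖ) (s : K.obj U), K'.sieveOfSection s ∈ J (unop U))
  (h𝒢 : Presieve.IsSheaf J 𝒢)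

/-- every section is locally in `K'` -/
def toShf (hK' : ∀ (U : Cᵒᵖ) (s : K.obj U), K'.sieveOfSection s ∈ J (unop U)) :
    K ⟶ (K'.sheafify J).toFunctor where
  app U := ↾fun s => ⟨s, hK' U s⟩
  naturality _ _ _ := rfl

/-- extension of a morphism from a locally generating subpresheaf -/
noncomputable def extend (f : K'.toFunctor ⟶ 𝒢) : K ⟶ 𝒢 :=
  toShf K' hK' ≫ K'.sheafifyLift f h𝒢

lemma ι_extend (f : K'.toFunctor ⟶ 𝒢) : K'.ι ≫ extend K' hK' h𝒢 f = f := by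
  exact K'.to_sheafifyLift f h𝒢

include hK' h𝒢 in
lemma hom_ext {Ψ₁ Ψ₂ : K ⟶ 𝒢} (h : K'.ι ≫ Ψ₁ = K'.ι ≫ Ψ₂) : Ψ₁ = Ψ₂ := by
  ext U s
  apply (h𝒢 _ (hK' U s)).isSeparatedFor.ext
  intro V f hf
  have h1 := ConcreteCategory.congr_hom (NatTrans.congr_app h (op V))
    (⟨K.map f.op s, hf⟩ : K'.toFunctor.obj (op V))
  have e1 := NatTrans.naturality_apply Ψ₁ f.op s
  have e2 := NatTrans.naturality_apply Ψ₂ f.op s
  exact e1.symm.trans (h1.trans e2)

end Groth.Agent.Lib.Helper5.DenseSub
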