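import Groth.Agent.Lib.Helper15.ConstRat
import Groth.Agent.Lib.Helper15.LcStruct
import Groth.Agent.Lib.Helper2.RDBridge
import Groth.Prelude.Def_EtDepth
import Groth.Agent.Lib.Helper5.EtSectDerived

/-!
# Helper5: dévissage of constant sheaves with finite `ℓ`-primary value group
-/

set_option autoImplicit false
universe u

namespace Groth.Agent.Lib.Helper5.DepthDevissage

open CategoryTheory Limits AlgebraicGeometry Opposite Helper15.LcStruct

set_option backward.isDefEq.respectTransparency.types false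

section Alg

variable (ℓ : ℕ) [hℓ : Fact ℓ.Prime]

/-- an element of order `ℓ` in a nontrivial `ℓ`-primary group. -/
lemma exists_order_ell {A : Type*} [AddCommGroup A] (hA : ∀ a : A, ∃ e : ℕ, ℓ ^ e • a = 0)
    (a : A) (ha : a ≠ 0) : ∃ b : A, b ≠ 0 ∧ ℓ • b = 0 := by
  obtain ⟨e, he⟩ := hA a
  induction e generalizing a with
  | zero => exact absurd (by simpa using he) ha
  | succ e ih =>
    by_cases h : ℓ ^ e • a = 0
    · exact ih a ha h
    · exact ⟨ℓ ^ e • a, h, by rw [← mul_smul, ← pow_succ']; exact he⟩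

/-- the inclusion `ℤ/ℓ → A`, `1 ↦ b`. -/
noncomputable def φ {A : Type*} [AddCommGroup A] (b : A) (hb : ℓ • b = 0) : ULift.{u + 1} (ZMod ℓ) →+ A :=
  (ZMod.lift ℓ ⟨zmultiplesHom A b, by simpa using hb⟩).comp AddEquiv.ulift.toAddMonoidHom

lemma φ_injective {A : Type*} [AddCommGroup A] (b : A) (hb : ℓ • b = 0) (hb0 : b ≠ 0) :
    Function.Injective (φ.{u} ℓ b hb) := by
  have h1 : Function.Injective (ZMod.lift ℓ ⟨zmultiplesHom A b, by simpa using hb⟩) := by
    rw [ZMod.lift_injective]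
    intro m hm
    have hm' : m • b = 0 := by simpa using hm
    have hord : addOrderOf b = ℓ := addOrderOf_eq_prime hb hb0
    rw [← addOrderOf_dvd_iff_zsmul_eq_zero, hord] at hm'
    exact (ZMod.intCast_zmod_eq_zero_iff_dvd m ℓ).2 hm'
  exact h1.comp AddEquiv.ulift.injective

lemma φ_one {A : Type*} [AddCommGroup A] (b : A) (hb : ℓ • b = 0) :
    φ.{u} ℓ b hb (ULift.up 1) = b := by
  have h := ZMod.lift_coe ℓ (⟨zmultiplesHom A b, by simpa using hb⟩ : {f : ℤ →+ A // f ℓ = 0}) 1
  have h2 : ((1 : ℤ) : ZMod ℓ) = 1 := Int.cast_one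
  rw [h2] at h
  refine Eq.trans ?_ (h.trans (by simp))
  rfl

end Alg

section Sheaf

open Groth.Agent.Lib.Helper15.ConstRat Groth.Agent.Lib.Helper2.RDBridge

variable {Y U' : Scheme.{u}} (j' : U' ⟶ Y) [IsOpenImmersion j'] [EtCoh.BCCont j']
  (ℓ : ℕ) [hℓ : Fact ℓ.Prime] (n : ℕ)

/-- the short complex `ℤ/ℓ → A → A / (b)`. -/
noncomputable def SA (A : AddCommGrpCat.{u + 1}) (b : A) (hb : ℓ • b = 0) :
    ShortComplex AddCommGrpCat.{u + 1} :=
  ShortComplex.mk (AddCommGrpCat.ofHom (φ.{u} ℓ b hb))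
    (AddCommGrpCat.ofHom (QuotientAddGroup.mk' (φ.{u} ℓ b hb).range)) (by
      ext x
      change QuotientAddGroup.mk' (φ.{u} ℓ b hb).range (φ.{u} ℓ b hb x) = 0
      rw [QuotientAddGroup.mk'_apply, QuotientAddGroup.eq_zero_iff]
      exact ⟨x, rfl⟩)

lemma SA_shortExact (A : AddCommGrpCat.{u + 1}) (b : A) (hb : ℓ • b = 0) (hb0 : b ≠ 0) :
    (SA ℓ A b hb).ShortExact := by
  have hex : (SA ℓ A b hb).Exact := by
    rw [ShortComplex.ab_exact_iff]
    intro x hx
    have hx' : QuotientAddGroup.mk' (φ.{u} ℓ b hb).range x = 0 := hx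
    rw [QuotientAddGroup.mk'_apply, QuotientAddGroup.eq_zero_iff] at hx'
    obtain ⟨y, hy⟩ := hx'
    exact ⟨y, hy⟩
  haveI : Mono (SA ℓ A b hb).f :=
    (AddCommGrpCat.mono_iff_injective _).2 (φ_injective ℓ b hb hb0)
  haveI : Epi (SA ℓ A b hb).g :=
    (AddCommGrpCat.epi_iff_surjective _).2 (QuotientAddGroup.mk'_surjective (φ.{u} ℓ b hb).range)
  exact ShortComplex.ShortExact.mk hex

include hℓ in
/-- dévissage: the depth of a constant sheaf with finite `ℓ`-primary value group is at least the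
depth of `ℤ/ℓ`. -/
theorem depthGE_cst (h : EtDepth.DepthGE j' (EtCoh.const Y (ZMod ℓ)) n) :
    ∀ (k : ℕ) (A : AddCommGrpCat.{u + 1}) [Finite A], Nat.card A = k →
      (∀ a : A, ∃ e : ℕ, ℓ ^ e • a = 0) → EtDepth.DepthGE j' (cst Y A) n := by
  intro k
  induction k using Nat.strong_induction_on with
  | _ k ih =>
    intro A hfin hk hA p hp
    by_cases htriv : ∀ a : A, a = 0
    · haveI : Subsingleton A := ⟨fun a b => (htriv a).trans (htriv b).symm⟩
      have hz : IsZero A := AddCommGrpCat.isZero_of_subsingleton A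
      exact ((EtDual.secSupp j').rightDerived p).map_isZero
        ((constantSheaf Y.smallEtaleTopology AddCommGrpCat.{u + 1}).map_isZero hz)
    · push Not at htriv
      obtain ⟨a, ha⟩ := htriv
      obtain ⟨b, hb0, hb⟩ := exists_order_ell ℓ hA a ha
      have hS := SA_shortExact ℓ A b hb hb0
      haveI := const_pfl Y
      haveI := const_pfc Y
      have hS' := hS.map_of_exact (constantSheaf Y.smallEtaleTopology AddCommGrpCat.{u + 1})
      -- the quotient
      let N := (φ.{u} ℓ b hb).range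
      have hcard : Nat.card (A ⧸ N) * Nat.card N = Nat.card A :=
        (AddSubgroup.card_eq_card_quotient_mul_card_addSubgroup N).symm
      have hN : 1 < Nat.card N := by
        have hbN : b ∈ N := ⟨ULift.up 1, φ_one.{u} ℓ b hb⟩
        haveI : Nontrivial N := ⟨⟨⟨b, hbN⟩, 0, fun h => hb0 (congrArg Subtype.val h)⟩⟩
        exact Finite.one_lt_card
      have hpos : 0 < Nat.card (A ⧸ N) := Nat.card_pos
      have hlt : Nat.card (A ⧸ N) < k := by
        rw [← hk, ← hcard]
        nlinarith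
      have hB : ∀ x : A ⧸ N, ∃ e : ℕ, ℓ ^ e • x = 0 := by
        intro x
        obtain ⟨y, rfl⟩ := QuotientAddGroup.mk'_surjective N x
        obtain ⟨e, he⟩ := hA y
        exact ⟨e, by rw [← map_nsmul, he, map_zero]⟩
      have h3 := ih _ hlt (AddCommGrpCat.of (A ⧸ N)) rfl hB p hp
      have h1 := h p hp
      obtain ⟨δ, z1, z2, z3, e1, e2, e3⟩ := rightDerived_les' (EtDual.secSupp j') _ hS' p
      exact e1.isZero_of_both_zeros (h1.eq_of_src _ _) (h3.eq_of_tgt _ _)

end Sheaf

end Groth.Agent.Lib.Helper5.DepthDevissage
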