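import Groth.Agent.Lib.Helper5.ExtDepth
import Groth.Agent.Lib.Helper2.EtMV.Etale
import Groth.Agent.Lib.Helper13.StalkPull

/-!
# Helper5: restriction maps to an open subscheme and `Ext(ℤ_X / j_! ℤ_U, -)`
-/

set_option autoImplicit false
universe u
open CategoryTheory CategoryTheory.Limits AlgebraicGeometry Opposite EtCore

namespace Groth.Agent.Lib.Helper5.DepthHpull

open Groth.Agent.Lib.Helper2.EtMV Groth.Agent.Lib.Helper13.StalkConservative
open Groth.Agent.Lib.Helper13.StalkPull Groth.Agent.Lib.Helper13.EtaleRestr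
open Groth.Agent.Lib.Helper13.ExtZeroExact Groth.Agent.Lib.Helper5.ExtDepth

variable {U X : Scheme.{u}} (j : U ⟶ X) [IsOpenImmersion j]

instance mono_aMap : Mono (aMap j) := by
  rw [mono_iff_stalks]
  intro i
  by_cases h : i.ξ default ∈ Set.range j.base
  · have hr : Set.range i.ξ.base ⊆ Set.range j.base := by
      rintro _ ⟨p, rfl⟩
      rw [Unique.eq_default p]
      exact h
    have hv : IsOpenImmersion.lift j i.ξ hr ≫ j = i.ξ := IsOpenImmersion.lift_fac _ _ _
    haveI := isIso_stalk_of_isIso_pull j (IsOpenImmersion.lift j i.ξ hr) i.ξ hv (aMap j)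
    exact (ConcreteCategory.bijective_of_isIso ((EtCoh.stalk i.ξ).map (aMap j))).1
  · have hempty : IsEmpty {v : Spec (CommRingCat.of i.Ω) ⟶ U // v ≫ j = i.ξ} := by
      constructor
      rintro ⟨v, hv⟩
      apply h
      rw [← hv]
      exact ⟨v default, rfl⟩
    have hz := isZero_stalk_extZero j i.ξ hempty (EtCoh.const U ℤ)
    haveI := AddCommGrpCat.subsingleton_of_isZero hz
    intro a b _
    exact Subsingleton.elim _ _

/-- the quotient `ℤ_X / j_! ℤ_U`. -/
noncomputable abbrev Q : EtCoh.Ab X := cokernel (aMap j)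

/-- the short complex `j_! ℤ_U → ℤ_X → Q`. -/
noncomputable abbrev SQ : ShortComplex (EtCoh.Ab X) :=
  ShortComplex.mk (aMap j) (cokernel.π (aMap j)) (cokernel.condition _)

lemma SQ_shortExact : (SQ j).ShortExact :=
  ShortComplex.ShortExact.mk' (ShortComplex.exact_of_g_is_cokernel _ (cokernelIsCokernel _))
    inferInstance inferInstance

variable [PreservesFiniteLimits (EtCoh.pull j)]

lemma Hpull_eq_res (F : EtCoh.Ab X) (p : ℕ) (e : EtCoh.H X F p) :
    Hpull j F p e = Θ j F p (res (SQ j) F p e) :=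
  Hpull_eq j F p e

lemma Hpull_injective_iff (F : EtCoh.Ab X) (p : ℕ) :
    Function.Injective (Hpull j F p) ↔ Function.Injective (res (SQ j) F p) := by
  have h : ⇑(Hpull j F p) = ⇑(Θ j F p) ∘ ⇑(res (SQ j) F p) := funext (Hpull_eq_res j F p)
  rw [h]
  exact (Θ j F p).injective.of_comp_iff _

lemma Hpull_bijective_iff (F : EtCoh.Ab X) (p : ℕ) :
    Function.Bijective (Hpull j F p) ↔ Function.Bijective (res (SQ j) F p) := by
  have h : ⇑(Hpull j F p) = ⇑(Θ j F p) ∘ ⇑(res (SQ j) F p) := funext (Hpull_eq_res j F p)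
  rw [h]
  exact Function.Bijective.of_comp_iff' (Θ j F p).bijective _

/-- `Ext^p(ℤ_X / j_! ℤ_U, F) = 0` for `p < n` iff the restriction maps `H^p(X, F) → H^p(U, F)` are
bijective for `p + 1 < n` and injective for `p + 1 = n`. -/
theorem forall_subsingleton_ext_Q_iff (F : EtCoh.Ab X) (n : ℕ) :
    (∀ p : ℕ, p < n → Subsingleton (Abelian.Ext.{u + 1} (Q j) F p)) ↔
      (∀ p : ℕ, p + 1 < n → Function.Bijective (Hpull j F p)) ∧
        (∀ p : ℕ, p + 1 = n → Function.Injective (Hpull j F p)) := by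
  rw [forall_subsingleton_iff (SQ j) (SQ_shortExact j) F n]
  simp only [Hpull_injective_iff, Hpull_bijective_iff]

end Groth.Agent.Lib.Helper5.DepthHpull
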