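import Groth.Agent.Lib.Helper4.Depth
import Mathlib

/-!
# Helper5: a criterion for depth one of a Noetherian local domain
-/

set_option autoImplicit false
universe u

open scoped Pointwise

namespace Groth.Agent.Lib.Helper5.DepthOne

section Alg

variable {R K : Type*} [CommRing R] [IsDomain R] [IsNoetherianRing R] [IsLocalRing R] [Field K]
  [Algebra R K] [IsFractionRing R K]

/-- If `f ∈ K ∖ R` becomes regular after localizing at every non-maximal prime, then the maximal
ideal is an associated prime of `R/bR` for some nonzero `b` in the maximal ideal. -/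
theorem exists_mem_associatedPrimes (f : K) (hfR : f ∉ Set.range (algebraMap R K))
    (h2 : ∀ 𝔭 : Ideal R, 𝔭.IsPrime → 𝔭 ≠ IsLocalRing.maximalIdeal R →
      ∃ s ∉ 𝔭, algebraMap R K s * f ∈ Set.range (algebraMap R K)) :
    ∃ b ∈ IsLocalRing.maximalIdeal R, b ≠ 0 ∧
      IsLocalRing.maximalIdeal R ∈ associatedPrimes R (QuotSMulTop b R) := by
  classical
  let J : Ideal R :=
    { carrier := {c | algebraMap R K c * f ∈ Set.range (algebraMap R K)}
      add_mem' := by
        rintro c d ⟨u, hu⟩ ⟨v, hv⟩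
        exact ⟨u + v, by rw [map_add, map_add, add_mul, hu, hv]⟩
      zero_mem' := ⟨0, by simp⟩
      smul_mem' := by
        rintro r c ⟨u, hu⟩
        exact ⟨r * u, by rw [smul_eq_mul, map_mul, map_mul, mul_assoc, hu]⟩ }
  have hJmem : ∀ c, c ∈ J ↔ algebraMap R K c * f ∈ Set.range (algebraMap R K) := fun c => Iff.rfl
  have h1J : (1 : R) ∉ J := by
    rw [hJmem, map_one, one_mul]; exact hfR
  have hJtop : J ≠ ⊤ := fun h => h1J (h ▸ Submodule.mem_top)
  have hJm : J ≤ IsLocalRing.maximalIdeal R := IsLocalRing.le_maximalIdeal hJtop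
  obtain ⟨⟨a, b⟩, hab⟩ := IsLocalization.surj (nonZeroDivisors R) f
  have hb0 : (b : R) ≠ 0 := nonZeroDivisors.ne_zero b.2
  have hbK : algebraMap R K b ≠ 0 := by
    rw [Ne, map_eq_zero_iff _ (IsFractionRing.injective R K)]; exact hb0
  have hab' : f * algebraMap R K b = algebraMap R K a := hab
  have hbJ : (b : R) ∈ J := ⟨a, by rw [← hab', mul_comm]⟩
  have hrad : IsLocalRing.maximalIdeal R ≤ J.radical := by
    rw [Ideal.radical_eq_sInf]
    refine le_sInf ?_
    rintro 𝔭 ⟨hJ𝔭, h𝔭⟩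
    by_contra hne
    have h𝔭m : 𝔭 ≠ IsLocalRing.maximalIdeal R := fun h => hne (h ▸ le_rfl)
    obtain ⟨s, hs𝔭, hsJ⟩ := h2 𝔭 h𝔭 h𝔭m
    exact hs𝔭 (hJ𝔭 hsJ)
  have hex : ∃ n, IsLocalRing.maximalIdeal R ^ n ≤ J :=
    Ideal.exists_pow_le_of_le_radical_of_fg hrad (IsNoetherian.noetherian _)
  have hn₀ : IsLocalRing.maximalIdeal R ^ (Nat.find hex) ≤ J := Nat.find_spec hex
  have hn₀pos : Nat.find hex ≠ 0 := by
    intro h0
    rw [h0, pow_zero, Ideal.one_eq_top] at hn₀
    exact hJtop (top_le_iff.mp hn₀)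
  obtain ⟨k, hk⟩ := Nat.exists_eq_succ_of_ne_zero hn₀pos
  have hk' : ¬ IsLocalRing.maximalIdeal R ^ k ≤ J := Nat.find_min hex (by omega)
  obtain ⟨c, hcm, hcJ⟩ := SetLike.not_le_iff_exists.mp hk'
  have hmc : ∀ r ∈ IsLocalRing.maximalIdeal R, r * c ∈ J := by
    intro r hr
    apply hn₀
    rw [hk, pow_succ']
    exact Ideal.mul_mem_mul hr hcm
  have key : ∀ d : R, d * a ∈ ((b : R) • (⊤ : Submodule R R)) ↔ d ∈ J := by
    intro d
    rw [Submodule.mem_smul_pointwise_iff_exists]
    constructor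
    · rintro ⟨e, -, he⟩
      refine ⟨e, ?_⟩
      apply mul_right_cancel₀ hbK
      rw [mul_assoc, hab', ← map_mul, ← map_mul, ← he, smul_eq_mul, mul_comm]
    · rintro ⟨e, he⟩
      refine ⟨e, trivial, ?_⟩
      apply IsFractionRing.injective R K
      rw [smul_eq_mul, map_mul, he, map_mul, ← hab']; ring
  refine ⟨b, hJm hbJ, hb0, ?_⟩
  rw [AssociatedPrimes.mem_iff, isAssociatedPrime_iff]
  refine ⟨inferInstance, Submodule.Quotient.mk (c * a), ?_⟩
  ext r
  rw [Submodule.mem_colon_singleton, Submodule.mem_bot, ← Submodule.Quotient.mk_smul,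
    Submodule.Quotient.mk_eq_zero, smul_eq_mul, ← mul_assoc, key]
  constructor
  · exact hmc r
  · intro hrc
    by_contra hr
    have hu : IsUnit r := IsLocalRing.notMem_maximalIdeal.mp hr
    apply hcJ
    have := J.mul_mem_left (hu.unit⁻¹ : Rˣ) hrc
    rwa [← mul_assoc, IsUnit.val_inv_mul, one_mul] at this

end Alg

section Depth

variable {R : Type u} [CommRing R] [IsDomain R] [IsNoetherianRing R] [IsLocalRing R]

theorem depth_eq_one (b : R) (hbm : b ∈ IsLocalRing.maximalIdeal R) (hb0 : b ≠ 0)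
    (hass : IsLocalRing.maximalIdeal R ∈ associatedPrimes R (QuotSMulTop b R)) :
    LocCoh.depth R R = 1 := by
  have hreg : IsSMulRegular R b := fun x y h => mul_left_cancel₀ hb0 h
  have h1 := Groth.Agent.Lib.Helper4.idealDepth_quotSMulTop_add_one
    (IsLocalRing.maximalIdeal R) b hbm hreg
  have h0 : LocCoh.depth R (QuotSMulTop b R) = 0 :=
    Groth.Agent.Lib.Helper4.depth_eq_zero_iff_maximalIdeal_mem_associatedPrimes.mpr hass
  unfold LocCoh.depth at h0 ⊢
  rw [← h1, h0, zero_add]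

end Depth

end Groth.Agent.Lib.Helper5.DepthOne
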