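import Groth.Agent.Lib.Helper15.DerivedLES

/-!
# Helper5: another consequence of the long exact sequence of derived functors
-/

set_option autoImplicit false

namespace Groth.Agent.Lib.Helper5.DerivedLES2

open CategoryTheory Limits Groth.Agent.Lib.Helper15.DerivedLES

universe v v' w w'

variable {C : Type w} [Category.{v} C] [Abelian C] [HasInjectiveResolutions C]
  {D : Type w'} [Category.{v'} D] [Abelian D]
  {G₁ G₂ G₃ : C ⥤ D} [G₁.Additive] [G₂.Additive] [G₃.Additive]
  (α : G₁ ⟶ G₂) (β : G₂ ⟶ G₃) (hαβ : ∀ X, α.app X ≫ β.app X = 0)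
  (hex : ∀ I : C, Injective I → (ShortComplex.mk (α.app I) (β.app I) (hαβ I)).ShortExact)

include hex in
/-- `R^p G₂ X ≅ R^p G₃ X` when `R^p G₁ X = 0 = R^{p+1} G₁ X`. -/
lemma nonempty_midIso {X : C} (p : ℕ)
    (h1 : IsZero ((G₁.rightDerived p).obj X))
    (h2 : IsZero ((G₁.rightDerived (p + 1)).obj X)) :
    Nonempty ((G₂.rightDerived p).obj X ≅ (G₃.rightDerived p).obj X) := by
  obtain ⟨J⟩ : Nonempty (InjectiveResolution X) := ⟨injectiveResolution X⟩
  have hS := SC_shortExact α β hαβ hex J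
  have z1 : IsZero ((SC α β hαβ J).X₁.homology p) :=
    IsZero.of_iso h1 (J.isoRightDerivedObj G₁ p).symm
  have z2 : IsZero ((SC α β hαβ J).X₁.homology (p + 1)) :=
    IsZero.of_iso h2 (J.isoRightDerivedObj G₁ (p + 1)).symm
  haveI : Mono (HomologicalComplex.homologyMap (SC α β hαβ J).g p) :=
    (hS.homology_exact₂ p).mono_g (z1.eq_of_src _ _)
  haveI : Epi (HomologicalComplex.homologyMap (SC α β hαβ J).g p) :=
    (hS.homology_exact₃ p (p + 1) rfl).epi_f (z2.eq_of_tgt _ _)
  have hiso : IsIso (HomologicalComplex.homologyMap (SC α β hαβ J).g p) := isIso_of_mono_of_epi _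
  exact ⟨J.isoRightDerivedObj G₂ p ≪≫
    @asIso _ _ _ _ (HomologicalComplex.homologyMap (SC α β hαβ J).g p) hiso ≪≫
    (J.isoRightDerivedObj G₃ p).symm⟩

end Groth.Agent.Lib.Helper5.DerivedLES2
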