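import Mathlib
import Groth.Prelude.Def_SpSeq
import Groth.Agent.Lib.Helper5.DegenSS
import Groth.Agent.Lib.Helper5.CosimpExact

/-!
# The degenerate descent spectral sequence of an augmented simplicial object with an
extra degeneracy (helper5)
-/

set_option autoImplicit false

namespace Groth.Agent.Lib.Helper5.DescentSS

open CategoryTheory CategoryTheory.Limits Opposite Simplicial
open Groth.Agent.Lib.Helper5 ZeroObject

universe w v' u'

variable {𝒯 : Type u'} [Category.{v'} 𝒯] (Ψ : ℕ → 𝒯ᵒᵖ ⥤ AddCommGrpCat.{w})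
  (X : SimplicialObject.Augmented 𝒯) (ed : SimplicialObject.Augmented.ExtraDegeneracy X)

/-- The rows. -/
noncomputable def rows (q : ℤ) : CochainComplex AddCommGrpCat.{w} ℤ :=
  if 0 ≤ q then CosimpExact.R (Ψ q.toNat) X else 0

lemma rows_of_nonneg (q : ℤ) (hq : 0 ≤ q) : rows Ψ X q = CosimpExact.R (Ψ q.toNat) X := if_pos hq

lemma rows_of_neg (q : ℤ) (hq : ¬ 0 ≤ q) : rows Ψ X q = 0 := if_neg hq

lemma isZero_rows_X (p q : ℤ) (h : p < 0 ∨ q < 0) : IsZero ((rows Ψ X q).X p) := by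
  by_cases hq : 0 ≤ q
  · rw [rows_of_nonneg Ψ X q hq]
    exact CosimpExact.isZero_RX_of_neg _ _ p (by omega)
  · rw [rows_of_neg Ψ X q hq]
    exact (HomologicalComplex.eval _ _ p).map_isZero (isZero_zero _)

include ed in
lemma isZero_rows_homology (q p : ℤ) (hp : p ≠ 0) : IsZero ((rows Ψ X q).homology p) := by
  by_cases hq : 0 ≤ q
  · rw [rows_of_nonneg Ψ X q hq]
    exact CosimpExact.isZero_homology _ _ ed p hp
  · rw [rows_of_neg Ψ X q hq]
    exact (HomologicalComplex.homologyFunctor _ _ p).map_isZero (isZero_zero _)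

/-- The terms of the rows. -/
noncomputable def rowsXIso (p q : ℕ) :
    (rows Ψ X (q : ℤ)).X (p : ℤ) ≅ (Ψ q).obj (op (X.left.obj (op ⦋p⦌))) :=
  (HomologicalComplex.eval _ _ (p : ℤ)).mapIso
    (eqToIso (rows_of_nonneg Ψ X (q : ℤ) (Int.natCast_nonneg q))) ≪≫
    CosimpExact.RXIso (Ψ (q : ℤ).toNat) X p ≪≫
    eqToIso (by rw [Int.toNat_natCast])

/-- The zeroth cohomology of the rows. -/
noncomputable def rowsHomologyZeroIso (q : ℕ) :
    (rows Ψ X (q : ℤ)).homology 0 ≅ (Ψ q).obj (op X.right) :=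
  (HomologicalComplex.homologyFunctor _ _ 0).mapIso
    (eqToIso (rows_of_nonneg Ψ X (q : ℤ) (Int.natCast_nonneg q))) ≪≫
    CosimpExact.homologyZeroIso (Ψ (q : ℤ).toNat) X ed ≪≫
    eqToIso (by rw [Int.toNat_natCast])

include ed in
theorem exists_spectralSequence (H0 : ℕ → AddCommGrpCat.{w})
    (e : ∀ q, Nonempty ((Ψ q).obj (op X.right) ≅ H0 q))
    (E1 : ℕ → ℕ → AddCommGrpCat.{w})
    (e1 : ∀ p q, Nonempty ((Ψ q).obj (op (X.left.obj (op ⦋p⦌))) ≅ E1 p q))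
    (Z Z' : AddCommGrpCat.{w}) (hZ : IsZero Z) (hZ' : IsZero Z') :
    ∃ (E : CohomologicalSpectralSequence AddCommGrpCat.{w} 1)
      (a : SpSeq.Abutment E (fun n : ℤ => if 0 ≤ n then H0 n.toNat else Z)),
      (∀ n, a.IsFinite n) ∧ SpSeq.IsBounded E ∧
      ∀ p q : ℤ, Nonempty ((E.page 1 le_rfl).X (p, q) ≅
        (if 0 ≤ p ∧ 0 ≤ q then E1 p.toNat q.toNat else Z')) := by
  have e0 : ∀ q : ℤ, Nonempty ((rows Ψ X q).homology 0 ≅
      (fun n : ℤ => if 0 ≤ n then H0 n.toNat else Z) q) := by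
    intro q
    by_cases hq : 0 ≤ q
    · obtain ⟨k, rfl⟩ := Int.eq_ofNat_of_zero_le hq
      obtain ⟨i⟩ := e k
      refine ⟨rowsHomologyZeroIso Ψ X ed k ≪≫ i ≪≫ eqToIso ?_⟩
      simp only [hq, if_true, Int.toNat_natCast]
    · refine ⟨IsZero.iso ?_ ?_⟩
      · rw [rows_of_neg Ψ X q hq]
        exact (HomologicalComplex.homologyFunctor _ _ 0).map_isZero (isZero_zero _)
      · simp only [hq, if_false]
        exact hZ
  obtain ⟨E, a, ha, hE, h1⟩ := DegenSS.exists_of_rows (rows Ψ X)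
    (fun n : ℤ => if 0 ≤ n then H0 n.toNat else Z) (fun q => (e0 q).some)
    (isZero_rows_homology Ψ X ed) (isZero_rows_X Ψ X)
  refine ⟨E, a, ha, hE, ?_⟩
  intro p q
  obtain ⟨i⟩ := h1 p q
  by_cases hpq : 0 ≤ p ∧ 0 ≤ q
  · obtain ⟨p', rfl⟩ := Int.eq_ofNat_of_zero_le hpq.1
    obtain ⟨q', rfl⟩ := Int.eq_ofNat_of_zero_le hpq.2
    rw [if_pos hpq, Int.toNat_natCast, Int.toNat_natCast]
    obtain ⟨j⟩ := e1 p' q'
    exact ⟨i ≪≫ rowsXIso Ψ X p' q' ≪≫ j⟩
  · rw [if_neg hpq]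
    refine ⟨IsZero.iso (IsZero.of_iso (isZero_rows_X Ψ X p q ?_) i) hZ'⟩
    rw [not_and_or, not_le, not_le] at hpq
    exact hpq

end Groth.Agent.Lib.Helper5.DescentSS
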