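import Mathlib

/-!
# One step of the simultaneous elementary replacement of a cochain complex (helper5)

For a cochain complex `K` in an abelian category and monomorphisms `ι n : K.X n ⟶ M n`, we construct
a complex `Qc` with terms the cokernels of `(ι n, d ≫ ι (n+1)) : K.X n ⟶ M n ⊞ M (n+1)` and a
quasi-isomorphism `ψt : K⟦1⟧ ⟶ Qc`, which is an isomorphism in the degrees `n` where `ι n` and
`ι (n+1)` are isomorphisms.
-/

set_option autoImplicit false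
universe v u
open CategoryTheory CategoryTheory.Limits

namespace Groth.Agent.Lib.Helper5.DimStep

variable {A : Type u} [Category.{v} A] [Abelian A]

/-- a complex with a contracting homotopy is acyclic -/
lemma acyclic_of_contraction (X : ℤ → A) (d : ∀ n, X n ⟶ X (n + 1))
    (sq : ∀ n, d n ≫ d (n + 1) = 0) (r : ∀ n, X (n + 1) ⟶ X n)
    (hr : ∀ n, r n ≫ d n + d (n + 1) ≫ r (n + 1) = 𝟙 (X (n + 1))) :
    (CochainComplex.of X d sq).Acyclic := by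
  intro n
  obtain ⟨i, rfl⟩ : ∃ i, n = i + 1 := ⟨n - 1, by ring⟩
  rw [HomologicalComplex.exactAt_iff' _ i (i + 1) (i + 1 + 1) (by simp) (by simp),
    ShortComplex.exact_iff_exact_up_to_refinements]
  intro B x₂ hx₂
  have key : ∀ (y : B ⟶ X (i + 1)), y ≫ d (i + 1) = 0 → y = (y ≫ r i) ≫ d i := by
    intro y hy
    calc y = y ≫ 𝟙 _ := (Category.comp_id _).symm
      _ = y ≫ (r i ≫ d i + d (i + 1) ≫ r (i + 1)) := by rw [hr]
      _ = (y ≫ r i) ≫ d i := by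
        rw [Preadditive.comp_add, ← Category.assoc y (d (i + 1)), hy, zero_comp, add_zero,
          Category.assoc]
  have h1 : (CochainComplex.of X d sq).d i (i + 1) = d i := CochainComplex.of_d _ _ _
  have h2 : (CochainComplex.of X d sq).d (i + 1) (i + 1 + 1) = d (i + 1) :=
    CochainComplex.of_d _ _ _
  have h3 := key x₂ (by rw [← h2]; exact hx₂)
  refine ⟨B, 𝟙 B, inferInstance, x₂ ≫ r i, ?_⟩
  show 𝟙 B ≫ x₂ = (x₂ ≫ r i) ≫ (CochainComplex.of X d sq).d i (i + 1)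
  rw [Category.id_comp, h1]
  exact h3

/-- in a morphism of short exact sequences, if the first two maps are isomorphisms, so is the
third -/
lemma isIso_τ₃ {S₁ S₂ : ShortComplex A} (φ : S₁ ⟶ S₂) (h₁ : S₁.ShortExact) (h₂ : S₂.ShortExact)
    [IsIso φ.τ₁] [IsIso φ.τ₂] : IsIso φ.τ₃ := by
  haveI := h₁.epi_g
  haveI := h₂.epi_g
  have hz : S₂.f ≫ inv φ.τ₂ ≫ S₁.g = 0 := by
    have : S₂.f ≫ inv φ.τ₂ = inv φ.τ₁ ≫ S₁.f := by
      rw [IsIso.eq_inv_comp, ← Category.assoc, φ.comm₁₂, Category.assoc, IsIso.hom_inv_id,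
        Category.comp_id]
    rw [← Category.assoc, this, Category.assoc, S₁.zero, comp_zero]
  obtain ⟨l, hl⟩ := CokernelCofork.IsColimit.desc' h₂.gIsCokernel (inv φ.τ₂ ≫ S₁.g) hz
  have hl' : S₂.g ≫ l = inv φ.τ₂ ≫ S₁.g := hl
  refine ⟨⟨l, ?_, ?_⟩⟩
  · rw [← cancel_epi S₁.g, ← Category.assoc, ← φ.comm₂₃, Category.assoc, hl',
      IsIso.hom_inv_id_assoc, Category.comp_id]
  · rw [← cancel_epi S₂.g, ← Category.assoc, hl', Category.assoc, ← φ.comm₂₃,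
      IsIso.inv_hom_id_assoc, Category.comp_id]

section Pure

variable {X₀ X₁ X₂ M₀ M₁ M₂ : A}

lemma aux_sq : ((biprod.snd ≫ biprod.inl : M₀ ⊞ M₁ ⟶ M₁ ⊞ M₂)) ≫
    (biprod.snd ≫ biprod.inl : M₁ ⊞ M₂ ⟶ M₂ ⊞ X₀) = 0 := by
  simp

lemma aux_contr : (biprod.fst ≫ biprod.inr : M₁ ⊞ M₂ ⟶ M₀ ⊞ M₁) ≫ (biprod.snd ≫ biprod.inl) +
    (biprod.snd ≫ biprod.inl : M₁ ⊞ M₂ ⟶ M₂ ⊞ X₀) ≫ (biprod.fst ≫ biprod.inr) =
      𝟙 (M₁ ⊞ M₂) := by
  simp only [Category.assoc, biprod.inr_snd_assoc, biprod.inl_fst_assoc]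
  exact biprod.total

lemma aux_φ (a₀ : X₀ ⟶ M₀) (a₁ : X₁ ⟶ M₁) (a₂ : X₂ ⟶ M₂) (d₀ : X₀ ⟶ X₁) (d₁ : X₁ ⟶ X₂)
    (h : d₀ ≫ d₁ = 0) :
    biprod.lift a₀ (d₀ ≫ a₁) ≫ (biprod.snd ≫ biprod.inl : M₀ ⊞ M₁ ⟶ M₁ ⊞ M₂) =
      d₀ ≫ biprod.lift a₁ (d₁ ≫ a₂) := by
  refine biprod.hom_ext _ _ ?_ ?_
  · simp
  · simp [reassoc_of% h]

lemma aux_g (d₀ : X₀ ⟶ X₁) (d₁ : X₁ ⟶ X₂) (h : d₀ ≫ d₁ = 0) :
    ((biprod.snd : X₀ ⊞ X₁ ⟶ X₁) - biprod.fst ≫ d₀) ≫ (-d₁) =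
      (biprod.snd ≫ biprod.inl : X₀ ⊞ X₁ ⟶ X₁ ⊞ X₂) ≫ (biprod.snd - biprod.fst ≫ d₁) := by
  simp [Preadditive.sub_comp, Preadditive.comp_sub, h]

lemma aux_z (d₀ : X₀ ⟶ X₁) :
    biprod.lift (𝟙 X₀) (d₀ ≫ 𝟙 X₁) ≫ (biprod.snd - biprod.fst ≫ d₀) = 0 := by
  simp [Preadditive.comp_sub]

lemma aux_fr (d₀ : X₀ ⟶ X₁) : biprod.lift (𝟙 X₀) (d₀ ≫ 𝟙 X₁) ≫ biprod.fst = 𝟙 X₀ := by
  simp

lemma aux_sg (d₀ : X₀ ⟶ X₁) :
    (biprod.inr : X₁ ⟶ X₀ ⊞ X₁) ≫ (biprod.snd - biprod.fst ≫ d₀) = 𝟙 X₁ := by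
  simp [Preadditive.comp_sub]

lemma aux_id (d₀ : X₀ ⟶ X₁) :
    biprod.fst ≫ biprod.lift (𝟙 X₀) (d₀ ≫ 𝟙 X₁) + (biprod.snd - biprod.fst ≫ d₀) ≫ biprod.inr =
      𝟙 (X₀ ⊞ X₁) := by
  refine biprod.hom_ext _ _ ?_ ?_
  · simp [Preadditive.add_comp, Preadditive.sub_comp]
  · simp [Preadditive.add_comp, Preadditive.sub_comp]

lemma aux_map (a₀ : X₀ ⟶ M₀) (a₁ : X₁ ⟶ M₁) (a₂ : X₂ ⟶ M₂) :
    biprod.map a₀ a₁ ≫ (biprod.snd ≫ biprod.inl : M₀ ⊞ M₁ ⟶ M₁ ⊞ M₂) =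
      (biprod.snd ≫ biprod.inl : X₀ ⊞ X₁ ⟶ X₁ ⊞ X₂) ≫ biprod.map a₁ a₂ := by
  simp

lemma aux_φmap (a₀ : X₀ ⟶ M₀) (a₁ : X₁ ⟶ M₁) (d₀ : X₀ ⟶ X₁) :
    biprod.lift (𝟙 X₀) (d₀ ≫ 𝟙 X₁) ≫ biprod.map a₀ a₁ = biprod.lift a₀ (d₀ ≫ a₁) := by
  refine biprod.hom_ext _ _ ?_ ?_
  · simp
  · simp

end Pure

variable (M : ℤ → A)

/-- the contractible complex with terms `M n ⊞ M (n+1)` -/
noncomputable def E : CochainComplex A ℤ :=
  CochainComplex.of (fun n => M n ⊞ M (n + 1)) (fun _ => biprod.snd ≫ biprod.inl)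
    (fun _ => aux_sq)

lemma E_d (n : ℤ) : (E M).d n (n + 1) = biprod.snd ≫ biprod.inl :=
  CochainComplex.of_d (fun n => M n ⊞ M (n + 1)) (fun _ => biprod.snd ≫ biprod.inl) n

lemma E_acyclic : (E M).Acyclic :=
  acyclic_of_contraction (fun n => M n ⊞ M (n + 1)) (fun _ => biprod.snd ≫ biprod.inl)
    (fun _ => aux_sq) (fun _ => biprod.fst ≫ biprod.inr) (fun _ => aux_contr)

variable (K : CochainComplex A ℤ) (ι : ∀ n, K.X n ⟶ M n)

/-- the map `K ⟶ E M` with components `(ι n, d ≫ ι (n+1))` -/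
noncomputable def φ : K ⟶ E M where
  f n := biprod.lift (ι n) (K.d n (n + 1) ≫ ι (n + 1))
  comm' i j hij := by
    obtain rfl : i + 1 = j := hij
    rw [E_d]
    exact aux_φ _ _ _ _ _ (K.d_comp_d _ _ _)

lemma φ_f (n : ℤ) : (φ M K ι).f n = biprod.lift (ι n) (K.d n (n + 1) ≫ ι (n + 1)) := rfl

instance φ_f_mono [∀ n, Mono (ι n)] (n : ℤ) : Mono ((φ M K ι).f n) :=
  mono_of_mono_fac (biprod.lift_fst _ _)

instance φ_mono [∀ n, Mono (ι n)] : Mono (φ M K ι) :=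
  HomologicalComplex.mono_of_mono_f _ (fun _ => inferInstance)

/-- the quotient complex `E M / K` -/
noncomputable def Qc : CochainComplex A ℤ := cokernel (φ M K ι)

/-- the short exact sequence `0 ⟶ K ⟶ E M ⟶ Qc ⟶ 0` -/
noncomputable def SB : ShortComplex (CochainComplex A ℤ) :=
  ShortComplex.mk (φ M K ι) (cokernel.π (φ M K ι)) (cokernel.condition _)

lemma SB_shortExact [∀ n, Mono (ι n)] : (SB M K ι).ShortExact :=
  ShortComplex.ShortExact.mk' (ShortComplex.exact_cokernel _) (φ_mono M K ι)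
    (inferInstanceAs (Epi (cokernel.π (φ M K ι))))

lemma shift_d (i : ℤ) : (K⟦(1 : ℤ)⟧).d i (i + 1) = -K.d (i + 1) (i + 1 + 1) := by
  simp

/-- the map `E K.X ⟶ K⟦1⟧`, `(a, b) ↦ b - d a` -/
noncomputable def gA : E (fun n => K.X n) ⟶ K⟦(1 : ℤ)⟧ where
  f n := biprod.snd - biprod.fst ≫ K.d n (n + 1)
  comm' i j hij := by
    obtain rfl : i + 1 = j := hij
    rw [E_d, shift_d]
    exact aux_g _ _ (K.d_comp_d _ _ _)

/-- the short exact sequence `0 ⟶ K ⟶ E K.X ⟶ K⟦1⟧ ⟶ 0` -/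
noncomputable def SA : ShortComplex (CochainComplex A ℤ) :=
  ShortComplex.mk (φ (fun n => K.X n) K (fun _ => 𝟙 _)) (gA K) (by
    ext n
    exact aux_z _)

lemma SA_shortExact : (SA K).ShortExact := by
  apply HomologicalComplex.shortExact_of_degreewise_shortExact
  intro n
  show (ShortComplex.mk (biprod.lift (𝟙 (K.X n)) (K.d n (n + 1) ≫ 𝟙 (K.X (n + 1))))
    (biprod.snd - biprod.fst ≫ K.d n (n + 1)) (aux_z _)).ShortExact
  exact (ShortComplex.Splitting.mk biprod.fst biprod.inr (aux_fr _) (aux_sg _)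
    (aux_id _)).shortExact

/-- the map `E K.X ⟶ E M` induced by `ι` -/
noncomputable def Emap : E (fun n => K.X n) ⟶ E M where
  f n := biprod.map (ι n) (ι (n + 1))
  comm' i j hij := by
    obtain rfl : i + 1 = j := hij
    rw [E_d, E_d]
    exact aux_map _ _ _

lemma φ_Emap : φ (fun n => K.X n) K (fun _ => 𝟙 _) ≫ Emap M K ι = φ M K ι := by
  ext n
  exact aux_φmap _ _ _


section Psi

variable [∀ n, Mono (ι n)]

omit [∀ n, Mono (ι n)] in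
lemma SA_f_Emap_π : (SA K).f ≫ Emap M K ι ≫ cokernel.π (φ M K ι) = 0 := by
  show φ (fun n => K.X n) K (fun _ => 𝟙 _) ≫ Emap M K ι ≫ cokernel.π (φ M K ι) = 0
  rw [← Category.assoc, φ_Emap, cokernel.condition]

/-- the quasi-isomorphism `K⟦1⟧ ⟶ Qc` -/
noncomputable def ψt : K⟦(1 : ℤ)⟧ ⟶ Qc M K ι :=
  (CokernelCofork.IsColimit.desc' (SA_shortExact K).gIsCokernel
    (Emap M K ι ≫ cokernel.π (φ M K ι)) (SA_f_Emap_π M K ι)).1

omit [∀ n, Mono (ι n)] in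
lemma gA_ψt : gA K ≫ ψt M K ι = Emap M K ι ≫ cokernel.π (φ M K ι) :=
  (CokernelCofork.IsColimit.desc' (SA_shortExact K).gIsCokernel
    (Emap M K ι ≫ cokernel.π (φ M K ι)) (SA_f_Emap_π M K ι)).2

/-- the morphism of short exact sequences -/
noncomputable def τ : SA K ⟶ SB M K ι where
  τ₁ := 𝟙 K
  τ₂ := Emap M K ι
  τ₃ := ψt M K ι
  comm₁₂ := by
    show 𝟙 K ≫ φ M K ι = φ (fun n => K.X n) K (fun _ => 𝟙 _) ≫ Emap M K ι
    rw [Category.id_comp, φ_Emap]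
  comm₂₃ := (gA_ψt M K ι).symm

omit [∀ n, Mono (ι n)] in
lemma quasiIso_Emap : QuasiIso (Emap M K ι) := by
  rw [quasiIso_iff]
  intro n
  rw [quasiIsoAt_iff_exactAt' _ n (E_acyclic M n)]
  exact E_acyclic _ n

lemma quasiIso_ψt : QuasiIso (ψt M K ι) :=
  HomologicalComplex.HomologySequence.quasiIso_τ₃ (τ M K ι) (SA_shortExact K)
    (SB_shortExact M K ι) (by show QuasiIso (𝟙 K); infer_instance) (quasiIso_Emap M K ι)

lemma SB_degree_shortExact (n : ℤ) :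
    ((SB M K ι).map (HomologicalComplex.eval A (ComplexShape.up ℤ) n)).ShortExact :=
  (SB_shortExact M K ι).map_of_exact _

lemma isIso_ψt_f (n : ℤ) [IsIso (ι n)] [IsIso (ι (n + 1))] : IsIso ((ψt M K ι).f n) := by
  let τn := (HomologicalComplex.eval A (ComplexShape.up ℤ) n).mapShortComplex.map (τ M K ι)
  haveI : IsIso τn.τ₁ := by
    show IsIso ((𝟙 K : K ⟶ K).f n)
    infer_instance
  haveI : IsIso τn.τ₂ :=
    (inferInstance : IsIso (biprod.mapIso (asIso (ι n)) (asIso (ι (n + 1)))).hom)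
  exact isIso_τ₃ τn ((SA_shortExact K).map_of_exact _) ((SB_shortExact M K ι).map_of_exact _)

end Psi

section Step

variable (emb : A → A) (ιc : ∀ X : A, X ⟶ emb X) [∀ X, Mono (ιc X)]

/-- one step of the replacement -/
noncomputable def step : CochainComplex A ℤ :=
  (Qc (fun n => emb (K.X n)) K (fun n => ιc (K.X n)))⟦(-1 : ℤ)⟧

/-- the transition map -/
noncomputable def ψ : K ⟶ step K emb ιc :=
  (shiftEquiv (CochainComplex A ℤ) (1 : ℤ)).unitIso.hom.app K ≫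
    (ψt (fun n => emb (K.X n)) K (fun n => ιc (K.X n)))⟦(-1 : ℤ)⟧'

lemma quasiIso_ψ : QuasiIso (ψ K emb ιc) := by
  haveI h0 := quasiIso_ψt (fun n => emb (K.X n)) K (fun n => ιc (K.X n))
  have h1 : QuasiIso ((shiftEquiv (CochainComplex A ℤ) (1 : ℤ)).unitIso.hom.app K) :=
    inferInstance
  have h2 : QuasiIso ((ψt (fun n => emb (K.X n)) K (fun n => ιc (K.X n)))⟦(-1 : ℤ)⟧') :=
    inferInstance
  exact quasiIso_comp (hφ := h1) (hφ' := h2) _ _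

lemma isIso_ψ_f (n : ℤ) [IsIso (ιc (K.X (n + -1)))] [IsIso (ιc (K.X (n + -1 + 1)))] :
    IsIso ((ψ K emb ιc).f n) := by
  have hb : IsIso ((ψt (fun n => emb (K.X n)) K (fun n => ιc (K.X n))).f (n + -1)) :=
    isIso_ψt_f (fun n => emb (K.X n)) K (fun n => ιc (K.X n)) (n + -1)
  have ha : IsIso (((shiftEquiv (CochainComplex A ℤ) (1 : ℤ)).unitIso.hom.app K).f n) :=
    (inferInstance : IsIso ((HomologicalComplex.eval A (ComplexShape.up ℤ) n).map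
      ((shiftEquiv (CochainComplex A ℤ) (1 : ℤ)).unitIso.hom.app K)))
  show IsIso (((shiftEquiv (CochainComplex A ℤ) (1 : ℤ)).unitIso.hom.app K).f n ≫
    (ψt (fun n => emb (K.X n)) K (fun n => ιc (K.X n))).f (n + -1))
  exact IsIso.comp_isIso' ha hb

/-- the degreewise short exact sequence computing the terms of `step` -/
lemma step_shortExact (n : ℤ) :
    ∃ S : ShortComplex A, S.ShortExact ∧ S.X₁ = K.X (n + -1) ∧
      S.X₂ = (emb (K.X (n + -1)) ⊞ emb (K.X (n + -1 + 1))) ∧ S.X₃ = (step K emb ιc).X n :=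
  ⟨_, SB_degree_shortExact (fun n => emb (K.X n)) K (fun n => ιc (K.X n)) (n + -1), rfl, rfl, rfl⟩

end Step

end Groth.Agent.Lib.Helper5.DimStep
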