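import Mathlib
import Groth.Agent.Lib.Helper5.DimStep

/-!
# Resolving a complex by objects of "dimension" zero (helper5)

The tower of simultaneous elementary replacements is degreewise eventually constant; its colimit is
the required complex.
-/

set_option autoImplicit false
universe v u
open CategoryTheory CategoryTheory.Limits

namespace Groth.Agent.Lib.Helper5.DimResolve

open Groth.Agent.Lib.Helper5.DimStep

variable {A : Type u} [Category.{v} A] [Abelian A]

section Seq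

variable {C : Type*} [Category C] {D : Type*} [Category D]

/-- eventually constant sequences -/
lemma isEventuallyConstantFrom_ofSequence {X : ℕ → C} (f : ∀ i, X i ⟶ X (i + 1)) (G : C ⥤ D)
    (i₀ : ℕ) (h : ∀ i, i₀ ≤ i → IsIso (G.map (f i))) :
    (Functor.ofSequence f ⋙ G).IsEventuallyConstantFrom i₀ := by
  intro j φ
  obtain ⟨k, rfl⟩ := Nat.exists_eq_add_of_le (leOfHom φ)
  induction k with
  | zero =>
    have : φ = 𝟙 _ := Subsingleton.elim _ _
    rw [this, CategoryTheory.Functor.map_id]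
    infer_instance
  | succ k ih =>
    have hφ : φ = homOfLE (Nat.le_add_right i₀ k) ≫ homOfLE (Nat.le_add_right (i₀ + k) 1) :=
      Subsingleton.elim _ _
    rw [hφ, CategoryTheory.Functor.map_comp]
    haveI := ih (homOfLE (Nat.le_add_right i₀ k))
    haveI : IsIso ((Functor.ofSequence f ⋙ G).map (homOfLE (Nat.le_add_right (i₀ + k) 1))) := by
      rw [CategoryTheory.Functor.comp_map, Functor.ofSequence_map_homOfLE_succ]
      exact h _ (Nat.le_add_right _ _)
    infer_instance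

lemma quasiIso_ofSequence_map {X : ℕ → CochainComplex A ℤ} (f : ∀ i, X i ⟶ X (i + 1))
    (h : ∀ i, QuasiIso (f i)) (j : ℕ) :
    QuasiIso ((Functor.ofSequence f).map (homOfLE (Nat.zero_le j))) := by
  induction j with
  | zero =>
    have : homOfLE (Nat.zero_le 0) = 𝟙 (0 : ℕ) := Subsingleton.elim _ _
    rw [this, CategoryTheory.Functor.map_id]
    infer_instance
  | succ j ih =>
    have : homOfLE (Nat.zero_le (j + 1)) =
        homOfLE (Nat.zero_le j) ≫ homOfLE (Nat.le_add_right j 1) := Subsingleton.elim _ _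
    rw [this, CategoryTheory.Functor.map_comp, Functor.ofSequence_map_homOfLE_succ]
    exact quasiIso_comp (hφ := ih) (hφ' := h j) _ _

end Seq

section Main

variable (d : A → ℕ∞)

omit [Abelian A] in
lemma exists_emb (h1 : ∀ X : A, ∃ (Y : A) (ι : X ⟶ Y), Mono ι ∧ d Y = 0) :
    ∃ (emb : A → A) (ιc : ∀ X, X ⟶ emb X), (∀ X, Mono (ιc X)) ∧ (∀ X, d (emb X) = 0) ∧
      (∀ X, d X = 0 → IsIso (ιc X)) := by
  classical
  have : ∀ X : A, ∃ (Y : A) (ι : X ⟶ Y), Mono ι ∧ d Y = 0 ∧ (d X = 0 → IsIso ι) := by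
    intro X
    by_cases hX : d X = 0
    · exact ⟨X, 𝟙 X, inferInstance, hX, fun _ => inferInstance⟩
    · obtain ⟨Y, ι, hm, hY⟩ := h1 X
      exact ⟨Y, ι, hm, hY, fun h => absurd h hX⟩
  choose emb ιc hm h0 hi using this
  exact ⟨emb, ιc, hm, h0, hi⟩

variable (emb : A → A) (ιc : ∀ X : A, X ⟶ emb X) [∀ X, Mono (ιc X)]

/-- the tower of replacements -/
noncomputable def tower (K : CochainComplex A ℤ) : ℕ → CochainComplex A ℤ
  | 0 => K
  | i + 1 => step (tower K i) emb ιc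

/-- the transition maps of the tower -/
noncomputable def trans (K : CochainComplex A ℤ) (i : ℕ) :
    tower emb ιc K i ⟶ tower emb ιc K (i + 1) :=
  ψ (tower emb ιc K i) emb ιc

variable (h2 : ∀ X Y : A, d (X ⊞ Y) ≤ max (d X) (d Y))
  (h3 : ∀ S : ShortComplex A, S.ShortExact → d S.X₃ ≤ max (d S.X₁ - 1) (d S.X₂))
  (h0 : ∀ X, d (emb X) = 0)

include h2 h3 h0 in
lemma d_step_le (K : CochainComplex A ℤ) (n : ℤ) :
    d ((step K emb ιc).X n) ≤ d (K.X (n + -1)) - 1 := by
  obtain ⟨S, hS, e1, e2, e3⟩ := step_shortExact K emb ιc n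
  have h := h3 S hS
  rw [e1, e2, e3] at h
  have h2' : d (emb (K.X (n + -1)) ⊞ emb (K.X (n + -1 + 1))) ≤ 0 := by
    refine (h2 _ _).trans ?_
    rw [h0, h0, max_self]
  exact h.trans (max_le le_rfl (h2'.trans zero_le))

include h2 h3 h0 in
lemma d_tower_le (K : CochainComplex A ℤ) (i : ℕ) (n : ℤ) :
    d ((tower emb ιc K i).X n) ≤ d (K.X (n - i)) - i := by
  induction i generalizing n with
  | zero => simp [tower]
  | succ i ih =>
    have h : d ((tower emb ιc K (i + 1)).X n) ≤ d ((tower emb ιc K i).X (n + -1)) - 1 :=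
      d_step_le d emb ιc h2 h3 h0 (tower emb ιc K i) n
    have h' := ih (n + -1)
    have e : n + -1 - (i : ℤ) = n - ((i + 1 : ℕ) : ℤ) := by push_cast; ring
    rw [e] at h'
    calc d ((tower emb ιc K (i + 1)).X n) ≤ d ((tower emb ιc K i).X (n + -1)) - 1 := h
      _ ≤ (d (K.X (n - ((i + 1 : ℕ) : ℤ))) - (i : ℕ∞)) - 1 := tsub_le_tsub_right h' 1
      _ = d (K.X (n - ((i + 1 : ℕ) : ℤ))) - ((i + 1 : ℕ) : ℕ∞) := by
        rw [tsub_tsub]
        simp

include h2 h3 h0 in
lemma d_tower_eq_zero (K : CochainComplex A ℤ)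
    (hK : ∀ m : ℤ, ∃ N : ℤ, ∀ n : ℤ, n ≤ N → ∃ k : ℕ, d (K.X n) = k ∧ n + k ≤ m) (n : ℤ) :
    ∃ s : ℕ, ∀ i, s ≤ i → d ((tower emb ιc K i).X n) = 0 := by
  obtain ⟨N, hN⟩ := hK n
  refine ⟨(n - N).toNat, fun i hi => ?_⟩
  have hle : n - (i : ℤ) ≤ N := by
    have := Int.self_le_toNat (n - N)
    omega
  obtain ⟨k, hk, hk'⟩ := hN (n - i) hle
  have h := d_tower_le d emb ιc h2 h3 h0 K i n
  rw [hk] at h
  have hki : k ≤ i := by omega
  have hz : ((k : ℕ∞) - (i : ℕ∞)) = 0 := tsub_eq_zero_of_le (by exact_mod_cast hki)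
  rw [hz] at h
  exact le_antisymm h zero_le

omit [∀ X, Mono (ιc X)] in
lemma isIso_trans_f [∀ X, Mono (ιc X)] (hi : ∀ X, d X = 0 → IsIso (ιc X)) (K : CochainComplex A ℤ)
    (i : ℕ) (n : ℤ) (ha : d ((tower emb ιc K i).X (n + -1)) = 0)
    (hb : d ((tower emb ιc K i).X (n + -1 + 1)) = 0) :
    IsIso ((trans emb ιc K i).f n) := by
  haveI := hi _ ha
  haveI := hi _ hb
  exact isIso_ψ_f (tower emb ιc K i) emb ιc n

end Main

/-- the resolution theorem -/
theorem exists_resolution (d : A → ℕ∞) (hiso : ∀ ⦃X Y : A⦄, Nonempty (X ≅ Y) → d X = d Y)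
    (h1 : ∀ X : A, ∃ (Y : A) (ι : X ⟶ Y), Mono ι ∧ d Y = 0)
    (h2 : ∀ X Y : A, d (X ⊞ Y) ≤ max (d X) (d Y))
    (h3 : ∀ S : ShortComplex A, S.ShortExact → d S.X₃ ≤ max (d S.X₁ - 1) (d S.X₂))
    (K : CochainComplex A ℤ)
    (hK : ∀ m : ℤ, ∃ N : ℤ, ∀ n : ℤ, n ≤ N → ∃ k : ℕ, d (K.X n) = k ∧ n + k ≤ m) :
    ∃ (L : CochainComplex A ℤ) (f : K ⟶ L), QuasiIso f ∧ ∀ n, d (L.X n) = 0 := by
  obtain ⟨emb, ιc, hm, h0, hi⟩ := exists_emb d h1
  haveI := hm
  have hs := fun n => d_tower_eq_zero d emb ιc h2 h3 h0 K hK n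
  choose s hs using hs
  let F : ℕ ⥤ CochainComplex A ℤ := Functor.ofSequence (trans emb ιc K)
  let s' : ℤ → ℕ := fun n => max (s (n + -1)) (s (n + -1 + 1))
  have hev : ∀ n : ℤ, (F ⋙ HomologicalComplex.eval A (ComplexShape.up ℤ)
      n).IsEventuallyConstantFrom (s' n) := by
    intro n
    apply isEventuallyConstantFrom_ofSequence
    intro i hi'
    exact isIso_trans_f d emb ιc hi K i n (hs _ i ((le_max_left _ _).trans hi'))
      (hs _ i ((le_max_right _ _).trans hi'))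
  haveI : ∀ n : ℤ, HasColimit (F ⋙ HomologicalComplex.eval A (ComplexShape.up ℤ) n) :=
    fun n => (hev n).hasColimit
  have hιiso : ∀ (n : ℤ) (j : ℕ), s' n ≤ j → IsIso ((colimit.ι F j).f n) := by
    intro n j hj
    exact (hev n).isIso_ι_of_isColimit' (isColimitOfPreserves
      (HomologicalComplex.eval A (ComplexShape.up ℤ) n) (colimit.isColimit F)) j (homOfLE hj)
  refine ⟨colimit F, colimit.ι F 0, ?_, ?_⟩
  · refine (quasiIso_iff (colimit.ι F 0)).2 (fun n => ?_)
    let j := max (s' (n - 1)) (max (s' n) (s' (n + 1)))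
    have hw : colimit.ι F 0 = F.map (homOfLE (Nat.zero_le j)) ≫ colimit.ι F j :=
      (colimit.w F _).symm
    have hq1 : QuasiIso (F.map (homOfLE (Nat.zero_le j))) :=
      quasiIso_ofSequence_map _ (fun i => quasiIso_ψ _ emb ιc) j
    have hq2 : QuasiIsoAt (colimit.ι F j) n := by
      rw [quasiIsoAt_iff' _ (n - 1) n (n + 1) (by simp) (by simp)]
      have i1 := hιiso (n - 1) j (le_max_left _ _)
      have i2 := hιiso n j ((le_max_left _ _).trans (le_max_right _ _))
      have i3 := hιiso (n + 1) j ((le_max_right _ _).trans (le_max_right _ _))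
      let φ := (HomologicalComplex.shortComplexFunctor' A (ComplexShape.up ℤ) (n - 1) n
        (n + 1)).map (colimit.ι F j)
      haveI : IsIso φ.τ₁ := i1
      haveI : IsIso φ.τ₂ := i2
      haveI : IsIso φ.τ₃ := i3
      exact ShortComplex.quasiIso_of_epi_of_isIso_of_mono φ
    rw [hw]
    haveI : QuasiIsoAt (F.map (homOfLE (Nat.zero_le j))) n := inferInstance
    exact quasiIsoAt_comp _ _ n
  · intro n
    let j := max (s' n) (s n)
    haveI := hιiso n j (le_max_left _ _)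
    have e : (F.obj j).X n ≅ (colimit F).X n := asIso ((colimit.ι F j).f n)
    rw [← hiso ⟨e⟩]
    exact hs n j (le_max_right _ _)

end Groth.Agent.Lib.Helper5.DimResolve
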