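import Groth.Agent.Lib.Helper5.LTorsionPush
import Groth.Agent.Lib.Helper15.TransferEfface
import Groth.Agent.Lib.Helper15.FinitePushExact
import Groth.Prelude.Def_Dix

set_option autoImplicit false
universe u
open CategoryTheory CategoryTheory.Limits AlgebraicGeometry Opposite

namespace Groth.Agent.Lib.Helper5.DixTorsion

open Groth.Agent.Lib.Helper5.LTorsion Groth.Agent.Lib.Helper5.EtSectDerived
  Groth.Agent.Lib.Helper5.LTorsionPush
open Groth.Agent.Lib.Helper13.DerivedCommute Groth.Agent.Lib.Helper13.EdgeInIso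
open Groth.Agent.Lib.Helper13.FlatPullback

lemma ringHom_quasiFinite_of_etale {R S : Type*} [CommRing R] [CommRing S] (φ : R →+* S)
    (h : φ.Etale) : φ.QuasiFinite := by
  algebraize [φ]
  have : Algebra.FormallyUnramified R S := inferInstance
  have : Algebra.EssFiniteType R S := inferInstance
  exact (inferInstance : Algebra.QuasiFinite R S)

/-- étale morphisms are locally quasi-finite. -/
lemma locallyQuasiFinite_of_etale {X Y : Scheme.{u}} (f : X ⟶ Y) [Etale f] :
    LocallyQuasiFinite f := by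
  rw [HasRingHomProperty.iff_appLE (P := @LocallyQuasiFinite)]
  intro U V e
  have h := (HasRingHomProperty.iff_appLE (P := @Etale)).1 (inferInstance : Etale f) U V e
  exact ringHom_quasiFinite_of_etale _ h

/-- torsion abelian groups. -/
def Tor (M : AddCommGrpCat.{u + 1}) : Prop := ∀ m : M, ∃ n : ℕ, 0 < n ∧ n • m = 0

lemma Tor.of_epi {M N : AddCommGrpCat.{u + 1}} (f : M ⟶ N) [Epi f] (h : Tor M) : Tor N := by
  intro y
  obtain ⟨x, rfl⟩ := (AddCommGrpCat.epi_iff_surjective f).1 inferInstance y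
  obtain ⟨n, hn, hx⟩ := h x
  exact ⟨n, hn, by rw [← map_nsmul, hx, map_zero]⟩

lemma Tor.of_mono {M N : AddCommGrpCat.{u + 1}} (f : M ⟶ N) [Mono f] (h : Tor N) : Tor M := by
  intro x
  obtain ⟨n, hn, hx⟩ := h (f.hom x)
  refine ⟨n, hn, (AddCommGrpCat.mono_iff_injective f).1 inferInstance ?_⟩
  rw [map_nsmul, hx, map_zero]

lemma Tor.of_iso {M N : AddCommGrpCat.{u + 1}} (e : M ≅ N) (h : Tor M) : Tor N :=
  Tor.of_epi e.hom h

lemma Tor.of_isZero {M : AddCommGrpCat.{u + 1}} (h : IsZero M) : Tor M := by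
  intro x
  haveI := AddCommGrpCat.subsingleton_of_isZero h
  exact ⟨1, Nat.one_pos, Subsingleton.elim _ _⟩

lemma Tor.of_exact (S : ShortComplex AddCommGrpCat.{u + 1}) (hS : S.Exact)
    (h1 : Tor S.X₁) (h3 : Tor S.X₃) : Tor S.X₂ := by
  intro y
  obtain ⟨n, hn, hy⟩ := h3 (S.g.hom y)
  rw [← map_nsmul] at hy
  obtain ⟨x, hx⟩ := (ShortComplex.ab_exact_iff S).1 hS (n • y) hy
  obtain ⟨m, hm, hmx⟩ := h1 x
  refine ⟨m * n, Nat.mul_pos hm hn, ?_⟩
  rw [mul_smul, ← hx, ← map_nsmul, hmx, map_zero]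

/-- cohomology of a scheme finite over a field is torsion in positive degrees. -/
theorem tor_H_of_finite (k : Type u) [Field k] {W : Scheme.{u}}
    (π : W ⟶ Spec (CommRingCat.of k)) [IsFinite π] (G : EtCoh.Ab W) (q : ℕ) :
    Tor (AddCommGrpCat.of (EtCoh.H W G (q + 1))) := by
  haveI : (EtCoh.pull π).PreservesMonomorphisms := inferInstance
  haveI : (EtCoh.push π).PreservesInjectiveObjects :=
    Functor.preservesInjectiveObjects_of_adjunction_of_preservesMonomorphisms (EtCoh.pullPushAdj π)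
  haveI : PreservesFiniteLimits (EtCoh.push π) := by
    haveI := (EtCoh.pullPushAdj π).rightAdjoint_preservesLimits
    infer_instance
  haveI := isIso_edgeIn (EtCoh.push π) (EtCore.gsec (Spec (CommRingCat.of k))) G
    (fun n => Groth.Agent.Lib.Helper15.FinitePushExact.isZero_Rpush π G n) (q + 1)
  let e : AddCommGrpCat.of (EtCoh.H (Spec (CommRingCat.of k)) ((EtCoh.push π).obj G) (q + 1)) ≅
      AddCommGrpCat.of (EtCoh.H W G (q + 1)) :=
    (gsecDerivedIso _ _ (q + 1)).symm ≪≫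
      asIso (RDer.edgeIn (EtCoh.push π) (EtCore.gsec (Spec (CommRingCat.of k))) (q + 1) G) ≪≫
      rightDerivedObjIsoOfNatIso (EtCore.pushGsecIso π) (q + 1) G ≪≫ gsecDerivedIso W G (q + 1)
  refine Tor.of_iso e ?_
  intro x
  exact Groth.Agent.Lib.Helper15.TransferEfface.exists_nsmul_eq_zero k _ q x


lemma primesIn_univ_iff (m : ℕ) : EtAcyc.PrimesIn Set.univ m ↔ 0 < m :=
  ⟨fun h => h.1, fun h => ⟨h, fun _ _ _ => Set.mem_univ _⟩⟩

lemma isLTorsion_univ_of_isTorsion {X : Scheme.{u}} (F : EtCoh.Ab X) (hF : EtCoh.IsTorsion F) :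
    EtAcyc.IsLTorsion Set.univ F := by
  intro U s x
  obtain ⟨V, g, hv, hfin⟩ := hF U s x
  obtain ⟨m, hm, hs⟩ := isOfFinAddOrder_iff_nsmul_eq_zero.1 hfin
  exact ⟨V, g, m, hv, (primesIn_univ_iff m).2 hm, hs⟩

lemma isTorsion_of_isLTorsion_univ {X : Scheme.{u}} (F : EtCoh.Ab X)
    (hF : EtAcyc.IsLTorsion Set.univ F) : EtCoh.IsTorsion F := by
  intro U s x
  obtain ⟨V, g, m, hv, hm, hs⟩ := hF U s x
  exact ⟨V, g, hv, isOfFinAddOrder_iff_nsmul_eq_zero.2 ⟨m, hm.1, hs⟩⟩

/-- higher direct images from the spectrum of a field are torsion. -/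
theorem isTorsion_Rpush_of_field (k : Type u) [Field k] {X : Scheme.{u}}
    (i : Spec (CommRingCat.of k) ⟶ X)
    (hqc : ∀ V : X.Etale, IsAffine V.left → QuasiCompact ((EtCoh.bc i).obj V).hom)
    (F : EtCoh.Ab (Spec (CommRingCat.of k))) (q : ℕ) :
    EtCoh.IsTorsion ((EtCoh.Rpush i (q + 1)).obj F) := by
  apply isTorsion_of_isLTorsion_univ
  refine isLTorsion_of_iso Set.univ (RpushIsoSheafify i F (q + 1))
    (isLTorsion_sheafify Set.univ _ ?_)
  intro V hV c
  let W : (Spec (CommRingCat.of k)).Etale := (EtCoh.bc i).obj V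
  let Wl : Scheme.{u} := W.left
  let π : Wl ⟶ Spec (CommRingCat.of k) := W.hom
  have h1 : QuasiCompact π := hqc V hV
  have h2 : Etale π := W.prop
  have h3 : LocallyQuasiFinite π := locallyQuasiFinite_of_etale π
  have h5 : IsLocallyArtinian (Spec (CommRingCat.of k)) := inferInstance
  have h4 : IsFinite π := IsFinite.of_locallyQuasiFinite π
  let iso : (PR i F (q + 1)).obj (op V) ≅
      AddCommGrpCat.of (EtCoh.H W.left ((EtCoh.pull W.hom).obj F) (q + 1)) :=
    PRsections i F (q + 1) V ≪≫ sectDerivedIso W F (q + 1)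
  obtain ⟨n, hn, hc⟩ := Tor.of_iso iso.symm (tor_H_of_finite k π _ q) c
  exact ⟨n, (primesIn_univ_iff n).2 hn, hc⟩

end Groth.Agent.Lib.Helper5.DixTorsion
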