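import Mathlib

/-!
# Helper5: gluing two copies of a scheme along an open subscheme
-/

set_option autoImplicit false
universe u

namespace Groth.Agent.Lib.Helper5.DoubleGlue

open CategoryTheory Limits AlgebraicGeometry Opposite

lemma no3 (i j k : ULift.{u} Bool) : i ≠ j → i ≠ k → j ≠ k → False := by
  rcases i with ⟨_ | _⟩ <;> rcases j with ⟨_ | _⟩ <;> rcases k with ⟨_ | _⟩ <;> simp

variable {U₀ V₀ : Scheme.{u}} (g : V₀ ⟶ U₀) [IsOpenImmersion g]

/-- the gluing datum (without diagonal part). -/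
noncomputable def D' : CategoryTheory.GlueData' Scheme.{u} where
  J := ULift.{u} Bool
  U _ := U₀
  V _ _ _ := V₀
  f _ _ _ := g
  t _ _ _ := 𝟙 V₀
  t' i j k hij hik hjk := (no3 i j k hij hik hjk).elim
  t_fac i j k hij hik hjk := (no3 i j k hij hik hjk).elim
  t_inv _ _ _ := Category.id_comp _
  cocycle i j k hij hik hjk := (no3 i j k hij hik hjk).elim

/-- the gluing datum. -/
noncomputable def D : Scheme.GlueData.{u} where
  toGlueData := CategoryTheory.GlueData.ofGlueData' (D' g)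
  f_open i j := by
    change IsOpenImmersion ((D' g).f' i j)
    dsimp only [GlueData'.f']
    split_ifs with h
    · infer_instance
    · haveI : IsOpenImmersion ((D' g).f i j h) := (inferInstance : IsOpenImmersion g)
      infer_instance

/-- two copies of `U₀` glued along `V₀`. -/
noncomputable abbrev W : Scheme.{u} := (D g).glued

/-- the two indices. -/
abbrev j0 : (D g).J := (⟨false⟩ : ULift.{u} Bool)
abbrev j1 : (D g).J := (⟨true⟩ : ULift.{u} Bool)

noncomputable abbrev ι₀ : U₀ ⟶ W g := (D g).ι (j0 g)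
noncomputable abbrev ι₁ : U₀ ⟶ W g := (D g).ι (j1 g)

instance isOpenImmersion_ι₀ : IsOpenImmersion (ι₀ g) := (D g).ι_isOpenImmersion (j0 g)
instance isOpenImmersion_ι₁ : IsOpenImmersion (ι₁ g) := (D g).ι_isOpenImmersion (j1 g)
instance mono_ι₀ : Mono (ι₀ g) := inferInstance
instance mono_ι₁ : Mono (ι₁ g) := inferInstance

open scoped Classical in
lemma f_eq (i j : (D g).J) (h : i ≠ j) :
    ∃ e : (D g).V (i, j) = V₀, (D g).f i j = eqToHom e ≫ g := by
  change ∃ e, (D' g).f' i j = eqToHom e ≫ g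
  unfold GlueData'.f'
  split_ifs with h'
  · exact absurd h' h
  · exact ⟨rfl, rfl⟩

open scoped Classical in
lemma t_eq (i j : (D g).J) (h : i ≠ j) :
    ∃ (e : (D g).V (i, j) = V₀) (e' : V₀ = (D g).V (j, i)), (D g).t i j = eqToHom e ≫ eqToHom e' := by
  change ∃ e e', (if h : i = j then eqToHom _ else
      eqToHom _ ≫ (D' g).t i j h ≫ eqToHom _) = eqToHom e ≫ eqToHom e'
  split_ifs with h'
  · exact absurd h' h
  · refine ⟨(show (if h : i = j then (D' g).U i else (D' g).V i j h) = V₀ from dif_neg h'),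
      (show (if h : j = i then (D' g).U j else (D' g).V j i h) = V₀ from
        dif_neg (Ne.symm h')).symm, ?_⟩
    change eqToHom _ ≫ 𝟙 V₀ ≫ eqToHom _ = _
    rw [Category.id_comp]

lemma eq_aux {A B C : Scheme.{u}} (p : A = B) (q : B = C) (r : C = V₀) (p' : A = V₀) :
    (eqToHom p ≫ eqToHom q) ≫ eqToHom r ≫ g = eqToHom p' ≫ g := by
  subst p q r
  simp

lemma t_f (i j : (D g).J) : (D g).t i j ≫ (D g).f j i = (D g).f i j := by
  by_cases h : i = j
  · subst h
    rw [(D g).t_id, Category.id_comp]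
  · obtain ⟨e1, h1⟩ := f_eq g i j h
    obtain ⟨e2, h2⟩ := f_eq g j i (Ne.symm h)
    obtain ⟨e3, e4, h3⟩ := t_eq g i j h
    rw [h1, h2, h3]
    exact eq_aux g e3 e4 e2 e1

/-- morphisms out of the glued scheme. -/
noncomputable def desc {T : Scheme.{u}} (q : U₀ ⟶ T) : W g ⟶ T :=
  Multicoequalizer.desc (D g).toGlueData.diagram T (fun _ => q) (by
    rintro ⟨i, j⟩
    change (D g).f i j ≫ q = ((D g).t i j ≫ (D g).f j i) ≫ q
    rw [t_f]
    rfl)

@[reassoc]
lemma ι_desc {T : Scheme.{u}} (q : U₀ ⟶ T) (i : (D g).J) : (D g).ι i ≫ desc g q = q :=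
  Multicoequalizer.π_desc _ _ _ _ _

instance etale_desc {T : Scheme.{u}} (q : U₀ ⟶ T) [Etale q] : Etale (desc g q) := by
  haveI : IsZariskiLocalAtSource @Etale.{u} := HasRingHomProperty.instIsZariskiLocalAtSource
  rw [IsZariskiLocalAtSource.iff_of_openCover (P := @Etale) (D g).openCover]
  intro i
  have h : (D g).openCover.f i ≫ desc g q = q := ι_desc g q i
  rw [h]
  exact ‹Etale q›

lemma jointly_surj (x : W g) : (∃ y, (ι₀ g).base y = x) ∨ (∃ y, (ι₁ g).base y = x) := by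
  obtain ⟨i, y, hy⟩ := (D g).ι_jointly_surjective x
  rcases i with ⟨_ | _⟩
  · exact Or.inl ⟨y, hy⟩
  · exact Or.inr ⟨y, hy⟩

lemma ne01 : j0 g ≠ j1 g := by
  intro h
  have := congrArg ULift.down h
  simp at this

lemma exists_lift {Z : Scheme.{u}} (a b : Z ⟶ U₀) (h : a ≫ ι₀ g = b ≫ ι₁ g) :
    ∃ c : Z ⟶ V₀, c ≫ g = a ∧ c ≫ g = b := by
  obtain ⟨l, hl1, hl2⟩ := PullbackCone.IsLimit.lift' ((D g).vPullbackConeIsLimit (j0 g) (j1 g)) a b h
  obtain ⟨e, he⟩ := f_eq g (j0 g) (j1 g) (ne01 g)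
  obtain ⟨l', hl'⟩ : ∃ l' : Z ⟶ (D g).V (j0 g, j1 g), l' = l := ⟨l, rfl⟩
  have hl1' : l' ≫ (D g).f (j0 g) (j1 g) = a := by rw [hl']; exact hl1
  have hl2' : l' ≫ (D g).t (j0 g) (j1 g) ≫ (D g).f (j1 g) (j0 g) = b := by rw [hl']; exact hl2
  rw [t_f] at hl2'
  rw [he] at hl1' hl2'
  exact ⟨l' ≫ eqToHom e, by rw [Category.assoc]; exact hl1', by rw [Category.assoc]; exact hl2'⟩

lemma g_ι : g ≫ ι₀ g = g ≫ ι₁ g := by
  obtain ⟨e, he⟩ := f_eq g (j0 g) (j1 g) (ne01 g)
  obtain ⟨e', he'⟩ := f_eq g (j1 g) (j0 g) (Ne.symm (ne01 g))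
  have h := (D g).glue_condition (j1 g) (j0 g)
  rw [← Category.assoc, t_f, he'] at h
  have h2 : eqToHom e'.symm ≫ eqToHom e' ≫ g ≫ (D g).ι (j0 g) =
      eqToHom e'.symm ≫ eqToHom e' ≫ g ≫ (D g).ι (j1 g) := by
    congr 1
  simpa using h2

end Groth.Agent.Lib.Helper5.DoubleGlue
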