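import Groth.Agent.Lib.Helper5.E1Core
import Mathlib.Data.Int.Interval
import Mathlib.Order.Interval.Finset.Defs

/-!
# Convergence of the `E₁` spectral sequence of a first quadrant spectral object (helper5)
-/

set_option autoImplicit false
universe v u

namespace Groth.Agent.Lib.Helper5.E1Core

open CategoryTheory CategoryTheory.Limits ComposableArrows Abelian.SpectralObject Abelian
open Groth.Agent.Lib.Helper2.GSS

variable {C : Type u} [Category.{v} C] [Abelian C] (Y : SpectralObject C EInt)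

/-- The vanishing conditions for the spectral object of the stupid filtration of a complex
in nonnegative degrees (for a functor of cohomological amplitude `≥ 0`). -/
structure IsFirstQuadrantE₁ : Prop where
  isZero₁ (i j : EInt) (hij : i ≤ j) (hi : ((0 : ℤ) : EInt) ≤ i) (n : ℤ) :
    IsZero ((Y.H n).obj (mk₁ (homOfLE hij)))
  isZero₂ (i j : EInt) (hij : i ≤ j) (n : ℤ) (hj : j < ((-n : ℤ) : EInt)) :
    IsZero ((Y.H n).obj (mk₁ (homOfLE hij)))

variable {Y} (hY : IsFirstQuadrantE₁ Y)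

include hY

lemma isZero_page_of_fst_neg (r : ℤ) (hr : 1 ≤ r) (pq : ℤ × ℤ) (hp : pq.1 < 0) :
    IsZero (((E₁SpectralSequence Y).page r hr).X pq) :=
  isZero_spectralSequence_page_X_of_isZero_H' _ _ _ hr _
    (hY.isZero₁ _ _ _ (by simp; lia) _)

lemma isZero_page_of_snd_neg (r : ℤ) (hr : 1 ≤ r) (pq : ℤ × ℤ) (hq : pq.2 < 0) :
    IsZero (((E₁SpectralSequence Y).page r hr).X pq) :=
  isZero_spectralSequence_page_X_of_isZero_H' _ _ _ hr _
    (hY.isZero₂ _ _ _ _ (by simp; lia))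

omit hY in
/-- The page from which the position `pq` is stationary. -/
def rk (pq : ℤ × ℤ) : ℤ := max 1 (max (pq.1 + 1) (pq.2 + 2))

omit hY in
lemma one_le_rk (pq : ℤ × ℤ) : 1 ≤ rk pq := le_max_left _ _

omit hY in
lemma fst_lt_rk (pq : ℤ × ℤ) : pq.1 < rk pq := by
  have : pq.1 + 1 ≤ rk pq := (le_max_left _ _).trans (le_max_right _ _)
  omega

omit hY in
lemma snd_add_two_le_rk (pq : ℤ × ℤ) : pq.2 + 2 ≤ rk pq :=
  (le_max_right _ _).trans (le_max_right _ _)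

lemma stationaryAt (pq : ℤ × ℤ) : SpSeq.StationaryAt (E₁SpectralSequence Y) pq (rk pq) := by
  refine ⟨one_le_rk pq, fun r' h₀ hr' => ⟨?_, ?_⟩⟩
  · apply (isZero_page_of_fst_neg hY r' h₀ _ _).eq_of_src
    have := fst_lt_rk pq
    simp only [Prod.fst_sub]
    omega
  · apply (isZero_page_of_snd_neg hY r' h₀ _ _).eq_of_tgt
    have := snd_add_two_le_rk pq
    simp only [Prod.snd_add]
    omega

variable (H : ℤ → C) (e : ∀ n, H n ≅ abut Y n)

omit hY in
/-- The filtration on the abutment. -/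
noncomputable def fil (n p : ℤ) : Subobject (H n) := F Y n (e n) ((-p : ℤ) : EInt)

omit hY in
lemma fil_anti (n : ℤ) : Antitone (fil H e n) := fun p p' h =>
  F_mono Y n (e n) (WithBotTop.coe_le_coe.2 (by omega))

lemma fil_zero (n : ℤ) : fil H e n 0 = ⊤ :=
  F_eq_top Y n (e n) _ (hY.isZero₁ _ _ _ (WithBotTop.coe_le_coe.2 (by omega)) _)

lemma fil_succ (n : ℤ) : fil H e n (n + 1) = ⊥ :=
  F_eq_bot Y n (e n) _ (hY.isZero₂ _ _ _ _ (WithBotTop.coe_lt_coe.2 (by omega)))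

/-- The identification of the limit term. -/
noncomputable def βaux (p q r : ℤ) (hr : 1 ≤ r) (hp : p < r) (hq : q + 2 ≤ r) :
    ((E₁SpectralSequence Y).page r hr).X (p, q) ≅
      gr Y (p + q) (e (p + q))
        (WithBotTop.coe_le_coe.2 (by omega) : ((-(p + 1) : ℤ) : EInt) ≤ ((-p : ℤ) : EInt)) := by
  have h01 : ((-p - r : ℤ) : EInt) ≤ ((-(p + 1) : ℤ) : EInt) := WithBotTop.coe_le_coe.2 (by omega)
  have h12 : ((-(p + 1) : ℤ) : EInt) ≤ ((-p : ℤ) : EInt) := WithBotTop.coe_le_coe.2 (by omega)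
  have h23 : ((-p : ℤ) : EInt) ≤ ((-p + r - 1 : ℤ) : EInt) :=
    WithBotTop.coe_le_coe.2 (by omega)
  let iso1 := Y.spectralSequencePageXIso coreE₁ r hr (p, q)
    ((-p - r : ℤ) : EInt) ((-(p + 1) : ℤ) : EInt) ((-p : ℤ) : EInt) ((-p + r - 1 : ℤ) : EInt)
    rfl (congrArg WithBotTop.coe (by dsimp; omega)) rfl rfl (p + q - 1) (p + q) (p + q + 1) rfl
  have hz2 : IsZero ((Y.H (p + q + 1)).obj
      (mk₁ (homOfLE (bot_le : (⊥ : EInt) ≤ ((-p - r : ℤ) : EInt))))) :=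
    hY.isZero₂ _ _ _ _ (WithBotTop.coe_lt_coe.2 (by omega))
  let iso2 := Y.isoMapFourδ₁Toδ₀' ⊥ ((-p - r : ℤ) : EInt) ((-(p + 1) : ℤ) : EInt)
    ((-p : ℤ) : EInt) ((-p + r - 1 : ℤ) : EInt) bot_le h01 h12 h23
    (p + q - 1) (p + q) (p + q + 1) hz2
  have hz3 : IsZero ((Y.H (p + q - 1)).obj
      (mk₁ (homOfLE (le_top : ((-p + r - 1 : ℤ) : EInt) ≤ ⊤)))) :=
    hY.isZero₁ _ _ _ (WithBotTop.coe_le_coe.2 (by omega)) _
  let iso3 := Y.isoMapFourδ₄Toδ₃' ⊥ ((-(p + 1) : ℤ) : EInt)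
    ((-p : ℤ) : EInt) ((-p + r - 1 : ℤ) : EInt) ⊤ bot_le h12 h23 le_top
    (p + q - 1) (p + q) (p + q + 1) hz3
  exact iso1 ≪≫ iso2.symm ≪≫ iso3 ≪≫ (grIso Y (p + q) (e (p + q)) h12).symm

/-- The abutment data. -/
noncomputable def abutment : SpSeq.Abutment (E₁SpectralSequence Y) H where
  fil n := fil H e n
  anti n := fil_anti H e n
  rk := rk
  stat := stationaryAt hY
  β pq := βaux hY H e pq.1 pq.2 (rk pq) (one_le_rk pq) (fst_lt_rk pq) (snd_add_two_le_rk pq)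

lemma abutment_isFinite (n : ℤ) : (abutment hY H e).IsFinite n :=
  ⟨⟨0, fil_zero hY H e n⟩, ⟨n + 1, fil_succ hY H e n⟩⟩

lemma isBounded : SpSeq.IsBounded (E₁SpectralSequence Y) := by
  intro n
  apply (Set.finite_Icc (0 : ℤ) n).subset
  intro p hp
  simp only [Set.mem_ofPred_eq] at hp
  by_contra h
  simp only [Set.mem_Icc, not_and_or, not_le] at h
  rcases h with h | h
  · exact hp (isZero_page_of_fst_neg hY 1 le_rfl _ h)
  · exact hp (isZero_page_of_snd_neg hY 1 le_rfl _ (by dsimp only; omega))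

omit hY in
/-- The first page. -/
noncomputable def pageOneIso (p q : ℤ) :
    ((E₁SpectralSequence Y).page 1 le_rfl).X (p, q) ≅
      (Y.H (p + q)).obj (mk₁ (homOfLE
        (WithBotTop.coe_le_coe.2 (by omega) : ((-p - 1 : ℤ) : EInt) ≤ ((-p : ℤ) : EInt)))) :=
  Y.spectralSequencePageXIso coreE₁ 1 le_rfl (p, q)
    ((-p - 1 : ℤ) : EInt) ((-p - 1 : ℤ) : EInt) ((-p : ℤ) : EInt) ((-p : ℤ) : EInt)
    rfl rfl rfl (congrArg WithBotTop.coe (by dsimp; omega))
    (p + q - 1) (p + q) (p + q + 1) rfl ≪≫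
  Y.EIsoH (homOfLE
    (WithBotTop.coe_le_coe.2 (by omega) : ((-p - 1 : ℤ) : EInt) ≤ ((-p : ℤ) : EInt)))
    (p + q - 1) (p + q) (p + q + 1)

include e in
theorem exists_abutment :
    ∃ (E : CohomologicalSpectralSequence C 1) (a : SpSeq.Abutment E H),
      (∀ n, a.IsFinite n) ∧ SpSeq.IsBounded E ∧
      (∀ p q : ℤ, Nonempty ((E.page 1 le_rfl).X (p, q) ≅
        (Y.H (p + q)).obj (mk₁ (homOfLE
          (WithBotTop.coe_le_coe.2 (by omega) :
            ((-p - 1 : ℤ) : EInt) ≤ ((-p : ℤ) : EInt)))))) ∧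
      (∀ p q : ℤ, (p < 0 ∨ q < 0) → IsZero ((E.page 1 le_rfl).X (p, q))) :=
  ⟨E₁SpectralSequence Y, abutment hY H e, abutment_isFinite hY H e, isBounded hY,
    fun p q => ⟨pageOneIso p q⟩, fun p q h => h.elim
      (fun hp => isZero_page_of_fst_neg hY 1 le_rfl (p, q) hp)
      (fun hq => isZero_page_of_snd_neg hY 1 le_rfl (p, q) hq)⟩

end Groth.Agent.Lib.Helper5.E1Core
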