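import Groth.Prelude.Def_SpSeq
import Groth.Agent.Lib.Helper2.GSS.Filtration
import Mathlib.Algebra.Homology.SpectralObject.SpectralSequence
import Mathlib.Algebra.Homology.SpectralObject.FirstPage

/-!
# `E₁` spectral sequences of spectral objects indexed by `EInt` (helper5)

The position `(p, q)` on the page `r` is `E^{p+q}(-p-r ≤ -p-1 ≤ -p ≤ -p+r-1)`.
-/

set_option autoImplicit false
universe v u

namespace Groth.Agent.Lib.Helper5.E1Core

open CategoryTheory CategoryTheory.Limits ComposableArrows Abelian.SpectralObject Abelian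
open Groth.Agent.Lib.Helper2.GSS

/-- The data which allows to construct an `E₁`-cohomological spectral sequence indexed by
`ℤ × ℤ` from a spectral object indexed by `EInt`. -/
@[simps!]
def coreE₁ :
    SpectralSequenceDataCore EInt (fun r ↦ ComplexShape.up' (⟨r, 1 - r⟩ : ℤ × ℤ)) 1 where
  deg pq := pq.1 + pq.2
  i₀ r pq hr := (-pq.1 - r :)
  i₁ pq := (-pq.1 - 1 :)
  i₂ pq := (-pq.1 :)
  i₃ r pq hr := (-pq.1 + r - 1 :)
  le₀₁ r pq hr := by simp; lia
  le₁₂ pq := by simp
  le₂₃ r pq hr := by simp; lia
  hc := by rintro r pq _ rfl _; dsimp; lia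
  hc₀₂ := by rintro r pq hr rfl _; exact congrArg WithBotTop.coe (by dsimp; lia)
  hc₁₃ := by rintro r pq hr rfl _; exact congrArg WithBotTop.coe (by dsimp; lia)
  antitone_i₀ r r' pq hr hrr' := by simp; lia
  monotone_i₃ r r' pq hr hrr' := by simp; lia
  i₀_prev := by
    rintro r r' hr pq rfl _ _
    dsimp
    lia +mbtc
  i₃_next := by
    rintro r r' hr pq rfl _ _
    dsimp
    lia +mbtc

variable {C : Type u} [Category.{v} C] [Abelian C]

instance (E : SpectralObject C EInt) : E.HasSpectralSequence coreE₁ where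
  isZero_H_obj_mk₁_i₀_le r r' pq hpq n hn hrr' hr := by
    exfalso
    exact hpq _ rfl
  isZero_H_obj_mk₁_i₃_le r r' pq hpq n hn hrr' hr := by
    exfalso
    exact hpq (pq - (r, 1 - r)) (by simp)

variable (Y : SpectralObject C EInt)

/-- The `E₁` spectral sequence. -/
noncomputable abbrev E₁SpectralSequence : CohomologicalSpectralSequence C 1 :=
  Y.spectralSequence coreE₁

end Groth.Agent.Lib.Helper5.E1Core
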