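import Mathlib

set_option autoImplicit false
universe u
open CategoryTheory CategoryTheory.Limits AlgebraicGeometry

namespace Groth.Agent.Lib.Helper5.EmbR3F2

/-- F2 (schemes, Mathlib only): flatness of a closed subscheme over an affine base can be checked
on the quotients `Γ(Y, W) ⧸ I(W)`, `W` affine open in `Y`. -/
theorem flat_subschemeι_comp {Y : Scheme.{u}} {R : CommRingCat.{u}} (f : Y ⟶ Spec R)
    (I : Y.IdealSheafData)
    (H : ∀ W : Y.affineOpens, ((Ideal.Quotient.mk (I.ideal W)).comp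
      ((Scheme.ΓSpecIso R).inv ≫ f.appLE ⊤ W.1 le_top).hom).Flat) :
    Flat (I.subschemeι ≫ f) := by
  let U : Y.affineOpens → I.subscheme.affineOpens :=
    fun W => ⟨I.subschemeι ⁻¹ᵁ W.1, W.2.preimage I.subschemeι⟩
  have hU : ⨆ W, (U W : I.subscheme.Opens) = ⊤ := by
    have h := congrArg (fun V => I.subschemeι ⁻¹ᵁ V) (iSup_affineOpens_eq_top Y)
    simp only [Scheme.Hom.preimage_iSup, Scheme.Hom.preimage_top] at h
    exact h
  rw [HasRingHomProperty.iff_of_iSup_eq_top (P := @Flat) U hU]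
  intro W
  have key : ∀ (h : I.subschemeι ⁻¹ᵁ W.1 ≤ (I.subschemeι ≫ f) ⁻¹ᵁ ⊤),
      RingHom.Flat ((I.subschemeι ≫ f).appLE ⊤ (I.subschemeι ⁻¹ᵁ W.1) h).hom := by
    intro h
    have e1 : (I.subschemeι ≫ f).appLE ⊤ (I.subschemeι ⁻¹ᵁ W.1) h =
        f.appLE ⊤ W.1 le_top ≫ I.subschemeι.app W.1 := by
      rw [Scheme.Hom.app_eq_appLE]
      exact (Scheme.Hom.appLE_comp_appLE I.subschemeι f ⊤ W.1 (I.subschemeι ⁻¹ᵁ W.1)
        le_top le_rfl).symm
    have e2 : (I.subschemeι ≫ f).appLE ⊤ (I.subschemeι ⁻¹ᵁ W.1) h =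
        (Scheme.ΓSpecIso R).hom ≫ (((Scheme.ΓSpecIso R).inv ≫ f.appLE ⊤ W.1 le_top) ≫
          CommRingCat.ofHom (Ideal.Quotient.mk (I.ideal W))) ≫ (I.subschemeObjIso W).inv := by
      rw [e1, I.subschemeι_app W]
      simp only [Category.assoc, Iso.hom_inv_id_assoc]
    rw [e2, CommRingCat.hom_comp, CommRingCat.hom_comp, CommRingCat.hom_comp,
      CommRingCat.hom_ofHom]
    exact RingHom.Flat.comp
      (RingHom.Flat.of_bijective (ConcreteCategory.bijective_of_isIso (Scheme.ΓSpecIso R).hom))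
      (RingHom.Flat.comp (H W)
        (RingHom.Flat.of_bijective
          (ConcreteCategory.bijective_of_isIso (I.subschemeObjIso W).inv)))
  exact key _

end Groth.Agent.Lib.Helper5.EmbR3F2
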