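import Mathlib
import Groth.Prelude.Def_SiteCmp

/-!
# `ε_*` on modules is fully faithful (helper5)
-/

set_option autoImplicit false
universe u
open CategoryTheory CategoryTheory.Limits Opposite

noncomputable section
namespace Groth.Agent.Lib.Helper5.EpsFF

variable {C : Type u} [SmallCategory C] {J J' : GrothendieckTopology C} (h : J' ≤ J)
  (O : Sheaf J CommRingCat.{u})

/-- the preimage of a morphism under `ε_*` -/
def preimage {M N : ModSite.Mod O} (ψ : (SiteCmp.eps h O).push.obj M ⟶ (SiteCmp.eps h O).push.obj N) :
    M ⟶ N where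
  val := PresheafOfModules.homMk (M₁ := M.val) (M₂ := N.val)
    ((PresheafOfModules.toPresheaf _).map ψ.val)
    (fun X r m => (ψ.val.app X).hom.map_smul r m)

lemma map_preimage {M N : ModSite.Mod O}
    (ψ : (SiteCmp.eps h O).push.obj M ⟶ (SiteCmp.eps h O).push.obj N) :
    (SiteCmp.eps h O).push.map (preimage h O ψ) = ψ := by
  apply SheafOfModules.hom_ext
  apply PresheafOfModules.hom_ext
  intro X
  rfl

lemma preimage_map {M N : ModSite.Mod O} (φ : M ⟶ N) :
    preimage h O ((SiteCmp.eps h O).push.map φ) = φ := by
  apply SheafOfModules.hom_ext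
  apply PresheafOfModules.hom_ext
  intro X
  rfl

instance : (SiteCmp.eps h O).push.Full where
  map_surjective ψ := ⟨preimage h O ψ, map_preimage h O ψ⟩

instance : (SiteCmp.eps h O).push.Faithful where
  map_injective {M N} φ φ' hφ := by
    rw [← preimage_map h O φ, ← preimage_map h O φ', hφ]

end Groth.Agent.Lib.Helper5.EpsFF
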