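import Groth.Agent.Lib.Helper5.ModGen
import Groth.Agent.Lib.Helper5.CechFlasque
import Groth.Agent.Lib.Helper5.EpsFF
import Groth.Prelude.Def_SiteCmp

/-!
# `ε_*` is exact on short exact sequences with locally acyclic kernel (helper5)
-/

set_option autoImplicit false
universe w u
open CategoryTheory CategoryTheory.Limits Opposite

noncomputable section
namespace Groth.Agent.Lib.Helper5.EpsStar

open Groth.Agent.Lib.Helper2.ModHomAcyclic

section Family

variable {C : Type u} [SmallCategory C] (J : GrothendieckTopology C)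

/-- every covering sieve contains a covering family of members of a covering class -/
lemma exists_family_in_sieve (B : Set C)
    (hB : ∀ U : C, ∃ (ι : Type u) (Y : ι → C) (g : ∀ i, Y i ⟶ U),
      Sieve.ofArrows Y g ∈ J U ∧ ∀ i, Y i ∈ B) (V : C) (T : Sieve V) (hT : T ∈ J V) :
    ∃ (ι : Type u) (Y : ι → C) (g : ∀ i, Y i ⟶ V),
      (∀ i, T.arrows (g i)) ∧ Sieve.ofArrows Y g ∈ J V ∧ ∀ i, Y i ∈ B := by
  choose ιU YU gU hcovU hBU using hB
  refine ⟨Σ p : (Σ W : C, {k : W ⟶ V // T k}), ιU p.1, fun q => YU q.1.1 q.2,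
    fun q => gU q.1.1 q.2 ≫ q.1.2.1, fun q => T.downward_closed q.1.2.2 _, ?_,
    fun q => hBU q.1.1 q.2⟩
  refine J.transitive hT _ (fun W k hk => ?_)
  refine J.superset_covering ?_ (hcovU W)
  intro W' l hl
  obtain ⟨W'', l', m, ⟨i⟩, rfl⟩ := hl
  change (Sieve.ofArrows _ _).arrows ((l' ≫ gU W i) ≫ k)
  rw [Category.assoc]
  exact Sieve.downward_closed _
    (Sieve.ofArrows_mk (fun q : (Σ p : (Σ W : C, {k : W ⟶ V // T k}), ιU p.1) => YU q.1.1 q.2)
      (fun q => gU q.1.1 q.2 ≫ q.1.2.1) ⟨⟨W, ⟨k, hk⟩⟩, i⟩) l'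

end Family

variable {C : Type u} [SmallCategory C] {J : GrothendieckTopology C} (O : Sheaf J CommRingCat.{u})

/-- lifting maps out of a generator through an epimorphism with acyclic kernel -/
theorem exists_lift_of_HU_one (S : ShortComplex (ModSite.Mod O)) (hS : S.ShortExact) (U : C)
    [Subsingleton (ModSite.HU O S.X₁ 1 U)] (s : (ModGen.gen O).G U ⟶ S.X₃) :
    ∃ t : (ModGen.gen O).G U ⟶ S.X₂, t ≫ S.g = s := by
  haveI : EnoughInjectives (ModSite.Mod O) :=
    Groth.Agent.Lib.Helper13.ModGrothendieck.enoughInjectives (ModSite.ringSh O)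
  have hR : ∀ I : ModSite.Mod O, Injective I → ∀ (n : ℕ)
      (x : Abelian.Ext (CohCx.freeSheaf J U) ((toAbF O).obj I) (n + 1)), x = 0 := by
    intro I hI n x
    exact PushAcyclic.cAcyc_of_isTotallyAcyclic J _
      (Groth.Agent.Lib.Helper2.ExtUnitH.isTotallyAcyclic_of_injective O I) U n x
  let e1 := ExtAdjAcyclic.extAdjEquivAcyclic (adjLO O) (CohCx.freeSheaf J U) hR S.X₁ 1
  apply CechFlasque.surj_of_ext_one_eq_zero ((LO O).obj (CohCx.freeSheaf J U)) hS (fun x => ?_) s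
  apply e1.injective
  exact Subsingleton.elim (α := ModSite.HU O S.X₁ 1 U) _ _

variable {J' : GrothendieckTopology C} (h : J' ≤ J)

/-- `ε_*` of an epimorphism with locally acyclic kernel is an epimorphism -/
theorem epi_push_map_g (B : Set C)
    (hB : ∀ U : C, ∃ (ι : Type u) (Y : ι → C) (g : ∀ i, Y i ⟶ U),
      Sieve.ofArrows Y g ∈ J' U ∧ ∀ i, Y i ∈ B)
    (S : ShortComplex (ModSite.Mod O)) (hS : S.ShortExact)
    (hvan : ∀ U ∈ B, Subsingleton (ModSite.HU O S.X₁ 1 U)) :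
    Epi ((SiteCmp.eps h O).push.map S.g) := by
  apply (toAbF (SiteCmp.epsRing h O)).epi_of_epi_map
  refine (Sheaf.isLocallySurjective_iff_epi' AddCommGrpCat.{u} _).1 ⟨fun {V} s => ?_⟩
  obtain ⟨ι, Yc, g, hcov, hYB⟩ := hB V
  refine J'.superset_covering ?_ hcov
  intro W k hk
  obtain ⟨W', k', m, ⟨i⟩, rfl⟩ := hk
  apply Sieve.downward_closed
  haveI := hvan (Yc i) (hYB i)
  let s_i : ((toAbF O).obj S.X₃).obj.obj (op (Yc i)) :=
    (((toAbF O).obj S.X₃).obj.map (g i).op).hom s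
  obtain ⟨t₀, ht₀⟩ := exists_lift_of_HU_one O S hS (Yc i)
    (((ModGen.gen O).ev (Yc i) S.X₃).symm s_i)
  refine ⟨(ModGen.gen O).ev (Yc i) S.X₂ t₀, ?_⟩
  have h1 := (ModGen.gen O).ev_comp (Yc i) t₀ S.g
  rw [ht₀, AddEquiv.apply_symm_apply] at h1
  exact h1.symm

end Groth.Agent.Lib.Helper5.EpsStar
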