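import Mathlib
import Groth.Prelude.Def_CohCx

/-!
# Triangulated functors preserving countable products preserve derived limits (helper5)
-/

set_option autoImplicit false
universe v₁ v₂ u₁ u₂
open CategoryTheory CategoryTheory.Limits CategoryTheory.Pretriangulated

noncomputable section
namespace Groth.Agent.Lib.Helper5.RlimFunctor

variable {T₁ : Type u₁} [Category.{v₁} T₁] [Preadditive T₁] [HasZeroObject T₁] [HasShift T₁ ℤ]
  [∀ n : ℤ, (shiftFunctor T₁ n).Additive] [Pretriangulated T₁]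
  {T₂ : Type u₂} [Category.{v₂} T₂] [Preadditive T₂] [HasZeroObject T₂] [HasShift T₂ ℤ]
  [∀ n : ℤ, (shiftFunctor T₂ n).Additive] [Pretriangulated T₂]
  (G : T₁ ⥤ T₂) [G.CommShift ℤ] [G.IsTriangulated]

theorem isRlimVia_map (K : ℕ → T₁) (t : ∀ n, K (n + 1) ⟶ K n) [HasProduct K]
    [HasProduct (fun n => G.obj (K n))] [PreservesLimit (Discrete.functor K) G]
    (L : T₁) (a : ∀ n, L ⟶ K n) (h : CohCx.IsRlimVia K t L a) :
    CohCx.IsRlimVia (fun n => G.obj (K n)) (fun n => G.map (t n)) (G.obj L)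
      (fun n => G.map (a n)) := by
  obtain ⟨c, hT⟩ := h
  have hT' := G.map_distinguished _ hT
  let θ : G.obj (∏ᶜ K) ≅ ∏ᶜ (fun n => G.obj (K n)) := PreservesProduct.iso G K
  have hθ : ∀ n, θ.hom ≫ Pi.π (fun n => G.obj (K n)) n = G.map (Pi.π K n) := fun n =>
    piComparison_comp_π G K n
  refine ⟨θ.inv ≫ G.map c ≫ (G.commShiftIso (1 : ℤ)).hom.app L, ?_⟩
  refine isomorphic_distinguished _ hT' _ ?_
  refine (Triangle.isoMk (G.mapTriangle.obj (Triangle.mk (Pi.lift a)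
      (Pi.lift fun n => Pi.π K n - Pi.π K (n + 1) ≫ t n) c))
    (Triangle.mk (Pi.lift fun n => G.map (a n))
      (Pi.lift fun n => Pi.π (fun n => G.obj (K n)) n -
        Pi.π (fun n => G.obj (K n)) (n + 1) ≫ G.map (t n))
      (θ.inv ≫ G.map c ≫ (G.commShiftIso (1 : ℤ)).hom.app L))
    (Iso.refl _) θ θ ?_ ?_ ?_).symm
  · change G.map (Pi.lift a) ≫ θ.hom = 𝟙 (G.obj L) ≫ Pi.lift (fun n => G.map (a n))
    rw [Category.id_comp]
    apply Pi.hom_ext
    intro n
    rw [Category.assoc, hθ, ← G.map_comp, Pi.lift_π, Pi.lift_π]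
  · change G.map (Pi.lift fun n => Pi.π K n - Pi.π K (n + 1) ≫ t n) ≫ θ.hom =
      θ.hom ≫ Pi.lift (fun n => Pi.π (fun n => G.obj (K n)) n -
        Pi.π (fun n => G.obj (K n)) (n + 1) ≫ G.map (t n))
    apply Pi.hom_ext
    intro n
    rw [Category.assoc, Category.assoc, hθ, ← G.map_comp, Pi.lift_π, Pi.lift_π,
      Preadditive.comp_sub, G.map_sub, G.map_comp, ← Category.assoc, hθ, hθ]
  · change (G.map c ≫ (G.commShiftIso (1 : ℤ)).hom.app L) ≫
      (shiftFunctor T₂ (1 : ℤ)).map (𝟙 (G.obj L)) =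
      θ.hom ≫ θ.inv ≫ G.map c ≫ (G.commShiftIso (1 : ℤ)).hom.app L
    rw [CategoryTheory.Functor.map_id, Iso.hom_inv_id_assoc]
    exact Category.comp_id _

end Groth.Agent.Lib.Helper5.RlimFunctor
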