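import Groth.Agent.Lib.Helper2.TExact.WeakSerreEquiv
import Groth.Agent.Lib.Helper5.RlimFunctor
import Groth.Agent.Lib.Helper5.TruncRlimA
import Groth.Prelude.Def_CohCx
import Groth.Prelude.Def_WeakSerre

/-!
# `f^* : D_{A'} → D_A` with quasi-inverse `Rf_*`, unbounded version, abstract form (helper5)

`Φ : ℬ ⥤ 𝒜` exact, `R` a right adjoint of `Φ.mapDerivedCategory`.  Under the hypotheses of the
bounded below equivalence (helper2's `TExactIso.unit_part`, `counit_part`), if objects of `D_P(𝒜)`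
are derived limits of their truncations and derived limits of eventually constant towers in
`D^+_{P'}(ℬ)` have the expected cohomology, then the unit and counit are isomorphisms on
`D_{P'}(ℬ)` and `D_P(𝒜)`.
-/

set_option autoImplicit false
universe w w' v u
open CategoryTheory CategoryTheory.Limits CategoryTheory.Pretriangulated

noncomputable section
namespace Groth.Agent.Lib.Helper5.EquivUnbdd

open DerivedCategory CohCx Groth.Agent.Lib.Helper2.TExactIso

section Tri

variable {A : Type u} [Category.{v} A] [Abelian A] [HasDerivedCategory.{w} A]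

/-- `H^i` of the third object vanishes if `H^i(mor₁)` is epi and `H^{i+1}(mor₁)` is mono -/
lemma isZero_homology_obj₃ (T : Triangle (DerivedCategory A)) (hT : T ∈ distTriang _) (i i' : ℤ)
    (hi : i + 1 = i')
    (h0 : Epi ((homologyFunctor A i).map T.mor₁))
    (h1 : Mono ((homologyFunctor A i').map T.mor₁)) :
    IsZero ((homologyFunctor A i).obj T.obj₃) := by
  have e1 := (HomologySequence.epi_homologyMap_mor₁_iff T hT i).1 h0
  have e2 := (HomologySequence.mono_homologyMap_mor₁_iff T hT i i' hi).1 h1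
  exact (HomologySequence.exact₃ T hT i i' hi).isZero_of_both_zeros e1 e2

/-- the cohomology objects of a cone of a map between objects of `D_P` are in `P` -/
lemma prop_homology_cone (P : ObjectProperty A) [WSerre.IsWeakSerre P]
    (T : Triangle (DerivedCategory A)) (hT : T ∈ distTriang _)
    (h₁ : WSerre.cohIn P T.obj₁) (h₂ : WSerre.cohIn P T.obj₂) (q : ℤ) :
    P ((homologyFunctor A q).obj T.obj₃) :=
  prop_of_exact_five P _ _ _ _ _ _ _
    (HomologySequence.exact₂ T hT q) (HomologySequence.exact₃ T hT q (q + 1) rfl)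
    (HomologySequence.exact₁ T hT q (q + 1) rfl) (h₁ q) (h₂ q) (h₁ (q + 1)) (h₂ (q + 1))

end Tri

section Exact

variable {𝒜 : Type u} [Category.{v} 𝒜] [Abelian 𝒜] [HasDerivedCategory.{w} 𝒜]
  {ℬ : Type u} [Category.{v} ℬ] [Abelian ℬ] [HasDerivedCategory.{w'} ℬ]
  (Φ : ℬ ⥤ 𝒜) [Φ.Additive] [PreservesFiniteLimits Φ] [PreservesFiniteColimits Φ]

/-- an exact functor preserves "isomorphism on `H^j`" (in a window of three degrees) -/
lemma isIso_homology_map_mapDerivedCategory {Y₁ Y₂ : DerivedCategory ℬ} (φ : Y₁ ⟶ Y₂) (j : ℤ)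
    (h : ∀ i, j - 1 ≤ i → i ≤ j + 1 → IsIso ((homologyFunctor ℬ i).map φ)) :
    IsIso ((homologyFunctor 𝒜 j).map (Φ.mapDerivedCategory.map φ)) := by
  obtain ⟨Z, g, δ, hT⟩ := distinguished_cocone_triangle φ
  have hZ : ∀ i, j - 1 ≤ i → i ≤ j → IsZero ((homologyFunctor ℬ i).obj Z) := by
    intro i h1 h2
    haveI := h i (by omega) (by omega)
    haveI := h (i + 1) (by omega) (by omega)
    exact isZero_homology_obj₃ _ hT i (i + 1) rfl
      (inferInstanceAs (Epi ((homologyFunctor ℬ i).map φ)))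
      (inferInstanceAs (Mono ((homologyFunctor ℬ (i + 1)).map φ)))
  have hFZ : ∀ i, j - 1 ≤ i → i ≤ j →
      IsZero ((homologyFunctor 𝒜 i).obj (Φ.mapDerivedCategory.obj Z)) := fun i h1 h2 =>
    (Φ.map_isZero (hZ i h1 h2)).of_iso (mapDerivedCategoryHomologyIso Φ Z i)
  have hT' := Φ.mapDerivedCategory.map_distinguished _ hT
  exact TruncRlim.isIso_homology_map_mor₁ _ hT' j (j - 1) (by omega)
    (hFZ (j - 1) (by omega) (by omega)) (hFZ j (by omega) (by omega))

/-- an exact functor which reflects zero objects of a weak Serre subcategory `P'` reflects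
"isomorphism on `H^j`" for maps between objects of `D_{P'}` -/
lemma isIso_homology_map_of_mapDerivedCategory (P' : ObjectProperty ℬ) [WSerre.IsWeakSerre P']
    (hrefl : ∀ M : ℬ, P' M → IsZero (Φ.obj M) → IsZero M)
    {Y₁ Y₂ : DerivedCategory ℬ} (φ : Y₁ ⟶ Y₂) (h₁ : WSerre.cohIn P' Y₁) (h₂ : WSerre.cohIn P' Y₂)
    (j : ℤ)
    (h : ∀ i, j - 1 ≤ i → i ≤ j + 1 →
      IsIso ((homologyFunctor 𝒜 i).map (Φ.mapDerivedCategory.map φ))) :
    IsIso ((homologyFunctor ℬ j).map φ) := by
  obtain ⟨Z, g, δ, hT⟩ := distinguished_cocone_triangle φ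
  have hT' := Φ.mapDerivedCategory.map_distinguished _ hT
  have hFZ : ∀ i, j - 1 ≤ i → i ≤ j →
      IsZero ((homologyFunctor 𝒜 i).obj (Φ.mapDerivedCategory.obj Z)) := by
    intro i h1 h2
    haveI := h i (by omega) (by omega)
    haveI := h (i + 1) (by omega) (by omega)
    exact isZero_homology_obj₃ _ hT' i (i + 1) rfl
      (inferInstanceAs (Epi ((homologyFunctor 𝒜 i).map (Φ.mapDerivedCategory.map φ))))
      (inferInstanceAs (Mono ((homologyFunctor 𝒜 (i + 1)).map (Φ.mapDerivedCategory.map φ))))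
  have hZ : ∀ i, j - 1 ≤ i → i ≤ j → IsZero ((homologyFunctor ℬ i).obj Z) := fun i h1 h2 =>
    hrefl _ (prop_homology_cone P' _ hT h₁ h₂ i)
      ((hFZ i h1 h2).of_iso (mapDerivedCategoryHomologyIso Φ Z i).symm)
  exact TruncRlim.isIso_homology_map_mor₁ _ hT j (j - 1) (by omega)
    (hZ (j - 1) (by omega) (by omega)) (hZ j (by omega) (by omega))

end Exact

section Main

variable {𝒜 : Type (u + 1)} [Category.{u} 𝒜] [Abelian 𝒜] [HasDerivedCategory.{w} 𝒜]
  {ℬ : Type (u + 1)} [Category.{u} ℬ] [Abelian ℬ] [HasDerivedCategory.{w'} ℬ]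
  {Φ : ℬ ⥤ 𝒜} [Φ.Additive] [PreservesFiniteLimits Φ] [PreservesFiniteColimits Φ]
  {R : DerivedCategory 𝒜 ⥤ DerivedCategory ℬ} (adj : Φ.mapDerivedCategory ⊣ R)
  (P : ObjectProperty 𝒜) [WSerre.IsWeakSerre P] (P' : ObjectProperty ℬ) [WSerre.IsWeakSerre P']

omit [WSerre.IsWeakSerre P] in
lemma cohInPlus_truncTower [P.IsClosedUnderIsomorphisms] [P.ContainsZero]
    (X : DerivedCategory 𝒜) (hX : WSerre.cohIn P X) (n : ℕ) :
    WSerre.cohInPlus P (truncTower X n) := by
  refine ⟨fun q => ?_, -(n : ℤ), ?_⟩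
  · by_cases hq : -(n : ℤ) ≤ q
    · haveI := TruncRlim.isIso_homology_map_toTruncTower X n q hq
      exact P.prop_of_iso (asIso ((homologyFunctor 𝒜 q).map (toTruncTower X n))) (hX q)
    · exact P.prop_of_isZero (TruncRlim.isZero_homology_truncTower X n q (by omega))
  · change TStructure.t.IsGE ((TStructure.t.truncGE (-(n : ℤ))).obj X) (-(n : ℤ))
    infer_instance

theorem counit_unbdd
    (hrefl : ∀ M : ℬ, P' M → IsZero (Φ.obj M) → IsZero M)
    (h2c : ∀ F : 𝒜, P F → ∃ F' : ℬ, P' F' ∧ Nonempty (Φ.obj F' ≅ F))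
    (h3 : ∀ F' : ℬ, P' F' → IsIso (adj.unit.app ((singleFunctor ℬ 0).obj F')))
    [hprodA : ∀ K : ℕ → DerivedCategory 𝒜, HasProduct K]
    [hprodB : ∀ K : ℕ → DerivedCategory ℬ, HasProduct K]
    (hRlim : ∀ X : DerivedCategory 𝒜, WSerre.cohIn P X →
      CohCx.IsRlimVia (truncTower X) (truncTowerMap X) X (toTruncTower X))
    (hlim : ∀ (K : ℕ → DerivedCategory ℬ) (t : ∀ n, K (n + 1) ⟶ K n),
      (∀ n, WSerre.cohInPlus P' (K n)) →
      (∀ j : ℤ, ∃ n₀ : ℕ, ∀ n, n₀ ≤ n → IsIso ((homologyFunctor ℬ j).map (t n))) →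
      ∀ (L : DerivedCategory ℬ) (a : ∀ n, L ⟶ K n), CohCx.IsRlimVia K t L a →
      ∀ j : ℤ, ∃ n₀ : ℕ, ∀ n, n₀ ≤ n → IsIso ((homologyFunctor ℬ j).map (a n)))
    (X : DerivedCategory 𝒜) (hX : WSerre.cohIn P X) :
    WSerre.cohIn P' (R.obj X) ∧ IsIso (adj.counit.app X) := by
  letI := adj.rightAdjointCommShift ℤ
  haveI := adj.commShift_of_leftAdjoint ℤ
  haveI : R.IsTriangulated := adj.isTriangulated_rightAdjoint
  haveI : PreservesLimit (Discrete.functor (truncTower X)) R :=
    (adj.rightAdjoint_preservesLimits.preservesLimitsOfShape).preservesLimit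
  have hXn : ∀ n, WSerre.cohInPlus P (truncTower X n) := cohInPlus_truncTower P X hX
  have hcp : ∀ n, WSerre.cohInPlus P' (R.obj (truncTower X n)) ∧
      IsIso (adj.counit.app (truncTower X n)) :=
    fun n => counit_part adj P P' h2c h3 _ (hXn n)
  have hRG := RlimFunctor.isRlimVia_map R (truncTower X) (truncTowerMap X) X (toTruncTower X)
    (hRlim X hX)
  have hconst : ∀ j : ℤ, ∃ n₀ : ℕ, ∀ n, n₀ ≤ n →
      IsIso ((homologyFunctor ℬ j).map (R.map (truncTowerMap X n))) := by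
    intro j
    refine ⟨(1 - j).toNat, fun n hn => ?_⟩
    apply isIso_homology_map_of_mapDerivedCategory Φ P' hrefl _ (hcp (n + 1)).1.1 (hcp n).1.1 j
    intro i h1 h2
    haveI := (hcp n).2
    haveI := (hcp (n + 1)).2
    haveI := TruncRlim.isIso_homology_map_truncTowerMap X n i (by omega)
    have hnat := adj.counit.naturality (truncTowerMap X n)
    have h4 : (homologyFunctor 𝒜 i).map (Φ.mapDerivedCategory.map (R.map (truncTowerMap X n))) ≫
        (homologyFunctor 𝒜 i).map (adj.counit.app (truncTower X n)) =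
        (homologyFunctor 𝒜 i).map (adj.counit.app (truncTower X (n + 1))) ≫
          (homologyFunctor 𝒜 i).map (truncTowerMap X n) := by
      rw [← Functor.map_comp, ← Functor.map_comp]
      exact congrArg _ hnat
    haveI : IsIso ((homologyFunctor 𝒜 i).map
        (Φ.mapDerivedCategory.map (R.map (truncTowerMap X n))) ≫
        (homologyFunctor 𝒜 i).map (adj.counit.app (truncTower X n))) := by
      rw [h4]
      infer_instance
    exact IsIso.of_isIso_comp_right _ ((homologyFunctor 𝒜 i).map (adj.counit.app (truncTower X n)))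
  have hlimj := hlim (fun n => R.obj (truncTower X n)) (fun n => R.map (truncTowerMap X n))
    (fun n => (hcp n).1) hconst (R.obj X) (fun n => R.map (toTruncTower X n)) hRG
  constructor
  · intro j
    obtain ⟨n₀, hn₀⟩ := hlimj j
    haveI := hn₀ n₀ le_rfl
    exact P'.prop_of_iso (asIso ((homologyFunctor ℬ j).map (R.map (toTruncTower X n₀)))).symm
      ((hcp n₀).1.1 j)
  · rw [DerivedCategory.isIso_iff]
    intro j
    obtain ⟨n₁, hn₁⟩ := hlimj (j - 1)
    obtain ⟨n₂, hn₂⟩ := hlimj j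
    obtain ⟨n₃, hn₃⟩ := hlimj (j + 1)
    obtain ⟨n, h1, h2, h3', h4'⟩ : ∃ n : ℕ, n₁ ≤ n ∧ n₂ ≤ n ∧ n₃ ≤ n ∧ -(n : ℤ) ≤ j :=
      ⟨n₁ + n₂ + n₃ + (-j).toNat, by omega, by omega, by omega, by omega⟩
    have hFR : IsIso ((homologyFunctor 𝒜 j).map
        (Φ.mapDerivedCategory.map (R.map (toTruncTower X n)))) := by
      apply isIso_homology_map_mapDerivedCategory Φ _ j
      intro i hi1 hi2
      have hi : i = j - 1 ∨ i = j ∨ i = j + 1 := by omega
      rcases hi with rfl | rfl | rfl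
      · exact hn₁ n h1
      · exact hn₂ n h2
      · exact hn₃ n h3'
    haveI := TruncRlim.isIso_homology_map_toTruncTower X n j h4'
    haveI := (hcp n).2
    have hnat := adj.counit.naturality (toTruncTower X n)
    have h4 : (homologyFunctor 𝒜 j).map (Φ.mapDerivedCategory.map (R.map (toTruncTower X n))) ≫
        (homologyFunctor 𝒜 j).map (adj.counit.app (truncTower X n)) =
        (homologyFunctor 𝒜 j).map (adj.counit.app X) ≫
          (homologyFunctor 𝒜 j).map (toTruncTower X n) := by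
      rw [← Functor.map_comp, ← Functor.map_comp]
      exact congrArg _ hnat
    haveI : IsIso ((homologyFunctor 𝒜 j).map (adj.counit.app X) ≫
        (homologyFunctor 𝒜 j).map (toTruncTower X n)) := by
      rw [← h4]
      infer_instance
    exact IsIso.of_isIso_comp_right _ ((homologyFunctor 𝒜 j).map (toTruncTower X n))

theorem unit_unbdd
    (hrefl : ∀ M : ℬ, P' M → IsZero (Φ.obj M) → IsZero M)
    (h2a : ∀ F' : ℬ, P' F' → P (Φ.obj F'))
    (h2c : ∀ F : 𝒜, P F → ∃ F' : ℬ, P' F' ∧ Nonempty (Φ.obj F' ≅ F))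
    (h3 : ∀ F' : ℬ, P' F' → IsIso (adj.unit.app ((singleFunctor ℬ 0).obj F')))
    [hprodA : ∀ K : ℕ → DerivedCategory 𝒜, HasProduct K]
    [hprodB : ∀ K : ℕ → DerivedCategory ℬ, HasProduct K]
    (hRlim : ∀ X : DerivedCategory 𝒜, WSerre.cohIn P X →
      CohCx.IsRlimVia (truncTower X) (truncTowerMap X) X (toTruncTower X))
    (hlim : ∀ (K : ℕ → DerivedCategory ℬ) (t : ∀ n, K (n + 1) ⟶ K n),
      (∀ n, WSerre.cohInPlus P' (K n)) →
      (∀ j : ℤ, ∃ n₀ : ℕ, ∀ n, n₀ ≤ n → IsIso ((homologyFunctor ℬ j).map (t n))) →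
      ∀ (L : DerivedCategory ℬ) (a : ∀ n, L ⟶ K n), CohCx.IsRlimVia K t L a →
      ∀ j : ℤ, ∃ n₀ : ℕ, ∀ n, n₀ ≤ n → IsIso ((homologyFunctor ℬ j).map (a n)))
    (Y : DerivedCategory ℬ) (hY : WSerre.cohIn P' Y) :
    WSerre.cohIn P (Φ.mapDerivedCategory.obj Y) ∧ IsIso (adj.unit.app Y) := by
  have hFY : WSerre.cohIn P (Φ.mapDerivedCategory.obj Y) := fun q =>
    P.prop_of_iso (mapDerivedCategoryHomologyIso Φ Y q).symm (h2a _ (hY q))
  obtain ⟨hRFY, hε⟩ := counit_unbdd adj P P' hrefl h2c h3 hRlim hlim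
    (Φ.mapDerivedCategory.obj Y) hFY
  refine ⟨hFY, ?_⟩
  have h1 := adj.left_triangle_components Y
  haveI : IsIso (Φ.mapDerivedCategory.map (adj.unit.app Y)) := by
    haveI : IsIso (Φ.mapDerivedCategory.map (adj.unit.app Y) ≫
        adj.counit.app (Φ.mapDerivedCategory.obj Y)) := by
      rw [h1]
      exact IsIso.id _
    exact IsIso.of_isIso_comp_right _ (adj.counit.app (Φ.mapDerivedCategory.obj Y))
  rw [DerivedCategory.isIso_iff]
  intro j
  apply isIso_homology_map_of_mapDerivedCategory Φ P' hrefl (adj.unit.app Y) hY hRFY j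
  intro i _ _
  infer_instance

end Main

end Groth.Agent.Lib.Helper5.EquivUnbdd
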