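import Mathlib
import Groth.Prelude.Def_EtCech
import Groth.Agent.Lib.Helper5.EtCechFlasque
import Groth.Agent.Lib.Helper5.CechFunct

/-!
# Helper5: the direct image of a Čech-flasque abelian étale sheaf is Čech-flasque
-/

set_option autoImplicit false
universe u

namespace Groth.Agent.Lib.Helper5.EtCechPush

open CategoryTheory CategoryTheory.Limits Opposite AlgebraicGeometry
open Groth.Agent.Lib.Helper15.CechGen Groth.Agent.Lib.Helper5.CechLowGen
open Groth.Agent.Lib.Helper5.EtCechFlasque Groth.Agent.Lib.Helper5.CechFunct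

noncomputable section

variable {X Y : Scheme.{u}} (f : X ⟶ Y)
  [∀ U : X.Etale, HasFiniteProducts (Over U)] [∀ V : Y.Etale, HasFiniteProducts (Over V)]

theorem cechFlasque_push (F : EtCoh.Ab X) (hF : CechFlasque F) :
    CechFlasque ((EtCoh.push f).obj F) := by
  intro V ι Vf hV p hp
  obtain ⟨n, rfl⟩ : ∃ n, p = n + 1 := ⟨p - 1, by omega⟩
  let B := EtCoh.bc f
  let Pf : Over V ⥤ Over (B.obj V) := Over.post B
  haveI : PreservesFiniteLimits Pf := inferInstance
  haveI : PreservesFiniteProducts Pf := inferInstance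
  have c : Cmp Pf Vf := cmpOfPreserves Pf Vf
  have hcov : Sieve.ofArrows (fun i => ((Y' Pf Vf) i).left) (fun i => ((Y' Pf Vf) i).hom) ∈
      X.smallEtaleTopology (B.obj V) := by
    have h0 := ofArrows_mem_of_surj Vf hV
    have h1 := (EtCoh.coverPreserving_bc f).cover_preserve h0
    refine X.smallEtaleTopology.superset_covering ?_ h1
    rintro W g ⟨W', k, h, hk, rfl⟩
    obtain ⟨W'', k', m, ⟨i⟩, rfl⟩ := hk
    rw [B.map_comp, ← Category.assoc]
    apply Sieve.downward_closed
    exact Sieve.ofArrows_mk (fun i => ((Y' Pf Vf) i).left) (fun i => ((Y' Pf Vf) i).hom) i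
  have hex := hF (B.obj V) ι (Y' Pf Vf) (surj_of_ofArrows_mem _ hcov) (n + 1) (Nat.succ_pos n)
  have hex' : CechExact (Y' Pf Vf) ((Over.forget (B.obj V)).op ⋙ F.obj) n :=
    (cechExact_iff _ _ n).2 hex
  have h2 := cechExact_of_cechExact ((Over.forget (B.obj V)).op ⋙ F.obj) c n hex'
  exact (cechExact_iff Vf _ n).1 h2

end

end Groth.Agent.Lib.Helper5.EtCechPush
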