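import Mathlib
import Groth.Prelude.Def_EtZar
import Groth.Agent.Lib.Helper15.EtZarAdj

set_option autoImplicit false
universe u
open CategoryTheory CategoryTheory.Limits AlgebraicGeometry Opposite TopologicalSpace

namespace Groth.Agent.Lib.Helper5.ZarContAll

open Groth.Agent.Lib.Helper15.EtZarAdj

variable {X : Scheme.{u}}

instance (U : X.Etale) : Etale U.hom := U.prop

/-- an open subscheme of an étale `X`-scheme, as an étale `X`-scheme. -/
noncomputable def opn (U : X.Etale) (W : U.left.Opens) : X.Etale := Scheme.Etale.mk (W.ι ≫ U.hom)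

/-- the inclusion. -/
noncomputable def opnι (U : X.Etale) (W : U.left.Opens) : opn U W ⟶ U :=
  MorphismProperty.Over.homMk W.ι rfl trivial

variable (X)

instance imF_cocont : (imF X).IsCocontinuous X.smallEtaleTopology (Opens.grothendieckTopology X) where
  cover_lift := by
    intro U S hS
    rw [Opens.mem_grothendieckTopology] at hS
    have hex : ∀ u : U.left, ∃ (V : X.Opens) (f : V ⟶ (imF X).obj U), S.arrows f ∧ U.hom u ∈ V :=
      fun u => hS (U.hom u) ⟨u, rfl⟩
    choose V f hf hu using hex
    have hcov : Sieve.ofArrows (fun u : U.left => opn U (U.hom ⁻¹ᵁ V u))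
        (fun u => opnι U (U.hom ⁻¹ᵁ V u)) ∈ X.smallEtaleTopology U := by
      rw [Scheme.ofArrows_mem_smallEtaleTopology_iff]
      ext x
      simp only [Set.mem_iUnion, Set.mem_range, Set.mem_univ, iff_true]
      exact ⟨x, ⟨x, hu x⟩, rfl⟩
    refine X.smallEtaleTopology.superset_covering ?_ hcov
    rintro Y g ⟨Z, g', _, ⟨u⟩, rfl⟩
    apply Sieve.downward_closed
    change S.arrows ((imF X).map (opnι U (U.hom ⁻¹ᵁ V u)))
    have hle : (imF X).obj (opn U (U.hom ⁻¹ᵁ V u)) ≤ V u := by
      rintro x ⟨w, rfl⟩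
      exact w.2
    have : (imF X).map (opnι U (U.hom ⁻¹ᵁ V u)) = homOfLE hle ≫ f u := Subsingleton.elim _ _
    rw [this]
    exact S.downward_closed (hf u) _

instance zarCont : EtZar.ZarCont X :=
  (adjIm X).isContinuous_of_isCocontinuous X.smallEtaleTopology (Opens.grothendieckTopology X)

end Groth.Agent.Lib.Helper5.ZarContAll
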