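import Groth.Agent.Lib.Helper5.CoExtAdj
import Groth.Agent.Lib.Helper5.ZarContAll
import Groth.Agent.Lib.Helper15.EtZarAcyc

set_option autoImplicit false
set_option backward.isDefEq.respectTransparency false
universe u
open CategoryTheory CategoryTheory.Limits AlgebraicGeometry Opposite TopologicalSpace

namespace Groth.Agent.Lib.Helper5.EtZarCompare

open Groth.Agent.Lib.Helper15.EtZarAdj Groth.Agent.Lib.Helper15.EtZarAcyc
  Groth.Agent.Lib.Helper5.CoExtAdj Groth.Agent.Lib.Helper2.EtMV CategoryTheory.Abelian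
open Groth.Agent.Lib.Helper15

attribute [local instance] Groth.Agent.Lib.Helper2.EtMV.pull_preservesFiniteLimits

variable (S : Scheme.{u}) [EtZar.ZarCont S]

instance pfcLz : PreservesFiniteColimits (Lz S) := by
  have : PreservesColimitsOfSize.{0, 0} (Lz S) := (adjZ S).leftAdjoint_preservesColimits
  exact PreservesColimitsOfSize.preservesFiniteColimits.{0, 0} _

instance pflLz : PreservesFiniteLimits (Lz S) := by
  unfold Lz
  infer_instance

instance addLz : (Lz S).Additive := Functor.additive_of_preserves_binary_products _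

instance addResZar : (EtZar.resZar S).Additive := Functor.additive_of_preserves_binary_products _


/-- Étale acyclicity on affine opens, in `Ext` form. -/
def AffAcyc (G : EtCoh.Ab S) : Prop :=
  ∀ U : S.Opens, IsAffineOpen U → ∀ j : ℕ, Subsingleton (Ext.{u + 1}
    ((EtShriek.extZero U.ι).obj (EtCoh.const (U : Scheme.{u}) ℤ)) G (j + 1))

variable {S}

lemma affAcyc_of_injective (I : EtCoh.Ab S) [Injective I] : AffAcyc S I :=
  fun _ _ _ => subsingleton_of_forall_eq 0 fun x => Ext.eq_zero_of_injective x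

lemma affAcyc_cokernel {Sc : ShortComplex (EtCoh.Ab S)} (hS₀ : Sc.ShortExact) [Injective Sc.X₂]
    (hG : AffAcyc S Sc.X₁) : AffAcyc S Sc.X₃ :=
  fun U hU j => subsingleton_ext_cokernel hS₀ (fun k => hG U hU k) j

theorem resZar_map_epi_of_affAcyc {G I Q : EtCoh.Ab S} (f : G ⟶ I) (g : I ⟶ Q) (w : f ≫ g = 0)
    (hS₀ : (ShortComplex.mk f g w).ShortExact) (hG : AffAcyc S G) :
    Epi ((EtZar.resZar S).map g) := by
  rw [← Sheaf.isLocallySurjective_iff_epi' AddCommGrpCat.{u + 1} ((EtZar.resZar S).map g)]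
  constructor
  intro U' s
  obtain ⟨U₁, rfl⟩ : ∃ U₁ : S.Opens, U₁ = U' := ⟨U', rfl⟩
  refine (Opens.mem_grothendieckTopology _).2 (fun x hx => ?_)
  obtain ⟨U₀, hUaff, hxU, hUU₁⟩ := Opens.isBasis_iff_nbhd.1 S.isBasis_affineOpens hx
  obtain ⟨U, rfl⟩ : ∃ U : S.Opens, U = U₀ := ⟨U₀, rfl⟩
  obtain ⟨i, -⟩ : ∃ i : U ⟶ U₁, True := ⟨homOfLE hUU₁, trivial⟩
  refine ⟨U, i, ?_, hxU⟩
  obtain ⟨α, -⟩ : ∃ α : (EtZar.zarToEt S).obj U ⟶ TransferTrace.P₀ U.ι, True :=
    ⟨MorphismProperty.Over.homMk (𝟙 _) ((Category.id_comp _).trans (Category.id_comp _)) trivial,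
      trivial⟩
  obtain ⟨β, -⟩ : ∃ β : TransferTrace.P₀ U.ι ⟶ (EtZar.zarToEt S).obj U, True :=
    ⟨MorphismProperty.Over.homMk (𝟙 _) rfl trivial, trivial⟩
  have hαβ : α ≫ β = 𝟙 _ := (subsingleton_hom_zarToEt S _ _).elim _ _
  obtain ⟨s_U, hs_U⟩ : ∃ s_U : Q.obj.obj (op ((EtZar.zarToEt S).obj U)),
      s_U = Q.obj.map ((EtZar.zarToEt S).map i).op s := ⟨_, rfl⟩
  obtain ⟨ψ, hψ⟩ : ∃ ψ, TransferEfface.Θ U.ι Q ψ = Q.obj.map β.op s_U :=
    ⟨(TransferEfface.Θ U.ι Q).symm _, Equiv.apply_symm_apply _ _⟩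
  obtain ⟨l, hl⟩ := exists_lift_of_ext_one hS₀ (hG U hUaff 0) ψ
  have hl' : l ≫ g = ψ := hl
  refine ⟨I.obj.map α.op (TransferEfface.Θ U.ι I l), ?_⟩
  show g.hom.app (op ((EtZar.zarToEt S).obj U)) (I.obj.map α.op (TransferEfface.Θ U.ι I l)) =
    Q.obj.map ((EtZar.zarToEt S).map i).op s
  rw [← hs_U, EtGlue.ab_hom_nat g α.op, ← TransferEfface.Θ_naturality, hl', hψ,
    ← EtGlue.ab_map_comp, ← op_comp, hαβ, op_id, CategoryTheory.Functor.map_id]
  rfl

lemma shortExact_map_resZar' {Sc : ShortComplex (EtCoh.Ab S)} (hS₀ : Sc.ShortExact)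
    (hG : AffAcyc S Sc.X₁) : (Sc.map (EtZar.resZar S)).ShortExact := by
  have h1 := (Functor.preservesFiniteLimits_iff_forall_exact_map_and_mono
    (EtZar.resZar S)).1 inferInstance _ hS₀
  exact { exact := h1.1
          mono_f := h1.2
          epi_g := resZar_map_epi_of_affAcyc Sc.f Sc.g Sc.zero hS₀ hG }

variable (S)

/-- the constant Zariski sheaf `ℤ` (large coefficients). -/
noncomputable abbrev ZZ : EtZar.Ab S :=
  (constantSheaf (Opens.grothendieckTopology S) AddCommGrpCat.{u + 1}).obj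
    (AddCommGrpCat.of (ULift.{u + 1} ℤ))

theorem coMap_bijective (n : ℕ) (G : EtCoh.Ab S) (hG : AffAcyc S G) :
    Function.Bijective (coMap.{u+1, u+1} (adjZ S) (ZZ S) G n) := by
  refine coMap_bijective_of_class.{u+1, u+1} (adjZ S) (ZZ S) (AffAcyc S) ?_ ?_ ?_ n G hG
  · intro I hI
    exact affAcyc_of_injective I
  · intro Sc hSc hI hG
    exact ⟨affAcyc_cokernel hSc hG, shortExact_map_resZar' hSc hG⟩
  · intro I hI n x
    have := resZar_injective S I
    exact Ext.eq_zero_of_injective x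

/-- Étale cohomology of a sheaf acyclic on affine opens is the Zariski cohomology of its
restriction. -/
noncomputable def cmpIso (G : EtCoh.Ab S) (hG : AffAcyc S G) (n : ℕ) :
    EtZar.H ((EtZar.resZar S).obj G) n ≃+ EtCoh.H S G n :=
  (AddEquiv.ofBijective (coMap.{u+1, u+1} (adjZ S) (ZZ S) G n) (coMap_bijective S n G hG)).trans
    (Groth.Agent.Lib.Helper13.ExtAdj.extIsoLeft
      ((LzConstIso S).app (AddCommGrpCat.of (ULift.{u + 1} ℤ))) G n).symm

theorem cmpIso_naturality {G G' : EtCoh.Ab S} (hG : AffAcyc S G) (hG' : AffAcyc S G')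
    (φ : G ⟶ G') (n : ℕ) (x : EtZar.H ((EtZar.resZar S).obj G) n) :
    cmpIso S G' hG' n (Sheaf.H.map ((EtZar.resZar S).map φ) n x) =
      Sheaf.H.map φ n (cmpIso S G hG n x) := by
  change (Ext.mk₀ ((LzConstIso S).app (AddCommGrpCat.of (ULift.{u + 1} ℤ))).inv).comp
      (coMap.{u+1, u+1} (adjZ S) (ZZ S) G' n
        (x.comp (Ext.mk₀ ((EtZar.resZar S).map φ)) (add_zero n))) (zero_add n) =
    ((Ext.mk₀ ((LzConstIso S).app (AddCommGrpCat.of (ULift.{u + 1} ℤ))).inv).comp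
      (coMap.{u+1, u+1} (adjZ S) (ZZ S) G n x) (zero_add n)).comp (Ext.mk₀ φ) (add_zero n)
  rw [coMap_comp_mk₀]
  exact (Ext.comp_assoc _ _ _ (zero_add n) (add_zero n) (by omega)).symm

end Groth.Agent.Lib.Helper5.EtZarCompare
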