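import Groth.Agent.Lib.Helper5.SuppSections
import Groth.Agent.Lib.Helper13.ExtZeroExact
import Groth.Agent.Lib.Helper13.DerivedCommute

/-!
# Helper5: étale localization of sections with support and of local cohomology sheaves
-/

set_option autoImplicit false
universe u

namespace Groth.Agent.Lib.Helper5.EtaleLocSupp

open CategoryTheory Limits AlgebraicGeometry Opposite Groth.Agent.Lib.Helper13
open Groth.Agent.Lib.Helper15.GammaSupp Groth.Agent.Lib.Helper5.SuppSections
open Groth.Agent.Lib.Helper13.ExtZeroExact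

set_option backward.isDefEq.respectTransparency.types false

variable {X U X' U' : Scheme.{u}} (j : U ⟶ X) [IsOpenImmersion j]
  (g : X' ⟶ X) [Etale g] (j' : U' ⟶ X') [IsOpenImmersion j']
  (hU' : Set.range j'.base = g.base ⁻¹' Set.range j.base)

/-- a morphism of abelian sheaves which is bijective on all sections is an isomorphism. -/
lemma isIso_of_bijective_app {Y : Scheme.{u}} {F G : EtCoh.Ab Y} (φ : F ⟶ G)
    (h : ∀ V : Y.Etale, Function.Bijective (φ.hom.app (op V))) : IsIso φ := by
  haveI : ∀ V : Y.Etaleᵒᵖ, IsIso (φ.hom.app V) := by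
    intro V
    induction V using Opposite.rec with
    | _ V =>
      rw [ConcreteCategory.isIso_iff_bijective]
      exact h V
  haveI : IsIso φ.hom := NatIso.isIso_of_isIso_app _
  haveI : IsIso ((sheafToPresheaf Y.smallEtaleTopology AddCommGrpCat.{u + 1}).map φ) :=
    inferInstanceAs (IsIso φ.hom)
  exact isIso_of_reflects_iso φ (sheafToPresheaf Y.smallEtaleTopology AddCommGrpCat.{u + 1})

include hU' in
/-- the two vanishing conditions agree. -/
lemma map_ρ_iff (F : EtCoh.Ab X) (V' : X'.Etale)
    (s : F.obj.obj (op ((EtShriek.compEtale g).obj V'))) :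
    ((EtShriek.restrAlong g).obj F).obj.map (ρ j' V').op s = 0 ↔
      F.obj.map (ρ j ((EtShriek.compEtale g).obj V')).op s = 0 := by
  change F.obj.map ((EtShriek.compEtale g).map (ρ j' V')).op s = 0 ↔ _
  rw [map_eq_zero_iff_sectSupp, map_eq_zero_iff_sectSupp]
  have h2 : Set.range ((EtShriek.compEtale g).map (ρ j' V')).left.base =
      Set.range (ρ j ((EtShriek.compEtale g).obj V')).left.base := by
    have h3 : ((EtShriek.compEtale g).map (ρ j' V')).left = (ρ j' V').left := rfl
    have h4 := range_ρ j' V'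
    have h5 := range_ρ j ((EtShriek.compEtale g).obj V')
    refine (h4.trans ?_).trans h5.symm
    rw [hU']
    rfl
  rw [h2]

include hU' in
lemma restr_ιs_comp_unit (F : EtCoh.Ab X) :
    (EtShriek.restrAlong g).map (ιs j F) ≫ EtDual.unitApp j' ((EtShriek.restrAlong g).obj F) = 0 := by
  apply ObjectProperty.hom_ext
  ext V' : 2
  induction V' using Opposite.rec with
  | _ V' =>
    ext x
    change (EtDual.unitApp j' ((EtShriek.restrAlong g).obj F)).hom.app (op V')
      (incl j F ((EtShriek.compEtale g).obj V') x) = 0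
    rw [SuppSections.unit_app_eq_zero_iff, map_ρ_iff j g j' hU']
    exact map_ρ_incl j F _ x

/-- the comparison `(Γ_Z F)|_{X'} ⟶ Γ_{Z'} (F|_{X'})`. -/
noncomputable def θ (F : EtCoh.Ab X) :
    (EtShriek.restrAlong g).obj (Γs j F) ⟶ Γs j' ((EtShriek.restrAlong g).obj F) :=
  kernel.lift _ ((EtShriek.restrAlong g).map (ιs j F)) (restr_ιs_comp_unit j g j' hU' F)

@[reassoc]
lemma θ_ι (F : EtCoh.Ab X) :
    θ j g j' hU' F ≫ ιs j' ((EtShriek.restrAlong g).obj F) = (EtShriek.restrAlong g).map (ιs j F) :=
  kernel.lift_ι _ _ _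

lemma θ_app (F : EtCoh.Ab X) (V' : X'.Etale)
    (x : (Γs j F).obj.obj (op ((EtShriek.compEtale g).obj V'))) :
    incl j' ((EtShriek.restrAlong g).obj F) V' ((θ j g j' hU' F).hom.app (op V') x) =
      incl j F ((EtShriek.compEtale g).obj V') x := by
  have h := congrArg (fun m => m.hom.app (op V') x) (θ_ι j g j' hU' F)
  exact h

instance isIso_θ (F : EtCoh.Ab X) : IsIso (θ j g j' hU' F) := by
  apply isIso_of_bijective_app
  intro V'
  constructor
  · intro x y hxy
    apply incl_injective j F ((EtShriek.compEtale g).obj V')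
    rw [← θ_app j g j' hU' F V' x, ← θ_app j g j' hU' F V' y]
    exact congrArg _ hxy
  · intro t
    have h1 := map_ρ_incl j' ((EtShriek.restrAlong g).obj F) V' t
    rw [map_ρ_iff j g j' hU'] at h1
    obtain ⟨x, hx⟩ := exists_incl_eq j F ((EtShriek.compEtale g).obj V') _ h1
    refine ⟨x, ?_⟩
    apply incl_injective j' ((EtShriek.restrAlong g).obj F) V'
    rw [θ_app]
    exact hx

lemma θ_naturality {F G : EtCoh.Ab X} (α : F ⟶ G) :
    (EtShriek.restrAlong g).map ((EtDual.secSupp j).map α) ≫ θ j g j' hU' G =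
      θ j g j' hU' F ≫ (EtDual.secSupp j').map ((EtShriek.restrAlong g).map α) := by
  rw [← cancel_mono (ιs j' ((EtShriek.restrAlong g).obj G)), Category.assoc, Category.assoc, θ_ι]
  have h1 : (EtDual.secSupp j').map ((EtShriek.restrAlong g).map α) ≫
      ιs j' ((EtShriek.restrAlong g).obj G) =
      ιs j' ((EtShriek.restrAlong g).obj F) ≫ (EtShriek.restrAlong g).map α := kernel.lift_ι _ _ _
  have h2 : (EtDual.secSupp j).map α ≫ ιs j G = ιs j F ≫ α := kernel.lift_ι _ _ _
  rw [h1, θ_ι_assoc, ← Functor.map_comp, ← Functor.map_comp, h2]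

/-- `Γ_Z` commutes with étale restriction. -/
noncomputable def θIso :
    EtDual.secSupp j ⋙ EtShriek.restrAlong g ≅ EtShriek.restrAlong g ⋙ EtDual.secSupp j' :=
  NatIso.ofComponents (fun F => asIso (θ j g j' hU' F)) (fun α => θ_naturality j g j' hU' α)

instance restr_preservesFiniteLimits : PreservesFiniteLimits (EtShriek.restrAlong g) := by
  haveI : PreservesLimitsOfSize.{0, 0} (EtShriek.restrAlong g) :=
    (EtShriek.extZeroAdj g).rightAdjoint_preservesLimits
  exact PreservesLimitsOfSize.preservesFiniteLimits _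

instance restr_preservesFiniteColimits : PreservesFiniteColimits (EtShriek.restrAlong g) := by
  haveI : PreservesColimitsOfSize.{0, 0} (EtShriek.restrAlong g) :=
    (EtaleRestr.restrPushAdj g).leftAdjoint_preservesColimits
  exact PreservesColimitsOfSize.preservesFiniteColimits _

instance restr_additive : (EtShriek.restrAlong g).Additive :=
  (EtaleRestr.restrPushAdj g).left_adjoint_additive

/-- étale localization of the local cohomology sheaves (restriction form). -/
noncomputable def locCohRestrIso (p : ℕ) (F : EtCoh.Ab X) :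
    (EtShriek.restrAlong g).obj ((EtDual.locCoh j p).obj F) ≅
      (EtDual.locCoh j' p).obj ((EtShriek.restrAlong g).obj F) :=
  DerivedCommute.rightDerivedBaseChangeObjIso (EtDual.secSupp j) (EtShriek.restrAlong g)
    (EtShriek.restrAlong g) (fun Y hY => (EtShriek.restrAlong g).injective_obj_of_injective hY)
    (EtDual.secSupp j') (θIso j g j' hU') p F

/-- étale localization of the local cohomology sheaves (pullback form). -/
noncomputable def locCohPullIso (p : ℕ) (F : EtCoh.Ab X) :
    (EtCoh.pull g).obj ((EtDual.locCoh j p).obj F) ≅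
      (EtDual.locCoh j' p).obj ((EtCoh.pull g).obj F) :=
  (EtaleRestr.pullIsoRestr g).app _ ≪≫ locCohRestrIso j g j' hU' p F ≪≫
    (EtDual.locCoh j' p).mapIso ((EtaleRestr.pullIsoRestr g).app F).symm

end Groth.Agent.Lib.Helper5.EtaleLocSupp
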