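import Groth.Agent.Lib.Helper5.ExtColim

/-!
# `Ext` and filtered colimits: two-out-of-three in the first variable (helper5)

If `0 → M₁ → M₂ → M₃ → 0` is exact and `Ext^n(M₁, -)`, `Ext^n(M₂, -)` commute with a filtered
colimit for all `n`, then so does `Ext^n(M₃, -)`.
-/

set_option autoImplicit false
universe v u

open CategoryTheory CategoryTheory.Limits CategoryTheory.Abelian

namespace Groth.Agent.Lib.Helper5.ExtColimFirst

open Groth.Agent.Lib.Helper5.ExtColim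

noncomputable section

variable {𝒜 : Type u} [Category.{v} 𝒜] [Abelian 𝒜] [HasExt.{v} 𝒜]
  {S : ShortComplex 𝒜} (hS : S.ShortExact)

/-- restriction along `g` -/
def preG {Y : 𝒜} {n : ℕ} (x : Ext.{v} S.X₃ Y n) : Ext.{v} S.X₂ Y n :=
  (Ext.mk₀ S.g).comp x (zero_add n)

/-- restriction along `f` -/
def preF {Y : 𝒜} {n : ℕ} (x : Ext.{v} S.X₂ Y n) : Ext.{v} S.X₁ Y n :=
  (Ext.mk₀ S.f).comp x (zero_add n)

/-- the connecting map -/
def bd {Y : 𝒜} {n : ℕ} (x : Ext.{v} S.X₁ Y n) : Ext.{v} S.X₃ Y (n + 1) :=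
  hS.extClass.comp x (add_comm 1 n)

lemma post_preG {Y Y' : 𝒜} {n : ℕ} (x : Ext.{v} S.X₃ Y n) (f : Y ⟶ Y') :
    post (preG x) f = preG (post x f) := by
  unfold post preG
  exact Ext.comp_assoc _ _ _ _ _ (by lia)

lemma post_preF {Y Y' : 𝒜} {n : ℕ} (x : Ext.{v} S.X₂ Y n) (f : Y ⟶ Y') :
    post (preF x) f = preF (post x f) := by
  unfold post preF
  exact Ext.comp_assoc _ _ _ _ _ (by lia)

lemma post_bd {Y Y' : 𝒜} {n : ℕ} (x : Ext.{v} S.X₁ Y n) (f : Y ⟶ Y') :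
    post (bd hS x) f = bd hS (post x f) := by
  unfold post bd
  exact Ext.comp_assoc _ _ _ _ _ (by lia)

lemma preG_sub {Y : 𝒜} {n : ℕ} (x y : Ext.{v} S.X₃ Y n) : preG (x - y) = preG x - preG y := by
  unfold preG
  rw [sub_eq_add_neg, Ext.comp_add, Ext.comp_neg, ← sub_eq_add_neg]

lemma preF_sub {Y : 𝒜} {n : ℕ} (x y : Ext.{v} S.X₂ Y n) : preF (x - y) = preF x - preF y := by
  unfold preF
  rw [sub_eq_add_neg, Ext.comp_add, Ext.comp_neg, ← sub_eq_add_neg]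

lemma bd_sub {Y : 𝒜} {n : ℕ} (x y : Ext.{v} S.X₁ Y n) : bd hS (x - y) = bd hS x - bd hS y := by
  unfold bd
  rw [sub_eq_add_neg, Ext.comp_add, Ext.comp_neg, ← sub_eq_add_neg]

lemma bd_add {Y : 𝒜} {n : ℕ} (x y : Ext.{v} S.X₁ Y n) : bd hS (x + y) = bd hS x + bd hS y := by
  unfold bd
  rw [Ext.comp_add]

lemma preF_preG {Y : 𝒜} {n : ℕ} (x : Ext.{v} S.X₃ Y n) : preF (preG x) = 0 := by
  unfold preF preG
  rw [Ext.mk₀_comp_mk₀_assoc, S.zero, Ext.mk₀_zero, Ext.zero_comp]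

lemma bd_preF {Y : 𝒜} {n : ℕ} (x : Ext.{v} S.X₂ Y n) : bd hS (preF x) = 0 := by
  unfold bd preF
  exact hS.extClass_comp_assoc x

lemma preG_bd {Y : 𝒜} {n : ℕ} (x : Ext.{v} S.X₁ Y n) : preG (bd hS x) = 0 := by
  unfold bd preG
  exact hS.comp_extClass_assoc x _

include hS in
lemma exact₂ {Y : 𝒜} {n : ℕ} (x : Ext.{v} S.X₂ Y n) (h : preF x = 0) :
    ∃ y : Ext.{v} S.X₃ Y n, preG y = x :=
  Ext.contravariant_sequence_exact₂ hS Y x h

lemma exact₁ {Y : 𝒜} {n : ℕ} (x : Ext.{v} S.X₁ Y n) (h : bd hS x = 0) :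
    ∃ y : Ext.{v} S.X₂ Y n, preF y = x :=
  Ext.contravariant_sequence_exact₁ hS Y x (add_comm 1 n) h

lemma exact₃ {Y : 𝒜} {n : ℕ} (x : Ext.{v} S.X₃ Y (n + 1)) (h : preG x = 0) :
    ∃ y : Ext.{v} S.X₁ Y n, bd hS y = x :=
  Ext.contravariant_sequence_exact₃ hS Y x h (add_comm 1 n)

include hS in
lemma preG_injective_zero {Y : 𝒜} (x : Ext.{v} S.X₃ Y 0) (h : preG x = 0) : x = 0 := by
  haveI := hS.epi_g
  apply Ext.precomp_mk₀_injective_of_epi Y S.g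
  rw [map_zero]
  exact h

variable {I : Type v} [SmallCategory I] [IsFiltered I] [HasColimitsOfShape I 𝒜] (F : I ⥤ 𝒜)

include hS in
lemma surj_aux {n : ℕ} (h2 : Surj S.X₂ F n) (h1 : Inj S.X₁ F n)
    (x : Ext.{v} S.X₃ (colimit F) n) :
    ∃ (j : I) (y₃ : Ext.{v} S.X₃ (F.obj j) n), preG (x - post y₃ (colimit.ι F j)) = 0 := by
  obtain ⟨i, y₂, hy₂⟩ := h2 (preG x)
  have h0 : post (preF y₂) (colimit.ι F i) = 0 := by
    rw [post_preF, hy₂, preF_preG]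
  obtain ⟨j, f, hf⟩ := h1 i (preF y₂) h0
  have h3 : preF (post y₂ (F.map f)) = 0 := by rw [← post_preF, hf]
  obtain ⟨y₃, hy₃⟩ := exact₂ hS _ h3
  refine ⟨j, y₃, ?_⟩
  rw [preG_sub, ← post_preG, hy₃, post_post, colimit.w, hy₂, sub_self]

include hS in
theorem surj3_zero (h2 : Surj S.X₂ F 0) (h1 : Inj S.X₁ F 0) : Surj S.X₃ F 0 := by
  intro x
  obtain ⟨j, y₃, h⟩ := surj_aux hS F h2 h1 x
  exact ⟨j, y₃, (sub_eq_zero.1 (preG_injective_zero hS _ h)).symm⟩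

include hS in
theorem surj3_succ {m : ℕ} (h2 : Surj S.X₂ F (m + 1)) (h1 : Inj S.X₁ F (m + 1))
    (h1' : Surj S.X₁ F m) : Surj S.X₃ F (m + 1) := by
  intro x
  obtain ⟨j, y₃, h⟩ := surj_aux hS F h2 h1 x
  obtain ⟨z₁, hz₁⟩ := exact₃ hS _ h
  obtain ⟨k, w₁, hw₁⟩ := h1' z₁
  refine ⟨IsFiltered.max j k, post y₃ (F.map (IsFiltered.leftToMax j k)) +
    bd hS (post w₁ (F.map (IsFiltered.rightToMax j k))), ?_⟩
  rw [post_add, post_bd, post_post, post_post, colimit.w, colimit.w, hw₁, hz₁]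
  abel

include hS in
theorem inj3_zero (h2 : Inj S.X₂ F 0) : Inj S.X₃ F 0 := by
  intro i y₃ hy₃
  have h0 : post (preG y₃) (colimit.ι F i) = 0 := by
    rw [post_preG, hy₃]
    unfold preG
    rw [Ext.comp_zero]
  obtain ⟨j, f, hf⟩ := h2 i (preG y₃) h0
  refine ⟨j, f, preG_injective_zero hS _ ?_⟩
  rw [← post_preG, hf]

include hS in
theorem inj3_succ {m : ℕ} (h2 : Inj S.X₂ F (m + 1)) (h2' : Surj S.X₂ F m)
    (h1' : Inj S.X₁ F m) : Inj S.X₃ F (m + 1) := by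
  intro i y₃ hy₃
  have h0 : post (preG y₃) (colimit.ι F i) = 0 := by
    rw [post_preG, hy₃]
    unfold preG
    rw [Ext.comp_zero]
  obtain ⟨j, f, hf⟩ := h2 i (preG y₃) h0
  have h3 : preG (post y₃ (F.map f)) = 0 := by rw [← post_preG, hf]
  obtain ⟨w₁, hw₁⟩ := exact₃ hS _ h3
  have h4 : bd hS (post w₁ (colimit.ι F j)) = 0 := by
    rw [← post_bd, hw₁, post_post, colimit.w, hy₃]
  obtain ⟨z₂, hz₂⟩ := exact₁ hS _ h4
  obtain ⟨k, v₂, hv₂⟩ := h2' z₂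
  let l := IsFiltered.max j k
  let a : j ⟶ l := IsFiltered.leftToMax j k
  let b : k ⟶ l := IsFiltered.rightToMax j k
  have h5 : post (post w₁ (F.map a) - preF (post v₂ (F.map b))) (colimit.ι F l) = 0 := by
    rw [post_sub, post_preF, post_post, post_post, colimit.w, colimit.w, hv₂, hz₂, sub_self]
  obtain ⟨l', c, hc⟩ := h1' l _ h5
  refine ⟨l', f ≫ a ≫ c, ?_⟩
  rw [F.map_comp, F.map_comp, ← post_post, ← post_post, ← hw₁, post_bd, post_bd]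
  rw [post_sub, sub_eq_zero] at hc
  rw [hc, post_preF, bd_preF]

include hS in
/-- all `Ext` groups out of `M₃` commute with the colimit of `F` as soon as those out of `M₁` and
`M₂` do. -/
theorem surj_inj3 (h1 : ∀ n, Surj S.X₁ F n ∧ Inj S.X₁ F n)
    (h2 : ∀ n, Surj S.X₂ F n ∧ Inj S.X₂ F n) (n : ℕ) : Surj S.X₃ F n ∧ Inj S.X₃ F n := by
  cases n with
  | zero => exact ⟨surj3_zero hS F (h2 0).1 (h1 0).2, inj3_zero hS F (h2 0).2⟩
  | succ m =>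
    exact ⟨surj3_succ hS F (h2 (m + 1)).1 (h1 (m + 1)).2 (h1 m).1,
      inj3_succ hS F (h2 (m + 1)).2 (h2 m).1 (h1 m).2⟩

end

end Groth.Agent.Lib.Helper5.ExtColimFirst
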