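import Mathlib

/-!
# Helper5: vanishing of `Ext^p(Q, Y)` for `p < n` in terms of the restriction maps
`Ext^p(B, Y) → Ext^p(A, Y)` for a short exact sequence `0 → A → B → Q → 0`.
-/

set_option autoImplicit false
universe w v u
open CategoryTheory CategoryTheory.Limits

namespace Groth.Agent.Lib.Helper5.ExtDepth

open Abelian

variable {C : Type u} [Category.{v} C] [Abelian C] [HasExt.{w} C]
  (S : ShortComplex C) (hS : S.ShortExact) (Y : C)

/-- precomposition with `S.f` on `Ext^p(-, Y)`. -/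
noncomputable def res (p : ℕ) : Ext S.X₂ Y p →+ Ext S.X₁ Y p :=
  (Ext.mk₀ S.f).precomp Y (zero_add p)

lemma res_apply (p : ℕ) (x : Ext S.X₂ Y p) : res S Y p x = (Ext.mk₀ S.f).comp x (zero_add p) := rfl

include hS

lemma res_injective_of_subsingleton (p : ℕ) (h : Subsingleton (Ext S.X₃ Y p)) :
    Function.Injective (res S Y p) := by
  rw [injective_iff_map_eq_zero]
  intro x₂ hx₂
  obtain ⟨x₁, hx₁⟩ := Ext.contravariant_sequence_exact₂ hS Y x₂ hx₂
  have h0 : x₁ = 0 := Subsingleton.elim _ _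
  rw [← hx₁, h0, Ext.comp_zero]

lemma res_surjective_of_subsingleton (p : ℕ) (h : Subsingleton (Ext S.X₃ Y (p + 1))) :
    Function.Surjective (res S Y p) := by
  intro x₁
  exact Ext.contravariant_sequence_exact₁ hS Y x₁ (add_comm 1 p) (Subsingleton.elim _ _)

lemma subsingleton_zero_of_res_injective (h : Function.Injective (res S Y 0)) :
    Subsingleton (Ext S.X₃ Y 0) := by
  haveI : Epi S.g := hS.epi_g
  refine ⟨fun x y => ?_⟩
  apply Ext.precomp_mk₀_injective_of_epi Y S.g
  apply h
  change (Ext.mk₀ S.f).comp ((Ext.mk₀ S.g).comp x (zero_add 0)) (zero_add 0) =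
    (Ext.mk₀ S.f).comp ((Ext.mk₀ S.g).comp y (zero_add 0)) (zero_add 0)
  have hz : ∀ z : Ext S.X₃ Y 0,
      (Ext.mk₀ S.f).comp ((Ext.mk₀ S.g).comp z (zero_add 0)) (zero_add 0) = 0 := by
    intro z
    rw [← Ext.comp_assoc_of_second_deg_zero, Ext.mk₀_comp_mk₀, S.zero, Ext.mk₀_zero, Ext.zero_comp]
  rw [hz x, hz y]

lemma subsingleton_succ_of_res (p : ℕ) (h1 : Function.Surjective (res S Y p))
    (h2 : Function.Injective (res S Y (p + 1))) : Subsingleton (Ext S.X₃ Y (p + 1)) := by
  have hx : ∀ x : Ext S.X₃ Y (p + 1), x = 0 := by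
    intro x
    have h3 : (Ext.mk₀ S.g).comp x (zero_add (p + 1)) = 0 := by
      apply h2
      rw [map_zero]
      change (Ext.mk₀ S.f).comp ((Ext.mk₀ S.g).comp x (zero_add (p + 1))) (zero_add (p + 1)) = 0
      rw [← Ext.comp_assoc_of_second_deg_zero, Ext.mk₀_comp_mk₀, S.zero, Ext.mk₀_zero,
        Ext.zero_comp]
    obtain ⟨x₁, hx₁⟩ := Ext.contravariant_sequence_exact₃ hS Y x h3 (add_comm 1 p)
    obtain ⟨x₂, rfl⟩ := h1 x₁
    rw [← hx₁, res_apply]
    exact hS.extClass_comp_assoc x₂
  exact ⟨fun x y => (hx x).trans (hx y).symm⟩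

/-- `Ext^p(Q, Y) = 0` for `p < n` iff the restriction maps are bijective for `p + 1 < n` and
injective for `p + 1 = n`. -/
theorem forall_subsingleton_iff (n : ℕ) :
    (∀ p : ℕ, p < n → Subsingleton (Ext S.X₃ Y p)) ↔
      (∀ p : ℕ, p + 1 < n → Function.Bijective (res S Y p)) ∧
        (∀ p : ℕ, p + 1 = n → Function.Injective (res S Y p)) := by
  constructor
  · intro h
    refine ⟨fun p hp => ⟨res_injective_of_subsingleton S hS Y p (h p (by omega)),
      res_surjective_of_subsingleton S hS Y p (h (p + 1) hp)⟩,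
      fun p hp => res_injective_of_subsingleton S hS Y p (h p (by omega))⟩
  · rintro ⟨h1, h2⟩ p hp
    have hinj : ∀ q : ℕ, q < n → Function.Injective (res S Y q) := by
      intro q hq
      rcases Nat.lt_or_ge (q + 1) n with h | h
      · exact (h1 q h).1
      · exact h2 q (by omega)
    cases p with
    | zero => exact subsingleton_zero_of_res_injective S hS Y (hinj 0 hp)
    | succ p =>
      exact subsingleton_succ_of_res S hS Y p (h1 p hp).2 (hinj (p + 1) hp)

end Groth.Agent.Lib.Helper5.ExtDepth
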