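import Mathlib
import Groth.Agent.Lib.Helper2.KInjQ
import Groth.Agent.Lib.Helper2.KInj.Main

/-!
# Objects of finite Ext-dimension and unbounded complexes

If `Ext^p(E, F) = 0` for all `p > d` and all `F`, then `Hom_D(E[0], N) = 0` for every object `N` of
the derived category with `N ∈ D^{≤ -d-1}` (no boundedness assumption), in a Grothendieck
abelian category (K-injective resolutions with injective terms are used).
-/

set_option autoImplicit false
universe w' w v u
open CategoryTheory CategoryTheory.Limits Abelian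

namespace Groth.Agent.Lib.Helper5.ExtDim

section ExtLemmas

variable {A : Type u} [Category.{v} A] [Abelian A] [HasExt.{w'} A]

lemma ext_eq_zero_of_shortExact (E : A) {S : ShortComplex A} (hS : S.ShortExact)
    [Injective S.X₂] (n : ℕ) (h : ∀ x : Ext.{w'} E S.X₁ (n + 2), x = 0)
    (x : Ext.{w'} E S.X₃ (n + 1)) : x = 0 := by
  obtain ⟨x₂, rfl⟩ := Ext.covariant_sequence_exact₃ E hS x (rfl : n + 1 + 1 = n + 2) (h _)
  rw [Ext.eq_zero_of_injective x₂, Ext.zero_comp]

lemma exists_lift_of_shortExact (E : A) {S : ShortComplex A} (hS : S.ShortExact)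
    (h : ∀ x : Ext.{w'} E S.X₁ 1, x = 0) (f : E ⟶ S.X₃) : ∃ g : E ⟶ S.X₂, g ≫ S.g = f := by
  obtain ⟨x₂, hx₂⟩ := Ext.covariant_sequence_exact₃ E hS (Ext.mk₀ f) (rfl : 0 + 1 = 1) (h _)
  obtain ⟨g, rfl⟩ := (Ext.mk₀_bijective E S.X₂).surjective x₂
  refine ⟨g, ?_⟩
  rw [Ext.mk₀_comp_mk₀] at hx₂
  exact (Ext.mk₀_bijective E S.X₃).injective hx₂

end ExtLemmas

section Cx

variable {A : Type u} [Category.{v} A] [Abelian A]

/-- The short complex `Z^i → K^i → Z^j`. -/
noncomputable def cyclesSC (K : CochainComplex A ℤ) (i j : ℤ) : ShortComplex A :=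
  ShortComplex.mk (K.iCycles i) (K.toCycles i j) (by
    rw [← cancel_mono (K.iCycles j), Category.assoc, K.toCycles_i, K.iCycles_d, zero_comp])

lemma cyclesSC_shortExact (K : CochainComplex A ℤ) (i j : ℤ) (hij : i + 1 = j)
    (h : K.ExactAt j) : (cyclesSC K i j).ShortExact := by
  have hmono : Mono (cyclesSC K i j).f := by dsimp [cyclesSC]; infer_instance
  have hepi : Epi (cyclesSC K i j).g := by
    dsimp [cyclesSC]
    have hc := K.homologyIsCokernel i j (by simp [← hij])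
    have hz : IsZero (K.homology j) := by rwa [← HomologicalComplex.exactAt_iff_isZero_homology]
    exact Preadditive.epi_of_isZero_cokernel' _ hc hz
  have hex : (cyclesSC K i j).Exact := by
    apply ShortComplex.exact_of_f_is_kernel
    exact isKernelOfComp (K.iCycles j) (K.d i j) (K.cyclesIsKernel i j (by simp [← hij]))
      (cyclesSC K i j).zero (K.toCycles_i i j)
  exact ShortComplex.ShortExact.mk' hex hmono hepi

variable [HasExt.{w'} A]

lemma ext_cycles_eq_zero (K : CochainComplex A ℤ) [∀ n, Injective (K.X n)] (E : A) (d : ℕ)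
    (hE : ∀ (F : A) (p : ℕ), d < p → ∀ x : Ext.{w'} E F p, x = 0)
    (hK : ∀ n : ℤ, -(d : ℤ) ≤ n → K.ExactAt n) :
    ∀ (k j : ℕ), j + k = d → ∀ n : ℤ, n + j + 1 = 0 →
      ∀ x : Ext.{w'} E (K.cycles n) (j + 1), x = 0 := by
  intro k
  induction k with
  | zero =>
    intro j hj n _ x
    exact hE _ _ (by omega) x
  | succ k ih =>
    intro j hj n hn x
    have hS := cyclesSC_shortExact K (n - 1) n (by omega) (hK n (by omega))
    haveI : Injective (cyclesSC K (n - 1) n).X₂ := by dsimp [cyclesSC]; infer_instance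
    exact ext_eq_zero_of_shortExact E hS j (ih (j + 1) (by omega) (n - 1) (by push_cast; omega)) x

lemma exists_lift (K : CochainComplex A ℤ) [∀ n, Injective (K.X n)] (E : A) (d : ℕ)
    (hE : ∀ (F : A) (p : ℕ), d < p → ∀ x : Ext.{w'} E F p, x = 0)
    (hK : ∀ n : ℤ, -(d : ℤ) ≤ n → K.ExactAt n)
    (f : E ⟶ K.X 0) (hf : f ≫ K.d 0 1 = 0) : ∃ g : E ⟶ K.X (-1), g ≫ K.d (-1) 0 = f := by
  have hS := cyclesSC_shortExact K (-1) 0 (by omega) (hK 0 (by omega))
  obtain ⟨g, hg⟩ : ∃ g : E ⟶ K.X (-1), g ≫ K.toCycles (-1) 0 = K.liftCycles f 1 (by simp) hf :=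
    exists_lift_of_shortExact E hS
      (ext_cycles_eq_zero K E d hE hK d 0 (by omega) (-1) (by simp))
      (K.liftCycles f 1 (by simp) hf)
  refine ⟨g, ?_⟩
  have := congrArg (fun t => t ≫ K.iCycles 0) hg
  rwa [Category.assoc, K.toCycles_i, K.liftCycles_i] at this

open CochainComplex.HomComplex in
lemma Q_map_eq_zero [HasDerivedCategory.{w} A] (K : CochainComplex A ℤ)
    [∀ n, Injective (K.X n)] (E : A) (d : ℕ)
    (hE : ∀ (F : A) (p : ℕ), d < p → ∀ x : Ext.{w'} E F p, x = 0)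
    (hK : ∀ n : ℤ, -(d : ℤ) ≤ n → K.ExactAt n)
    (φ : (CochainComplex.singleFunctor A 0).obj E ⟶ K) : DerivedCategory.Q.map φ = 0 := by
  obtain ⟨f, hf⟩ := Cochain.fromSingleMk_surjective (Cochain.ofHom φ) 0 (by simp)
  have hf0 : f ≫ K.d 0 1 = 0 := by
    have h1 : δ 0 1 (Cochain.ofHom φ) = 0 := δ_ofHom φ
    rw [← hf, Cochain.δ_fromSingleMk f (by simp) 1 1 (by simp)] at h1
    have := congrArg (Cochain.fromSingleEquiv (by simp : (0 : ℤ) + 1 = 1)) h1
    simpa using this
  obtain ⟨g, hg⟩ := exists_lift K E d hE hK f hf0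
  let z : Cochain ((CochainComplex.singleFunctor A 0).obj E) K (-1) :=
    Cochain.fromSingleMk g (by simp : (0 : ℤ) + (-1) = -1)
  have hz : Cochain.ofHom φ = δ (-1) 0 z + Cochain.ofHom (0 : _ ⟶ K) := by
    rw [Cochain.ofHom_zero, add_zero, Cochain.δ_fromSingleMk g _ 0 0 (by simp), hg, hf]
  have ho : Homotopy φ 0 := (Cochain.equivHomotopy φ 0).symm ⟨z, hz⟩
  rw [DerivedCategory.Q_map_eq_of_homotopy A ho, Functor.map_zero]

end Cx

section Derived

variable {A : Type u} [Category.{v} A] [Abelian A] [IsGrothendieckAbelian.{v} A]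
  [HasDerivedCategory.{w} A] [HasExt.{w'} A]

open DerivedCategory

/-- If `Ext^p(E, -) = 0` for `p > d`, then there are no nonzero maps in the derived category from
`E[0]` to an object of `D^{≤ -d-1}` (no boundedness assumption). -/
theorem hom_eq_zero_of_isLE (E : A) (d : ℕ)
    (hE : ∀ (F : A) (p : ℕ), d < p → ∀ x : Ext.{w'} E F p, x = 0)
    (N : DerivedCategory A) (hN : N.IsLE (-(d : ℤ) - 1))
    (g : (DerivedCategory.singleFunctor A 0).obj E ⟶ N) : g = 0 := by
  obtain ⟨I, f, hI, hf, -, hinj⟩ :=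
    Groth.Agent.Lib.Helper2.KInj.exists_kInjective_resolution (Q.objPreimage N)
  haveI := hI
  haveI := hinj
  haveI : IsIso (Q.map f) := (isIso_Q_map_iff_quasiIso A f).2 hf
  let e : N ≅ Q.obj I := (Q.objObjPreimageIso N).symm ≪≫ asIso (Q.map f)
  have hLE : (Q.obj I).IsLE (-(d : ℤ) - 1) := TStructure.t.isLE_of_iso e _
  rw [isLE_Q_obj_iff] at hLE
  have hK : ∀ n : ℤ, -(d : ℤ) ≤ n → I.ExactAt n := fun n hn =>
    I.exactAt_of_isLE (-(d : ℤ) - 1) n (by omega)
  obtain ⟨φ, hφ⟩ := Groth.Agent.Lib.Helper2.KInjQ.Q_map_surjective_of_isKInjective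
    ((CochainComplex.singleFunctor A 0).obj E) I
    ((singleFunctorIsoCompQ A 0).inv.app E ≫ g ≫ e.hom)
  rw [Q_map_eq_zero I E d hE hK φ] at hφ
  have h2 : g ≫ e.hom = 0 := by
    rw [← cancel_epi ((singleFunctorIsoCompQ A 0).inv.app E), ← hφ, comp_zero]
  rw [← cancel_mono e.hom, h2, zero_comp]

end Derived

end Groth.Agent.Lib.Helper5.ExtDim
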