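import Mathlib

/-!
# Helper5: `Ext(Z, T -)` commutes with countable products of suitable families

Let `T : 𝒜 ⥤ ℬ` be an exact functor between abelian categories and `Z : ℬ` such that
`Ext^{q+1}(Z, T I) = 0` for injective `I`.  For a class `P` of families `M : ℕ → 𝒜` stable under
`M ↦ I(M)/M` (quotient of injective hulls) and such that `∏ I(M_n) ⟶ ∏ I(M_n)/M_n` is an
epimorphism, the comparison maps `Ext^q(Z, T ∏ M_n) → ∏ Ext^q(Z, T M_n)` are bijective as soon as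
they are for `q = 0`.
-/

set_option autoImplicit false
universe w v v' u u'

namespace Groth.Agent.Lib.Helper5.ExtProd

open CategoryTheory CategoryTheory.Limits Abelian

noncomputable section

variable {𝒜 : Type u} [Category.{v} 𝒜] [Abelian 𝒜] [EnoughInjectives 𝒜]
  [HasProductsOfShape ℕ 𝒜]
  {ℬ : Type u'} [Category.{v'} ℬ] [Abelian ℬ] [HasExt.{w} ℬ]
  (T : 𝒜 ⥤ ℬ) [T.Additive] [PreservesFiniteLimits T] [PreservesFiniteColimits T] (Z : ℬ)

/-- the comparison map `Ext^q(Z, T ∏ M_n) → ∏ Ext^q(Z, T M_n)`. -/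
def θ (M : ℕ → 𝒜) (q : ℕ) : Ext Z (T.obj (∏ᶜ M)) q →+ ∀ n, Ext Z (T.obj (M n)) q :=
  AddMonoidHom.pi fun n => (Ext.mk₀ (T.map (Pi.π M n))).postcomp Z (add_zero q)

lemma θ_apply (M : ℕ → 𝒜) (q : ℕ) (x : Ext Z (T.obj (∏ᶜ M)) q) (n : ℕ) :
    θ T Z M q x n = x.comp (Ext.mk₀ (T.map (Pi.π M n))) (add_zero q) := rfl

/-- injective hulls -/
def If (M : ℕ → 𝒜) (n : ℕ) : 𝒜 := Injective.under (M n)

instance (M : ℕ → 𝒜) (n : ℕ) : Injective (If M n) :=
  inferInstanceAs (Injective (Injective.under (M n)))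

def ιf (M : ℕ → 𝒜) (n : ℕ) : M n ⟶ If M n := Injective.ι (M n)

instance (M : ℕ → 𝒜) (n : ℕ) : Mono (ιf M n) := Injective.ι_mono _

/-- the quotients `I(M_n)/M_n` -/
def Qf (M : ℕ → 𝒜) (n : ℕ) : 𝒜 := cokernel (ιf M n)

def gf (M : ℕ → 𝒜) (n : ℕ) : If M n ⟶ Qf M n := cokernel.π (ιf M n)

instance (M : ℕ → 𝒜) (n : ℕ) : Epi (gf M n) := inferInstanceAs (Epi (cokernel.π (ιf M n)))

lemma ιf_gf (M : ℕ → 𝒜) (n : ℕ) : ιf M n ≫ gf M n = 0 := cokernel.condition _

/-- the termwise short exact sequences -/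
abbrev Sn (M : ℕ → 𝒜) (n : ℕ) : ShortComplex 𝒜 := ShortComplex.mk (ιf M n) (gf M n) (ιf_gf M n)

lemma Sn_shortExact (M : ℕ → 𝒜) (n : ℕ) : (Sn M n).ShortExact where
  exact := ShortComplex.exact_cokernel _

lemma pi_ιf_gf (M : ℕ → 𝒜) : Limits.Pi.map (ιf M) ≫ Limits.Pi.map (gf M) = 0 := by
  rw [Limits.Pi.map_comp_map]
  apply Pi.hom_ext
  intro n
  rw [Limits.Pi.map_π, zero_comp, ιf_gf, comp_zero]

/-- the product sequence -/
abbrev SP (M : ℕ → 𝒜) : ShortComplex 𝒜 :=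
  ShortComplex.mk (Limits.Pi.map (ιf M)) (Limits.Pi.map (gf M)) (pi_ιf_gf M)

lemma SP_exact (M : ℕ → 𝒜) : (SP M).Exact := by
  refine ShortComplex.exact_of_f_is_kernel _ ?_
  refine KernelFork.IsLimit.ofι _ _
    (fun {W} k hk => Pi.lift fun n =>
      (Sn_shortExact M n).fIsKernel.lift (KernelFork.ofι (k ≫ Pi.π _ n) (by
        change (k ≫ Pi.π _ n) ≫ gf M n = 0
        rw [Category.assoc, ← Limits.Pi.map_π, ← Category.assoc, hk, zero_comp])))
    ?_ ?_
  · intro W k hk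
    apply Pi.hom_ext
    intro n
    rw [Category.assoc, Limits.Pi.map_π, ← Category.assoc, Pi.lift_π]
    exact (Sn_shortExact M n).fIsKernel.fac _ WalkingParallelPair.zero
  · intro W k hk m hm
    have : Mono (Limits.Pi.map (ιf M)) := inferInstance
    rw [← cancel_mono (Limits.Pi.map (ιf M)), hm]
    apply Pi.hom_ext
    intro n
    rw [Category.assoc, Limits.Pi.map_π, ← Category.assoc, Pi.lift_π]
    exact ((Sn_shortExact M n).fIsKernel.fac (KernelFork.ofι (k ≫ Pi.π (If M) n) _)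
      WalkingParallelPair.zero).symm

lemma SP_shortExact (M : ℕ → 𝒜) (h : Epi (Limits.Pi.map (gf M))) : (SP M).ShortExact where
  exact := SP_exact M
  mono_f := inferInstanceAs (Mono (Limits.Pi.map (ιf M)))
  epi_g := h

/-- the projections, as morphisms of short complexes -/
def φn (M : ℕ → 𝒜) (n : ℕ) : SP M ⟶ Sn M n where
  τ₁ := Pi.π M n
  τ₂ := Pi.π (If M) n
  τ₃ := Pi.π (Qf M) n
  comm₁₂ := (Limits.Pi.map_π (ιf M) n).symm
  comm₂₃ := (Limits.Pi.map_π (gf M) n).symm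

section Induction

variable {Z} in
lemma les₁ {A B C : ℬ} {f : A ⟶ B} {g : B ⟶ C} {w : f ≫ g = 0}
    (hS : (ShortComplex.mk f g w).ShortExact) {n₁ : ℕ} (x₁ : Ext Z A n₁)
    (hx₁ : x₁.comp (Ext.mk₀ f) (add_zero n₁) = 0) {n₀ : ℕ} (hn₀ : n₀ + 1 = n₁) :
    ∃ x₃ : Ext Z C n₀, x₃.comp hS.extClass hn₀ = x₁ :=
  Ext.covariant_sequence_exact₁ Z hS x₁ hx₁ hn₀

variable {Z} in
lemma les₃ {A B C : ℬ} {f : A ⟶ B} {g : B ⟶ C} {w : f ≫ g = 0}
    (hS : (ShortComplex.mk f g w).ShortExact) {n₀ : ℕ} (x₃ : Ext Z C n₀) {n₁ : ℕ}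
    (hn₁ : n₀ + 1 = n₁) (hx₃ : x₃.comp hS.extClass hn₁ = 0) :
    ∃ x₂ : Ext Z B n₀, x₂.comp (Ext.mk₀ g) (add_zero n₀) = x₃ :=
  Ext.covariant_sequence_exact₃ Z hS x₃ hn₁ hx₃

lemma comp_extClass' {A B C : ℬ} {f : A ⟶ B} {g : B ⟶ C} {w : f ≫ g = 0}
    (hS : (ShortComplex.mk f g w).ShortExact) :
    (Ext.mk₀ g).comp hS.extClass (zero_add 1) = 0 := hS.comp_extClass

/-- `T` applied to the product sequence -/
abbrev SPT (M : ℕ → 𝒜) : ShortComplex ℬ :=
  ShortComplex.mk (T.map (Limits.Pi.map (ιf M))) (T.map (Limits.Pi.map (gf M)))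
    (by rw [← T.map_comp, pi_ιf_gf, T.map_zero])

/-- `T` applied to the termwise sequences -/
abbrev SnT (M : ℕ → 𝒜) (n : ℕ) : ShortComplex ℬ :=
  ShortComplex.mk (T.map (ιf M n)) (T.map (gf M n)) (by rw [← T.map_comp, ιf_gf, T.map_zero])

lemma SPT_shortExact (M : ℕ → 𝒜) (h : Epi (Limits.Pi.map (gf M))) : (SPT T M).ShortExact :=
  (SP_shortExact M h).map_of_exact T

lemma SnT_shortExact (M : ℕ → 𝒜) (n : ℕ) : (SnT T M n).ShortExact :=
  (Sn_shortExact M n).map_of_exact T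

/-- naturality of the connecting maps -/
lemma extClass_nat (M : ℕ → 𝒜) (h : Epi (Limits.Pi.map (gf M))) (n : ℕ) :
    (SPT_shortExact T M h).extClass.comp (Ext.mk₀ (T.map (Pi.π M n))) (add_zero 1) =
      (Ext.mk₀ (T.map (Pi.π (Qf M) n))).comp (SnT_shortExact T M n).extClass (zero_add 1) :=
  ShortComplex.ShortExact.extClass_naturality (SPT_shortExact T M h) (SnT_shortExact T M n)
    (T.mapShortComplex.map (φn M n))

variable (hinj : ∀ (I : 𝒜) [Injective I] (q : ℕ) (x : Ext Z (T.obj I) (q + 1)), x = 0)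
  (h0 : ∀ M : ℕ → 𝒜, Function.Bijective (θ T Z M 0))

include hinj h0 in
lemma θ_If_surjective (M : ℕ → 𝒜) (q : ℕ) : Function.Surjective (θ T Z (If M) q) := by
  cases q with
  | zero => exact (h0 (If M)).2
  | succ q =>
    intro z
    refine ⟨0, ?_⟩
    funext n
    exact (hinj (If M n) q _).trans (hinj (If M n) q _).symm

include hinj h0 in
theorem θ_bijective (P : (ℕ → 𝒜) → Prop) (h1 : ∀ M, P M → P (Qf M))
    (h2 : ∀ M, P M → Epi (Limits.Pi.map (gf M))) :
    ∀ (q : ℕ) (M : ℕ → 𝒜), P M → Function.Bijective (θ T Z M q) := by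
  intro q
  induction q with
  | zero => exact fun M _ => h0 M
  | succ q ih =>
    intro M hM
    have hepi := h2 M hM
    have hS := SPT_shortExact T M hepi
    have hSn := fun n => SnT_shortExact T M n
    have hnat := extClass_nat T M hepi
    obtain ⟨ihinj, ihsurj⟩ := ih (Qf M) (h1 M hM)
    constructor
    · rw [injective_iff_map_eq_zero]
      intro x hx
      have hx2 : x.comp (Ext.mk₀ (T.map (Limits.Pi.map (ιf M)))) (add_zero (q + 1)) = 0 :=
        hinj (∏ᶜ If M) q _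
      obtain ⟨y, hy⟩ := les₁ hS x hx2 rfl
      have hn : ∀ n, (y.comp (Ext.mk₀ (T.map (Pi.π (Qf M) n))) (add_zero q)).comp
          (hSn n).extClass rfl = 0 := by
        intro n
        rw [Ext.comp_assoc_of_second_deg_zero, ← hnat n, ← Ext.comp_assoc_of_third_deg_zero, hy]
        exact congrFun hx n
      choose z hz using fun n => les₃ (hSn n) _ rfl (hn n)
      obtain ⟨w', hw'⟩ := θ_If_surjective T Z hinj h0 M q z
      have hy2 : y = w'.comp (Ext.mk₀ (T.map (Limits.Pi.map (gf M)))) (add_zero q) := by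
        apply ihinj
        funext n
        rw [θ_apply, θ_apply, ← hz n, ← congrFun hw' n, θ_apply,
          Ext.comp_assoc_of_third_deg_zero, Ext.comp_assoc_of_third_deg_zero,
          Ext.mk₀_comp_mk₀, Ext.mk₀_comp_mk₀, ← T.map_comp, ← T.map_comp, Limits.Pi.map_π]
      rw [← hy, hy2, Ext.comp_assoc_of_second_deg_zero, comp_extClass' hS, Ext.comp_zero]
    · intro x
      have hx : ∀ n, (x n).comp (Ext.mk₀ (T.map (ιf M n))) (add_zero (q + 1)) = 0 :=
        fun n => hinj (If M n) q _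
      choose y hy using fun n => les₁ (hSn n) (x n) (hx n) rfl
      obtain ⟨y', hy'⟩ := ihsurj y
      refine ⟨y'.comp hS.extClass rfl, ?_⟩
      funext n
      rw [θ_apply, Ext.comp_assoc_of_third_deg_zero, hnat n,
        ← Ext.comp_assoc_of_second_deg_zero, ← hy n]
      congr 1
      exact congrFun hy' n

end Induction

end

end Groth.Agent.Lib.Helper5.ExtProd
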