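import Mathlib
import Groth.Agent.Lib.Helper5.AcyclicClass

/-!
# Helper5: injective towers in `ℕᵒᵖ ⥤ 𝒜`

For a family `J : ℕ → 𝒜` the tower `T J` with `T_m = ∏_{k ≤ m} J k` and the projections as transition
maps.  Morphisms `A ⟶ T J` are families `A_n ⟶ J n`; `T J` is injective if all `J n` are; every
tower embeds in such a tower; the transition maps are split epimorphisms.
-/

set_option autoImplicit false
universe v v' u u'

namespace Groth.Agent.Lib.Helper5.TowerInj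

open CategoryTheory CategoryTheory.Limits Opposite

section Tower

variable {𝒜 : Type u} [Category.{v} 𝒜] [Abelian 𝒜]

/-- the transition maps of a tower. -/
def tr (E : ℕᵒᵖ ⥤ 𝒜) {n m : ℕ} (h : n ≤ m) : E.obj (op m) ⟶ E.obj (op n) := E.map (homOfLE h).op

lemma tr_refl (E : ℕᵒᵖ ⥤ 𝒜) (n : ℕ) : tr E (le_refl n) = 𝟙 _ := by
  have h : (homOfLE (le_refl n)).op = 𝟙 (op n) := Subsingleton.elim _ _
  unfold tr
  rw [h, E.map_id]

lemma tr_comp (E : ℕᵒᵖ ⥤ 𝒜) {n m k : ℕ} (h : n ≤ m) (h' : m ≤ k) :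
    tr E h' ≫ tr E h = tr E (h.trans h') := by
  have e : (homOfLE (h.trans h')).op = (homOfLE h').op ≫ (homOfLE h).op := Subsingleton.elim _ _
  unfold tr
  rw [e, E.map_comp]

lemma map_eq_tr (E : ℕᵒᵖ ⥤ 𝒜) {a b : ℕᵒᵖ} (f : a ⟶ b) :
    E.map f = tr E (leOfHom f.unop) := by
  unfold tr
  congr 1

lemma tr_naturality {E E' : ℕᵒᵖ ⥤ 𝒜} (φ : E ⟶ E') {n m : ℕ} (h : n ≤ m) :
    tr E h ≫ φ.app (op n) = φ.app (op m) ≫ tr E' h := φ.naturality _

variable (J : ℕ → 𝒜)

/-- `T_m = ∏_{k ≤ m} J k`. -/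
noncomputable def TObj (m : ℕ) : 𝒜 := ∏ᶜ fun k : Fin (m + 1) => J k

/-- projections -/
noncomputable def Tπ (m k : ℕ) (hk : k ≤ m) : TObj J m ⟶ J k :=
  Pi.π (fun k : Fin (m + 1) => J k) ⟨k, by omega⟩

/-- lifting -/
noncomputable def Tlift {A : 𝒜} (m : ℕ) (φ : ∀ k : ℕ, k ≤ m → (A ⟶ J k)) : A ⟶ TObj J m :=
  Pi.lift fun k : Fin (m + 1) => φ k (by omega)

@[reassoc (attr := simp)]
lemma Tlift_π {A : 𝒜} (m : ℕ) (φ : ∀ k : ℕ, k ≤ m → (A ⟶ J k)) (k : ℕ) (hk : k ≤ m) :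
    Tlift J m φ ≫ Tπ J m k hk = φ k hk := by
  unfold Tlift Tπ
  exact Pi.lift_π _ _

lemma T_hom_ext {A : 𝒜} {m : ℕ} {f g : A ⟶ TObj J m}
    (h : ∀ (k : ℕ) (hk : k ≤ m), f ≫ Tπ J m k hk = g ≫ Tπ J m k hk) : f = g := by
  unfold TObj
  refine Pi.hom_ext _ _ (fun k => ?_)
  exact h k (by omega)

/-- the transition maps of `T J`. -/
noncomputable def TMap {n m : ℕ} (h : n ≤ m) : TObj J m ⟶ TObj J n :=
  Tlift J n fun k hk => Tπ J m k (hk.trans h)

@[reassoc (attr := simp)]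
lemma TMap_π {n m : ℕ} (h : n ≤ m) (k : ℕ) (hk : k ≤ n) :
    TMap J h ≫ Tπ J n k hk = Tπ J m k (hk.trans h) := by
  unfold TMap
  rw [Tlift_π]

/-- the tower `T J`. -/
noncomputable def T : ℕᵒᵖ ⥤ 𝒜 where
  obj m := TObj J m.unop
  map f := TMap J (leOfHom f.unop)
  map_id m := by
    refine T_hom_ext J (fun k hk => ?_)
    rw [TMap_π, Category.id_comp]
  map_comp f g := by
    refine T_hom_ext J (fun k hk => ?_)
    rw [TMap_π, Category.assoc, TMap_π, TMap_π]

lemma tr_T {n m : ℕ} (h : n ≤ m) : tr (T J) h = TMap J h := rfl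

/-- the projections, typed on the functor `T J`. -/
noncomputable def Tπ' (m k : ℕ) (hk : k ≤ m) : (T J).obj (op m) ⟶ J k := Tπ J m k hk

lemma T_hom_ext' {A : 𝒜} {m : ℕ} {f g : A ⟶ (T J).obj (op m)}
    (h : ∀ (k : ℕ) (hk : k ≤ m), f ≫ Tπ' J m k hk = g ≫ Tπ' J m k hk) : f = g :=
  T_hom_ext J h

@[reassoc]
lemma tr_T_π {n m : ℕ} (h : n ≤ m) (k : ℕ) (hk : k ≤ n) :
    tr (T J) h ≫ Tπ' J n k hk = Tπ' J m k (hk.trans h) := TMap_π J h k hk


/-- the section of the transition map. -/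
noncomputable def TSec {n m : ℕ} (_h : n ≤ m) : TObj J n ⟶ TObj J m :=
  Tlift J m fun k _ => if hk : k ≤ n then Tπ J n k hk else 0

lemma TSec_TMap {n m : ℕ} (h : n ≤ m) : TSec J h ≫ TMap J h = 𝟙 (TObj J n) := by
  refine T_hom_ext J (fun k hk => ?_)
  rw [Category.assoc, TMap_π, Category.id_comp]
  unfold TSec
  rw [Tlift_π, dif_pos hk]

/-- the section of the transition map, typed on the functor `T J`. -/
noncomputable def TSec' {n m : ℕ} (h : n ≤ m) : (T J).obj (op n) ⟶ (T J).obj (op m) := TSec J h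

lemma TSec'_tr {n m : ℕ} (h : n ≤ m) : TSec' J h ≫ tr (T J) h = 𝟙 _ := TSec_TMap J h

/-- a family of maps `A_n ⟶ J n` defines a morphism `A ⟶ T J`. -/
noncomputable def toT {A : ℕᵒᵖ ⥤ 𝒜} (φ : ∀ n, A.obj (op n) ⟶ J n) : A ⟶ T J where
  app m := Tlift J m.unop fun k hk => tr A hk ≫ φ k
  naturality a b f := by
    obtain ⟨a⟩ := a
    obtain ⟨b⟩ := b
    refine T_hom_ext J (fun k hk => ?_)
    have hba : b ≤ a := leOfHom f.unop
    change (A.map f ≫ Tlift J b _) ≫ Tπ J b k hk = (Tlift J a _ ≫ TMap J hba) ≫ Tπ J b k hk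
    rw [Category.assoc, Category.assoc, TMap_π, Tlift_π, Tlift_π, map_eq_tr, ← Category.assoc,
      tr_comp]

@[reassoc]
lemma toT_app_π {A : ℕᵒᵖ ⥤ 𝒜} (φ : ∀ n, A.obj (op n) ⟶ J n) (m k : ℕ) (hk : k ≤ m) :
    (toT J φ).app (op m) ≫ Tπ' J m k hk = tr A hk ≫ φ k :=
  Tlift_π J m (fun k hk => tr A hk ≫ φ k) k hk

lemma toT_app_π_self {A : ℕᵒᵖ ⥤ 𝒜} (φ : ∀ n, A.obj (op n) ⟶ J n) (m : ℕ) :
    (toT J φ).app (op m) ≫ Tπ' J m m (le_refl m) = φ m := by
  rw [toT_app_π, tr_refl, Category.id_comp]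

/-- a morphism to `T J` is determined by its diagonal components. -/
lemma eq_toT {A : ℕᵒᵖ ⥤ 𝒜} (ψ : A ⟶ T J) :
    ψ = toT J (fun n => ψ.app (op n) ≫ Tπ' J n n (le_refl n)) := by
  refine NatTrans.ext (funext fun m => ?_)
  obtain ⟨m⟩ := m
  refine T_hom_ext' J (fun k hk => ?_)
  rw [toT_app_π, ← Category.assoc, tr_naturality ψ hk, Category.assoc, tr_T_π]

lemma comp_toT {A B : ℕᵒᵖ ⥤ 𝒜} (g : A ⟶ B) (φ : ∀ n, B.obj (op n) ⟶ J n) :
    g ≫ toT J φ = toT J (fun n => g.app (op n) ≫ φ n) := by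
  refine NatTrans.ext (funext fun m => ?_)
  obtain ⟨m⟩ := m
  refine T_hom_ext' J (fun k hk => ?_)
  rw [NatTrans.comp_app, Category.assoc, toT_app_π, toT_app_π, ← Category.assoc,
    ← tr_naturality g hk, Category.assoc]

instance T_injective [∀ n, Injective (J n)] : Injective (T J) where
  factors {A B} f g _ := by
    have : ∀ n, Mono (g.app (op n)) := fun n => inferInstance
    refine ⟨toT J (fun n => Injective.factorThru (f.app (op n) ≫ Tπ' J n n (le_refl n))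
      (g.app (op n))), ?_⟩
    rw [comp_toT]
    conv_rhs => rw [eq_toT J f]
    congr 1
    funext n
    exact Injective.comp_factorThru _ _

lemma mono_toT {A : ℕᵒᵖ ⥤ 𝒜} (φ : ∀ n, A.obj (op n) ⟶ J n) [∀ n, Mono (φ n)] :
    Mono (toT J φ) := by
  have : ∀ m : ℕᵒᵖ, Mono ((toT J φ).app m) := by
    rintro ⟨m⟩
    have : Mono ((toT J φ).app (op m) ≫ Tπ' J m m (le_refl m)) := by
      rw [toT_app_π_self]
      infer_instance
    exact mono_of_mono _ (Tπ' J m m (le_refl m))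
  exact NatTrans.mono_of_mono_app _

instance TObj_injective [∀ n, Injective (J n)] (m : ℕ) : Injective (TObj J m) := by
  unfold TObj
  infer_instance

instance T_obj_injective [∀ n, Injective (J n)] (m : ℕ) : Injective ((T J).obj (op m)) :=
  TObj_injective J m

/-- towers in an abelian category with enough injectives have enough injectives. -/
theorem enoughInjectives_tower [EnoughInjectives 𝒜] : EnoughInjectives (ℕᵒᵖ ⥤ 𝒜) where
  presentation E :=
    haveI : ∀ n, Mono (Injective.ι (E.obj (op n))) := fun n => inferInstance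
    ⟨{  J := T (fun n => Injective.under (E.obj (op n)))
        injective := inferInstance
        f := toT _ (fun n => Injective.ι (E.obj (op n)))
        mono := mono_toT _ _ }⟩

end Tower

section Acyclic

open Groth.Agent.Lib.Helper2.RDBridge Groth.Agent.Lib.Helper2.GSS
open Groth.Agent.Lib.Helper5.AcyclicClass

variable {C : Type u} [Category.{v} C] [Abelian C] [EnoughInjectives C]
  {D : Type u'} [Category.{v'} D] [Abelian D]
  (F : C ⥤ D) [F.Additive] [PreservesFiniteLimits F]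

/-- variant of `AcyclicClass.isZero_rightDerived_succ` with arbitrary injective embeddings. -/
theorem isZero_rightDerived_succ' (P : C → Prop)
    (h : ∀ X, P X → ∃ (Y Z : C) (f : X ⟶ Y) (g : Y ⟶ Z) (w : f ≫ g = 0),
      (ShortComplex.mk f g w).ShortExact ∧ Injective Y ∧ P Z ∧ Epi (F.map g)) :
    ∀ (i : ℕ) (X : C), P X → IsZero ((F.rightDerived (i + 1)).obj X) := by
  intro i
  induction i with
  | zero =>
    intro X hX
    obtain ⟨Y, Z, f, g, w, hS, hY, hZ, hg⟩ := h X hX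
    obtain ⟨δ, z1, z2, z3, e1, e2, e3⟩ := rightDerived_les' F (ShortComplex.mk f g w) hS 0
    haveI : Epi δ := e3.epi_f
      ((F.isZero_rightDerived_obj_injective_succ 0 Y).eq_of_tgt _ _)
    haveI : Epi ((F.rightDerived 0).map g) := (epi_rightDerived_zero_map_iff F _).2 hg
    have hδ : δ = 0 := by
      rw [← cancel_epi ((F.rightDerived 0).map g)]
      exact z2.trans comp_zero.symm
    exact isZero_of_epi_eq_zero δ hδ
  | succ i ih =>
    intro X hX
    obtain ⟨Y, Z, f, g, w, hS, hY, hZ, hg⟩ := h X hX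
    obtain ⟨δ, z1, z2, z3, e1, e2, e3⟩ := rightDerived_les' F (ShortComplex.mk f g w) hS (i + 1)
    haveI : Epi δ := e3.epi_f
      ((F.isZero_rightDerived_obj_injective_succ (i + 1) Y).eq_of_tgt _ _)
    have hδ : δ = 0 := (ih _ hZ).eq_of_src _ _
    exact isZero_of_epi_eq_zero δ hδ

/-- if `X` embeds in an injective with acyclic quotient, then `R^{i+2} F X = 0`. -/
theorem isZero_rightDerived_succ_succ' {X Y Z : C} (f : X ⟶ Y) (g : Y ⟶ Z) (w : f ≫ g = 0)
    (hS : (ShortComplex.mk f g w).ShortExact) [Injective Y]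
    (hZ : ∀ i : ℕ, IsZero ((F.rightDerived (i + 1)).obj Z)) (i : ℕ) :
    IsZero ((F.rightDerived (i + 2)).obj X) := by
  obtain ⟨δ, z1, z2, z3, e1, e2, e3⟩ := rightDerived_les' F (ShortComplex.mk f g w) hS (i + 1)
  haveI : Epi δ := e3.epi_f
    ((F.isZero_rightDerived_obj_injective_succ (i + 1) Y).eq_of_tgt _ _)
  have hδ : δ = 0 := (hZ i).eq_of_src _ _
  exact isZero_of_epi_eq_zero δ hδ

end Acyclic

end Groth.Agent.Lib.Helper5.TowerInj
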