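import Mathlib
import Groth.Prelude.Def_Formal2
import Groth.Agent.Lib.Helper5.ExtProd
import Groth.Agent.Lib.Helper5.TowerInj

/-!
# Helper5: the Milnor sequence for `Ext(Z, T (lim E))`

For a tower `E` in an abelian category `𝒜` such that `1 - shift : ∏ E_n ⟶ ∏ E_n` is an epimorphism
and `Ext^q(Z, T -)` commutes with the product `∏ E_n` for `q = p, p + 1`:
`0 → lim¹ Ext^p(Z, T E_n) → Ext^{p+1}(Z, T (lim E)) → lim Ext^{p+1}(Z, T E_n) → 0`.
-/

set_option autoImplicit false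
universe w v v' u u'

namespace Groth.Agent.Lib.Helper5.ExtMilnor

open CategoryTheory CategoryTheory.Limits Abelian Opposite
open Groth.Agent.Lib.Helper5.ExtProd Groth.Agent.Lib.Helper5.TowerInj

noncomputable section

variable {𝒜 : Type u} [Category.{v} 𝒜] [Abelian 𝒜] [HasProductsOfShape ℕ 𝒜]
  (E : ℕᵒᵖ ⥤ 𝒜) [HasLimit E]

/-- the terms of the tower -/
abbrev Eo (n : ℕ) : 𝒜 := E.obj (op n)

/-- the transition maps -/
abbrev trE (n : ℕ) : Eo E (n + 1) ⟶ Eo E n := tr E (Nat.le_succ n)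

/-- `1 - shift` -/
def dP : ∏ᶜ Eo E ⟶ ∏ᶜ Eo E :=
  Pi.lift fun n => Pi.π (Eo E) n - Pi.π (Eo E) (n + 1) ≫ trE E n

@[reassoc]
lemma dP_π (n : ℕ) : dP E ≫ Pi.π (Eo E) n = Pi.π (Eo E) n - Pi.π (Eo E) (n + 1) ≫ trE E n :=
  Pi.lift_π _ _

/-- the inclusion of the limit -/
def ιP : limit E ⟶ ∏ᶜ Eo E := Pi.lift fun n => limit.π E (op n)

@[reassoc]
lemma ιP_π (n : ℕ) : ιP E ≫ Pi.π (Eo E) n = limit.π E (op n) := Pi.lift_π _ _

lemma ιP_dP : ιP E ≫ dP E = 0 := by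
  apply Pi.hom_ext
  intro n
  rw [Category.assoc, dP_π, zero_comp, Preadditive.comp_sub, ιP_π, ιP_π_assoc]
  have := limit.w E (homOfLE (Nat.le_succ n)).op
  rw [sub_eq_zero]
  exact this.symm

/-- a family of maps compatible with the successive transition maps is a cone -/
lemma compat_of_succ {W : 𝒜} (k : ∀ n, W ⟶ Eo E n) (hk : ∀ n, k (n + 1) ≫ trE E n = k n)
    {n m : ℕ} (h : n ≤ m) : k m ≫ tr E h = k n := by
  induction m, h using Nat.le_induction with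
  | base => rw [tr_refl, Category.comp_id]
  | succ m hnm ih =>
    rw [← tr_comp E hnm (Nat.le_succ m), ← Category.assoc, hk, ih]

/-- the cone attached to a compatible family -/
def coneOf {W : 𝒜} (k : ∀ n, W ⟶ Eo E n) (hk : ∀ n, k (n + 1) ≫ trE E n = k n) : Cone E where
  pt := W
  π :=
    { app := fun j => k j.unop
      naturality := by
        intro a b f
        obtain ⟨m⟩ := a
        obtain ⟨n⟩ := b
        have h : n ≤ m := leOfHom f.unop
        have e : f = (homOfLE h).op := Subsingleton.elim _ _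
        subst e
        change 𝟙 W ≫ k n = k m ≫ tr E h
        rw [Category.id_comp, compat_of_succ E k hk h] }

/-- the lift to the limit of a compatible family -/
def liftOf {W : 𝒜} (k : ∀ n, W ⟶ Eo E n) (hk : ∀ n, k (n + 1) ≫ trE E n = k n) : W ⟶ limit E :=
  limit.lift E (coneOf E k hk)

@[reassoc]
lemma liftOf_π {W : 𝒜} (k : ∀ n, W ⟶ Eo E n) (hk : ∀ n, k (n + 1) ≫ trE E n = k n) (n : ℕ) :
    liftOf E k hk ≫ limit.π E (op n) = k n :=
  limit.lift_π _ _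

/-- the sequence `0 → lim E → ∏ E_n → ∏ E_n` -/
abbrev SL : ShortComplex 𝒜 := ShortComplex.mk (ιP E) (dP E) (ιP_dP E)

lemma SL_exact : (SL E).Exact := by
  have hcompat : ∀ {W : 𝒜} (k : W ⟶ ∏ᶜ Eo E), k ≫ dP E = 0 →
      ∀ n, (k ≫ Pi.π (Eo E) (n + 1)) ≫ trE E n = k ≫ Pi.π (Eo E) n := by
    intro W k hk n
    have h1 := congrArg (fun κ => κ ≫ Pi.π (Eo E) n) hk
    simp only [Category.assoc, dP_π, zero_comp, Preadditive.comp_sub, sub_eq_zero] at h1
    rw [Category.assoc]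
    exact h1.symm
  refine ShortComplex.exact_of_f_is_kernel _ ?_
  refine KernelFork.IsLimit.ofι _ _
    (fun {W} k hk => liftOf E (fun n => k ≫ Pi.π (Eo E) n) (hcompat k hk))
    ?_ ?_
  · intro W k hk
    apply Pi.hom_ext
    intro n
    change (liftOf E _ _ ≫ ιP E) ≫ Pi.π (Eo E) n = k ≫ Pi.π (Eo E) n
    rw [Category.assoc, ιP_π, liftOf_π]
  · intro W k hk m hm
    apply limit.hom_ext
    rintro ⟨n⟩
    rw [liftOf_π]
    change m ≫ limit.π E (op n) = k ≫ Pi.π (Eo E) n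
    rw [← hm]
    change m ≫ limit.π E (op n) = (m ≫ ιP E) ≫ Pi.π (Eo E) n
    rw [Category.assoc, ιP_π]

instance : Mono (ιP E) := by
  constructor
  intro W a b hab
  apply limit.hom_ext
  rintro ⟨n⟩
  rw [← ιP_π, ← Category.assoc, hab, Category.assoc]

lemma SL_shortExact (h : Epi (dP E)) : (SL E).ShortExact where
  exact := SL_exact E
  mono_f := inferInstanceAs (Mono (ιP E))
  epi_g := h

section Milnor

variable [EnoughInjectives 𝒜] {ℬ : Type u'} [Category.{v'} ℬ] [Abelian ℬ] [HasExt.{w} ℬ]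
  (T : 𝒜 ⥤ ℬ) [T.Additive] [PreservesFiniteLimits T] [PreservesFiniteColimits T] (Z : ℬ)

/-- the tower of `Ext` groups -/
abbrev A (q n : ℕ) : Type w := Ext Z (T.obj (Eo E n)) q

/-- its transition maps -/
abbrev τ (q n : ℕ) : A E T Z q (n + 1) →+ A E T Z q n :=
  (Ext.mk₀ (T.map (trE E n))).postcomp Z (add_zero q)

/-- `T` applied to `SL` -/
abbrev SLT : ShortComplex ℬ :=
  ShortComplex.mk (T.map (ιP E)) (T.map (dP E)) (by rw [← T.map_comp, ιP_dP, T.map_zero])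

lemma SLT_shortExact (h : Epi (dP E)) : (SLT E T).ShortExact :=
  (SL_shortExact E h).map_of_exact T

lemma mk₀_sub {X Y : ℬ} (f g : X ⟶ Y) : Ext.mk₀ (f - g) = Ext.mk₀ f - Ext.mk₀ g := by
  rw [sub_eq_add_neg, Ext.mk₀_add, Ext.mk₀_neg, ← sub_eq_add_neg]

lemma comp_sub' {X Y W : ℬ} {n : ℕ} (α : Ext X Y n) (β₁ β₂ : Ext Y W 0) :
    α.comp (β₁ - β₂) (add_zero n) = α.comp β₁ (add_zero n) - α.comp β₂ (add_zero n) := by
  rw [sub_eq_add_neg, Ext.comp_add, Ext.comp_neg, ← sub_eq_add_neg]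

/-- `θ` intertwines `1 - shift` with `towerDiff` -/
lemma θ_dP (q : ℕ) (x : Ext Z (T.obj (∏ᶜ Eo E)) q) :
    θ T Z (Eo E) q (x.comp (Ext.mk₀ (T.map (dP E))) (add_zero q)) =
      Formal2.towerDiff (A E T Z q) (τ E T Z q) (θ T Z (Eo E) q x) := by
  funext n
  change (x.comp (Ext.mk₀ (T.map (dP E))) (add_zero q)).comp
      (Ext.mk₀ (T.map (Pi.π (Eo E) n))) (add_zero q) =
    x.comp (Ext.mk₀ (T.map (Pi.π (Eo E) n))) (add_zero q) -
      (x.comp (Ext.mk₀ (T.map (Pi.π (Eo E) (n + 1)))) (add_zero q)).comp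
        (Ext.mk₀ (T.map (trE E n))) (add_zero q)
  rw [Ext.comp_assoc_of_third_deg_zero, Ext.comp_assoc_of_third_deg_zero, Ext.mk₀_comp_mk₀,
    Ext.mk₀_comp_mk₀, ← T.map_comp, ← T.map_comp, dP_π, T.map_sub, mk₀_sub, comp_sub']

theorem milnor (hepi : Epi (dP E)) (p : ℕ)
    (hθp : Function.Bijective (θ T Z (Eo E) p))
    (hθp1 : Function.Bijective (θ T Z (Eo E) (p + 1))) :
    ∃ (α : Formal2.limOne (A E T Z p) (τ E T Z p) →+ Ext Z (T.obj (limit E)) (p + 1))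
      (β : Ext Z (T.obj (limit E)) (p + 1) →+
        Formal2.limZero (A E T Z (p + 1)) (τ E T Z (p + 1))),
      Function.Injective α ∧ Function.Surjective β ∧ α.range = β.ker ∧
      ∀ (x : Ext Z (T.obj (limit E)) (p + 1)) (n : ℕ),
        (β x : ∀ n, A E T Z (p + 1) n) n =
          x.comp (Ext.mk₀ (T.map (limit.π E (op n)))) (add_zero (p + 1)) := by
  have hS := SLT_shortExact E T hepi
  let ep := (AddEquiv.ofBijective (θ T Z (Eo E) p) hθp).symm
  have hep : ∀ y, θ T Z (Eo E) p (ep y) = y :=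
    fun y => (AddEquiv.ofBijective (θ T Z (Eo E) p) hθp).apply_symm_apply y
  have hep' : ∀ x, ep (θ T Z (Eo E) p x) = x :=
    fun x => (AddEquiv.ofBijective (θ T Z (Eo E) p) hθp).symm_apply_apply x
  let δ : Ext Z (T.obj (∏ᶜ Eo E)) p →+ Ext Z (T.obj (limit E)) (p + 1) :=
    hS.extClass.postcomp Z rfl
  let α₀ : (∀ n, A E T Z p n) →+ Ext Z (T.obj (limit E)) (p + 1) := δ.comp ep.toAddMonoidHom
  have hα₀ : (Formal2.towerDiff (A E T Z p) (τ E T Z p)).range ≤ α₀.ker := by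
    rintro y ⟨y', rfl⟩
    rw [AddMonoidHom.mem_ker]
    have h1 : ep (Formal2.towerDiff (A E T Z p) (τ E T Z p) y') =
        (ep y').comp (Ext.mk₀ (T.map (dP E))) (add_zero p) := by
      apply hθp.1
      rw [hep, θ_dP, hep]
    change (ep (Formal2.towerDiff (A E T Z p) (τ E T Z p) y')).comp hS.extClass rfl = 0
    rw [h1, Ext.comp_assoc_of_second_deg_zero, comp_extClass' hS, Ext.comp_zero]
  let α : Formal2.limOne (A E T Z p) (τ E T Z p) →+ Ext Z (T.obj (limit E)) (p + 1) :=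
    QuotientAddGroup.lift _ α₀ hα₀
  have hα : ∀ y, α (QuotientAddGroup.mk y) = (ep y).comp hS.extClass rfl := fun y => rfl
  let β₀ : Ext Z (T.obj (limit E)) (p + 1) →+ ∀ n, A E T Z (p + 1) n :=
    (θ T Z (Eo E) (p + 1)).comp ((Ext.mk₀ (T.map (ιP E))).postcomp Z (add_zero (p + 1)))
  have hβ₀ : ∀ x, β₀ x = θ T Z (Eo E) (p + 1)
      (x.comp (Ext.mk₀ (T.map (ιP E))) (add_zero (p + 1))) := fun x => rfl
  have hβ₀mem : ∀ x, β₀ x ∈ Formal2.limZero (A E T Z (p + 1)) (τ E T Z (p + 1)) := by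
    intro x
    rw [AddMonoidHom.mem_ker, hβ₀, ← θ_dP, Ext.comp_assoc_of_third_deg_zero, Ext.mk₀_comp_mk₀,
      ← T.map_comp, ιP_dP, T.map_zero, Ext.mk₀_zero, Ext.comp_zero, map_zero]
  let β : Ext Z (T.obj (limit E)) (p + 1) →+
      Formal2.limZero (A E T Z (p + 1)) (τ E T Z (p + 1)) :=
    β₀.codRestrict _ hβ₀mem
  have hβ : ∀ x, (β x : ∀ n, A E T Z (p + 1) n) = β₀ x := fun x => rfl
  refine ⟨α, β, ?_, ?_, ?_, ?_⟩
  · rw [injective_iff_map_eq_zero]
    intro c hc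
    obtain ⟨y, rfl⟩ := QuotientAddGroup.mk_surjective c
    rw [hα] at hc
    obtain ⟨x₂, hx₂⟩ := les₃ hS _ rfl hc
    rw [QuotientAddGroup.eq_zero_iff]
    refine ⟨θ T Z (Eo E) p x₂, ?_⟩
    rw [← θ_dP, hx₂, hep]
  · intro y
    obtain ⟨x₂, hx₂⟩ := hθp1.2 y.1
    have h0 : x₂.comp (Ext.mk₀ (T.map (dP E))) (add_zero (p + 1)) = 0 := by
      apply hθp1.1
      rw [θ_dP, hx₂, map_zero]
      exact y.2
    obtain ⟨x₁, hx₁⟩ := Ext.covariant_sequence_exact₂ Z hS x₂ h0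
    refine ⟨x₁, ?_⟩
    apply Subtype.ext
    rw [hβ, hβ₀]
    change θ T Z (Eo E) (p + 1) (x₁.comp (Ext.mk₀ (SLT E T).f) (add_zero (p + 1))) = y.1
    rw [hx₁, hx₂]
  · ext x
    rw [AddMonoidHom.mem_range, AddMonoidHom.mem_ker]
    constructor
    · rintro ⟨c, rfl⟩
      obtain ⟨y, rfl⟩ := QuotientAddGroup.mk_surjective c
      apply Subtype.ext
      rw [hβ, hβ₀, hα, Ext.comp_assoc_of_third_deg_zero]
      have := hS.extClass_comp
      change hS.extClass.comp (Ext.mk₀ (T.map (ιP E))) (add_zero 1) = 0 at this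
      rw [this, Ext.comp_zero, map_zero]
      rfl
    · intro hx
      have h1 : β₀ x = 0 := by
        rw [← hβ, hx]
        rfl
      rw [hβ₀] at h1
      have h2 : x.comp (Ext.mk₀ (T.map (ιP E))) (add_zero (p + 1)) = 0 := by
        apply hθp1.1
        rw [h1, map_zero]
      obtain ⟨x₃, hx₃⟩ := les₁ hS x h2 rfl
      refine ⟨QuotientAddGroup.mk (θ T Z (Eo E) p x₃), ?_⟩
      rw [hα, hep', hx₃]
  · intro x n
    rw [hβ, hβ₀, θ_apply, Ext.comp_assoc_of_third_deg_zero, Ext.mk₀_comp_mk₀, ← T.map_comp, ιP_π]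

end Milnor

end

end Groth.Agent.Lib.Helper5.ExtMilnor
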