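import Mathlib

/-!
# `Ext` groups and a partially defined left adjoint (helper5)

Let `L : 𝒜 ⥤ ℬ` be an exact functor and `M : 𝒜`, `Z : ℬ` with `Hom(M, G) ≃ Hom(Z, L G)` naturally
in `G`.  If `L` sends injectives to `Ext(Z, -)`-acyclic objects, then
`Ext^q(M, G) ≃ Ext^q(Z, L G)`.
-/

set_option autoImplicit false
universe w w' v v' u u'

namespace Groth.Agent.Lib.Helper5.ExtPartial

open CategoryTheory CategoryTheory.Limits Abelian

lemma nonempty_addEquiv_of_coker {A A' B B' E E' : Type*} [AddCommGroup A] [AddCommGroup A']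
    [AddCommGroup B] [AddCommGroup B'] [AddCommGroup E] [AddCommGroup E']
    (u : A' →+ A) (p : A →+ E) (hp : Function.Surjective p) (hpu : ∀ x, p x = 0 ↔ x ∈ u.range)
    (u' : B' →+ B) (p' : B →+ E') (hp' : Function.Surjective p')
    (hpu' : ∀ y, p' y = 0 ↔ y ∈ u'.range)
    (α : A ≃+ B) (α' : A' ≃+ B') (hα : ∀ x, α (u x) = u' (α' x)) : Nonempty (E ≃+ E') := by
  have h : p.ker.map (α : A →+ B) = p'.ker := by
    ext y
    constructor
    · rintro ⟨x, hx, rfl⟩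
      obtain ⟨x', rfl⟩ := (hpu x).1 hx
      show p' (α (u x')) = 0
      rw [hα, hpu']
      exact ⟨_, rfl⟩
    · intro hy
      obtain ⟨y', rfl⟩ := (hpu' y).1 hy
      refine ⟨u (α'.symm y'), (hpu _).2 ⟨_, rfl⟩, ?_⟩
      show α (u (α'.symm y')) = u' y'
      rw [hα, AddEquiv.apply_symm_apply]
  exact ⟨(QuotientAddGroup.quotientKerEquivOfSurjective p hp).symm.trans
    ((QuotientAddGroup.congr p.ker p'.ker α h).trans
      (QuotientAddGroup.quotientKerEquivOfSurjective p' hp'))⟩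

section Conn

variable {𝒜 : Type u} [Category.{v} 𝒜] [Abelian 𝒜] [HasExt.{w} 𝒜]
  {S : ShortComplex 𝒜} (hS : S.ShortExact) (X : 𝒜)

/-- the connecting map -/
noncomputable def conn (n : ℕ) : Ext.{w} X S.X₃ n →+ Ext.{w} X S.X₁ (n + 1) :=
  hS.extClass.postcomp X rfl

lemma conn_apply (n : ℕ) (x : Ext.{w} X S.X₃ n) : conn hS X n x = x.comp hS.extClass rfl := rfl

lemma conn_surjective (n : ℕ) (h0 : ∀ x : Ext.{w} X S.X₂ (n + 1), x = 0) :
    Function.Surjective (conn hS X n) := fun x₁ =>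
  Ext.covariant_sequence_exact₁ X hS x₁ (h0 _) rfl

lemma conn_eq_zero_iff (n : ℕ) (x₃ : Ext.{w} X S.X₃ n) :
    conn hS X n x₃ = 0 ↔ x₃ ∈ ((Ext.mk₀ S.g).postcomp X (add_zero n)).range := by
  constructor
  · intro h
    exact Ext.covariant_sequence_exact₃ X hS x₃ rfl h
  · rintro ⟨x₂, rfl⟩
    show (x₂.comp (Ext.mk₀ S.g) (add_zero n)).comp hS.extClass rfl = 0
    rw [Ext.comp_assoc_of_second_deg_zero, hS.comp_extClass, Ext.comp_zero]

lemma conn_injective (n : ℕ) (h0 : ∀ x : Ext.{w} X S.X₂ n, x = 0) :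
    Function.Injective (conn hS X n) := by
  rw [injective_iff_map_eq_zero]
  intro x₃ h
  obtain ⟨x₂, rfl⟩ := (conn_eq_zero_iff hS X n x₃).1 h
  rw [h0 x₂, map_zero]

end Conn

section Main

variable {𝒜 : Type u} [Category.{v} 𝒜] [Abelian 𝒜] [HasExt.{w} 𝒜] [EnoughInjectives 𝒜]
  {ℬ : Type u'} [Category.{v'} ℬ] [Abelian ℬ] [HasExt.{w'} ℬ]
  (L : 𝒜 ⥤ ℬ) [L.Additive] [PreservesFiniteLimits L] [PreservesFiniteColimits L]
  (M : 𝒜) (Z : ℬ)
  (θ : ∀ G : 𝒜, (M ⟶ G) ≃+ (Z ⟶ L.obj G))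
  (hθ : ∀ {G G' : 𝒜} (φ : G ⟶ G') (f : M ⟶ G), θ G' (f ≫ φ) = θ G f ≫ L.map φ)
  (hacyc : ∀ (I : 𝒜) [Injective I] (n : ℕ) (x : Ext.{w'} Z (L.obj I) (n + 1)), x = 0)

/-- the injective embedding sequence -/
noncomputable def injSc (G : 𝒜) : ShortComplex 𝒜 :=
  ShortComplex.mk _ _ (cokernel.condition (Injective.ι G))

lemma injSc_shortExact (G : 𝒜) : (injSc G).ShortExact :=
  haveI : Mono (injSc G).f := inferInstanceAs (Mono (Injective.ι G))
  haveI : Epi (injSc G).g := inferInstanceAs (Epi (cokernel.π (Injective.ι G)))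
  { exact := ShortComplex.exact_of_g_is_cokernel _ (cokernelIsCokernel (injSc G).f) }

instance (G : 𝒜) : Injective (injSc G).X₂ := inferInstanceAs (Injective (Injective.under G))

/-- the isomorphism in degree `0` -/
noncomputable def α₀ (G : 𝒜) : Ext.{w} M G 0 ≃+ Ext.{w'} Z (L.obj G) 0 :=
  Ext.addEquiv₀.trans ((θ G).trans Ext.addEquiv₀.symm)

lemma α₀_mk₀ (G : 𝒜) (f : M ⟶ G) : α₀ L M Z θ G (Ext.mk₀ f) = Ext.mk₀ (θ G f) := by
  show Ext.addEquiv₀.symm (θ G (Ext.addEquiv₀ (Ext.mk₀ f))) = _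
  have h1 : Ext.addEquiv₀ (Ext.mk₀ f) = f := by
    apply Ext.addEquiv₀.symm.injective
    rw [AddEquiv.symm_apply_apply]
    rfl
  rw [h1]
  rfl

include hθ in
lemma α₀_comp {G G' : 𝒜} (φ : G ⟶ G') (x : Ext.{w} M G 0) :
    α₀ L M Z θ G' (x.comp (Ext.mk₀ φ) (add_zero 0)) =
      (α₀ L M Z θ G x).comp (Ext.mk₀ (L.map φ)) (add_zero 0) := by
  obtain ⟨f, rfl⟩ := (Ext.mk₀_bijective M G).surjective x
  rw [Ext.mk₀_comp_mk₀, α₀_mk₀, α₀_mk₀, Ext.mk₀_comp_mk₀, hθ]

include hθ hacyc in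
theorem nonempty_addEquiv : ∀ (q : ℕ) (G : 𝒜),
    Nonempty (Ext.{w} M G q ≃+ Ext.{w'} Z (L.obj G) q) := by
  intro q
  induction q using Nat.strong_induction_on with
  | _ q ih =>
    intro G
    have hS := injSc_shortExact G
    have hLS := hS.map_of_exact L
    match q, ih with
    | 0, _ => exact ⟨α₀ L M Z θ G⟩
    | 1, _ =>
      refine nonempty_addEquiv_of_coker
        ((Ext.mk₀ (injSc G).g).postcomp M (add_zero 0)) (conn hS M 0)
        (conn_surjective hS M 0 (fun x => Ext.eq_zero_of_injective x))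
        (conn_eq_zero_iff hS M 0)
        ((Ext.mk₀ ((injSc G).map L).g).postcomp Z (add_zero 0)) (conn hLS Z 0)
        (conn_surjective hLS Z 0 (fun x => hacyc (injSc G).X₂ 0 x))
        (conn_eq_zero_iff hLS Z 0)
        (α₀ L M Z θ (injSc G).X₃) (α₀ L M Z θ (injSc G).X₂) ?_
      intro x
      exact α₀_comp L M Z θ hθ (injSc G).g x
    | (q + 2), ih =>
      obtain ⟨e⟩ := ih (q + 1) (by omega) (injSc G).X₃
      have b1 : Function.Bijective (conn hS M (q + 1)) :=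
        ⟨conn_injective hS M (q + 1) (fun x => Ext.eq_zero_of_injective x),
          conn_surjective hS M (q + 1) (fun x => Ext.eq_zero_of_injective x)⟩
      have b2 : Function.Bijective (conn hLS Z (q + 1)) :=
        ⟨conn_injective hLS Z (q + 1) (fun x => hacyc (injSc G).X₂ q x),
          conn_surjective hLS Z (q + 1) (fun x => hacyc (injSc G).X₂ (q + 1) x)⟩
      exact ⟨(AddEquiv.ofBijective _ b1).symm.trans (e.trans (AddEquiv.ofBijective _ b2))⟩

end Main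

end Groth.Agent.Lib.Helper5.ExtPartial
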