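import Mathlib

/-!
# Exterior powers along a semilinear map / a semilinear equivalence (helper5)
-/

set_option autoImplicit false
open exteriorPower

namespace Groth.Agent.Lib.Helper5.ExtSemi

variable {A B : Type*} [CommRing A] [CommRing B]
  {M N : Type*} [AddCommGroup M] [AddCommGroup N] [Module A M] [Module B N]

/-- the map of exterior powers induced by an additive map semilinear along a ring map. -/
theorem exists_extMap (σ : A →+* B) (φ : M →+ N) (hφ : ∀ (a : A) (m : M), φ (a • m) = σ a • φ m)
    (p : ℕ) :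
    ∃ F : ↥(⋀[A]^p M) →+ ↥(⋀[B]^p N), (∀ (a : A) (x : ↥(⋀[A]^p M)), F (a • x) = σ a • F x) ∧
      ∀ m : Fin p → M, F (ιMulti A p m) = ιMulti B p (fun i => φ (m i)) := by
  letI : Algebra A B := σ.toAlgebra
  letI : Module A N := Module.compHom N σ
  haveI : IsScalarTower A B N := ⟨fun a b n => by
    change (σ a * b) • n = σ a • (b • n)
    rw [mul_smul]⟩
  let φ' : M →ₗ[A] N :=
    { toFun := φ
      map_add' := φ.map_add
      map_smul' := fun a m => hφ a m }
  let f : M [⋀^Fin p]→ₗ[A] ↥(⋀[B]^p N) :=
    { ((ιMulti B p (M := N)).toMultilinearMap.restrictScalars A).compLinearMap (fun _ => φ') with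
      map_eq_zero_of_eq' := by
        intro v i j hij hne
        exact (ιMulti B p (M := N)).map_eq_zero_of_eq (fun i => φ' (v i)) (by simp [hij]) hne }
  refine ⟨(exteriorPower.alternatingMapLinearEquiv f).toAddMonoidHom, ?_, ?_⟩
  · intro a x
    change (exteriorPower.alternatingMapLinearEquiv f) (a • x) = _
    rw [map_smul, algebra_compatible_smul B a]
    rfl
  · intro m
    change (exteriorPower.alternatingMapLinearEquiv f) (ιMulti A p m) = _
    rw [exteriorPower.alternatingMapLinearEquiv_apply_ιMulti]
    rfl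

/-- two additive maps out of an exterior power which are semilinear along the same ring map and
agree on pure wedges are equal. -/
theorem ext_of_ιMulti {P : Type*} [AddCommGroup P] {S : Type*} [Semiring S] [Module S P]
    (τ : A →+* S) (p : ℕ) (F G : ↥(⋀[A]^p M) →+ P)
    (hF : ∀ (a : A) (x : ↥(⋀[A]^p M)), F (a • x) = τ a • F x)
    (hG : ∀ (a : A) (x : ↥(⋀[A]^p M)), G (a • x) = τ a • G x)
    (h : ∀ m : Fin p → M, F (ιMulti A p m) = G (ιMulti A p m)) (x : ↥(⋀[A]^p M)) : F x = G x := by
  have hx : x ∈ Submodule.span A (Set.range (ιMulti A p (M := M))) := by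
    rw [exteriorPower.ιMulti_span]; trivial
  induction hx using Submodule.span_induction with
  | mem y hy => obtain ⟨m, rfl⟩ := hy; exact h m
  | zero => rw [map_zero, map_zero]
  | add y z _ _ hy hz => rw [map_add, map_add, hy, hz]
  | smul a y _ hy => rw [hF, hG, hy]

/-- the additive equivalence of exterior powers induced by a semilinear equivalence. -/
theorem exists_extEquiv (σ : A ≃+* B) (e : M ≃+ N) (he : ∀ (a : A) (m : M), e (a • m) = σ a • e m)
    (p : ℕ) :
    ∃ θ : ↥(⋀[A]^p M) ≃+ ↥(⋀[B]^p N), (∀ (a : A) (x : ↥(⋀[A]^p M)), θ (a • x) = σ a • θ x) ∧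
      ∀ m : Fin p → M, θ (ιMulti A p m) = ιMulti B p (fun i => e (m i)) := by
  obtain ⟨F, hF1, hF2⟩ := exists_extMap (σ : A →+* B) e.toAddMonoidHom he p
  have he' : ∀ (b : B) (n : N), e.symm (b • n) = σ.symm b • e.symm n := by
    intro b n
    apply e.injective
    rw [he, AddEquiv.apply_symm_apply, RingEquiv.apply_symm_apply, AddEquiv.apply_symm_apply]
  obtain ⟨G, hG1, hG2⟩ := exists_extMap (σ.symm : B →+* A) e.symm.toAddMonoidHom he' p
  have hGF : ∀ x, G (F x) = x := by
    intro x
    refine ext_of_ιMulti (RingHom.id A) p (G.comp F) (AddMonoidHom.id _) ?_ ?_ ?_ x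
    · intro a y
      change G (F (a • y)) = a • G (F y)
      rw [hF1, hG1]
      congr 1
      exact σ.symm_apply_apply a
    · intro a y; rfl
    · intro m
      change G (F (ιMulti A p m)) = ιMulti A p m
      rw [hF2, hG2]
      congr 1
      funext i
      exact e.symm_apply_apply (m i)
  have hFG : ∀ y, F (G y) = y := by
    intro y
    refine ext_of_ιMulti (RingHom.id B) p (F.comp G) (AddMonoidHom.id _) ?_ ?_ ?_ y
    · intro b z
      change F (G (b • z)) = b • F (G z)
      rw [hG1, hF1]
      congr 1
      exact σ.apply_symm_apply b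
    · intro b z; rfl
    · intro n
      change F (G (ιMulti B p n)) = ιMulti B p n
      rw [hG2, hF2]
      congr 1
      funext i
      exact e.apply_symm_apply (n i)
  exact ⟨{ toFun := F, invFun := G, left_inv := hGF, right_inv := hFG, map_add' := F.map_add },
    hF1, hF2⟩

end Groth.Agent.Lib.Helper5.ExtSemi
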