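import Groth.Agent.Lib.Helper13.KInjMV

/-!
# Chain-level functoriality of the Mayer–Vietoris triangle (helper5, for helper13/helper2 FMV)
-/

set_option autoImplicit false
set_option backward.isDefEq.respectTransparency false
universe v₁ v₂ u₁ u₂

attribute [local instance] HasDerivedCategory.standard

namespace Groth.Agent.Lib.Helper5.FMVChain

open CategoryTheory CategoryTheory.Limits Pretriangulated DerivedCategory
open Groth.Agent.Lib.Helper13.KInjMV

section Gen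

variable {C : Type*} [Category C] {D : Type*} [Category D] [HasZeroMorphisms C]
  [HasZeroMorphisms D]

lemma mapBiprod_hom_naturality (F : C ⥤ D) [F.PreservesZeroMorphisms] {X Y X' Y' : C}
    [HasBinaryBiproduct X Y] [HasBinaryBiproduct X' Y'] [PreservesBinaryBiproduct X Y F]
    [PreservesBinaryBiproduct X' Y' F] (x : X ⟶ X') (y : Y ⟶ Y') :
    F.map (biprod.map x y) ≫ (F.mapBiprod X' Y').hom =
      (F.mapBiprod X Y).hom ≫ biprod.map (F.map x) (F.map y) := by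
  apply biprod.hom_ext
  · simp [Functor.mapBiprod_hom, ← Functor.map_comp]
  · simp [Functor.mapBiprod_hom, ← Functor.map_comp]

lemma mapBiprod_inv_naturality (F : C ⥤ D) [F.PreservesZeroMorphisms] {X Y X' Y' : C}
    [HasBinaryBiproduct X Y] [HasBinaryBiproduct X' Y'] [PreservesBinaryBiproduct X Y F]
    [PreservesBinaryBiproduct X' Y' F] (x : X ⟶ X') (y : Y ⟶ Y') :
    (F.mapBiprod X Y).inv ≫ F.map (biprod.map x y) =
      biprod.map (F.map x) (F.map y) ≫ (F.mapBiprod X' Y').inv := by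
  rw [Iso.inv_comp_eq, ← Category.assoc, Iso.eq_comp_inv]
  exact mapBiprod_hom_naturality F x y

end Gen

section Tri

variable {C : Type*} [Category C] [Preadditive C] [HasZeroObject C] [HasShift C ℤ]
  [∀ n : ℤ, (shiftFunctor C n).Additive] [Pretriangulated C]

lemma triangle_of_iso_distinguished (T : Triangle C) (hT : T ∈ distTriang C) {X₂ : C}
    (e₂ : T.obj₂ ≅ X₂) :
    Triangle.mk (T.mor₁ ≫ e₂.hom) (e₂.inv ≫ T.mor₂) T.mor₃ ∈ distTriang C := by
  refine isomorphic_distinguished _ hT _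
    (Triangle.isoMk _ _ (Iso.refl _) e₂.symm (Iso.refl _) ?_ ?_ ?_)
  · simp
  · simp
  · simp

end Tri

section Lift

variable {B : Type u₂} [Category.{v₂} B] [Abelian B]

/-- maps in the derived category into a K-injective complex lift to chain maps -/
lemma exists_lift {K L : CochainComplex B ℤ} [L.IsKInjective] (g : Q.obj K ⟶ Q.obj L) :
    ∃ φ : K ⟶ L, Q.map φ = g := by
  obtain ⟨g', hg'⟩ := (CochainComplex.IsKInjective.Qh_map_bijective
    ((HomotopyCategory.quotient _ _).obj K) L).surjective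
    ((quotientCompQhIso B).hom.app K ≫ g ≫ (quotientCompQhIso B).inv.app L)
  obtain ⟨φ, rfl⟩ := (HomotopyCategory.quotient B (ComplexShape.up ℤ)).map_surjective g'
  refine ⟨φ, ?_⟩
  have h := (quotientCompQhIso B).hom.naturality φ
  rw [← cancel_epi ((quotientCompQhIso B).hom.app K), ← h, Functor.comp_map, hg']
  simp

end Lift

section General

variable {A : Type u₁} [Category.{v₁} A] [Abelian A] {B : Type u₂} [Category.{v₂} B] [Abelian B]
  {Φ₀ Φ₁ Φ₂ Φ₃ : A ⥤ B} [Φ₀.Additive] [Φ₁.Additive] [Φ₂.Additive] [Φ₃.Additive]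
  (a₁ : Φ₀ ⟶ Φ₁) (a₂ : Φ₀ ⟶ Φ₂) (b₁ : Φ₁ ⟶ Φ₃) (b₂ : Φ₂ ⟶ Φ₃)

local notation "cc" => ComplexShape.up ℤ

/-- the morphism of Mayer–Vietoris short complexes induced by a chain map -/
noncomputable def mvSCMap {I' I : CochainComplex A ℤ} (φ : I' ⟶ I)
    (hpb' : ∀ n, IsPullback (a₁.app (I'.X n)) (a₂.app (I'.X n)) (b₁.app (I'.X n))
      (b₂.app (I'.X n)))
    (hpb : ∀ n, IsPullback (a₁.app (I.X n)) (a₂.app (I.X n)) (b₁.app (I.X n)) (b₂.app (I.X n))) :
    mvSC a₁ a₂ b₁ b₂ I' hpb' ⟶ mvSC a₁ a₂ b₁ b₂ I hpb where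
  τ₁ := (Φ₀.mapHomologicalComplex cc).map φ
  τ₂ := biprod.map ((Φ₁.mapHomologicalComplex cc).map φ) ((Φ₂.mapHomologicalComplex cc).map φ)
  τ₃ := (Φ₃.mapHomologicalComplex cc).map φ
  comm₁₂ := by
    dsimp only [mvSC]
    apply biprod.hom_ext
    · simp only [Category.assoc, biprod.map_fst, biprod.lift_fst, biprod.lift_fst_assoc]
      exact ((NatTrans.mapHomologicalComplex a₁ cc).naturality φ)
    · simp only [Category.assoc, biprod.map_snd, biprod.lift_snd, biprod.lift_snd_assoc]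
      exact ((NatTrans.mapHomologicalComplex a₂ cc).naturality φ)
  comm₂₃ := by
    dsimp only [mvSC]
    apply biprod.hom_ext'
    · simp only [biprod.inl_map_assoc, biprod.inl_desc, biprod.inl_desc_assoc]
      exact ((NatTrans.mapHomologicalComplex b₁ cc).naturality φ)
    · simp only [biprod.inr_map_assoc, biprod.inr_desc, biprod.inr_desc_assoc,
        Preadditive.neg_comp, Preadditive.comp_neg]
      rw [(NatTrans.mapHomologicalComplex b₂ cc).naturality φ]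

variable (I : CochainComplex A ℤ)
  (hpb : ∀ n, IsPullback (a₁.app (I.X n)) (a₂.app (I.X n)) (b₁.app (I.X n)) (b₂.app (I.X n)))

instance : PreservesBinaryBiproducts (DerivedCategory.Q : CochainComplex B ℤ ⥤ _) :=
  preservesBinaryBiproducts_of_preservesBiproducts _

/-- first map of the MV triangle -/
noncomputable def mvA :
    Q.obj ((Φ₀.mapHomologicalComplex cc).obj I) ⟶
      Q.obj ((Φ₁.mapHomologicalComplex cc).obj I) ⊞ Q.obj ((Φ₂.mapHomologicalComplex cc).obj I) :=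
  Q.map (mvSC a₁ a₂ b₁ b₂ I hpb).f ≫ (Q.mapBiprod _ _).hom

/-- second map of the MV triangle -/
noncomputable def mvB :
    Q.obj ((Φ₁.mapHomologicalComplex cc).obj I) ⊞ Q.obj ((Φ₂.mapHomologicalComplex cc).obj I) ⟶
      Q.obj ((Φ₃.mapHomologicalComplex cc).obj I) :=
  (Q.mapBiprod _ _).inv ≫ Q.map (mvSC a₁ a₂ b₁ b₂ I hpb).g

/-- third map of the MV triangle -/
noncomputable def mvC (hepi : ∀ n, Epi (b₁.app (I.X n))) :
    Q.obj ((Φ₃.mapHomologicalComplex cc).obj I) ⟶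
      (Q.obj ((Φ₀.mapHomologicalComplex cc).obj I))⟦(1 : ℤ)⟧ :=
  triangleOfSESδ (mvSC_shortExact a₁ a₂ b₁ b₂ I hpb hepi)

theorem mv_distinguished (hepi : ∀ n, Epi (b₁.app (I.X n))) :
    Triangle.mk (mvA a₁ a₂ b₁ b₂ I hpb) (mvB a₁ a₂ b₁ b₂ I hpb) (mvC a₁ a₂ b₁ b₂ I hpb hepi) ∈
      distTriang (DerivedCategory B) := by
  exact triangle_of_iso_distinguished _
    (triangleOfSES_distinguished (mvSC_shortExact a₁ a₂ b₁ b₂ I hpb hepi)) (Q.mapBiprod _ _)

variable {I}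
variable {I' : CochainComplex A ℤ} (φ : I' ⟶ I)
  (hpb' : ∀ n, IsPullback (a₁.app (I'.X n)) (a₂.app (I'.X n)) (b₁.app (I'.X n))
    (b₂.app (I'.X n)))

theorem mvA_nat :
    mvA a₁ a₂ b₁ b₂ I' hpb' ≫ biprod.map (Q.map ((Φ₁.mapHomologicalComplex cc).map φ))
        (Q.map ((Φ₂.mapHomologicalComplex cc).map φ)) =
      Q.map ((Φ₀.mapHomologicalComplex cc).map φ) ≫ mvA a₁ a₂ b₁ b₂ I hpb := by
  have h := (mvSCMap a₁ a₂ b₁ b₂ φ hpb' hpb).comm₁₂
  have h2 := mapBiprod_hom_naturality (Q : CochainComplex B ℤ ⥤ _)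
    ((Φ₁.mapHomologicalComplex cc).map φ) ((Φ₂.mapHomologicalComplex cc).map φ)
  dsimp only [mvA]
  rw [Category.assoc, ← h2, ← Category.assoc, ← Category.assoc, ← Q.map_comp, ← Q.map_comp]
  exact congrArg (fun t => Q.map t ≫ _) h.symm

theorem mvB_nat :
    mvB a₁ a₂ b₁ b₂ I' hpb' ≫ Q.map ((Φ₃.mapHomologicalComplex cc).map φ) =
      biprod.map (Q.map ((Φ₁.mapHomologicalComplex cc).map φ))
        (Q.map ((Φ₂.mapHomologicalComplex cc).map φ)) ≫ mvB a₁ a₂ b₁ b₂ I hpb := by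
  have h := (mvSCMap a₁ a₂ b₁ b₂ φ hpb' hpb).comm₂₃
  have h2 := mapBiprod_inv_naturality (Q : CochainComplex B ℤ ⥤ _)
    ((Φ₁.mapHomologicalComplex cc).map φ) ((Φ₂.mapHomologicalComplex cc).map φ)
  dsimp only [mvB]
  rw [Category.assoc, ← Q.map_comp, ← Category.assoc, ← h2, Category.assoc, ← Q.map_comp]
  exact congrArg (fun t => _ ≫ Q.map t) h.symm

theorem mvC_nat (hepi : ∀ n, Epi (b₁.app (I.X n))) (hepi' : ∀ n, Epi (b₁.app (I'.X n))) :
    mvC a₁ a₂ b₁ b₂ I' hpb' hepi' ≫ (Q.map ((Φ₀.mapHomologicalComplex cc).map φ))⟦(1 : ℤ)⟧' =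
      Q.map ((Φ₃.mapHomologicalComplex cc).map φ) ≫ mvC a₁ a₂ b₁ b₂ I hpb hepi :=
  triangleOfSESδ_naturality (mvSC_shortExact a₁ a₂ b₁ b₂ I' hpb' hepi')
    (mvSC_shortExact a₁ a₂ b₁ b₂ I hpb hepi) (mvSCMap a₁ a₂ b₁ b₂ φ hpb' hpb)

end General

end Groth.Agent.Lib.Helper5.FMVChain
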