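import Mathlib
import Groth.Prelude
import Groth.Agent.Lib.Helper2.QcohExt.HColim
import Groth.Agent.Lib.Helper7.MulSurj

/-!
# `H^p` of an arbitrary coproduct of modules on a qcqs scheme vanishes when each summand's does

ADD-only new file (helper5) for helper1's S1485 push, item (b).
-/

universe u

open CategoryTheory CategoryTheory.Limits AlgebraicGeometry Opposite

namespace Groth.Agent.Lib.Helper5.FibH1b

open Groth.Agent.Lib.Helper7.MulSurj Groth.Agent.Lib.Helper13.SerreCrit1 CoproductsFromFiniteFiltered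

section Fin

variable {X : Scheme.{u}}

/-- identity of a finite coproduct as the sum of `π ≫ ι`. -/
lemma id_eq_sum {κ : Type u} [Fintype κ] [DecidableEq κ] (N : κ → X.Modules) :
    𝟙 (∐ N) = ∑ k : κ, Sigma.π N k ≫ Sigma.ι N k := by
  apply Sigma.hom_ext
  intro j
  rw [Category.comp_id, Preadditive.comp_sum]
  rw [Finset.sum_eq_single j]
  · rw [Sigma.ι_π_eq_id_assoc]
  · intro k _ hk
    rw [Sigma.ι_π_of_ne_assoc N (Ne.symm hk), zero_comp]
  · intro hj
    exact absurd (Finset.mem_univ j) hj

lemma Hm_sum {M N : X.Modules} {κ : Type u} (s : Finset κ) (φ : κ → (M ⟶ N)) (j : ℕ)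
    (x : Coh.HH X M j) :
    Hm (∑ k ∈ s, φ k) j x = ∑ k ∈ s, Hm (φ k) j x := by
  classical
  induction s using Finset.induction_on with
  | empty =>
    simp only [Finset.sum_empty]
    have h := Hm_add (0 : M ⟶ N) 0 j x
    rw [add_zero] at h
    exact left_eq_add.mp h
  | insert a s ha ih =>
    rw [Finset.sum_insert ha, Finset.sum_insert ha, Hm_add, ih]

/-- finite coproducts. -/
theorem subsingleton_HH_fin {κ : Type u} [Fintype κ] (N : κ → X.Modules) (p : ℕ)
    (h : ∀ k, Subsingleton (Coh.HH X (N k) p)) :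
    Subsingleton (Coh.HH X (∐ N) p) := by
  classical
  refine subsingleton_of_forall_eq 0 fun x => ?_
  have h1 : x = Hm (𝟙 (∐ N)) p x := by
    unfold Hm
    rw [(TT X).map_id]
    exact (Sheaf.H.map_id_apply x).symm
  rw [h1, id_eq_sum N, Hm_sum]
  apply Finset.sum_eq_zero
  intro k _
  rw [Hm_comp]
  have : Hm (Sigma.π N k) p x = 0 := @Subsingleton.elim _ (h k) _ _
  rw [this, map_zero]

end Fin

theorem subsingleton_HH_sigma {X : Scheme.{u}} [CompactSpace X] [QuasiSeparatedSpace X]
    {J : Type u} (M : J → X.Modules) (p : ℕ) (h : ∀ j, Subsingleton (Coh.HH X (M j) p)) :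
    Subsingleton (Coh.HH X (∐ M) p) := by
  classical
  refine subsingleton_of_forall_eq 0 fun x => ?_
  obtain ⟨S, y, hy⟩ := Groth.Agent.Lib.Helper2.QcohExt.exists_rep_H
    (liftToFinsetObj (Discrete.functor M)) (finiteSubcoproductsCocone M)
    (isColimitFiniteSubproductsCocone M) p x
  have hS : Subsingleton (Coh.HH X ((liftToFinsetObj (Discrete.functor M)).obj S) p) :=
    subsingleton_HH_fin (fun x : {x // x ∈ S} => (Discrete.functor M).obj x.1) p
      (fun k => h k.1.as)
  rw [← hy, @Subsingleton.elim _ hS y 0]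
  exact (Hm ((finiteSubcoproductsCocone M).ι.app S) p).map_zero

end Groth.Agent.Lib.Helper5.FibH1b
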