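import Groth.Agent.Lib.Helper10.FilSingle

/-!
# Filtered injective resolutions of bounded below filtered complexes, part A (helper5)

Abstract refinement chases for a push-out step, and the push-out step in `Fil^f(A)`.
-/

set_option backward.isDefEq.respectTransparency false
set_option backward.isDefEq.respectTransparency.types false
set_option autoImplicit false

universe v u

open CategoryTheory CategoryTheory.Limits Opposite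

namespace Groth.Agent.Lib.Helper5.FilCx

open H10Fil

lemma mapc_eq {C D : Type*} [Category C] [Category D] (F : C ⥤ D) {X Y Z : C} {f : X ⟶ Y}
    {g : Y ⟶ Z} {h : X ⟶ Z} (w : f ≫ g = h) : F.map f ≫ F.map g = F.map h := by
  rw [← F.map_comp, w]

lemma mapc_zero {C D : Type*} [Category C] [Category D] [HasZeroMorphisms C] [HasZeroMorphisms D]
    (F : C ⥤ D) [F.PreservesZeroMorphisms] {X Y Z : C} {f : X ⟶ Y} {g : Y ⟶ Z}
    (w : f ≫ g = 0) : F.map f ≫ F.map g = 0 := by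
  rw [← F.map_comp, w, F.map_zero]

variable {A : Type u} [Category.{v} A] [Abelian A]

/-! ### abstract chases -/

/-- "`P1` is the push-out of `Im ⟵ Pm ⟶ X1`", in refinement form. -/
structure Sq {Pm Im X1 P1 : A} (u : Pm ⟶ Im) (δ : Pm ⟶ X1) (q : Im ⟶ P1) (ρ : X1 ⟶ P1) :
    Prop where
  gen : ∀ ⦃T : A⦄ (y : T ⟶ P1), ∃ (T' : A) (π : T' ⟶ T) (_ : Epi π) (z : T' ⟶ Im)
    (k : T' ⟶ X1), π ≫ y = z ≫ q + k ≫ ρ
  ker : ∀ ⦃T : A⦄ (z : T ⟶ Im) (k : T ⟶ X1), z ≫ q + k ≫ ρ = 0 →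
    ∃ (T' : A) (π : T' ⟶ T) (_ : Epi π) (y : T' ⟶ Pm), π ≫ z = y ≫ u ∧ π ≫ k = -(y ≫ δ)

lemma sq_of_exact {Pm Im X1 B P1 : A} (u : Pm ⟶ Im) (δ : Pm ⟶ X1) (fst : B ⟶ Im) (snd : B ⟶ X1)
    (inl : Im ⟶ B) (inr : X1 ⟶ B)
    (h1 : inl ≫ fst = 𝟙 _) (h2 : inl ≫ snd = 0) (h3 : inr ≫ fst = 0) (h4 : inr ≫ snd = 𝟙 _)
    (tot : fst ≫ inl + snd ≫ inr = 𝟙 B)
    (f : Pm ⟶ B) (g : B ⟶ P1) (hf1 : f ≫ fst = u) (hf2 : f ≫ snd = -δ) (ex : RefEx f g) [Epi g]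
    (q : Im ⟶ P1) (ρ : X1 ⟶ P1) (hq : q = inl ≫ g) (hρ : ρ = inr ≫ g) : Sq u δ q ρ := by
  subst hq hρ
  constructor
  · intro T y
    obtain ⟨T', π, hπ, w, hw⟩ := surjective_up_to_refinements_of_epi g y
    refine ⟨T', π, hπ, w ≫ fst, w ≫ snd, ?_⟩
    rw [hw]
    calc w ≫ g = w ≫ (fst ≫ inl + snd ≫ inr) ≫ g := by rw [tot, Category.id_comp]
      _ = (w ≫ fst) ≫ inl ≫ g + (w ≫ snd) ≫ inr ≫ g := by
        simp only [Preadditive.add_comp, Preadditive.comp_add, Category.assoc]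
  · intro T z k h
    obtain ⟨T', π, hπ, y, hy⟩ := ex (z ≫ inl + k ≫ inr)
      (by rw [Preadditive.add_comp, Category.assoc, Category.assoc]; exact h)
    refine ⟨T', π, hπ, y, ?_, ?_⟩
    · have := congrArg (fun t => t ≫ fst) hy
      simp only [Category.assoc, Preadditive.add_comp, Preadditive.comp_add, h1, h3,
        Category.comp_id, comp_zero, add_zero, hf1] at this
      exact this
    · have := congrArg (fun t => t ≫ snd) hy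
      simp only [Category.assoc, Preadditive.add_comp, Preadditive.comp_add, h2, h4,
        Category.comp_id, comp_zero, zero_add, hf2, Preadditive.comp_neg] at this
      exact this

namespace Sq

variable {Pm Im X1 P1 : A} {u : Pm ⟶ Im} {δ : Pm ⟶ X1} {q : Im ⟶ P1} {ρ : X1 ⟶ P1}

lemma mono_ρ (s : Sq u δ q ρ) [Mono u] : Mono ρ := by
  rw [Preadditive.mono_iff_cancel_zero]
  intro T k hk
  obtain ⟨T', π, _, y, hy1, hy2⟩ := s.ker (0 : T ⟶ Im) k (by rw [zero_comp, zero_add, hk])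
  have hy : y = 0 := by rw [← cancel_mono u, zero_comp, ← hy1, comp_zero]
  rw [← cancel_epi π, hy2, hy, zero_comp, neg_zero, comp_zero]

lemma ker_q (s : Sq u δ q ρ) {I1 : A} (u1 : P1 ⟶ I1) [Mono u1] ⦃T : A⦄ (x : T ⟶ Im)
    (hx : x ≫ q ≫ u1 = 0) :
    ∃ (T' : A) (π : T' ⟶ T) (_ : Epi π) (y : T' ⟶ Pm), π ≫ x = y ≫ u ∧ y ≫ δ = 0 := by
  have e0 : x ≫ q = 0 := by rw [← cancel_mono u1, Category.assoc, hx, zero_comp]
  obtain ⟨T', π, hπ, y, hy1, hy2⟩ := s.ker x (0 : T ⟶ X1) (by rw [e0, zero_comp, add_zero])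
  refine ⟨T', π, hπ, y, hy1, ?_⟩
  rw [comp_zero] at hy2
  exact neg_eq_zero.1 hy2.symm

lemma gen_δ (s : Sq u δ q ρ) {X2 : A} (δ1 : P1 ⟶ X2) (d1 : X1 ⟶ X2) (h1 : ρ ≫ δ1 = d1)
    (h2 : q ≫ δ1 = 0) ⦃T : A⦄ (y : T ⟶ P1) :
    ∃ (T' : A) (π : T' ⟶ T) (_ : Epi π) (k : T' ⟶ X1), π ≫ y ≫ δ1 = k ≫ d1 := by
  obtain ⟨T', π, hπ, z, k, hzk⟩ := s.gen y
  refine ⟨T', π, hπ, k, ?_⟩
  rw [← Category.assoc, hzk, Preadditive.add_comp, Category.assoc, Category.assoc, h2, h1,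
    comp_zero, zero_add]

end Sq

lemma epi_chase {Pp Ip X0 P0 I0 X1 P1 I1 : A} {up : Pp ⟶ Ip} {δp : Pp ⟶ X0} {qp : Ip ⟶ P0}
    {ρ0 : X0 ⟶ P0} {u0 : P0 ⟶ I0} {δ0 : P0 ⟶ X1} {q0 : I0 ⟶ P1} {ρ1 : X1 ⟶ P1}
    (u1 : P1 ⟶ I1) [Mono u1]
    (sp : Sq up δp qp ρ0) (s0 : Sq u0 δ0 q0 ρ1) (d0 : X0 ⟶ X1) (h1 : ρ0 ≫ δ0 = d0)
    (h2 : qp ≫ δ0 = 0) ⦃T : A⦄ (y₂ : T ⟶ I0) (hy : y₂ ≫ q0 ≫ u1 = 0) :
    ∃ (T' : A) (π : T' ⟶ T) (_ : Epi π) (x₂ : T' ⟶ X0) (_ : x₂ ≫ d0 = 0) (y₁ : T' ⟶ Ip),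
      π ≫ y₂ = x₂ ≫ ρ0 ≫ u0 + y₁ ≫ qp ≫ u0 := by
  obtain ⟨T1, π1, _, y, hy1, hy2⟩ := s0.ker_q u1 y₂ hy
  obtain ⟨T2, π2, _, z, k, hzk⟩ := sp.gen y
  have e2 : k ≫ d0 = 0 := by
    have h := congrArg (fun t => t ≫ δ0) hzk
    simp only [Category.assoc, Preadditive.add_comp, hy2, comp_zero, h2, h1, zero_add] at h
    exact h.symm
  refine ⟨T2, π2 ≫ π1, inferInstance, k, e2, z, ?_⟩
  calc (π2 ≫ π1) ≫ y₂ = π2 ≫ y ≫ u0 := by rw [Category.assoc, hy1]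
    _ = (z ≫ qp + k ≫ ρ0) ≫ u0 := by rw [← Category.assoc, hzk]
    _ = k ≫ ρ0 ≫ u0 + z ≫ qp ≫ u0 := by
      rw [Preadditive.add_comp, Category.assoc, Category.assoc, add_comm]

lemma mono_chase {Pp Ip Xp X0 P0 I0 : A} {up : Pp ⟶ Ip} {δp : Pp ⟶ X0} {qp : Ip ⟶ P0}
    {ρ0 : X0 ⟶ P0} (u0 : P0 ⟶ I0) [Mono u0] (sp : Sq up δp qp ρ0) (dp : Xp ⟶ X0)
    (G : ∀ ⦃T : A⦄ (y : T ⟶ Pp), ∃ (T' : A) (π : T' ⟶ T) (_ : Epi π) (k : T' ⟶ Xp),
      π ≫ y ≫ δp = k ≫ dp)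
    ⦃T : A⦄ (x₂ : T ⟶ X0) (y₁ : T ⟶ Ip) (h : x₂ ≫ ρ0 ≫ u0 = y₁ ≫ qp ≫ u0) :
    ∃ (T' : A) (π : T' ⟶ T) (_ : Epi π) (x₁ : T' ⟶ Xp), π ≫ x₂ = x₁ ≫ dp := by
  have e0 : (-y₁) ≫ qp + x₂ ≫ ρ0 = 0 := by
    rw [← cancel_mono u0, zero_comp]
    simp only [Preadditive.add_comp, Preadditive.neg_comp, Category.assoc, h, neg_add_cancel]
  obtain ⟨T1, π1, _, y, -, hy2⟩ := sp.ker (-y₁) x₂ e0
  obtain ⟨T2, π2, _, k', hk'⟩ := G y
  refine ⟨T2, π2 ≫ π1, inferInstance, -k', ?_⟩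
  rw [Category.assoc, hy2, Preadditive.comp_neg, hk', Preadditive.neg_comp]

lemma quasiIsoAt_of_chases {K L : CochainComplex A ℤ} (φ : K ⟶ L) (i j k : ℤ)
    (hi : (ComplexShape.up ℤ).prev j = i) (hk : (ComplexShape.up ℤ).next j = k)
    (hm : ∀ ⦃T : A⦄ (x₂ : T ⟶ K.X j) (_ : x₂ ≫ K.d j k = 0) (y₁ : T ⟶ L.X i)
      (_ : x₂ ≫ φ.f j = y₁ ≫ L.d i j),
      ∃ (T' : A) (π : T' ⟶ T) (_ : Epi π) (x₁ : T' ⟶ K.X i), π ≫ x₂ = x₁ ≫ K.d i j)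
    (he : ∀ ⦃T : A⦄ (y₂ : T ⟶ L.X j) (_ : y₂ ≫ L.d j k = 0),
      ∃ (T' : A) (π : T' ⟶ T) (_ : Epi π) (x₂ : T' ⟶ K.X j) (_ : x₂ ≫ K.d j k = 0)
        (y₁ : T' ⟶ L.X i), π ≫ y₂ = x₂ ≫ φ.f j + y₁ ≫ L.d i j) : QuasiIsoAt φ j := by
  rw [quasiIsoAt_iff_isIso_homologyMap]
  haveI : Mono (HomologicalComplex.homologyMap φ j) :=
    (HomologicalComplex.mono_homologyMap_iff_up_to_refinements φ i j k hi hk).2 hm
  haveI : Epi (HomologicalComplex.homologyMap φ j) :=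
    (HomologicalComplex.epi_homologyMap_iff_up_to_refinements φ i j k hi hk).2 he
  exact isIso_of_mono_of_epi _

lemma quasiIsoAt_of_isZero {K L : CochainComplex A ℤ} (φ : K ⟶ L) (j : ℤ) (hK : IsZero (K.X j))
    (hL : IsZero (L.X j)) : QuasiIsoAt φ j := by
  rw [quasiIsoAt_iff_exactAt φ j (exactAt_of_isZero j hK)]
  exact exactAt_of_isZero j hL

/-! ### strictness through graded pieces -/

lemma strict_of_gr_mono {X Y : FilD.FilF A} (φ : X ⟶ Y)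
    (h : ∀ p : ℤ, Mono ((FilD.grF A p).map φ)) :
    (∀ p : ℤ, Mono (φ.hom.app (op p))) ∧ FilD.IsStrict φ := by
  let S : ShortComplex (FilD.FilF A) := ShortComplex.mk (0 : X ⟶ X) φ zero_comp
  have hS : ∀ p : ℤ, (S.map (FilD.grF A p)).Exact := by
    intro p
    rw [ShortComplex.exact_iff_mono _ ((FilD.grF A p).map_zero X X)]
    exact h p
  obtain ⟨h1, -, h3⟩ := S1085_main S hS
  refine ⟨fun p => ?_, h3⟩
  have h2 := h1 p
  rw [ShortComplex.exact_iff_mono _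
    (((FilD.IsFinFil A).ι ⋙ (evaluation ℤᵒᵖ A).obj (op p)).map_zero X X)] at h2
  exact h2

lemma mono_strict_iso_comp {X X' Y : FilD.FilF A} (e : X ⟶ X') [IsIso e] (ψ : X' ⟶ Y)
    (h : Mono ψ ∧ FilD.IsStrict ψ) : Mono (e ≫ ψ) ∧ FilD.IsStrict (e ≫ ψ) := by
  haveI := h.1
  refine ⟨mono_comp _ _, ?_⟩
  rw [isStrict_iff_str]
  have hs := (isStrict_iff_str ψ).1 h.2
  intro p q hpq T y x hyx
  obtain ⟨T', π, hπ, x', hx'⟩ := hs p q hpq y (x ≫ e.hom.app (op p))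
    (by rw [Category.assoc]; exact hyx)
  have hinv : (inv e).hom.app (op q) ≫ e.hom.app (op q) = 𝟙 _ :=
    congrArg (fun t => t.hom.app (op q)) (IsIso.inv_hom_id e)
  refine ⟨T', π, hπ, x' ≫ (inv e).hom.app (op q), ?_⟩
  rw [hx']
  show x' ≫ ψ.hom.app (op q) =
    (x' ≫ (inv e).hom.app (op q)) ≫ e.hom.app (op q) ≫ ψ.hom.app (op q)
  rw [Category.assoc, reassoc_of% hinv]

/-! ### the push-out step -/

section Step

variable [EnoughInjectives A] {P X' : FilD.FilF A} (δ : P ⟶ X')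

/-- `P ⟶ emb P ⊞ X'`, `x ↦ (u x, -δ x)`. -/
noncomputable def pF : P ⟶ emb P ⊞ X' := biprod.lift (embU P) (-δ)

lemma pF_fst : pF δ ≫ biprod.fst = embU P := biprod.lift_fst _ _

lemma pF_snd : pF δ ≫ biprod.snd = -δ := biprod.lift_snd _ _

lemma pF_gr_mono (p : ℤ) : Mono ((FilD.grF A p).map (pF δ)) := by
  haveI := (emb_gr P p).1
  exact mono_of_mono_fac (mapc_eq (FilD.grF A p) (pF_fst δ))

lemma pF_spec : (∀ p : ℤ, Mono ((pF δ).hom.app (op p))) ∧ FilD.IsStrict (pF δ) :=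
  strict_of_gr_mono _ (pF_gr_mono δ)

/-- the push-out of `emb P ⟵ P ⟶ X'`. -/
noncomputable def pP : FilD.FilF A :=
  ⟨cokernel (pF δ).hom, isFinFil_cokernel (pF δ) ((isStrict_iff_str _).1 (pF_spec δ).2)⟩

/-- the projection `emb P ⊞ X' ⟶ pP`. -/
noncomputable def pG : emb P ⊞ X' ⟶ pP δ := ObjectProperty.homMk (cokernel.π (pF δ).hom)

lemma pF_G : pF δ ≫ pG δ = 0 := by
  ext : 1
  exact cokernel.condition (pF δ).hom

/-- `emb P ⟶ pP`. -/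
noncomputable def pq : emb P ⟶ pP δ := biprod.inl ≫ pG δ

/-- `X' ⟶ pP`. -/
noncomputable def pρ : X' ⟶ pP δ := biprod.inr ≫ pG δ

lemma p_rel : embU P ≫ pq δ = δ ≫ pρ δ := by
  have h := pF_G δ
  have e : pF δ = embU P ≫ biprod.inl + (-δ) ≫ biprod.inr := biprod.lift_eq
  rw [e, Preadditive.add_comp, Category.assoc, Category.assoc, Preadditive.neg_comp,
    ← sub_eq_add_neg, sub_eq_zero] at h
  exact h

lemma epi_pG : Epi (pG δ) := epi_of_epi_app _ (fun p => epi_coker_app (pF δ).hom (op p))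

lemma p_gr (p : ℤ) : Mono ((FilD.grF A p).map (pF δ)) ∧
    RefEx ((FilD.grF A p).map (pF δ)) ((FilD.grF A p).map (pG δ)) ∧
    Epi ((FilD.grF A p).map (pG δ)) :=
  gr_shortExact (ShortComplex.mk (pF δ) (pG δ) (pF_G δ))
    (fun q => levelCoker (pF δ).hom (op q)) (fun q => (pF_spec δ).1 q)
    (fun q => epi_coker_app (pF δ).hom (op q)) p

lemma sq_step (p : ℤ) : Sq ((FilD.grF A p).map (embU P)) ((FilD.grF A p).map δ)
    ((FilD.grF A p).map (pq δ)) ((FilD.grF A p).map (pρ δ)) := by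
  obtain ⟨_, hex, hepi⟩ := p_gr δ p
  haveI := hepi
  exact sq_of_exact _ _ ((FilD.grF A p).map biprod.fst) ((FilD.grF A p).map biprod.snd)
    ((FilD.grF A p).map biprod.inl) ((FilD.grF A p).map biprod.inr)
    (by rw [← CategoryTheory.Functor.map_comp, biprod.inl_fst, CategoryTheory.Functor.map_id])
    (mapc_zero _ biprod.inl_snd) (mapc_zero _ biprod.inr_fst)
    (by rw [← CategoryTheory.Functor.map_comp, biprod.inr_snd, CategoryTheory.Functor.map_id])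
    (by rw [← CategoryTheory.Functor.map_comp, ← CategoryTheory.Functor.map_comp,
      ← CategoryTheory.Functor.map_add, biprod.total, CategoryTheory.Functor.map_id])
    ((FilD.grF A p).map (pF δ)) ((FilD.grF A p).map (pG δ))
    (mapc_eq _ (pF_fst δ))
    (by rw [← CategoryTheory.Functor.map_comp, pF_snd, CategoryTheory.Functor.map_neg]) hex
    _ _ ((FilD.grF A p).map_comp _ _) ((FilD.grF A p).map_comp _ _)

variable {X'' : FilD.FilF A} (d' : X' ⟶ X'') (hδ : δ ≫ d' = 0)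

include hδ in
lemma pF_snd_d : pF δ ≫ biprod.snd ≫ d' = 0 := by
  rw [← Category.assoc, pF_snd, Preadditive.neg_comp, hδ, neg_zero]

/-- `pP ⟶ X''` induced by `0` on `emb P` and `d'` on `X'`. -/
noncomputable def pδ : pP δ ⟶ X'' :=
  ObjectProperty.homMk (cokernel.desc (pF δ).hom (biprod.snd ≫ d').hom
    (congrArg (fun t => t.hom) (pF_snd_d δ d' hδ)))

lemma pG_δ : pG δ ≫ pδ δ d' hδ = biprod.snd ≫ d' := by
  ext : 1
  exact cokernel.π_desc _ _ _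

lemma pq_δ : pq δ ≫ pδ δ d' hδ = 0 := by
  unfold pq
  rw [Category.assoc, pG_δ, biprod.inl_snd_assoc, zero_comp]

lemma pρ_δ : pρ δ ≫ pδ δ d' hδ = d' := by
  unfold pρ
  rw [Category.assoc, pG_δ, biprod.inr_snd_assoc]

lemma pδ_comp {X''' : FilD.FilF A} (d'' : X'' ⟶ X''') (h : d' ≫ d'' = 0) :
    pδ δ d' hδ ≫ d'' = 0 := by
  haveI := epi_pG δ
  rw [← cancel_epi (pG δ), ← Category.assoc, pG_δ, Category.assoc, h, comp_zero, comp_zero]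

end Step

end Groth.Agent.Lib.Helper5.FilCx
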