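import Groth.Agent.Lib.Helper5.FilCxA

/-!
# Filtered injective resolutions of bounded below filtered complexes, part B (helper5)

The recursion, the resolution for complexes in degrees `≥ 0`, and the general case by shifting.
-/

set_option backward.isDefEq.respectTransparency false
set_option backward.isDefEq.respectTransparency.types false
set_option autoImplicit false

universe v u

open CategoryTheory CategoryTheory.Limits Opposite

namespace Groth.Agent.Lib.Helper5.FilCx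

open H10Fil

variable {A : Type u} [Category.{v} A] [Abelian A] [EnoughInjectives A]

/-- the state of the recursion in degree `m`: the current degree-`m` object `P`, receiving
`K^m` and mapping to `K^{m+1}`. -/
structure RSt (K : CochainComplex (FilD.FilF A) ℤ) (m : ℕ) where
  P : FilD.FilF A
  ρ : K.X (Int.ofNat m) ⟶ P
  δ : P ⟶ K.X (Int.ofNat (m + 1))
  hρ : ρ ≫ δ = K.d (Int.ofNat m) (Int.ofNat (m + 1))
  hδ : δ ≫ K.d (Int.ofNat (m + 1)) (Int.ofNat (m + 1 + 1)) = 0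

/-- the next state. -/
noncomputable def RSt.next {K : CochainComplex (FilD.FilF A) ℤ} {m : ℕ} (s : RSt K m) :
    RSt K (m + 1) where
  P := pP s.δ
  ρ := pρ s.δ
  δ := pδ s.δ (K.d (Int.ofNat (m + 1)) (Int.ofNat (m + 1 + 1))) s.hδ
  hρ := pρ_δ s.δ _ s.hδ
  hδ := pδ_comp s.δ _ s.hδ (K.d (Int.ofNat (m + 1 + 1)) (Int.ofNat (m + 1 + 1 + 1)))
    (K.d_comp_d _ _ _)

/-- the recursion. -/
noncomputable def rst (K : CochainComplex (FilD.FilF A) ℤ) : (m : ℕ) → RSt K m
  | 0 =>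
    { P := K.X (Int.ofNat 0)
      ρ := 𝟙 _
      δ := K.d (Int.ofNat 0) (Int.ofNat (0 + 1))
      hρ := Category.id_comp _
      hδ := K.d_comp_d _ _ _ }
  | m + 1 => (rst K m).next

variable (K : CochainComplex (FilD.FilF A) ℤ)

/-- the terms of the resolution. -/
noncomputable def rI (m : ℕ) : FilD.FilF A := emb (rst K m).P

/-- the differentials of the resolution. -/
noncomputable def rD (m : ℕ) : rI K m ⟶ rI K (m + 1) :=
  pq (rst K m).δ ≫ embU (rst K (m + 1)).P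

lemma rD_sq (m : ℕ) : rD K m ≫ rD K (m + 1) = 0 := by
  show (pq (rst K m).δ ≫ embU (rst K (m + 1)).P) ≫
    (pq (rst K (m + 1)).δ ≫ embU (rst K (m + 1 + 1)).P) = 0
  have h : pq (rst K m).δ ≫ (rst K (m + 1)).δ = 0 := pq_δ (rst K m).δ _ (rst K m).hδ
  rw [Category.assoc, ← Category.assoc (embU (rst K (m + 1)).P), p_rel, Category.assoc,
    reassoc_of% h, zero_comp]

/-- the resolution. -/
noncomputable def resI : CochainComplex (FilD.FilF A) ℤ := natZ (rI K) (rD K) (rD_sq K)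

instance : (resI K).IsStrictlyGE 0 := by
  unfold resI
  infer_instance

lemma resI_inj : ∀ n : ℤ, FilD.IsFilteredInjective ((resI K).X n)
  | Int.ofNat m => (emb_spec (rst K m).P).1
  | Int.negSucc _ => isFilteredInjective_of_isZero (isZero_zero _)

/-- the components of the comparison map. -/
noncomputable def rf : ∀ n : ℤ, K.X n ⟶ obZ (rI K) n
  | Int.ofNat m => (rst K m).ρ ≫ embU (rst K m).P
  | Int.negSucc _ => 0

lemma rf_comm (m : ℕ) : ((rst K m).ρ ≫ embU (rst K m).P) ≫ rD K m =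
    K.d (Int.ofNat m) (Int.ofNat (m + 1)) ≫ ((rst K (m + 1)).ρ ≫ embU (rst K (m + 1)).P) := by
  show ((rst K m).ρ ≫ embU (rst K m).P) ≫ (pq (rst K m).δ ≫ embU (rst K (m + 1)).P) = _
  rw [Category.assoc, ← Category.assoc (embU (rst K m).P), p_rel, ← (rst K m).hρ]
  simp only [Category.assoc]
  rfl

/-- the comparison map. -/
noncomputable def resφ [K.IsStrictlyGE 0] : K ⟶ resI K where
  f := rf K
  comm' := by
    intro i j hij
    obtain rfl : i + 1 = j := hij
    cases i with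
    | ofNat m =>
      show ((rst K m).ρ ≫ embU (rst K m).P) ≫
        (natZ (rI K) (rD K) (rD_sq K)).d (Int.ofNat m) (Int.ofNat (m + 1)) =
        K.d (Int.ofNat m) (Int.ofNat (m + 1)) ≫ ((rst K (m + 1)).ρ ≫ embU (rst K (m + 1)).P)
      rw [natZ_d]
      exact rf_comm K m
    | negSucc m =>
      exact (K.isZero_of_isStrictlyGE 0 _ (Int.negSucc_lt_zero m)).eq_of_src _ _

lemma gr_mono_ρ (p : ℤ) : ∀ m : ℕ, Mono ((FilD.grF A p).map (rst K m).ρ)
  | 0 => by
    show Mono ((FilD.grF A p).map (𝟙 (K.X (Int.ofNat 0))))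
    rw [CategoryTheory.Functor.map_id]
    infer_instance
  | m + 1 => by
    haveI := (emb_gr (rst K m).P p).1
    exact (sq_step (rst K m).δ p).mono_ρ

lemma gr_mono_φ [K.IsStrictlyGE 0] (p : ℤ) :
    ∀ n : ℤ, Mono ((FilD.grF A p).map ((resφ K).f n))
  | Int.ofNat m => by
    haveI := gr_mono_ρ K p m
    haveI := (emb_gr (rst K m).P p).1
    show Mono ((FilD.grF A p).map ((rst K m).ρ ≫ embU (rst K m).P))
    rw [CategoryTheory.Functor.map_comp]
    infer_instance
  | Int.negSucc m =>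
    ⟨fun g h _ => ((FilD.grF A p).map_isZero
      (K.isZero_of_isStrictlyGE 0 _ (Int.negSucc_lt_zero m))).eq_of_tgt g h⟩

lemma resφ_strict [K.IsStrictlyGE 0] (n : ℤ) :
    Mono ((resφ K).f n) ∧ FilD.IsStrict ((resφ K).f n) := by
  obtain ⟨h1, h2⟩ := strict_of_gr_mono ((resφ K).f n) (fun p => gr_mono_φ K p n)
  exact ⟨mono_of_mono_app _ h1, h2⟩

lemma rG (p : ℤ) : ∀ (m : ℕ) ⦃T : A⦄ (y : T ⟶ (FilD.grF A p).obj (rst K m).P),
    ∃ (T' : A) (π : T' ⟶ T) (_ : Epi π) (k : T' ⟶ (FilD.grF A p).obj (K.X (Int.ofNat m))),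
      π ≫ y ≫ (FilD.grF A p).map (rst K m).δ =
        k ≫ (FilD.grF A p).map (K.d (Int.ofNat m) (Int.ofNat (m + 1)))
  | 0 => fun T y => ⟨T, 𝟙 T, inferInstance, y, Category.id_comp _⟩
  | m + 1 => fun _ y =>
    (sq_step (rst K m).δ p).gen_δ ((FilD.grF A p).map (rst K (m + 1)).δ)
      ((FilD.grF A p).map (K.d (Int.ofNat (m + 1)) (Int.ofNat (m + 1 + 1))))
      (mapc_eq _ (rst K (m + 1)).hρ) (mapc_zero _ (pq_δ (rst K m).δ _ (rst K m).hδ)) y

lemma gr_φ_f [K.IsStrictlyGE 0] (p : ℤ) (j : ℕ) :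
    ((FilD.grCx p).map (resφ K)).f (Int.ofNat j) =
      (FilD.grF A p).map (rst K j).ρ ≫ (FilD.grF A p).map (embU (rst K j).P) :=
  (FilD.grF A p).map_comp _ _

lemma gr_I_d (p : ℤ) (j : ℕ) :
    ((FilD.grCx p).obj (resI K)).d (Int.ofNat j) (Int.ofNat (j + 1)) =
      (FilD.grF A p).map (pq (rst K j).δ) ≫ (FilD.grF A p).map (embU (rst K (j + 1)).P) := by
  show (FilD.grF A p).map ((natZ (rI K) (rD K) (rD_sq K)).d (Int.ofNat j) (Int.ofNat (j + 1))) = _
  rw [natZ_d]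
  exact (FilD.grF A p).map_comp _ _

lemma resφ_quasiIso [K.IsStrictlyGE 0] : FilD.IsFilteredQuasiIso (resφ K) := by
  intro p
  rw [quasiIso_iff]
  intro n
  cases n with
  | negSucc m =>
    exact quasiIsoAt_of_isZero _ _
      ((FilD.grF A p).map_isZero (K.isZero_of_isStrictlyGE 0 _ (Int.negSucc_lt_zero m)))
      ((FilD.grF A p).map_isZero (isZero_zero _))
  | ofNat k =>
    cases k with
    | zero =>
      haveI := (emb_gr (rst K 0).P p).1
      haveI := (emb_gr (rst K (0 + 1)).P p).1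
      refine quasiIsoAt_of_chases _ (Int.negSucc 0) (Int.ofNat 0) (Int.ofNat (0 + 1))
        ((ComplexShape.up ℤ).prev_eq' (show Int.negSucc 0 + 1 = Int.ofNat 0 from rfl))
        ((ComplexShape.up ℤ).next_eq' rfl) ?_ ?_
      · intro T x₂ _ y₁ hy₁
        have hz : IsZero (((FilD.grCx p).obj (resI K)).X (Int.negSucc 0)) :=
          (FilD.grF A p).map_isZero (isZero_zero _)
        rw [hz.eq_of_tgt y₁ 0, zero_comp, gr_φ_f] at hy₁
        haveI := gr_mono_ρ K p 0
        haveI : Mono ((FilD.grF A p).map (rst K 0).ρ ≫ (FilD.grF A p).map (embU (rst K 0).P)) :=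
          mono_comp _ _
        have hx : x₂ = 0 := by
          rw [← cancel_mono ((FilD.grF A p).map (rst K 0).ρ ≫
            (FilD.grF A p).map (embU (rst K 0).P)), hy₁, zero_comp]
        exact ⟨T, 𝟙 T, inferInstance, 0, by rw [hx, comp_zero, zero_comp]⟩
      · intro T y₂ hy₂
        rw [gr_I_d] at hy₂
        obtain ⟨T', π, hπ, y, hy1, hy2⟩ := (sq_step (rst K 0).δ p).ker_q
          ((FilD.grF A p).map (embU (rst K (0 + 1)).P)) y₂ hy₂
        refine ⟨T', π, hπ, y, hy2, 0, ?_⟩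
        rw [zero_comp, add_zero, gr_φ_f, hy1]
        show y ≫ _ = y ≫ (FilD.grF A p).map (𝟙 _) ≫ _
        rw [CategoryTheory.Functor.map_id, Category.id_comp]
    | succ m =>
      haveI := (emb_gr (rst K (m + 1)).P p).1
      haveI := (emb_gr (rst K (m + 1 + 1)).P p).1
      refine quasiIsoAt_of_chases _ (Int.ofNat m) (Int.ofNat (m + 1)) (Int.ofNat (m + 1 + 1))
        ((ComplexShape.up ℤ).prev_eq' rfl) ((ComplexShape.up ℤ).next_eq' rfl) ?_ ?_
      · intro T x₂ _ y₁ hy₁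
        rw [gr_φ_f, gr_I_d] at hy₁
        exact mono_chase _ (sq_step (rst K m).δ p)
          ((FilD.grF A p).map (K.d (Int.ofNat m) (Int.ofNat (m + 1)))) (rG K p m) x₂ y₁ hy₁
      · intro T y₂ hy₂
        rw [gr_I_d] at hy₂
        obtain ⟨T', π, hπ, x₂, hx₂, y₁, h⟩ :=
          epi_chase ((FilD.grF A p).map (embU (rst K (m + 1 + 1)).P))
            (sq_step (rst K m).δ p) (sq_step (rst K (m + 1)).δ p)
            ((FilD.grF A p).map (K.d (Int.ofNat (m + 1)) (Int.ofNat (m + 1 + 1))))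
            (mapc_eq _ (rst K (m + 1)).hρ) (mapc_zero _ (pq_δ (rst K m).δ _ (rst K m).hδ))
            y₂ hy₂
        refine ⟨T', π, hπ, x₂, hx₂, y₁, ?_⟩
        rw [gr_φ_f, gr_I_d]
        exact h

theorem main0 [K.IsStrictlyGE 0] :
    ∃ (I : CochainComplex (FilD.FilF A) ℤ) (φ : K ⟶ I), I.IsStrictlyGE 0 ∧
      (∀ n, FilD.IsFilteredInjective (I.X n)) ∧ FilD.IsFilteredQuasiIso φ ∧
      ∀ n, Mono (φ.f n) ∧ FilD.IsStrict (φ.f n) :=
  ⟨resI K, resφ K, inferInstance, resI_inj K, resφ_quasiIso K, resφ_strict K⟩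

theorem main (a : ℤ) [K.IsStrictlyGE a] :
    ∃ (I : CochainComplex (FilD.FilF A) ℤ) (a' : ℤ) (φ : K ⟶ I), I.IsStrictlyGE a' ∧
      (∀ n, FilD.IsFilteredInjective (I.X n)) ∧ FilD.IsFilteredQuasiIso φ ∧
      ∀ n, Mono (φ.f n) ∧ FilD.IsStrict (φ.f n) := by
  haveI : (K⟦a⟧).IsStrictlyGE 0 := CochainComplex.isStrictlyGE_shift K a a 0 (by omega)
  obtain ⟨I0, φ0, h1, h2, h3, h4⟩ := main0 (K⟦a⟧)
  haveI := h1
  let e := shiftFunctorCompIsoId (CochainComplex (FilD.FilF A) ℤ) a (-a) (add_neg_cancel a)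
  refine ⟨I0⟦-a⟧, a, e.inv.app K ≫ φ0⟦-a⟧',
    CochainComplex.isStrictlyGE_shift I0 0 (-a) a (by omega), fun n => h2 (n + -a), ?_, ?_⟩
  · intro p
    haveI : QuasiIso ((FilD.grCx p).map φ0) := h3 p
    let c := (FilD.grCx (A := A) p).commShiftIso (-a)
    have nat : (FilD.grCx p).map (φ0⟦-a⟧') ≫ c.hom.app I0 =
        c.hom.app (K⟦a⟧) ≫ ((FilD.grCx p).map φ0)⟦-a⟧' := c.hom.naturality φ0
    have e1 : (FilD.grCx p).map (φ0⟦-a⟧') =
        c.hom.app (K⟦a⟧) ≫ ((FilD.grCx p).map φ0)⟦-a⟧' ≫ c.inv.app I0 := by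
      rw [← Category.assoc]
      exact (Iso.eq_comp_inv (c.app I0)).2 nat
    show QuasiIso ((FilD.grCx p).map (e.inv.app K ≫ φ0⟦-a⟧'))
    rw [CategoryTheory.Functor.map_comp, e1]
    infer_instance
  · intro n
    haveI : IsIso ((e.inv.app K).f n) :=
      inferInstanceAs (IsIso ((HomologicalComplex.eval _ _ n).map (e.inv.app K)))
    exact mono_strict_iso_comp ((e.inv.app K).f n) (φ0.f (n + -a)) (h4 (n + -a))

end Groth.Agent.Lib.Helper5.FilCx
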