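import Mathlib

open CategoryTheory

universe v u w

namespace Groth.Agent.Lib.Helper5.FinGen

variable {I : Type u} {G : Type w}

def Valid (src tgt : G → I) : I ⊕ G → I ⊕ G → Option (G × Bool) → Prop
  | X, Y, none => X = Y
  | X, Y, some (a, false) => X = Sum.inr a ∧ Y = Sum.inl (src a)
  | X, Y, some (a, true) => X = Sum.inr a ∧ Y = Sum.inl (tgt a)

lemma valid_comp (src tgt : G → I) {X Y Z : I ⊕ G} {m n : Option (G × Bool)}
    (hm : Valid src tgt X Y m) (hn : Valid src tgt Y Z n) :
    Valid src tgt X Z (m <|> n) := by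
  rcases m with _ | ⟨a, _ | _⟩
  · obtain rfl : X = Y := hm
    simpa using hn
  · obtain ⟨rfl, rfl⟩ := hm
    rcases n with _ | ⟨b, _ | _⟩
    · obtain rfl : _ = Z := hn
      exact ⟨rfl, rfl⟩
    · exact absurd hn.1 (by simp)
    · exact absurd hn.1 (by simp)
  · obtain ⟨rfl, rfl⟩ := hm
    rcases n with _ | ⟨b, _ | _⟩
    · obtain rfl : _ = Z := hn
      exact ⟨rfl, rfl⟩
    · exact absurd hn.1 (by simp)
    · exact absurd hn.1 (by simp)

variable [Category.{v} I]

/-- objects of the finite "subdivision" category -/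
@[nolint unusedArguments]
def Ob (src tgt : G → I) (_ : ∀ a, src a ⟶ tgt a) : Type (max u w) := I ⊕ G

variable (src tgt : G → I) (arr : ∀ a, src a ⟶ tgt a)

instance : Category.{w} (Ob src tgt arr) where
  Hom X Y := {m : Option (G × Bool) // Valid src tgt X Y m}
  id X := ⟨none, rfl⟩
  comp f g := ⟨f.1 <|> g.1, valid_comp src tgt f.2 g.2⟩
  id_comp f := Subtype.ext (by simp)
  comp_id f := Subtype.ext (by simp)
  assoc f g h := Subtype.ext (by
    rcases f with ⟨_ | f, hf⟩ <;> simp)

variable {src tgt arr}

abbrev pt (x : I) : Ob src tgt arr := Sum.inl x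
abbrev ar (a : G) : Ob src tgt arr := Sum.inr a

def sMap (a : G) : (ar a : Ob src tgt arr) ⟶ pt (src a) := ⟨some (a, false), ⟨rfl, rfl⟩⟩
def tMap (a : G) : (ar a : Ob src tgt arr) ⟶ pt (tgt a) := ⟨some (a, true), ⟨rfl, rfl⟩⟩

variable (src tgt arr)

def obj : Ob src tgt arr → I := Sum.elim id src

def map : ∀ {X Y : Ob src tgt arr} (m : Option (G × Bool)), Valid src tgt X Y m →
    (obj src tgt arr X ⟶ obj src tgt arr Y)
  | _, _, none, h => eqToHom (congrArg _ h)
  | _, _, some (a, false), h => eqToHom (by rw [h.1, h.2]; rfl)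
  | _, _, some (a, true), h => eqToHom (by rw [h.1]; rfl) ≫ arr a ≫ eqToHom (by rw [h.2]; rfl)

def fn : Ob src tgt arr ⥤ I where
  obj := obj src tgt arr
  map f := map src tgt arr f.1 f.2
  map_id X := by simp [map]; rfl
  map_comp := by
    rintro X Y Z ⟨m, hm⟩ ⟨n, hn⟩
    show map src tgt arr (m <|> n) _ = map src tgt arr m _ ≫ map src tgt arr n _
    rcases m with _ | ⟨a, _ | _⟩
    · obtain rfl : X = Y := hm
      simp [map]
    · obtain ⟨rfl, rfl⟩ := hm
      rcases n with _ | ⟨b, _ | _⟩
      · obtain rfl : _ = Z := hn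
        simp [map]
      · exact absurd hn.1 (by simp)
      · exact absurd hn.1 (by simp)
    · obtain ⟨rfl, rfl⟩ := hm
      rcases n with _ | ⟨b, _ | _⟩
      · obtain rfl : _ = Z := hn
        simp [map]
      · exact absurd hn.1 (by simp)
      · exact absurd hn.1 (by simp)


@[simp] lemma fn_obj_pt (x : I) : (fn src tgt arr).obj (pt x) = x := rfl
@[simp] lemma fn_obj_ar (a : G) : (fn src tgt arr).obj (ar a) = src a := rfl
@[simp] lemma fn_map_sMap (a : G) : (fn src tgt arr).map (sMap a) = 𝟙 (src a) := rfl
@[simp] lemma fn_map_tMap (a : G) : (fn src tgt arr).map (tMap a) = arr a := by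
  show eqToHom _ ≫ arr a ≫ eqToHom _ = arr a
  simp

instance [Finite I] [Finite G] : Finite (Ob src tgt arr) := inferInstanceAs (Finite (I ⊕ G))

instance [Finite G] (X Y : Ob src tgt arr) : Finite (X ⟶ Y) :=
  inferInstanceAs (Finite {m : Option (G × Bool) // Valid src tgt X Y m})

section Final

variable (hgen : ∀ P : MorphismProperty I, P.IsMultiplicative → (∀ a, P (arr a)) → P = ⊤)

omit hgen in
lemma zig_congr {i : I} {X : Ob src tgt arr} {f f' : i ⟶ (fn src tgt arr).obj X} (h : f = f') :
    Zigzag (StructuredArrow.mk (S := i) (T := fn src tgt arr) f)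
      (StructuredArrow.mk (S := i) (T := fn src tgt arr) f') := by
  subst h; exact Zigzag.refl _

include hgen in
lemma zigzag_structuredArrow (i : I) {x y : I} (g : x ⟶ y) (h : i ⟶ x) :
    Zigzag (StructuredArrow.mk (S := i) (T := fn src tgt arr) (Y := pt x) h)
      (StructuredArrow.mk (S := i) (T := fn src tgt arr) (Y := pt y) (h ≫ g)) := by
  let P : MorphismProperty I := fun x y g => ∀ h : i ⟶ x,
    Zigzag (StructuredArrow.mk (S := i) (T := fn src tgt arr) (Y := pt x) h)
      (StructuredArrow.mk (S := i) (T := fn src tgt arr) (Y := pt y) (h ≫ g))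
  have hP : P = ⊤ := by
    refine hgen P { id_mem := ?_, comp_mem := ?_ } ?_
    · intro x h
      exact zig_congr src tgt arr (X := pt x) (Category.comp_id h).symm
    · intro x y z f g hf hg h
      exact ((hf h).trans (hg (h ≫ f))).trans
        (zig_congr src tgt arr (X := pt z) (Category.assoc h f g))
    · intro a h
      have h1 : (StructuredArrow.mk (S := i) (T := fn src tgt arr) (Y := ar a) h) ⟶
          (StructuredArrow.mk (S := i) (T := fn src tgt arr) (Y := pt (src a)) h) :=
        StructuredArrow.homMk (sMap a) (by simp)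
      have h2 : (StructuredArrow.mk (S := i) (T := fn src tgt arr) (Y := ar a) h) ⟶
          (StructuredArrow.mk (S := i) (T := fn src tgt arr) (Y := pt (tgt a)) (h ≫ arr a)) :=
        StructuredArrow.homMk (tMap a) (by simp)
      exact (Zigzag.of_inv h1).trans (Zigzag.of_hom h2)
  have : P g := by rw [hP]; trivial
  exact this h

include hgen in
lemma isConnected_structuredArrow (i : I) : IsConnected (StructuredArrow i (fn src tgt arr)) := by
  haveI : Nonempty (StructuredArrow i (fn src tgt arr)) :=
    ⟨StructuredArrow.mk (S := i) (T := fn src tgt arr) (Y := pt i) (𝟙 i)⟩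
  have key : ∀ X : StructuredArrow i (fn src tgt arr),
      Zigzag (StructuredArrow.mk (S := i) (T := fn src tgt arr) (Y := pt i) (𝟙 i)) X := by
    intro X
    obtain ⟨⟨⟩, Y, f⟩ := X
    rcases Y with y | a
    · exact (zigzag_structuredArrow src tgt arr hgen i f (𝟙 i)).trans
        (zig_congr src tgt arr (X := pt y) (Category.id_comp f))
    · refine ((zigzag_structuredArrow src tgt arr hgen i (x := i) (y := src a) f (𝟙 i)).trans
        (zig_congr src tgt arr (X := pt (src a)) (Category.id_comp f))).trans (Zigzag.of_inv ?_)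
      exact StructuredArrow.homMk (sMap a) (Category.comp_id f)
  exact zigzag_isConnected fun X Y => (key X).symm.trans (key Y)

include hgen in
lemma final_fn : (fn src tgt arr).Final := ⟨isConnected_structuredArrow src tgt arr hgen⟩

omit hgen in
lemma zig_congr' {i : I} {X : Ob src tgt arr} {f f' : (fn src tgt arr).obj X ⟶ i} (h : f = f') :
    Zigzag (CostructuredArrow.mk (S := fn src tgt arr) (T := i) f)
      (CostructuredArrow.mk (S := fn src tgt arr) (T := i) f') := by
  subst h; exact Zigzag.refl _

include hgen in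
lemma zigzag_costructuredArrow (i : I) {x y : I} (g : x ⟶ y) (h : y ⟶ i) :
    Zigzag (CostructuredArrow.mk (S := fn src tgt arr) (T := i) (Y := pt y) h)
      (CostructuredArrow.mk (S := fn src tgt arr) (T := i) (Y := pt x) (g ≫ h)) := by
  let P : MorphismProperty I := fun x y g => ∀ h : y ⟶ i,
    Zigzag (CostructuredArrow.mk (S := fn src tgt arr) (T := i) (Y := pt y) h)
      (CostructuredArrow.mk (S := fn src tgt arr) (T := i) (Y := pt x) (g ≫ h))
  have hP : P = ⊤ := by
    refine hgen P { id_mem := ?_, comp_mem := ?_ } ?_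
    · intro x h
      exact zig_congr' src tgt arr (X := pt x) (Category.id_comp h).symm
    · intro x y z f g hf hg h
      exact ((hg h).trans (hf (g ≫ h))).trans
        (zig_congr' src tgt arr (X := pt x) (Category.assoc f g h).symm)
    · intro a h
      have h1 : (CostructuredArrow.mk (S := fn src tgt arr) (T := i) (Y := ar a) (arr a ≫ h)) ⟶
          (CostructuredArrow.mk (S := fn src tgt arr) (T := i) (Y := pt (src a)) (arr a ≫ h)) :=
        CostructuredArrow.homMk (sMap a) (by simp)
      have h2 : (CostructuredArrow.mk (S := fn src tgt arr) (T := i) (Y := ar a) (arr a ≫ h)) ⟶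
          (CostructuredArrow.mk (S := fn src tgt arr) (T := i) (Y := pt (tgt a)) h) :=
        CostructuredArrow.homMk (tMap a) (by simp)
      exact (Zigzag.of_inv h2).trans (Zigzag.of_hom h1)
  have : P g := by rw [hP]; trivial
  exact this h

include hgen in
lemma isConnected_costructuredArrow (i : I) :
    IsConnected (CostructuredArrow (fn src tgt arr) i) := by
  haveI : Nonempty (CostructuredArrow (fn src tgt arr) i) :=
    ⟨CostructuredArrow.mk (S := fn src tgt arr) (T := i) (Y := pt i) (𝟙 i)⟩
  have key : ∀ X : CostructuredArrow (fn src tgt arr) i,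
      Zigzag (CostructuredArrow.mk (S := fn src tgt arr) (T := i) (Y := pt i) (𝟙 i)) X := by
    intro X
    obtain ⟨Y, ⟨⟩, f⟩ := X
    rcases Y with y | a
    · exact (zigzag_costructuredArrow src tgt arr hgen i f (𝟙 i)).trans
        (zig_congr' src tgt arr (X := pt y) (Category.comp_id f))
    · refine ((zigzag_costructuredArrow src tgt arr hgen i (x := src a) (y := i) f (𝟙 i)).trans
        (zig_congr' src tgt arr (X := pt (src a)) (Category.comp_id f))).trans (Zigzag.of_inv ?_)
      exact CostructuredArrow.homMk (sMap a) (Category.id_comp f)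
  exact zigzag_isConnected fun X Y => (key X).symm.trans (key Y)

include hgen in
lemma initial_fn : (fn src tgt arr).Initial := ⟨isConnected_costructuredArrow src tgt arr hgen⟩

end Final

end Groth.Agent.Lib.Helper5.FinGen
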