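import Groth.Agent.Lib.Helper5.DoubleGlue
import Groth.Agent.Lib.Helper5.EtCechFlasque
import Groth.Agent.S0728

/-!
# Helper5: gluing sections over two copies of `U` glued along an open `V`
-/

set_option autoImplicit false
universe u

namespace Groth.Agent.Lib.Helper5.FlasqueSurj

open CategoryTheory Limits AlgebraicGeometry Opposite Groth.Agent.Lib.Helper5.DoubleGlue

set_option backward.isDefEq.respectTransparency.types false

variable {X : Scheme.{u}} {U V : X.Etale} (g : V ⟶ U) [IsOpenImmersion g.left]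

instance : Etale U.hom := U.prop

/-- two copies of `U` glued along `V`, as an étale `X`-scheme. -/
noncomputable def WW : X.Etale := Scheme.Etale.mk (desc g.left U.hom)

noncomputable def κ₀ : U ⟶ WW g :=
  MorphismProperty.Over.homMk (ι₀ g.left) (ι_desc g.left U.hom _) trivial

noncomputable def κ₁ : U ⟶ WW g :=
  MorphismProperty.Over.homMk (ι₁ g.left) (ι_desc g.left U.hom _) trivial

lemma g_κ : g ≫ κ₀ g = g ≫ κ₁ g := by
  apply MorphismProperty.Over.Hom.ext
  exact g_ι g.left

/-- the covering family. -/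
noncomputable def κ (b : Bool) : U ⟶ WW g := bif b then κ₁ g else κ₀ g

lemma cover_mem : Sieve.ofArrows (fun _ : Bool => U) (κ g) ∈ X.smallEtaleTopology (WW g) := by
  rw [Scheme.ofArrows_mem_smallEtaleTopology_iff]
  ext x
  simp only [Set.mem_iUnion, Set.mem_range, Set.mem_univ, iff_true]
  rcases jointly_surj g.left x with ⟨y, hy⟩ | ⟨y, hy⟩
  · exact ⟨false, y, hy⟩
  · exact ⟨true, y, hy⟩

lemma mono_κ (b : Bool) {Z : X.Etale} (a a' : Z ⟶ U) (h : a ≫ κ g b = a' ≫ κ g b) : a = a' := by
  apply MorphismProperty.Over.Hom.ext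
  have h' := congrArg (fun m => m.left) h
  cases b
  · exact (cancel_mono (ι₀ g.left)).1 h'
  · exact (cancel_mono (ι₁ g.left)).1 h'

lemma exists_factor {Z : X.Etale} (a a' : Z ⟶ U) (h : a ≫ κ₀ g = a' ≫ κ₁ g) :
    ∃ c : Z ⟶ V, c ≫ g = a ∧ c ≫ g = a' := by
  have h' : a.left ≫ ι₀ g.left = a'.left ≫ ι₁ g.left := congrArg (fun m => m.left) h
  obtain ⟨c, hc1, hc2⟩ := exists_lift g.left a.left a'.left h'
  have hw : c ≫ V.hom = Z.hom := by
    have h1 : g.left ≫ U.hom = V.hom := MorphismProperty.Over.w g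
    have h2 : a.left ≫ U.hom = Z.hom := MorphismProperty.Over.w a
    rw [← h1, ← Category.assoc, hc1, h2]
  refine ⟨MorphismProperty.Over.homMk c hw trivial, ?_, ?_⟩
  · apply MorphismProperty.Over.Hom.ext
    exact hc1
  · apply MorphismProperty.Over.Hom.ext
    exact hc2

/-- gluing of sections over the doubled scheme. -/
lemma exists_glue (Q : EtCoh.Ab X) (a b : Q.obj.obj (op U))
    (hab : Q.obj.map g.op a = Q.obj.map g.op b) :
    ∃ c : Q.obj.obj (op (WW g)), Q.obj.map (κ₀ g).op c = a ∧ Q.obj.map (κ₁ g).op c = b := by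
  have hP := EtCechFlasque.isSheaf_type Q
  have h1 := hP _ (cover_mem g)
  have h2 : Presieve.IsSheafFor (Q.obj ⋙ forget AddCommGrpCat.{u + 1})
      (Presieve.ofArrows (fun _ : Bool => U) (κ g)) :=
    (Presieve.isSheafFor_iff_generate _).2 h1
  rw [Presieve.isSheafFor_arrows_iff] at h2
  let x : ∀ _ : Bool, (Q.obj ⋙ forget AddCommGrpCat.{u + 1}).obj (op U) :=
    fun i => bif i then b else a
  have hx : Presieve.Arrows.Compatible (Q.obj ⋙ forget AddCommGrpCat.{u + 1}) (κ g) x := by
    intro i j Z gi gj hij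
    cases i <;> cases j
    · have := mono_κ g false gi gj hij
      subst this
      rfl
    · obtain ⟨c, hc1, hc2⟩ := exists_factor g gi gj hij
      change Q.obj.map gi.op a = Q.obj.map gj.op b
      rw [← hc1, ← hc2, Groth.Agent.S0728.map_comp_apply, Groth.Agent.S0728.map_comp_apply, hab]
    · obtain ⟨c, hc1, hc2⟩ := exists_factor g gj gi hij.symm
      change Q.obj.map gi.op b = Q.obj.map gj.op a
      rw [← hc1, ← hc2, Groth.Agent.S0728.map_comp_apply, Groth.Agent.S0728.map_comp_apply, hab]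
    · have := mono_κ g true gi gj hij
      subst this
      rfl
  obtain ⟨t, ht, -⟩ := h2 x hx
  exact ⟨t, ht false, ht true⟩

end Groth.Agent.Lib.Helper5.FlasqueSurj
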