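import Mathlib

/-!
# Helper5: left Kan extension along a flat functor preserves monomorphisms of abelian presheaves
(big sites: objects in `Type (u+1)`, morphisms in `Type u`, values in `AddCommGrpCat.{u+1}`),
and the sheaf pullback along a flat continuous functor preserves monomorphisms.
-/

set_option autoImplicit false
universe u
open CategoryTheory CategoryTheory.Limits Opposite

noncomputable section

namespace Groth.Agent.Lib.Helper5.FlatLanMono

instance ab5 : AB5OfSize.{u, u + 1} AddCommGrpCat.{u + 1} :=
  AB5OfSize_shrink.{u, u + 1, u + 1, u + 1} _

section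

variable {J : Type (u + 1)} [Category.{u} J] [IsFiltered J]

lemma mono_isColimit_map {F F' : J ⥤ AddCommGrpCat.{u + 1}} (α : F ⟶ F') [Mono α]
    {c : Cocone F} (hc : IsColimit c) {c' : Cocone F'} (hc' : IsColimit c') :
    Mono (hc.map c' α) := by
  have e : hc.map c' α = (hc.coconePointUniqueUpToIso (colimit.isColimit F)).hom ≫
      colimMap α ≫ ((colimit.isColimit F').coconePointUniqueUpToIso hc').hom := by
    apply hc.hom_ext
    intro j
    simp [IsColimit.map]
  rw [e]
  haveI : Mono (colimMap α) := by
    change Mono ((colim : (J ⥤ AddCommGrpCat.{u + 1}) ⥤ _).map α)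
    infer_instance
  infer_instance

end

variable {C D : Type (u + 1)} [Category.{u} C] [Category.{u} D] (G : C ⥤ D) [RepresentablyFlat G]

instance preservesMono_lan :
    (G.op.lan : (Cᵒᵖ ⥤ AddCommGrpCat.{u + 1}) ⥤ (Dᵒᵖ ⥤ AddCommGrpCat.{u + 1})).PreservesMonomorphisms where
  preserves {P P'} m _ := by
    rw [NatTrans.mono_iff_mono_app]
    intro K
    have hc := G.op.isPointwiseLeftKanExtensionLeftKanExtensionUnit P K
    have hc' := G.op.isPointwiseLeftKanExtensionLeftKanExtensionUnit P' K
    haveI : IsFiltered (CostructuredArrow G.op K) :=
      IsFiltered.of_equivalence (structuredArrowOpEquivalence G (unop K))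
    haveI : Mono (Functor.whiskerLeft (CostructuredArrow.proj G.op K) m) := by
      rw [NatTrans.mono_iff_mono_app]
      intro j
      exact (NatTrans.mono_iff_mono_app m).1 inferInstance _
    have e : (G.op.lan.map m).app K =
        IsColimit.map hc ((Functor.LeftExtension.mk _ (G.op.leftKanExtensionUnit P')).coconeAt K)
          (Functor.whiskerLeft (CostructuredArrow.proj G.op K) m) := by
      apply IsColimit.hom_ext hc
      intro j
      refine Eq.trans ?_ (IsColimit.ι_map hc
        ((Functor.LeftExtension.mk _ (G.op.leftKanExtensionUnit P')).coconeAt K)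
        (Functor.whiskerLeft (CostructuredArrow.proj G.op K) m) j).symm
      have h1 : m.app j.left ≫ (G.op.lanUnit.app P').app j.left =
          (G.op.lanUnit.app P).app j.left ≫ (G.op.lan.map m).app (G.op.obj j.left) :=
        congr_app (G.op.lanUnit.naturality m) j.left
      change ((G.op.lanUnit.app P).app j.left ≫ (G.op.lan.obj P).map j.hom) ≫
          (G.op.lan.map m).app K =
        m.app j.left ≫ ((G.op.lanUnit.app P').app j.left ≫ (G.op.lan.obj P').map j.hom)
      rw [Category.assoc, (G.op.lan.map m).naturality j.hom, ← Category.assoc, ← Category.assoc,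
        h1]
    rw [e]
    exact mono_isColimit_map _ hc hc'

variable (J : GrothendieckTopology C) (K : GrothendieckTopology D) [G.IsContinuous J K]
  [HasSheafify K AddCommGrpCat.{u + 1}]

/-- The sheaf pullback along a flat continuous functor of big sites preserves monomorphisms. -/
theorem preservesMono_sheafPullback :
    (G.sheafPullback AddCommGrpCat.{u + 1} J K).PreservesMonomorphisms := by
  have h : (Functor.sheafPullbackConstruction.sheafPullback G AddCommGrpCat.{u + 1} J K).PreservesMonomorphisms := by
    unfold Functor.sheafPullbackConstruction.sheafPullback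
    infer_instance
  exact Functor.preservesMonomorphisms.of_iso
    (Functor.sheafPullbackConstruction.sheafPullbackIso G AddCommGrpCat.{u + 1} J K).symm

/-- Restriction along a flat continuous functor of big sites preserves injective abelian sheaves. -/
theorem injective_sheafPushforwardContinuous (I : Sheaf K AddCommGrpCat.{u + 1}) [Injective I] :
    Injective ((G.sheafPushforwardContinuous AddCommGrpCat.{u + 1} J K).obj I) := by
  haveI := preservesMono_sheafPullback G J K
  exact Injective.injective_of_adjoint
    (G.sheafAdjunctionContinuous AddCommGrpCat.{u + 1} J K) I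

end Groth.Agent.Lib.Helper5.FlatLanMono
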