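import Mathlib
import Groth.Prelude.Def_EtAcyc
import Groth.Agent.Lib.Helper5.EtCechFlasque
import Groth.Agent.S0099

set_option autoImplicit false
universe u
open CategoryTheory CategoryTheory.Limits AlgebraicGeometry Opposite

namespace Groth.Agent.Lib.Helper5.LTorsion

open Groth.Agent.Lib.Helper5.EtCechFlasque

/-- positive integers with prime factors in `L`, ordered by divisibility. -/
structure Idx (L : Set ℕ) : Type u where
  m : ℕ
  h : EtAcyc.PrimesIn L m

variable (L : Set ℕ)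

instance : Preorder (Idx.{u} L) where
  le a b := a.m ∣ b.m
  le_refl a := dvd_refl _
  le_trans a b c := dvd_trans

instance : Nonempty (Idx.{u} L) :=
  ⟨⟨1, Nat.one_pos, fun p hp h => absurd (Nat.dvd_one.1 h) hp.ne_one⟩⟩

instance : IsDirected (Idx.{u} L) (· ≤ ·) :=
  ⟨fun a b => ⟨⟨a.m * b.m, Nat.mul_pos a.h.1 b.h.1,
    fun p hp h => (hp.dvd_mul.1 h).elim (a.h.2 p hp) (b.h.2 p hp)⟩,
    Dvd.intro _ rfl, Dvd.intro_left _ rfl⟩⟩

instance : IsFiltered (Idx.{u} L) := inferInstance

variable {Z : Scheme.{u}} (F : EtCoh.Ab Z)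

/-- the `m`-torsion subsheaf. -/
noncomputable abbrev tors (m : ℕ) : EtCoh.Ab Z := kernel (m • 𝟙 F)

lemma tors_ι_smul {m m' : ℕ} (h : m ∣ m') : kernel.ι (m • 𝟙 F) ≫ (m' • 𝟙 F) = 0 := by
  obtain ⟨k, rfl⟩ := h
  rw [mul_comm, mul_smul, Preadditive.comp_nsmul, kernel.condition, smul_zero]

/-- the diagram of torsion subsheaves. -/
noncomputable def D : Idx.{u} L ⥤ EtCoh.Ab Z where
  obj a := tors F a.m
  map {a b} h := kernel.lift _ (kernel.ι (a.m • 𝟙 F)) (tors_ι_smul F (leOfHom h))
  map_id a := by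
    rw [← cancel_mono (kernel.ι (a.m • 𝟙 F)), kernel.lift_ι, Category.id_comp]
  map_comp {a b c} h h' := by
    rw [← cancel_mono (kernel.ι (c.m • 𝟙 F)), kernel.lift_ι, Category.assoc, kernel.lift_ι,
      kernel.lift_ι]

/-- the cocone of inclusions. -/
noncomputable def coc : Cocone (D L F) where
  pt := F
  ι := { app := fun a => kernel.ι (a.m • 𝟙 F)
         naturality := fun a b h => by
          simp only [Functor.const_obj_obj, Functor.const_obj_map, Category.comp_id]
          exact kernel.lift_ι _ _ _ }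


instance hasExact : HasExactColimitsOfShape (Idx.{u} L) (EtCoh.Ab Z) := by
  haveI : IsFiltered (AsSmall.{u + 1} (Idx.{u} L)) :=
    IsFiltered.of_equivalence (AsSmall.equiv.{u, u, u + 1} (C := Idx.{u} L))
  haveI : HasExactColimitsOfShape (AsSmall.{u + 1} (Idx.{u} L)) (EtCoh.Ab Z) := inferInstance
  exact HasExactColimitsOfShape.of_domain_equivalence _
    (AsSmall.equiv.{u, u, u + 1} (C := Idx.{u} L)).symm

/-- the comparison map `colim F[m] ⟶ F`. -/
noncomputable abbrev desc : colimit (D L F) ⟶ F := colimit.desc _ (coc L F)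

instance mono_desc : Mono (desc L F) := by
  let φ : D L F ⟶ (Functor.const _).obj F :=
    { app := fun a => kernel.ι (a.m • 𝟙 F)
      naturality := fun a b h => by
        simp only [Functor.const_obj_obj, Functor.const_obj_map, Category.comp_id]
        exact kernel.lift_ι _ _ _ }
  haveI : ∀ a, Mono (φ.app a) := fun a => inferInstanceAs (Mono (kernel.ι (a.m • 𝟙 F)))
  haveI : Mono φ := NatTrans.mono_of_mono_app φ
  haveI : IsConnected (Idx.{u} L) := IsFiltered.isConnected _
  haveI : PreservesFiniteLimits (colim : (Idx.{u} L ⥤ EtCoh.Ab Z) ⥤ EtCoh.Ab Z) :=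
    HasExactColimitsOfShape.preservesFiniteLimits
  haveI : (colim : (Idx.{u} L ⥤ EtCoh.Ab Z) ⥤ EtCoh.Ab Z).PreservesMonomorphisms := inferInstance
  refine colim.map_mono' φ (colimit.isColimit _) (isColimitConstCocone _ F) (desc L F) ?_
  intro a
  have h1 : colimit.ι (D L F) a ≫ desc L F = kernel.ι (a.m • 𝟙 F) := colimit.ι_desc _ _
  have h2 : kernel.ι (a.m • 𝟙 F) ≫ 𝟙 F = kernel.ι (a.m • 𝟙 F) := Category.comp_id _
  exact h1.trans h2.symm

/-- sections killed by `m` lift to the `m`-torsion subsheaf. -/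
lemma exists_lift_tors (m : ℕ) (V : Z.Etale) (s : F.obj.obj (op V)) (hs : m • s = 0) :
    ∃ t : (tors F m).obj.obj (op V), ((kernel.ι (m • 𝟙 F)).hom.app (op V)).hom t = s := by
  let S : ShortComplex (EtCoh.Ab Z) :=
    ShortComplex.mk (kernel.ι (m • 𝟙 F)) (m • 𝟙 F) (kernel.condition _)
  have hS : S.Exact := ShortComplex.exact_of_f_is_kernel _ (kernelIsKernel _)
  have h := hS.map_of_mono_of_preservesKernel (Γ V)
    (inferInstanceAs (Mono (kernel.ι (m • 𝟙 F)))) inferInstance
  rw [ShortComplex.ab_exact_iff] at h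
  refine h s ?_
  change ((Γ V).map (m • 𝟙 F)).hom s = 0
  rw [Functor.map_nsmul]
  change m • ((Γ V).map (𝟙 F)).hom s = 0
  rw [CategoryTheory.Functor.map_id]
  exact hs


/-- a sieve containing, around every point, some arrow hitting the point, is covering. -/
lemma mem_smallEtale_of_pointwise {X : Scheme.{u}} {U : X.Etale} (S : Sieve U)
    (h : ∀ x : U.left, ∃ (V : X.Etale) (g : V ⟶ U) (v : V.left), S g ∧ g.left.base v = x) :
    S ∈ X.smallEtaleTopology U := by
  choose V g v hS hv using h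
  have hmem : Sieve.ofArrows V g ∈ X.smallEtaleTopology U := by
    rw [Scheme.ofArrows_mem_smallEtaleTopology_iff]
    ext x
    simp only [Set.mem_iUnion, Set.mem_range, Set.mem_univ, iff_true]
    exact ⟨x, v x, hv x⟩
  refine X.smallEtaleTopology.superset_covering ?_ hmem
  rintro W f ⟨T, a, b, ⟨x⟩, rfl⟩
  exact S.downward_closed (hS x) a

set_option backward.isDefEq.respectTransparency.types false in
/-- points of a covering sieve. -/
lemma pointwise_of_mem_smallEtale {X : Scheme.{u}} {U : X.Etale} (S : Sieve U)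
    (h : S ∈ X.smallEtaleTopology U) (x : U.left) :
    ∃ (V : X.Etale) (g : V ⟶ U) (v : V.left), S g ∧ g.left.base v = x := by
  have eX : X.smallEtaleTopology =
      (X.smallPretopology (P := EtCoh.etaleMP) (Q := EtCoh.etaleMP)).toGrothendieck :=
    Scheme.smallGrothendieckTopology_eq_toGrothendieck_smallPretopology X le_rfl
  rw [eX] at h
  obtain ⟨W, g, w, hg, _, hw⟩ := (Scheme.mem_toGrothendieck_smallPretopology U S).1 h x
  exact ⟨W, g, w, hg, hw⟩

lemma epi_desc (hF : EtAcyc.IsLTorsion L F) : Epi (desc L F) := by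
  rw [← Sheaf.isLocallySurjective_iff_epi']
  constructor
  intro U s
  apply mem_smallEtale_of_pointwise
  intro x
  obtain ⟨V, g, m, ⟨v, hv⟩, hm, hs⟩ := hF U s x
  refine ⟨V, g, v, ?_, hv⟩
  obtain ⟨t, ht⟩ := exists_lift_tors F m V (F.obj.map g.op s) hs
  let a : Idx.{u} L := ⟨m, hm⟩
  refine ⟨((colimit.ι (D L F) a).hom.app (op V)).hom t, ?_⟩
  have h1 : colimit.ι (D L F) a ≫ desc L F = kernel.ι (m • 𝟙 F) := colimit.ι_desc _ _
  have h2 := congrArg (fun φ => (φ.hom.app (op V)).hom t) h1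
  exact h2.trans ht

lemma isIso_desc (hF : EtAcyc.IsLTorsion L F) : IsIso (desc L F) := by
  have := epi_desc L F hF
  exact isIso_of_mono_of_epi _


lemma tors_nsmul_id (m : ℕ) : m • 𝟙 (tors F m) = 0 := by
  rw [← cancel_mono (kernel.ι (m • 𝟙 F)), zero_comp, Preadditive.nsmul_comp, Category.id_comp]
  have := kernel.condition (m • 𝟙 F)
  rwa [Preadditive.comp_nsmul, Category.comp_id] at this

/-- on a qcqs scheme the cohomology of an `L`-torsion sheaf is `L`-torsion. -/
theorem exists_nsmul_eq_zero' [CompactSpace Z] [QuasiSeparatedSpace Z]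
    (hF : EtAcyc.IsLTorsion L F) (q : ℕ) (c : ((EtCoh.HF Z q).obj F : AddCommGrpCat.{u + 1})) :
    ∃ m : ℕ, EtAcyc.PrimesIn L m ∧ m • c = 0 := by
  haveI := Groth.Agent.S0099.result Z q (Idx.{u} L)
  haveI := isIso_desc L F hF
  haveI : PreservesColimitsOfShape (Idx.{u} L) (forget AddCommGrpCat.{u + 1}) := by
    haveI : IsFiltered (AsSmall.{u + 1} (Idx.{u} L)) :=
      IsFiltered.of_equivalence (AsSmall.equiv.{u, u, u + 1} (C := Idx.{u} L))
    exact preservesColimitsOfShape_of_equiv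
      (AsSmall.equiv.{u, u, u + 1} (C := Idx.{u} L)).symm (forget AddCommGrpCat.{u + 1})
  let e : colimit (D L F) ≅ F := asIso (desc L F)
  let c' : (EtCoh.HF Z q).obj (colimit (D L F)) := ((EtCoh.HF Z q).map e.inv).hom c
  have hc := isColimitOfPreserves (EtCoh.HF Z q) (colimit.isColimit (D L F))
  obtain ⟨a, y, hy⟩ := Concrete.isColimit_exists_rep _ hc c'
  refine ⟨a.m, a.h, ?_⟩
  have hy0 : a.m • y = 0 := by
    have h1 : (EtCoh.HF Z q).map (a.m • 𝟙 (tors F a.m)) = 0 := by
      rw [tors_nsmul_id, Functor.map_zero]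
    rw [Functor.map_nsmul, CategoryTheory.Functor.map_id] at h1
    have h2 := ConcreteCategory.congr_hom h1 y
    exact h2
  have hc' : a.m • c' = 0 := by
    rw [← hy, ← map_nsmul, hy0, map_zero]
  have hcc : c = ((EtCoh.HF Z q).map e.hom).hom c' := by
    change c = ((EtCoh.HF Z q).map e.hom).hom (((EtCoh.HF Z q).map e.inv).hom c)
    have h3 : (EtCoh.HF Z q).map e.inv ≫ (EtCoh.HF Z q).map e.hom = 𝟙 _ := by
      rw [← Functor.map_comp, e.inv_hom_id, CategoryTheory.Functor.map_id]
    exact (ConcreteCategory.congr_hom h3 c).symm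
  rw [hcc, ← map_nsmul, hc', map_zero]

theorem exists_nsmul_eq_zero [CompactSpace Z] [QuasiSeparatedSpace Z]
    (hF : EtAcyc.IsLTorsion L F) (q : ℕ) (c : EtCoh.H Z F q) :
    ∃ m : ℕ, EtAcyc.PrimesIn L m ∧ m • c = 0 :=
  exists_nsmul_eq_zero' L F hF q c

end Groth.Agent.Lib.Helper5.LTorsion
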