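import Groth.Agent.Lib.Helper15.ExtFlc
import Groth.Agent.Lib.Helper15.SubConst
import Groth.Agent.Lib.Helper5.LTorsion
import Groth.Agent.Lib.Helper5.EtaleLocSupp

/-!
# Helper5: a sheaf which is constant over an étale `V → X` (in the over-site sense) restricts to a
constant sheaf on the small étale site of `V`
-/

set_option autoImplicit false
universe u

namespace Groth.Agent.Lib.Helper5.FlcRestr

open CategoryTheory Limits AlgebraicGeometry Opposite Groth.Agent.Lib.Helper13
open Helper15.LcStruct Groth.Agent.Lib.Helper5.LTorsion

set_option backward.isDefEq.respectTransparency.types false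

variable {X Y : Scheme.{u}} (g : Y ⟶ X) [Etale g]

/-- pointwise cocontinuity of `compEtale g`. -/
lemma functorPullback_mem (W : Y.Etale) (S : Sieve ((EtShriek.compEtale g).obj W))
    (hS : S ∈ X.smallEtaleTopology ((EtShriek.compEtale g).obj W)) :
    S.functorPullback (EtShriek.compEtale g) ∈ Y.smallEtaleTopology W := by
  apply mem_smallEtale_of_pointwise
  intro w
  obtain ⟨Y', k', y', hk', hy'⟩ := pointwise_of_mem_smallEtale S hS w
  have e : k'.left ≫ W.hom ≫ g = Y'.hom := MorphismProperty.Over.w k'
  have hW : EtCoh.etaleMP ((k'.left ≫ W.hom) ≫ g) := by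
    rw [Category.assoc, e]; exact Y'.prop
  let W'' : Y.Etale := MorphismProperty.Over.mk ⊤ (k'.left ≫ W.hom)
    (EtCoh.etaleMP.of_postcomp (W' := EtCoh.etaleMP) (k'.left ≫ W.hom) g inferInstance hW)
  let ε : (EtShriek.compEtale g).obj W'' ≅ Y' := MorphismProperty.Over.isoMk (Iso.refl _)
    ((Category.id_comp Y'.hom).trans (e.symm.trans (Category.assoc _ _ _).symm))
  let k'' : W'' ⟶ W := MorphismProperty.Over.homMk k'.left rfl trivial
  refine ⟨W'', k'', y', ?_, hy'⟩
  change S ((EtShriek.compEtale g).map k'')
  have h1 : (EtShriek.compEtale g).map k'' = ε.hom ≫ k' := by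
    apply MorphismProperty.Over.Hom.ext
    change k'.left = 𝟙 _ ≫ k'.left
    exact (Category.id_comp _).symm
  rw [h1]
  exact S.downward_closed hk' ε.hom

section Const

variable {X : Scheme.{u}} (F : EtCoh.Ab X) (V : X.Etale) (M : AddCommGrpCat.{u+1})
  (c : M →+ F.obj.obj (op V))

instance etale_hom' : Etale V.hom := V.prop

/-- the structure morphism `(W → V → X) ⟶ V` in the small étale site of `X`. -/
noncomputable def πW (W : V.left.Etale) : (EtShriek.compEtale V.hom).obj W ⟶ V :=
  MorphismProperty.Over.homMk W.hom rfl trivial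

lemma map_πW {W W' : V.left.Etale} (k : W' ⟶ W) :
    (EtShriek.compEtale V.hom).map k ≫ πW V W = πW V W' := by
  apply MorphismProperty.Over.Hom.ext
  exact MorphismProperty.Over.w k

/-- the restriction of `F` to the small étale site of `V`. -/
noncomputable abbrev G : EtCoh.Ab V.left := (EtShriek.restrAlong V.hom).obj F

/-- the presheaf map from the constant presheaf given by the constant sections. -/
noncomputable def τ : (Functor.const V.left.Etaleᵒᵖ).obj M ⟶ (G F V).obj where
  app W := AddCommGrpCat.ofHom ((F.obj.map (πW V W.unop).op).hom.comp c)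
  naturality := by
    intro W W' k
    ext m
    change F.obj.map (πW V W'.unop).op (c m) =
      F.obj.map ((EtShriek.compEtale V.hom).map k.unop).op (F.obj.map (πW V W.unop).op (c m))
    rw [← map_comp_app F, map_πW]

lemma τ_apply (W : V.left.Etale) (m : M) :
    (τ F V M c).app (op W) m = F.obj.map (πW V W).op (c m) := rfl

noncomputable def lam : cst V.left M ⟶ G F V :=
  ((sheafificationAdjunction V.left.smallEtaleTopology AddCommGrpCat.{u+1}).homEquiv
    ((Functor.const V.left.Etaleᵒᵖ).obj M) (G F V)).symm (τ F V M c)

theorem lam_fac : toSheafify V.left.smallEtaleTopology _ ≫ (lam F V M c).hom = τ F V M c := by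
  have h := ((sheafificationAdjunction V.left.smallEtaleTopology
    AddCommGrpCat.{u+1}).homEquiv ((Functor.const V.left.Etaleᵒᵖ).obj M)
      (G F V)).apply_symm_apply (τ F V M c)
  rw [Adjunction.homEquiv_unit] at h
  exact h

variable {F V M c}

theorem τ_locSurj (hc : IsConstVia F V M c) :
    Presheaf.IsLocallySurjective V.left.smallEtaleTopology (τ F V M c) where
  imageSieve_mem := by
    intro W s
    have hT := hc.surj (πW V W) s
    refine V.left.smallEtaleTopology.superset_covering ?_ (functorPullback_mem V.hom W _ hT)
    rintro W' k ⟨m, hm⟩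
    refine ⟨m, ?_⟩
    rw [τ_apply]
    change _ = F.obj.map ((EtShriek.compEtale V.hom).map k).op s
    rw [hm, map_πW]

theorem τ_locInj (hc : IsConstVia F V M c) :
    Presheaf.IsLocallyInjective V.left.smallEtaleTopology (τ F V M c) where
  equalizerSieve_mem := by
    intro W x y hxy
    induction W using Opposite.rec with
    | _ W =>
    by_cases hE : (⊥ : Sieve W) ∈ V.left.smallEtaleTopology W
    · exact V.left.smallEtaleTopology.superset_covering bot_le hE
    · have hxy' : F.obj.map (πW V W).op (c x) = F.obj.map (πW V W).op (c y) := hxy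
      haveI : Nonempty ((EtShriek.compEtale V.hom).obj W).left := nonempty_of_bot_not_mem W hE
      have h0 : (x - y : M) = 0 := hc.inj (πW V W) (x - y)
        (bot_not_mem_of_nonempty ((EtShriek.compEtale V.hom).obj W)) (by
          rw [map_sub, map_sub, hxy', sub_self])
      have hxy2 : x = y := sub_eq_zero.mp h0
      subst hxy2
      rw [Presheaf.equalizerSieve_self_eq_top]
      exact V.left.smallEtaleTopology.top_mem _

set_option backward.isDefEq.respectTransparency false in
theorem nonempty_iso_of_isConstVia (hc : IsConstVia F V M c) :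
    Nonempty ((EtShriek.restrAlong V.hom).obj F ≅ cst V.left M) := by
  have := τ_locSurj hc
  have := τ_locInj hc
  have h1 : Presheaf.IsLocallyInjective V.left.smallEtaleTopology (lam F V M c).hom :=
    Presheaf.isLocallyInjective_of_isLocallyInjective_of_isLocallySurjective_fac _
      (τ F V M c) (lam_fac F V M c)
  have h2 : Presheaf.IsLocallySurjective V.left.smallEtaleTopology (lam F V M c).hom :=
    Presheaf.isLocallySurjective_of_isLocallySurjective_fac _ (lam_fac F V M c)
  have : IsIso (lam F V M c) := (Sheaf.isLocallyBijective_iff_isIso (lam F V M c)).1 ⟨h1, h2⟩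
  exact ⟨(asIso (lam F V M c)).symm⟩

end Const

end Groth.Agent.Lib.Helper5.FlcRestr
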