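import Groth.Agent.Lib.Helper5.ToposCohColim

/-!
# The free abelian sheaf on a representable presheaf is the free abelian sheaf on its
sheafification (helper5)
-/

set_option autoImplicit false
universe u

open CategoryTheory CategoryTheory.Limits Opposite

noncomputable section

namespace Groth.Agent.Lib.Helper5.FreeEps

open Groth.Agent.Lib.Helper5.CechFlasque

variable {C : Type u} [SmallCategory C] (J : GrothendieckTopology C)

/-- sheafify the free abelian presheaf -/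
abbrev L₁ : (Cᵒᵖ ⥤ Type u) ⥤ Sheaf J AddCommGrpCat.{u} :=
  (Functor.whiskeringRight Cᵒᵖ _ _).obj AddCommGrpCat.free.{u} ⋙ presheafToSheaf J AddCommGrpCat.{u}

/-- free abelian sheaf on the sheafification -/
abbrev L₂ : (Cᵒᵖ ⥤ Type u) ⥤ Sheaf J AddCommGrpCat.{u} :=
  presheafToSheaf J (Type u) ⋙ Φ J

abbrev R₁ : Sheaf J AddCommGrpCat.{u} ⥤ (Cᵒᵖ ⥤ Type u) :=
  sheafToPresheaf J AddCommGrpCat.{u} ⋙
    (Functor.whiskeringRight Cᵒᵖ _ _).obj (forget AddCommGrpCat.{u})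

abbrev R₂ : Sheaf J AddCommGrpCat.{u} ⥤ (Cᵒᵖ ⥤ Type u) :=
  Uf J ⋙ sheafToPresheaf J (Type u)

def adj₁ : L₁ J ⊣ R₁ J :=
  (Adjunction.whiskerRight Cᵒᵖ AddCommGrpCat.adj.{u}).comp
    (sheafificationAdjunction J AddCommGrpCat.{u})

def adj₂ : L₂ J ⊣ R₂ J :=
  (sheafificationAdjunction J (Type u)).comp (adjΦ J)

def RIso : R₁ J ≅ R₂ J := NatIso.ofComponents (fun _ => Iso.refl _)

def LIso : L₁ J ≅ L₂ J :=
  ((adj₁ J).ofNatIsoRight (RIso J)).leftAdjointUniq (adj₂ J)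

/-- `ℤ[h_U]^a ≅ ℤ[ε U]` -/
def freeSheafIso (U : C) : CohCx.freeSheaf J U ≅ (Φ J).obj (ToposFin.eps J U) :=
  (LIso J).app (yoneda.obj U)

/-- `H^q(U, -)` is the `Ext` functor out of `ℤ[h_U]^a` -/
def cohIso₀ (q : ℕ) (U : C) :
    ((Sheaf.cohomologyPresheafFunctor J q).flip.obj (op U) :
        Sheaf J AddCommGrpCat.{u} ⥤ AddCommGrpCat.{u}) ≅
      Abelian.extFunctorObj.{u} (CohCx.freeSheaf J U) q :=
  NatIso.ofComponents
    (fun X => Iso.refl ((Abelian.extFunctorObj.{u} (CohCx.freeSheaf J U) q).obj X))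
    (fun {X Y} f => by
      show (Abelian.extFunctorObj.{u} (CohCx.freeSheaf J U) q).map f ≫ 𝟙 _ =
        𝟙 _ ≫ (Abelian.extFunctorObj.{u} (CohCx.freeSheaf J U) q).map f
      rw [Category.comp_id, Category.id_comp])

/-- `H^q(U, -)` is the `Ext` functor out of `ℤ[ε U]` -/
def cohIso (q : ℕ) (U : C) :
    ((Sheaf.cohomologyPresheafFunctor J q).flip.obj (op U) :
        Sheaf J AddCommGrpCat.{u} ⥤ AddCommGrpCat.{u}) ≅
      Abelian.extFunctorObj.{u} ((Φ J).obj (ToposFin.eps J U)) q :=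
  cohIso₀ J q U ≪≫ ((Abelian.extFunctor.{u} q).mapIso (freeSheafIso J U).symm.op)

end Groth.Agent.Lib.Helper5.FreeEps
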