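import Groth.Agent.Lib.Helper5.ProdWP
import Groth.Agent.Lib.Helper10.Amitsur

/-!
# Helper5: the Čech complex of `G_a` for a surjective étale morphism of affines is the Amitsur complex
-/

set_option autoImplicit false
universe u

namespace Groth.Agent.Lib.Helper5.GaCech

open CategoryTheory Limits AlgebraicGeometry Opposite
open Groth.Agent.Lib.Helper5.AffCartan Groth.Agent.Lib.Helper5.ProdWP

set_option backward.isDefEq.respectTransparency.types false

section AffHom

variable {T Y Y' : Scheme.{u}} [IsAffine Y] [IsAffine Y']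

/-- morphisms to an affine scheme from ring maps. -/
noncomputable def toAff (φ : Γ(Y, ⊤) ⟶ Γ(T, ⊤)) : T ⟶ Y :=
  T.toSpecΓ ≫ Spec.map φ ≫ Y.isoSpec.inv

lemma toAff_of_appTop (f : T ⟶ Y) : toAff f.appTop = f := by
  unfold toAff
  rw [← Scheme.toSpecΓ_naturality_assoc]
  change f ≫ Y.isoSpec.hom ≫ Y.isoSpec.inv = f
  rw [Iso.hom_inv_id, Category.comp_id]

lemma toAff_comp (φ : Γ(Y, ⊤) ⟶ Γ(T, ⊤)) (h : Y ⟶ Y') :
    toAff φ ≫ h = toAff (h.appTop ≫ φ) := by
  unfold toAff
  rw [Category.assoc, Category.assoc, ← Scheme.isoSpec_inv_naturality, Spec.map_comp,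
    Category.assoc]

lemma toAff_appTop (φ : Γ(Y, ⊤) ⟶ Γ(T, ⊤)) : (toAff φ).appTop = φ := by
  unfold toAff
  rw [Scheme.Hom.comp_appTop, Scheme.Hom.comp_appTop, Scheme.toSpecΓ_appTop]
  have h1 : Y.isoSpec.inv.appTop = (Scheme.ΓSpecIso Γ(Y, ⊤)).inv := by
    have h2 : Y.isoSpec.hom.appTop = (Scheme.ΓSpecIso Γ(Y, ⊤)).hom := Scheme.toSpecΓ_appTop Y
    have h3 : Y.isoSpec.hom.appTop ≫ Y.isoSpec.inv.appTop = 𝟙 _ := by
      rw [← Scheme.Hom.comp_appTop, Iso.inv_hom_id]
      rfl
    rw [h2] at h3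
    exact (Iso.hom_comp_eq_id _).1 h3
  rw [h1, Category.assoc, Scheme.ΓSpecIso_naturality, Iso.inv_hom_id_assoc]

lemma toAff_injective (φ ψ : Γ(Y, ⊤) ⟶ Γ(T, ⊤)) (h : toAff φ = toAff ψ) : φ = ψ := by
  rw [← toAff_appTop φ, h, toAff_appTop]

end AffHom

section UP

variable {X : Scheme.{u}} {U V : X.Etale} (g : V ⟶ U) [hU : IsAffine U.left] [hV : IsAffine V.left]
  {m : ℕ} (i : Fin (m + 1) → PUnit.{u + 2})

/-- the `(m+1)`-fold fibre product of `V` over `U`, as a scheme. -/
noncomputable abbrev Wsch : Scheme.{u} := prodSch (single g ∘ i)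

instance isAffine_Wsch : IsAffine (Wsch g i) := isAffine_prod g hU hV m i

/-- the projections. -/
noncomputable abbrev pr (k : Fin (m + 1)) : Wsch g i ⟶ V.left := prj (single g ∘ i) k

/-- the ring of functions on the fibre product. -/
noncomputable abbrev TT : CommRingCat.{u} := Γ(Wsch g i, ⊤)

/-- the legs. -/
noncomputable abbrev leg (k : Fin (m + 1)) : Γ(V.left, ⊤) ⟶ TT g i := (pr g i k).appTop

lemma pr_g (k : Fin (m + 1)) : pr g i k ≫ g.left = str (single g ∘ i) := prj_str _ k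

theorem exists_desc (R : CommRingCat.{u}) (f : Fin (m + 1) → (Γ(V.left, ⊤) ⟶ R))
    (hf : ∀ k, g.left.appTop ≫ f k = g.left.appTop ≫ f 0) :
    ∃ h : TT g i ⟶ R, ∀ k, leg g i k ≫ h = f k := by
  let e := Scheme.ΓSpecIso R
  let t : ∀ _ : Fin (m + 1), Spec R ⟶ V.left := fun k => toAff (f k ≫ e.inv)
  have ht : ∀ k, t k ≫ g.left = t 0 ≫ g.left := by
    intro k
    rw [toAff_comp, toAff_comp, ← Category.assoc, hf k, Category.assoc]
  obtain ⟨s, -, hs⟩ := exists_lift (single g ∘ i) (t 0 ≫ g.left) t ht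
  refine ⟨s.appTop ≫ e.hom, fun k => ?_⟩
  have h1 : (pr g i k).appTop ≫ s.appTop = (t k).appTop := by
    rw [← Scheme.Hom.comp_appTop]
    exact congrArg Scheme.Hom.appTop (hs k)
  rw [← Category.assoc, h1, toAff_appTop, Category.assoc, Iso.inv_hom_id, Category.comp_id]

theorem desc_ext (R : CommRingCat.{u}) (h h' : TT g i ⟶ R)
    (hh : ∀ k, leg g i k ≫ h = leg g i k ≫ h') : h = h' := by
  let e := Scheme.ΓSpecIso R
  have hk : ∀ k, (toAff (h ≫ e.inv) : Spec R ⟶ Wsch g i) ≫ pr g i k =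
      (toAff (h' ≫ e.inv) : Spec R ⟶ Wsch g i) ≫ pr g i k := by
    intro k
    rw [toAff_comp, toAff_comp, ← Category.assoc, hh k, Category.assoc]
  have h1 : (toAff (h ≫ e.inv) : Spec R ⟶ Wsch g i) = toAff (h' ≫ e.inv) := by
    apply hom_ext (single g ∘ i)
    · rw [← pr_g g i 0, ← Category.assoc, ← Category.assoc, hk 0]
    · exact hk
  have h2 := toAff_injective _ _ h1
  exact (cancel_mono e.inv).1 h2

end UP

section Iso

variable {X : Scheme.{u}} {U V : X.Etale} (g : V ⟶ U) [hU : IsAffine U.left] [hV : IsAffine V.left]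
  [alg : Algebra Γ(U.left, ⊤) Γ(V.left, ⊤)]
  (halg : CommRingCat.ofHom (algebraMap Γ(U.left, ⊤) Γ(V.left, ⊤)) = g.left.appTop)

/-- the Amitsur term. -/
noncomputable abbrev PP (U V : X.Etale) [Algebra Γ(U.left, ⊤) Γ(V.left, ⊤)] (m : ℕ) :
    CommRingCat.{u} := H10AM.P Γ(U.left, ⊤) Γ(V.left, ⊤) m

noncomputable abbrev io (U V : X.Etale) [Algebra Γ(U.left, ⊤) Γ(V.left, ⊤)] (m : ℕ)
    (k : Fin (m + 1)) : Γ(V.left, ⊤) ⟶ PP U V m :=
  H10AM.iota Γ(U.left, ⊤) Γ(V.left, ⊤) m k

include halg in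
lemma app_io (m : ℕ) (k : Fin (m + 1)) :
    g.left.appTop ≫ io U V m k = H10AM.hd Γ(U.left, ⊤) Γ(V.left, ⊤) m := by
  rw [← halg]
  exact H10AM.arrow_iota Γ(U.left, ⊤) Γ(V.left, ⊤) m k

include halg in
lemma hom_ext_PP {m : ℕ} {T : CommRingCat.{u}} (f f' : PP U V m ⟶ T)
    (h : ∀ k, io U V m k ≫ f = io U V m k ≫ f') : f = f' := by
  apply WidePushout.hom_ext
  · exact h
  · change H10AM.hd Γ(U.left, ⊤) Γ(V.left, ⊤) m ≫ f = H10AM.hd Γ(U.left, ⊤) Γ(V.left, ⊤) m ≫ f'
    rw [← app_io g halg m 0, Category.assoc, Category.assoc, h 0]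

variable {m : ℕ} (i : Fin (m + 1) → PUnit.{u + 2})

/-- the comparison map. -/
noncomputable def psi : PP U V m ⟶ TT g i :=
  WidePushout.desc (str (single g ∘ i)).appTop (fun k => leg g i k) (fun k => by
    change CommRingCat.ofHom (algebraMap Γ(U.left, ⊤) Γ(V.left, ⊤)) ≫ (pr g i k).appTop = _
    rw [halg, ← Scheme.Hom.comp_appTop]
    exact congrArg Scheme.Hom.appTop (pr_g g i k))

lemma io_psi (k : Fin (m + 1)) : io U V m k ≫ psi g halg i = leg g i k := by
  unfold psi
  exact WidePushout.ι_desc _ _ _ _ k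

/-- the inverse. -/
noncomputable def theta : TT g i ⟶ PP U V m :=
  (exists_desc g i (PP U V m) (fun k => io U V m k) (fun k => by
    rw [app_io g halg, app_io g halg])).choose

lemma leg_theta (k : Fin (m + 1)) : leg g i k ≫ theta g halg i = io U V m k :=
  (exists_desc g i (PP U V m) (fun k => io U V m k) (fun k => by
    rw [app_io g halg, app_io g halg])).choose_spec k

/-- the identification of the ring of functions on the fibre power with the Amitsur term. -/
noncomputable def Psi : PP U V m ≅ TT g i where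
  hom := psi g halg i
  inv := theta g halg i
  hom_inv_id := by
    apply hom_ext_PP g halg
    intro k
    rw [← Category.assoc, io_psi, leg_theta, Category.comp_id]
  inv_hom_id := by
    apply desc_ext
    intro k
    rw [← Category.assoc, leg_theta, io_psi, Category.comp_id]

section Face

variable {m : ℕ} (i : Fin (m + 2) → PUnit.{u + 2}) (j : Fin (m + 2))

/-- the face morphism on underlying schemes. -/
noncomputable abbrev fc : Wsch g i ⟶ Wsch g (i ∘ j.succAbove) :=
  (Groth.Agent.Lib.Helper15.CechGen.face (single g) i j).left.left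

lemma fc_pr (a : Fin (m + 1)) : fc g i j ≫ pr g (i ∘ j.succAbove) a = pr g i (j.succAbove a) :=
  congrArg (fun f => f.left.left) (Groth.Agent.Lib.Helper15.CechGen.face_π (single g) i j a)

lemma del_Psi : H10AM.del Γ(U.left, ⊤) Γ(V.left, ⊤) m j ≫ (Psi g halg i).hom =
    (Psi g halg (i ∘ j.succAbove)).hom ≫ (fc g i j).appTop := by
  apply hom_ext_PP g halg
  intro a
  have h1 : io U V m a ≫ H10AM.del Γ(U.left, ⊤) Γ(V.left, ⊤) m j = io U V (m + 1) (j.succAbove a) :=
    H10AM.iota_del Γ(U.left, ⊤) Γ(V.left, ⊤) m j a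
  rw [← Category.assoc, h1]
  change io U V (m + 1) (j.succAbove a) ≫ psi g halg i =
    io U V m a ≫ psi g halg (i ∘ j.succAbove) ≫ (fc g i j).appTop
  rw [io_psi, ← Category.assoc, io_psi, ← Scheme.Hom.comp_appTop]
  exact (congrArg Scheme.Hom.appTop (fc_pr g i j a)).symm

end Face

end Iso

section Main

open Groth.Agent.Lib.Helper15.CechGen

variable {X : Scheme.{u}} {U V : X.Etale} (g : V ⟶ U) [hU : IsAffine U.left] [hV : IsAffine V.left]
  [alg : Algebra Γ(U.left, ⊤) Γ(V.left, ⊤)]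
  (halg : CommRingCat.ofHom (algebraMap Γ(U.left, ⊤) Γ(V.left, ⊤)) = g.left.appTop)

/-- the restriction of `G_a` to the slice. -/
noncomputable abbrev PG (U : X.Etale) : (Over U)ᵒᵖ ⥤ AddCommGrpCat.{u + 1} :=
  (Over.forget U).op ⋙ (EtCoh.Ga X).obj

/-- sections of `G_a` from functions. -/
def up {W : Over U} (a : Γ(W.left.left, ⊤)) : (PG U).obj (op W) := ULift.up a

/-- functions from sections of `G_a`. -/
def dn {W : Over U} (x : (PG U).obj (op W)) : Γ(W.left.left, ⊤) := ULift.down x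

lemma dn_up {W : Over U} (a : Γ(W.left.left, ⊤)) : dn (up a) = a := rfl

lemma up_dn {W : Over U} (x : (PG U).obj (op W)) : up (dn x) = x := rfl

lemma dn_map {W W' : Over U} (f : W ⟶ W') (x : (PG U).obj (op W')) :
    dn (((PG U).map f.op).hom x) = f.left.left.appTop.hom (dn x) := rfl

lemma dn_add {W : Over U} (x y : (PG U).obj (op W)) : dn (x + y) = dn x + dn y := rfl

lemma dn_zero {W : Over U} : dn (0 : (PG U).obj (op W)) = 0 := rfl

/-- `dn` as an additive map. -/
def dnHom (W : Over U) : (PG U).obj (op W) →+ Γ(W.left.left, ⊤) where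
  toFun := dn
  map_zero' := rfl
  map_add' _ _ := rfl

lemma dn_injective {W : Over U} (x y : (PG U).obj (op W)) (h : dn x = dn y) : x = y :=
  ULift.ext _ _ h

lemma hsq (R A : Type u) [CommRing R] [CommRing A] [Algebra R A] [Module.FaithfullyFlat R A]
    (m : ℕ) (c : H10AM.P R A m) :
    H10AM.DD R A (m + 1) (H10AM.DD R A m c) = 0 := by
  have h0 := AlgebraicTopology.AlternatingCofaceMapComplex.d_squared (H10AM.XX R A) m
  have h1 : (AlgebraicTopology.AlternatingCofaceMapComplex.objD (H10AM.XX R A) (m + 1)).hom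
      ((AlgebraicTopology.AlternatingCofaceMapComplex.objD (H10AM.XX R A) m).hom c) = 0 :=
    congrArg (fun g => g.hom c) h0
  rw [H10AM.objD_apply R A m c] at h1
  exact (H10AM.objD_apply R A (m + 1) (H10AM.DD R A m c)).symm.trans h1

/-- the constant multi-index. -/
abbrev cst (k : ℕ) : Fin (k + 1) → PUnit.{u + 2} := fun _ => PUnit.unit

include halg in
/-- the alternating sum of the face maps corresponds to the Amitsur differential. -/
lemma sum_face (n : ℕ) (η : PP U V n) :
    ∑ k : Fin (n + 2), (-1 : ℤ) ^ (k : ℕ) •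
      (fc g (cst (n + 1)) k).appTop.hom ((Psi g halg (cst (n + 1) ∘ k.succAbove)).hom.hom η) =
    (Psi g halg (cst (n + 1))).hom.hom (H10AM.DD Γ(U.left, ⊤) Γ(V.left, ⊤) n η) := by
  rw [H10AM.DD_apply, map_sum]
  refine Finset.sum_congr rfl (fun k _ => ?_)
  rw [map_zsmul]
  congr 1
  exact (ConcreteCategory.congr_hom (del_Psi g halg (cst (n + 1)) k) η).symm

include halg in
theorem exactAt_succ [Module.FaithfullyFlat Γ(U.left, ⊤) Γ(V.left, ⊤)] (n : ℕ) :
    (cx (single g) (PG U)).ExactAt (n + 1) := by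
  rw [HomologicalComplex.exactAt_iff' _ n (n + 1) (n + 1 + 1) (by simp) (by simp),
    ShortComplex.ab_exact_iff]
  intro x hx
  have hx' : ((cx (single g) (PG U)).d (n + 1) (n + 1 + 1)).hom x = 0 := hx
  -- the component of `x`
  let xs : TT g (cst (n + 1)) := dn ((proj (single g) (PG U) (n + 1) (cst (n + 1))).hom x)
  let ξ : PP U V (n + 1) := (Psi g halg (cst (n + 1))).inv.hom xs
  have hξ : (Psi g halg (cst (n + 1))).hom.hom ξ = xs :=
    ConcreteCategory.congr_hom (Psi g halg (cst (n + 1))).inv_hom_id xs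
  have hξ' : ∀ k : Fin (n + 1 + 2),
      (Psi g halg (cst (n + 1 + 1) ∘ k.succAbove)).hom.hom ξ = xs := fun k => hξ
  have hcyc : H10AM.DD Γ(U.left, ⊤) Γ(V.left, ⊤) (n + 1) ξ = 0 := by
    have hinj : Function.Injective (Psi g halg (cst (n + 1 + 1))).hom.hom := by
      intro a b hab
      have := congrArg (Psi g halg (cst (n + 1 + 1))).inv.hom hab
      rwa [← CommRingCat.comp_apply, ← CommRingCat.comp_apply, Iso.hom_inv_id] at this
    apply hinj
    rw [map_zero, ← sum_face g halg (n + 1) ξ]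
    have h1 := d_apply (single g) (PG U) (n + 1) x (cst (n + 1 + 1))
    rw [hx', map_zero] at h1
    have h2 := congrArg (dnHom _) h1
    rw [map_zero, map_sum] at h2
    refine Eq.trans ?_ h2.symm
    refine Finset.sum_congr rfl (fun k _ => ?_)
    rw [map_zsmul, hξ' k]
    rfl
  obtain ⟨η, hη⟩ := (H10AM.exact_DD Γ(U.left, ⊤) Γ(V.left, ⊤) n
    (hsq Γ(U.left, ⊤) Γ(V.left, ⊤) n) ξ).1 hcyc
  refine ⟨mk (single g) (PG U) (fun i => up ((Psi g halg i).hom.hom η)), ?_⟩
  apply ext_elem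
  intro i
  obtain rfl : i = cst (n + 1) := Subsingleton.elim _ _
  change (proj (single g) (PG U) (n + 1) (cst (n + 1))).hom
    (((cx (single g) (PG U)).d n (n + 1)).hom _) = _
  rw [d_apply]
  simp only [proj_mk]
  apply dn_injective
  change dnHom _ _ = xs
  rw [map_sum, ← hξ, ← hη, ← sum_face g halg n η]
  refine Finset.sum_congr rfl (fun k _ => ?_)
  rw [map_zsmul]
  rfl

end Main

/-- **`G_a` is affine-Čech-acyclic.** -/
theorem affCechAcyc_Ga (X : Scheme.{u}) : AffCechAcyc (EtCoh.Ga X) := by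
  intro U V g hU hV hg p hp
  obtain ⟨n, rfl⟩ : ∃ n, p = n + 1 := ⟨p - 1, by omega⟩
  letI alg : Algebra Γ(U.left, ⊤) Γ(V.left, ⊤) := g.left.appTop.hom.toAlgebra
  have halg : CommRingCat.ofHom (algebraMap Γ(U.left, ⊤) Γ(V.left, ⊤)) = g.left.appTop := rfl
  haveI : Etale U.hom := U.prop
  haveI : Etale (g.left ≫ U.hom) := by
    rw [MorphismProperty.Over.w g]
    exact V.prop
  haveI : Etale g.left := MorphismProperty.of_postcomp (W := @Etale) (W' := @Etale) g.left U.hom
    inferInstance inferInstance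
  haveI : Surjective g.left := ⟨hg⟩
  have hff : g.left.appTop.hom.FaithfullyFlat :=
    (Flat.flat_and_surjective_iff_faithfullyFlat_of_isAffine (f := g.left)).1 ⟨inferInstance, inferInstance⟩
  haveI : Module.FaithfullyFlat Γ(U.left, ⊤) Γ(V.left, ⊤) := hff
  have h := exactAt_succ g halg n
  exact (HomologicalComplex.exactAt_iff_isZero_homology _ _).1 h

end Groth.Agent.Lib.Helper5.GaCech
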