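import Groth.Agent.Lib.Helper5.EtZarCompare
import Groth.Agent.Lib.Helper13.EtaleRestr
import Groth.Agent.S0109

set_option autoImplicit false
set_option backward.isDefEq.respectTransparency false
universe u
open CategoryTheory CategoryTheory.Limits AlgebraicGeometry Opposite TopologicalSpace

namespace Groth.Agent.Lib.Helper5.GaAcyc

open Groth.Agent.Lib.Helper5.EtZarCompare Groth.Agent.Lib.Helper13.EtaleRestr
  Groth.Agent.Lib.Helper2.EtMV Groth.Agent.Lib.Helper13.ExtAdj

attribute [local instance] Groth.Agent.Lib.Helper2.EtMV.pull_preservesFiniteLimits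

variable {U X : Scheme.{u}} (j : U ⟶ X) [AlgebraicGeometry.Etale j]

/-- restriction of `G_a` along an étale morphism is `G_a`. -/
noncomputable def restrGaIso : (EtShriek.restrAlong j).obj (EtCoh.Ga X) ≅ EtCoh.Ga U :=
  (fullyFaithfulSheafToPresheaf _ _).preimageIso (NatIso.ofComponents (fun V => Iso.refl _) (by
    intro V W f
    rfl))

/-- inverse image of `G_a` along an étale morphism is `G_a`. -/
noncomputable def pullGaIso : (EtCoh.pull j).obj (EtCoh.Ga X) ≅ EtCoh.Ga U :=
  (pullIsoRestr j).app _ ≪≫ restrGaIso j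

variable (X) [EtZar.ZarCont X]

theorem affAcyc_Ga : AffAcyc X (EtCoh.Ga X) := by
  intro V hV k
  have : IsAffine (V : Scheme.{u}) := hV
  have h0 : Subsingleton (EtCoh.H (V : Scheme.{u}) (EtCoh.Ga (V : Scheme.{u})) (k + 1)) :=
    Groth.Agent.S0109.result _ (k + 1) (by omega)
  have h1 : Subsingleton (EtCoh.H (V : Scheme.{u}) ((EtCoh.pull V.ι).obj (EtCoh.Ga X)) (k + 1)) :=
    (extIsoRight _ (pullGaIso V.ι) (k + 1)).toEquiv.subsingleton
  exact (Θ V.ι (EtCoh.Ga X) (k + 1)).toEquiv.subsingleton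

end Groth.Agent.Lib.Helper5.GaAcyc
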