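import Mathlib

/-!
# Helper5: enlarging the coefficient universe of abelian sheaves on a space; constant sheaf

`L : Sheaf(T, Ab.{u}) ⥤ Sheaf(T, Ab.{u+1})` and `LConstIso : L ℤ ≅ ℤ`.
-/

set_option autoImplicit false
open CategoryTheory CategoryTheory.Limits Opposite TopologicalSpace

namespace Groth.Agent.Lib.Helper5.ULiftConst

universe u

variable (T : Type u) [TopologicalSpace T]

instance essSmallOpens : EssentiallySmall.{u + 1} (Opens T) :=
  essentiallySmall_of_small_of_locallySmall _

instance hasSheafifyL : HasSheafify (Opens.grothendieckTopology T) AddCommGrpCat.{u + 1} :=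
  hasSheafifyEssentiallySmallSite _ _

instance wEqL : (Opens.grothendieckTopology T).WEqualsLocallyBijective AddCommGrpCat.{u + 1} :=
  GrothendieckTopology.WEqualsLocallyBijective.ofEssentiallySmall (Opens.grothendieckTopology T)

variable {T}

abbrev ul := AddCommGrpCat.uliftFunctor.{u+1, u}

theorem locInj_whisker {P Q : (Opens T)ᵒᵖ ⥤ AddCommGrpCat.{u}} (η : P ⟶ Q)
    [Presheaf.IsLocallyInjective (Opens.grothendieckTopology T) η] :
    Presheaf.IsLocallyInjective (Opens.grothendieckTopology T) (Functor.whiskerRight η ul.{u}) where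
  equalizerSieve_mem {X} x y h := by
    have h' : η.app X x.down = η.app X y.down := congrArg ULift.down h
    refine (Opens.grothendieckTopology T).superset_covering ?_
      (Presheaf.equalizerSieve_mem (Opens.grothendieckTopology T) η x.down y.down h')
    intro V f hf
    apply ULift.ext
    exact hf

theorem locSurj_whisker {P Q : (Opens T)ᵒᵖ ⥤ AddCommGrpCat.{u}} (η : P ⟶ Q)
    [Presheaf.IsLocallySurjective (Opens.grothendieckTopology T) η] :
    Presheaf.IsLocallySurjective (Opens.grothendieckTopology T) (Functor.whiskerRight η ul.{u}) where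
  imageSieve_mem {U} s := by
    refine (Opens.grothendieckTopology T).superset_covering ?_
      (Presheaf.imageSieve_mem (Opens.grothendieckTopology T) η s.down)
    rintro V f ⟨t, ht⟩
    exact ⟨ULift.up t, by
      apply ULift.ext
      exact ht⟩


variable (T)

/-- small-valued abelian sheaves -/
abbrev Zu : Type (u+1) := Sheaf (Opens.grothendieckTopology T) AddCommGrpCat.{u}
/-- large-valued abelian sheaves -/
abbrev Zl : Type (u+2) := Sheaf (Opens.grothendieckTopology T) AddCommGrpCat.{u+1}

/-- enlarging the coefficient universe -/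
noncomputable def L : Zu T ⥤ Zl T :=
  sheafCompose (Opens.grothendieckTopology T) AddCommGrpCat.uliftFunctor.{u+1, u}

/-- the constant sheaf `ℤ`, small version -/
noncomputable abbrev ZZu : Zu T :=
  (constantSheaf (Opens.grothendieckTopology T) AddCommGrpCat.{u}).obj
    (AddCommGrpCat.of (ULift.{u} ℤ))
/-- the constant sheaf `ℤ`, large version -/
noncomputable abbrev ZZl : Zl T :=
  (constantSheaf (Opens.grothendieckTopology T) AddCommGrpCat.{u+1}).obj
    (AddCommGrpCat.of (ULift.{u+1} ℤ))

/-- the integers in two universes -/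
noncomputable def zIso : AddCommGrpCat.uliftFunctor.{u+1, u}.obj (AddCommGrpCat.of (ULift.{u} ℤ)) ≅
    AddCommGrpCat.of (ULift.{u+1} ℤ) :=
  (AddEquiv.ulift.trans (AddEquiv.ulift.trans AddEquiv.ulift.symm)).toAddCommGrpIso

/-- the constant presheaf -/
abbrev Pu : (Opens T)ᵒᵖ ⥤ AddCommGrpCat.{u} :=
  (Functor.const (Opens T)ᵒᵖ).obj (AddCommGrpCat.of (ULift.{u} ℤ))

/-- the comparison map of presheaves -/
noncomputable def αmap : Pu T ⋙ ul.{u} ⟶ ((L T).obj (ZZu T)).obj :=
  Functor.whiskerRight (toSheafify (Opens.grothendieckTopology T) (Pu T)) ul.{u}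

theorem W_αmap : (Opens.grothendieckTopology T).W (αmap T) := by
  have h1 : Presheaf.IsLocallyInjective (Opens.grothendieckTopology T) (αmap T) :=
    locInj_whisker (toSheafify (Opens.grothendieckTopology T) (Pu T))
  have h2 : Presheaf.IsLocallySurjective (Opens.grothendieckTopology T) (αmap T) :=
    locSurj_whisker (toSheafify (Opens.grothendieckTopology T) (Pu T))
  exact GrothendieckTopology.W_of_isLocallyBijective _ (αmap T)

instance isIso_map_αmap : IsIso ((presheafToSheaf (Opens.grothendieckTopology T)
    AddCommGrpCat.{u+1}).map (αmap T)) :=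
  ((Opens.grothendieckTopology T).W_iff_isIso_map_of_adjunction
    (sheafificationAdjunction _ _) (αmap T)).1 (W_αmap T)

/-- `L` sends the constant sheaf `ℤ` to the constant sheaf `ℤ`. -/
noncomputable def LConstIso : (L T).obj (ZZu T) ≅ ZZl T :=
  (asIso ((sheafificationAdjunction (Opens.grothendieckTopology T) AddCommGrpCat.{u+1}).counit.app
    ((L T).obj (ZZu T)))).symm ≪≫
  (asIso ((presheafToSheaf (Opens.grothendieckTopology T) AddCommGrpCat.{u+1}).map (αmap T))).symm ≪≫
  (presheafToSheaf _ _).mapIso (Functor.constComp _ _ _) ≪≫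
  (constantSheaf (Opens.grothendieckTopology T) AddCommGrpCat.{u+1}).mapIso zIso

end Groth.Agent.Lib.Helper5.ULiftConst
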