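import Mathlib
import Groth.Prelude.Def_CohTop
import Groth.Agent.Lib.Helper1.FlasqueAcyclic
import Groth.Agent.Lib.Helper13.ExtAdj
import Groth.Agent.Lib.Helper5.ULiftConst

/-!
# Helper5: sheaf cohomology on a topological space does not depend on the coefficient universe

For a topological space `T : Type u` and an abelian sheaf `F` with values in `AddCommGrpCat.{u}`,
`H^n(T, F) ≃+ H^n(T, ULift F)` where `ULift F` takes values in `AddCommGrpCat.{u+1}`
(`HIso`, natural in `F`: `HIso_naturality`).

Method: `L = sheafCompose ulift` is exact and fully faithful; an injective `I` goes to a flasque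
sheaf, which is acyclic.  Flasque acyclicity is only available when the space and the coefficients
live in the same universe, so we transport along the equivalence of sites
`Opens T ≌ Opens (ULift T)` (`E`).
-/

set_option autoImplicit false
open CategoryTheory CategoryTheory.Limits Opposite TopologicalSpace Abelian

namespace Groth.Agent.Lib.Helper5.ULiftSheaf

open Groth.Agent.Lib.Helper13.ExtAdj Groth.Agent.Lib.Helper5.ULiftConst

section General

universe w w' v v' u₁ u₂

variable {C : Type u₁} [Category.{v} C] [Abelian C]
variable {D : Type u₂} [Category.{v'} D] [Abelian D]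
variable (F : C ⥤ D) [F.Additive] [PreservesFiniteLimits F] [PreservesFiniteColimits F]

/-- Variant of `Functor.mapExt_bijective_of_preservesInjectiveObjects`: it suffices that `F` sends
injectives to `Ext(F X, -)`-acyclic objects. -/
lemma mapExt_bijective_of_acyclic [F.Full] [F.Faithful] [HasExt.{w} C]
    [HasExt.{w'} D] [EnoughInjectives C] (X : C)
    (hX : ∀ I : C, Injective I → ∀ (n : ℕ) (x : Ext.{w'} (F.obj X) (F.obj I) (n + 1)), x = 0)
    (Y : C) (n : ℕ) :
    Function.Bijective (F.mapExtAddHom X Y n) := by
  induction n generalizing Y with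
  | zero => simpa [Ext.mapExactFunctor₀] using
      ⟨Functor.Faithful.map_injective, Functor.Full.map_surjective⟩
  | succ n hn =>
    let I : InjectivePresentation Y := Classical.arbitrary _
    let S := ShortComplex.mk _ _ (cokernel.condition I.f)
    have hI : Injective S.X₂ := I.injective
    have hS : S.ShortExact := { exact := ShortComplex.exact_cokernel I.f }
    exact AddMonoidHom.bijective_of_surjective_of_bijective_of_right_exact _ _ _ _
      (F.mapExtAddHom X S.X₂ n) (F.mapExtAddHom X S.X₃ n) (F.mapExtAddHom X S.X₁ (n + 1))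
      (by
        ext x
        simp only [AddMonoidHom.comp_apply, Functor.mapExtAddHom_apply]
        simp [Ext.mapExactFunctor_comp, Ext.mapExactFunctor_mk₀]
        rfl)
      (by
        ext x
        simp only [AddMonoidHom.comp_apply, Functor.mapExtAddHom_apply]
        simp [Ext.mapExactFunctor_comp, Ext.mapExactFunctor_extClass]
        rfl)
      ((ShortComplex.ab_exact_iff_function_exact _).mp
        (Ext.covariant_sequence_exact₃' X hS n (n + 1) rfl))
      ((ShortComplex.ab_exact_iff_function_exact _).mp
        (Ext.covariant_sequence_exact₃' (F.obj X) (hS.map F) n (n + 1) rfl))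
      (hn _).surjective (hn _)
      (fun x₁ ↦ Ext.covariant_sequence_exact₁ _ hS x₁ (Ext.eq_zero_of_injective _) rfl)
      (fun y₁ ↦ Ext.covariant_sequence_exact₁ _ (hS.map F) y₁ (hX S.X₂ hI n _) rfl)

end General

universe u

variable (T : Type u) [TopologicalSpace T]

/-- large-valued abelian sheaves on the lifted space -/
abbrev Zll : Type (u+2) := Sheaf (Opens.grothendieckTopology (ULift.{u+1} T)) AddCommGrpCat.{u+1}

instance : IsGrothendieckAbelian.{u} (Zu T) :=
  Sheaf.isGrothendieckAbelian_of_essentiallySmall _ _

instance : IsGrothendieckAbelian.{u + 1} (Zl T) :=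
  Sheaf.isGrothendieckAbelian_of_essentiallySmall _ _

instance : IsGrothendieckAbelian.{u + 1} (Zll T) :=
  Sheaf.isGrothendieckAbelian_of_essentiallySmall _ _

instance : (L T).Faithful := by unfold L; infer_instance
instance : (L T).Full := by unfold L; infer_instance
instance : (L T).Additive := by
  unfold L
  constructor
  intro F G f g
  rfl

/-- `L` followed by the forgetful functor to presheaves. -/
noncomputable def LcompIso : L T ⋙ sheafToPresheaf _ _ ≅ sheafToPresheaf _ _ ⋙
      (Functor.whiskeringRight _ _ _).obj AddCommGrpCat.uliftFunctor.{u+1, u} := Iso.refl _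

set_option maxHeartbeats 1000000 in
instance pflL : PreservesFiniteLimits (L T) := by
  have h0 : PreservesFiniteLimits ((Functor.whiskeringRight (Opens T)ᵒᵖ _ _).obj
      AddCommGrpCat.uliftFunctor.{u+1, u}) := by
    constructor
    intro K _ _
    infer_instance
  have h1 : PreservesFiniteLimits
      (sheafToPresheaf (Opens.grothendieckTopology T) AddCommGrpCat.{u}) := by
    constructor
    intro K _ _
    infer_instance
  have h2 : PreservesFiniteLimits (L T ⋙ sheafToPresheaf _ _) :=
    preservesFiniteLimits_of_natIso (LcompIso T).symm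
  constructor
  intro K _ _
  exact preservesLimitsOfShape_of_reflects_of_preserves (L T) (sheafToPresheaf _ _)

theorem epi_L_map {F G : Zu T} (φ : F ⟶ G) [Epi φ] : Epi ((L T).map φ) := by
  have h : Sheaf.IsLocallySurjective φ :=
    (Sheaf.isLocallySurjective_iff_epi' AddCommGrpCat.{u} φ).2 ‹Epi φ›
  apply (Sheaf.isLocallySurjective_iff_epi' AddCommGrpCat.{u+1} _).1
  constructor
  intro U s
  refine (Opens.grothendieckTopology T).superset_covering ?_ (h.imageSieve_mem s.down)
  rintro V i ⟨t, ht⟩
  exact ⟨ULift.up t, by
    apply ULift.ext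
    exact ht⟩

instance pfcL : PreservesFiniteColimits (L T) := by
  rw [Functor.preservesFiniteColimits_iff_forall_exact_map_and_epi]
  intro S hS
  refine ⟨((Functor.preservesFiniteLimits_iff_forall_exact_map_and_mono (L T)).1
    inferInstance S hS).1, ?_⟩
  have := hS.epi_g
  exact epi_L_map T S.g

/-- the equivalence between opens of `T` and opens of `ULift T` -/
noncomputable def eOp : Opens T ≌ Opens (ULift.{u+1} T) :=
  (Homeomorph.ulift.{u+1} (X := T)).opensCongr.symm.equivalence

instance cocont_functor : (eOp T).functor.IsCocontinuous (Opens.grothendieckTopology T)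
    (Opens.grothendieckTopology (ULift.{u+1} T)) where
  cover_lift := by
    intro U S hS
    rw [Opens.mem_grothendieckTopology] at hS ⊢
    intro x hx
    obtain ⟨V', f', hf', hxV'⟩ := hS (ULift.up x) hx
    have hle : (eOp T).inverse.obj V' ≤ U := by
      intro y hy
      exact f'.le hy
    refine ⟨(eOp T).inverse.obj V', homOfLE hle, ?_, hxV'⟩
    have hle2 : (eOp T).functor.obj ((eOp T).inverse.obj V') ≤ V' := fun y hy => hy
    have : (eOp T).functor.map (homOfLE hle) = homOfLE hle2 ≫ f' := Subsingleton.elim _ _
    change S.arrows ((eOp T).functor.map (homOfLE hle))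
    rw [this]
    exact S.downward_closed hf' _

instance cocont_inverse : (eOp T).inverse.IsCocontinuous
    (Opens.grothendieckTopology (ULift.{u+1} T)) (Opens.grothendieckTopology T) where
  cover_lift := by
    intro U S hS
    rw [Opens.mem_grothendieckTopology] at hS ⊢
    intro x hx
    obtain ⟨V', f', hf', hxV'⟩ := hS x.down hx
    have hle : (eOp T).functor.obj V' ≤ U := by
      intro y hy
      exact f'.le hy
    refine ⟨(eOp T).functor.obj V', homOfLE hle, ?_, hxV'⟩
    have hle2 : (eOp T).inverse.obj ((eOp T).functor.obj V') ≤ V' := fun y hy => hy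
    have : (eOp T).inverse.map (homOfLE hle) = homOfLE hle2 ≫ f' := Subsingleton.elim _ _
    change S.arrows ((eOp T).inverse.map (homOfLE hle))
    rw [this]
    exact S.downward_closed hf' _

instance denseSub : (eOp T).inverse.IsDenseSubsite (Opens.grothendieckTopology (ULift.{u+1} T))
    (Opens.grothendieckTopology T) :=
  Equivalence.isDenseSubsite_inverse_of_isCocontinuous _ _ _

/-- The induced equivalence on sheaf categories. -/
noncomputable def E : Zl T ≌ Zll T :=
  (eOp T).sheafCongr _ _ _

instance : (E T).functor.Additive := by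
  constructor
  intro F G f g
  rfl

instance : (E T).functor.PreservesInjectiveObjects :=
  Functor.preservesInjectiveObjects_of_adjunction_of_preservesMonomorphisms (E T).symm.toAdjunction

theorem E_mapExt_bijective (A B : Zl T) (n : ℕ) :
    Function.Bijective ((E T).functor.mapExtAddHom A B n) :=
  Functor.mapExt_bijective_of_preservesInjectiveObjects.{u+1, u+1} (E T).functor A B n

/-- the constant sheaf `ℤ`, lifted version -/
noncomputable abbrev ZZll : Zll T :=
  (constantSheaf (Opens.grothendieckTopology (ULift.{u+1} T)) AddCommGrpCat.{u+1}).obj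
    (AddCommGrpCat.of (ULift.{u+1} ℤ))

/-- `⊤` is terminal among opens. -/
noncomputable def isTerminalTop' : IsTerminal (⊤ : Opens T) :=
  IsTerminal.ofUniqueHom (fun _ => homOfLE le_top) (fun _ _ => Subsingleton.elim _ _)

/-- the image of `⊤` is terminal. -/
noncomputable def isTerminalETop : IsTerminal ((eOp T).functor.obj ⊤) :=
  IsTerminal.isTerminalObj (eOp T).functor ⊤ (isTerminalTop' T)

set_option linter.deprecated false in
/-- `E` is compatible with constant sheaves. -/
noncomputable def EConstIso :
    constantSheaf (Opens.grothendieckTopology T) AddCommGrpCat.{u+1} ⋙ (E T).functor ≅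
    constantSheaf (Opens.grothendieckTopology (ULift.{u+1} T)) AddCommGrpCat.{u+1} :=
  Adjunction.natIsoOfRightAdjointNatIso
    ((constantSheafAdj (Opens.grothendieckTopology T) AddCommGrpCat.{u+1} (isTerminalTop' T)).comp
      (E T).toAdjunction)
    (constantSheafAdj (Opens.grothendieckTopology (ULift.{u+1} T)) AddCommGrpCat.{u+1}
      (isTerminalETop T))
    (Iso.refl _)

variable {T}

theorem flasque_EL (I : Zu T) [hI : TopCat.Sheaf.IsFlasque (X := TopCat.of T) I] :
    TopCat.Sheaf.IsFlasque (X := TopCat.of (ULift.{u+1} T)) ((E T).functor.obj ((L T).obj I)) where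
  epi {U V} i := by
    have : Epi (I.obj.map ((eOp T).inverse.map i.unop).op) := hI.epi _
    exact (AddCommGrpCat.uliftFunctor.{u+1, u}).map_epi (I.obj.map ((eOp T).inverse.map i.unop).op)

theorem L_acyclic (I : Zu T) [hI : TopCat.Sheaf.IsFlasque (X := TopCat.of T) I] (n : ℕ)
    (x : Ext.{u+1} ((L T).obj (ZZu T)) ((L T).obj I) (n + 1)) : x = 0 := by
  have h1 := flasque_EL I
  have h2 : Subsingleton (CohTop.H (X := TopCat.of (ULift.{u+1} T))
      ((E T).functor.obj ((L T).obj I)) (n + 1)) :=
    Groth.Agent.Lib.Helper1.FlasqueAcyclic.flasque_H_subsingleton _ n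
  have e3 : (extIsoLeft ((EConstIso T).app _) _ (n+1)).symm
      ((E T).functor.mapExtAddHom _ _ (n+1) ((extIsoLeft (LConstIso T) _ (n+1)).symm x)) = 0 :=
    Subsingleton.elim (α := CohTop.H (X := TopCat.of (ULift.{u+1} T))
      ((E T).functor.obj ((L T).obj I)) (n + 1)) _ _
  have e2 : (E T).functor.mapExtAddHom _ _ (n+1)
      ((extIsoLeft (LConstIso T) _ (n+1)).symm x) = 0 := by
    apply (extIsoLeft ((EConstIso T).app _) _ (n+1)).symm.injective
    rw [e3, map_zero]
  have e1 : (extIsoLeft (LConstIso T) _ (n+1)).symm x = 0 := by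
    apply (E_mapExt_bijective T _ _ _).1
    rw [e2, map_zero]
  apply (extIsoLeft (LConstIso T) _ (n+1)).symm.injective
  rw [e1, map_zero]

variable (T)

theorem L_mapExt_bijective (F : Zu T) (n : ℕ) :
    Function.Bijective ((L T).mapExtAddHom (ZZu T) F n) := by
  apply mapExt_bijective_of_acyclic.{u, u+1}
  intro I hI n x
  have : TopCat.Sheaf.IsFlasque (X := TopCat.of T) I :=
    Groth.Agent.Lib.Helper1.FlasqueAcyclic.isFlasque_of_injective (X := TopCat.of T) I
  exact L_acyclic I n x

/-- Sheaf cohomology does not change when the coefficient universe is enlarged. -/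
noncomputable def HIso (F : Zu T) (n : ℕ) : Sheaf.H.{u} F n ≃+ Sheaf.H.{u+1} ((L T).obj F) n :=
  (AddEquiv.ofBijective ((L T).mapExtAddHom (ZZu T) F n) (L_mapExt_bijective T F n)).trans
    (extIsoLeft (LConstIso T) _ n).symm

theorem HIso_naturality {F F' : Zu T} (φ : F ⟶ F') (n : ℕ) (x : Sheaf.H.{u} F n) :
    HIso T F' n (Sheaf.H.map φ n x) = Sheaf.H.map ((L T).map φ) n (HIso T F n x) := by
  change (Ext.mk₀ (LConstIso T).inv).comp
      (Ext.mapExactFunctor (L T) (x.comp (Ext.mk₀ φ) (add_zero n))) (zero_add n) =
    ((Ext.mk₀ (LConstIso T).inv).comp (Ext.mapExactFunctor (L T) x) (zero_add n)).comp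
      (Ext.mk₀ ((L T).map φ)) (add_zero n)
  rw [Ext.mapExactFunctor_comp, Ext.mapExactFunctor_mk₀]
  exact (Ext.comp_assoc _ _ _ (zero_add n) (add_zero n) (by omega)).symm

end Groth.Agent.Lib.Helper5.ULiftSheaf
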