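import Groth.Agent.Lib.Helper5.GaZar
import Groth.Agent.Lib.Helper5.GaAcyc
import Groth.Agent.Lib.Helper5.ULiftSheaf

set_option autoImplicit false
set_option backward.isDefEq.respectTransparency false
universe u
open CategoryTheory CategoryTheory.Limits AlgebraicGeometry Opposite TopologicalSpace

namespace Groth.Agent.Lib.Helper5.GaCompare

open Groth.Agent.Lib.Helper5.EtZarCompare Groth.Agent.Lib.Helper5.GaAcyc
  Groth.Agent.Lib.Helper5.GaZar Groth.Agent.Lib.Helper5.ULiftSheaf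
  Groth.Agent.Lib.Helper5.ULiftConst Groth.Agent.Lib.Helper13.ExtAdj
  Groth.Agent.Lib.Helper5.ZarContAll

variable (X : Scheme.{u})

/-- `H^p(X, O_X) ≃ H^p(X_et, G_a)`. -/
noncomputable def gaIso (p : ℕ) :
    Coh.HH X (Coh.structureModule X) p ≃+ EtCoh.H X (EtCoh.Ga X) p :=
  ((HIso X (OAb X) p).trans
    (extIsoRight (EtZarCompare.ZZ X) (resZarGaIso X) p).symm).trans
    (cmpIso X (EtCoh.Ga X) (affAcyc_Ga X) p)

end Groth.Agent.Lib.Helper5.GaCompare
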