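import Groth.Agent.Lib.Helper5.GaZar
import Groth.Prelude.Def_W4c5etcohweilstudentAS

set_option autoImplicit false
universe u
open CategoryTheory CategoryTheory.Limits AlgebraicGeometry Opposite TopologicalSpace

namespace Groth.Agent.Lib.Helper5.GaFrob

open Groth.Agent.Lib.Helper5.ULiftConst Groth.Agent.Lib.Helper5.GaZar W4c5etcohweilstudent

variable (X : Scheme.{u}) (p : ℕ) (hp : p.Prime) (h0 : (p : Γ(X, ⊤)) = 0)

include h0 in
theorem natCast_eq_zero_open (U : X.Opens) : (p : Γ(X, U)) = 0 := by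
  have := congrArg (X.presheaf.map (homOfLE (le_top : U ≤ ⊤)).op).hom h0
  simpa using this

/-- Frobenius as an additive map. -/
def frobHom (R : Type*) [CommRing R] (p : ℕ) (hp : p.Prime) (h0 : (p : R) = 0) : R →+ R where
  toFun x := x ^ p
  map_zero' := by simp [hp.ne_zero]
  map_add' x y := add_pow_prime_of_natCast_eq_zero p hp h0 x y

/-- The Artin–Schreier endomorphism of the structure sheaf (as an abelian sheaf). -/
noncomputable def asZar : OAb X ⟶ OAb X :=
  ⟨{ app := fun U => AddCommGrpCat.ofHom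
        (asHom Γ(X, U.unop) p hp (natCast_eq_zero_open X p h0 U.unop))
     naturality := by
       intro U V g
       ext x
       exact (ringHom_comp_asHom (X.presheaf.map g).hom p hp
         (natCast_eq_zero_open X p h0 U.unop) (natCast_eq_zero_open X p h0 V.unop) x).symm }⟩

/-- The Frobenius endomorphism of the structure sheaf (as an abelian sheaf). -/
noncomputable def frobZar : OAb X ⟶ OAb X :=
  ⟨{ app := fun U => AddCommGrpCat.ofHom
        (frobHom Γ(X, U.unop) p hp (natCast_eq_zero_open X p h0 U.unop))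
     naturality := by
       intro U V g
       ext x
       obtain ⟨y, rfl⟩ : ∃ y : Γ(X, U.unop), y = x := ⟨x, rfl⟩
       exact (map_pow (X.presheaf.map g).hom y p).symm }⟩


theorem asZar_add_id : asZar X p hp h0 + 𝟙 (OAb X) = frobZar X p hp h0 := by
  ext U x
  obtain ⟨y, rfl⟩ : ∃ y : Γ(X, U.unop), y = x := ⟨x, rfl⟩
  change (y ^ p - y) + y = y ^ p
  ring

theorem smul_frob (r : Coh.Γtop X) :
    Coh.smulAb (Coh.structureModule X) r ≫ frobZar X p hp h0 =
      frobZar X p hp h0 ≫ Coh.smulAb (Coh.structureModule X) (r ^ p) := by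
  ext U x
  obtain ⟨y, rfl⟩ : ∃ y : Γ(X, U.unop), y = x := ⟨x, rfl⟩
  change ((show Γ(X, U.unop) from Coh.resTop X U r) * y) ^ p =
    (show Γ(X, U.unop) from Coh.resTop X U (r ^ p)) * y ^ p
  rw [mul_pow]
  congr 1
  exact (map_pow (Coh.resTop X U) r p).symm

variable [EtZar.ZarCont X]

theorem resZar_as_comm :
    (EtZar.resZar X).map (artinSchreierEndo X p hp h0) ≫ (resZarGaIso X).hom =
      (resZarGaIso X).hom ≫ (L X).map (asZar X p hp h0) := by
  apply Sheaf.hom_ext
  ext U ⟨x⟩
  apply ULift.ext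
  obtain ⟨y, rfl⟩ : ∃ y : Γ(Scheme.Opens.toScheme (X := X) U.unop, ⊤), y = x := ⟨x, rfl⟩
  exact ringHom_comp_asHom (Scheme.Opens.topIso (X := X) U.unop).hom.hom p hp
    (natCast_eq_zero_etale p h0 ((EtZar.zarToEt X).obj U.unop))
    (natCast_eq_zero_open X p h0 U.unop) y

end Groth.Agent.Lib.Helper5.GaFrob
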