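import Groth.Agent.Lib.Helper5.GaFrob
import Groth.Agent.Lib.Helper5.GaCompare

set_option autoImplicit false
set_option backward.isDefEq.respectTransparency false
universe u
open CategoryTheory CategoryTheory.Limits AlgebraicGeometry Opposite TopologicalSpace

namespace Groth.Agent.Lib.Helper5.GaFrobCoh

open Groth.Agent.Lib.Helper5.ULiftConst Groth.Agent.Lib.Helper5.GaZar W4c5etcohweilstudent
  Groth.Agent.Lib.Helper5.GaFrob Groth.Agent.Lib.Helper5.GaCompare
  Groth.Agent.Lib.Helper5.EtZarCompare Groth.Agent.Lib.Helper5.GaAcyc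
  Groth.Agent.Lib.Helper5.ULiftSheaf Groth.Agent.Lib.Helper13.ExtAdj
  Groth.Agent.Lib.Helper5.ZarContAll CategoryTheory.Abelian

section General

universe w v u₁
variable {C : Type u₁} [Category.{v} C] [Abelian C] [HasExt.{w} C]

lemma extIsoRight_symm_natural (P : C) {A B : C} (e : A ≅ B) (f : A ⟶ A) (g : B ⟶ B)
    (h : f ≫ e.hom = e.hom ≫ g) (n : ℕ) (w : Ext.{w} P B n) :
    (extIsoRight P e n).symm (w.comp (Ext.mk₀ g) (add_zero n)) =
      ((extIsoRight P e n).symm w).comp (Ext.mk₀ f) (add_zero n) := by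
  change (w.comp (Ext.mk₀ g) (add_zero n)).comp (Ext.mk₀ e.inv) (add_zero n) =
    (w.comp (Ext.mk₀ e.inv) (add_zero n)).comp (Ext.mk₀ f) (add_zero n)
  rw [Ext.comp_assoc_of_third_deg_zero, Ext.comp_assoc_of_third_deg_zero, Ext.mk₀_comp_mk₀,
    Ext.mk₀_comp_mk₀]
  congr 2
  rw [← cancel_mono e.hom, Category.assoc, Category.assoc, e.inv_hom_id, Category.comp_id, h,
    e.inv_hom_id_assoc]

end General

variable (X : Scheme.{u}) (p : ℕ) (hp : p.Prime) (h0 : (p : Γ(X, ⊤)) = 0)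

theorem gaIso_as (q : ℕ) (v : Coh.HH X (Coh.structureModule X) q) :
    gaIso X q (Sheaf.H.map (asZar X p hp h0) q v) =
      Sheaf.H.map (artinSchreierEndo X p hp h0) q (gaIso X q v) := by
  change cmpIso X (EtCoh.Ga X) (affAcyc_Ga X) q ((extIsoRight (EtZarCompare.ZZ X)
      (resZarGaIso X) q).symm (HIso X (OAb X) q (Sheaf.H.map (asZar X p hp h0) q v))) =
    Sheaf.H.map (artinSchreierEndo X p hp h0) q (cmpIso X (EtCoh.Ga X) (affAcyc_Ga X) q
      ((extIsoRight (EtZarCompare.ZZ X) (resZarGaIso X) q).symm (HIso X (OAb X) q v)))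
  rw [HIso_naturality, ← cmpIso_naturality X (affAcyc_Ga X) (affAcyc_Ga X)]
  congr 1
  exact extIsoRight_symm_natural _ (resZarGaIso X) _ _ (resZar_as_comm X p hp h0) q _

end Groth.Agent.Lib.Helper5.GaFrobCoh
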