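import Mathlib
import Groth.Prelude.Def_Coh
import Groth.Prelude.Def_EtZar
import Groth.Prelude.Def_EtGm
import Groth.Agent.Lib.Helper5.ULiftConst
import Groth.Agent.Lib.Helper5.ZarContAll

set_option autoImplicit false
universe u
open CategoryTheory CategoryTheory.Limits AlgebraicGeometry Opposite TopologicalSpace

namespace Groth.Agent.Lib.Helper5.GaZar

open Groth.Agent.Lib.Helper5.ULiftConst

variable (X : Scheme.{u})

/-- the structure sheaf as a small-valued abelian sheaf -/
noncomputable abbrev OAb : Zu X := Coh.toAb (Coh.structureModule X)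

/-- sections of `G_a` over an open vs sections of the structure sheaf. -/
noncomputable def secEquiv (U : X.Opens) :
    ULift.{u+1} Γ(U.toScheme, ⊤) ≃+ ULift.{u+1} Γ(X, U) :=
  AddEquiv.ulift.trans (U.topIso.commRingCatIsoToRingEquiv.toAddEquiv.trans AddEquiv.ulift.symm)

/-- the comparison isomorphism on sections -/
noncomputable def secIso (U : (Opens X)ᵒᵖ) :
    ((EtZar.resZar X).obj (EtCoh.Ga X)).obj.obj U ≅ ((L X).obj (OAb X)).obj.obj U :=
  (secEquiv X U.unop).toAddCommGrpIso


lemma topIso_naturality {U V : X.Opens} (e : V ≤ U) :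
    (X.homOfLE e).appTop ≫ V.topIso.hom = U.topIso.hom ≫ X.presheaf.map (homOfLE e).op := by
  rw [Scheme.homOfLE_appTop, Scheme.Opens.topIso_hom, Scheme.Opens.topIso_hom]
  exact (X.presheaf.map_comp _ _).symm.trans
    ((congrArg X.presheaf.map (Subsingleton.elim _ _)).trans (X.presheaf.map_comp _ _))

/-- `G_a` restricted to the Zariski site is the structure sheaf (in the larger universe). -/
noncomputable def resZarGaIso : (EtZar.resZar X).obj (EtCoh.Ga X) ≅ (L X).obj (OAb X) :=
  (fullyFaithfulSheafToPresheaf _ _).preimageIso (NatIso.ofComponents (secIso X) (by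
    intro U V f
    ext s
    apply ULift.ext
    have h := congrArg (fun φ => φ.hom s.down) (topIso_naturality X (leOfHom f.unop))
    exact h))

end Groth.Agent.Lib.Helper5.GaZar
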