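import Groth.Agent.Lib.Helper5.GenTrunc
import Groth.Prelude.Def_WeakSerre

/-!
# Cohomology of a derived limit of an eventually constant tower, abstract generator setting (helper5)

* `hom_eq_zero_of_homVanish`: dévissage — for bounded below `X`, `Hom(Z, X[j]) = 0` as soon as
  `Hom(Z, (σ H^q X)[j - q]) = 0` for all `q` (`Z ∈ D^{≤ 0}`).
* `isIso_homology_a`: if `H^j(t n)` is invertible for `n ≥ n₁` and locally the fibres of the `t n`
  receive no maps from generators in degrees `j`, `j + 1` for large `n`, then `H^j(a n)` is invertible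
  for `n ≥ n₁`.
-/

set_option autoImplicit false
universe w u
open CategoryTheory CategoryTheory.Limits CategoryTheory.Pretriangulated Opposite

noncomputable section
namespace Groth.Agent.Lib.Helper5.GenSite

open DerivedCategory CohCx

variable {𝒜 : Type (u + 1)} [Category.{u} 𝒜] [Abelian 𝒜] [HasDerivedCategory.{w} 𝒜]

/-- all maps `Z ⟶ (σF)[k]` vanish -/
def HomVanish (Z : DerivedCategory 𝒜) (F : 𝒜) (k : ℤ) : Prop :=
  ∀ y : Z ⟶ (shiftFunctor _ k).obj (sg.obj F), y = 0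

lemma homVanish_of_iso {Z : DerivedCategory 𝒜} {F F' : 𝒜} (e : F ≅ F') (k : ℤ)
    (h : HomVanish Z F k) : HomVanish Z F' k := by
  intro y
  let e' := (shiftFunctor (DerivedCategory 𝒜) k).mapIso (sg.mapIso e)
  have h1 : y = (y ≫ e'.inv) ≫ e'.hom := by
    rw [Category.assoc, Iso.inv_hom_id, Category.comp_id]
  rw [h1, h (y ≫ e'.inv), zero_comp]

lemma homVanish_of_isZero {Z : DerivedCategory 𝒜} {F : 𝒜} (hF : IsZero F) (k : ℤ) :
    HomVanish Z F k := by
  intro y
  have h1 : IsZero ((shiftFunctor (DerivedCategory 𝒜) k).obj (sg.obj F)) :=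
    Functor.map_isZero _ (Functor.map_isZero _ hF)
  exact h1.eq_of_tgt _ _

lemma homVanish_of_neg (Z : DerivedCategory 𝒜) [Z.IsLE 0] (F : 𝒜) (k : ℤ) (hk : k < 0) :
    HomVanish Z F k := by
  intro y
  haveI : TStructure.t.IsGE (sg.obj F) 0 := (inferInstance : (sg.obj F).IsGE 0)
  haveI : TStructure.t.IsGE ((shiftFunctor _ k).obj (sg.obj F)) (-k) :=
    TStructure.t.isGE_shift (sg.obj F) 0 k (-k) (by omega)
  haveI : TStructure.t.IsLE Z 0 := (inferInstance : Z.IsLE 0)
  exact TStructure.t.zero y 0 (-k) (by omega)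

/-- maps to an object concentrated in one degree -/
lemma hom_eq_zero_of_single (Z Y : DerivedCategory 𝒜) (i : ℤ) [Y.IsGE i] [Y.IsLE i] (k : ℤ)
    (hk : k + i = 0) (h : HomVanish Z ((homologyFunctor 𝒜 i).obj Y) k) (z : Z ⟶ Y) : z = 0 := by
  obtain ⟨F, ⟨e⟩⟩ := exists_iso_singleFunctor_obj_of_isGE_of_isLE Y i
  let e1 : (homologyFunctor 𝒜 i).obj Y ≅ F :=
    (homologyFunctor 𝒜 i).mapIso e ≪≫ (singleFunctorCompHomologyFunctorIso 𝒜 i).app F
  have hF : HomVanish Z F k := homVanish_of_iso e1 k h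
  let e' : Y ≅ (shiftFunctor _ k).obj (sg.obj F) :=
    e ≪≫ (((singleFunctors 𝒜).shiftIso k i 0 hk).app F).symm
  have h1 : z = (z ≫ e'.hom) ≫ e'.inv := by
    rw [Category.assoc, Iso.hom_inv_id, Category.comp_id]
  rw [h1, hF (z ≫ e'.hom), zero_comp]

/-- dévissage for bounded objects in `D^{[-len, 0]}` -/
theorem hom_eq_zero_of_bounded (Z : DerivedCategory 𝒜) [Z.IsLE 0] :
    ∀ (len : ℕ) (Y : DerivedCategory 𝒜), Y.IsGE (-(len : ℤ)) → Y.IsLE 0 →
      (∀ q : ℤ, HomVanish Z ((homologyFunctor 𝒜 q).obj Y) (-q)) → ∀ z : Z ⟶ Y, z = 0 := by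
  intro len
  induction len with
  | zero =>
    intro Y hGE hLE h z
    haveI : Y.IsGE 0 := by simpa using hGE
    haveI := hLE
    have h0 := h 0
    rw [neg_zero] at h0
    exact hom_eq_zero_of_single Z Y 0 0 (by omega) h0 z
  | succ len ih =>
    intro Y hGE hLE h z
    haveI := hGE
    haveI := hLE
    let t := TStructure.t (C := 𝒜)
    have hT := t.triangleLTGE_distinguished (-(len : ℤ)) Y
    have hiso : ∀ q, -(len : ℤ) ≤ q →
        IsIso ((homologyFunctor 𝒜 q).map ((t.truncGEπ (-(len : ℤ))).app Y)) :=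
      fun q hq => TruncRlim.isIso_homology_map_truncGEπ Y (-(len : ℤ)) q hq
    have h2GE : ((t.truncGE (-(len : ℤ))).obj Y).IsGE (-(len : ℤ)) :=
      (inferInstance : t.IsGE ((t.truncGE (-(len : ℤ))).obj Y) (-(len : ℤ)))
    have h2LE : ((t.truncGE (-(len : ℤ))).obj Y).IsLE 0 := (isLE_iff _ 0).2 (fun i hi => by
      haveI := hiso i (by omega)
      exact IsZero.of_iso (isZero_of_isLE Y 0 i hi)
        (asIso ((homologyFunctor 𝒜 i).map ((t.truncGEπ (-(len : ℤ))).app Y))).symm)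
    have h2 : ∀ q, HomVanish Z
        ((homologyFunctor 𝒜 q).obj ((t.truncGE (-(len : ℤ))).obj Y)) (-q) := by
      intro q
      by_cases hq : -(len : ℤ) ≤ q
      · haveI := hiso q hq
        exact homVanish_of_iso
          (asIso ((homologyFunctor 𝒜 q).map ((t.truncGEπ (-(len : ℤ))).app Y))) (-q) (h q)
      · exact homVanish_of_isZero
          (isZero_of_isGE ((t.truncGE (-(len : ℤ))).obj Y) (-(len : ℤ)) q (by omega)) (-q)
    have hzπ : z ≫ (t.truncGEπ (-(len : ℤ))).app Y = 0 := ih _ h2GE h2LE h2 _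
    obtain ⟨z₁, hz₁⟩ : ∃ z₁ : Z ⟶ (t.truncLT (-(len : ℤ))).obj Y,
        z = z₁ ≫ (t.truncLTι (-(len : ℤ))).app Y :=
      Triangle.coyoneda_exact₂ _ hT z hzπ
    have hiso1 : ∀ q, q < -(len : ℤ) →
        IsIso ((homologyFunctor 𝒜 q).map ((t.truncLTι (-(len : ℤ))).app Y)) := fun q hq =>
      TruncRlim.isIso_homology_map_mor₁ _ hT q (q - 1) (by omega)
        (isZero_of_isGE ((t.truncGE (-(len : ℤ))).obj Y) (-(len : ℤ)) (q - 1) (by omega))
        (isZero_of_isGE ((t.truncGE (-(len : ℤ))).obj Y) (-(len : ℤ)) q (by omega))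
    haveI : t.IsLE ((t.truncLT (-(len : ℤ))).obj Y) (-(len : ℤ) - 1) :=
      t.isLE_truncLT_obj Y (-(len : ℤ)) (-(len : ℤ) - 1)
    haveI : ((t.truncLT (-(len : ℤ))).obj Y).IsLE (-(len : ℤ) - 1) :=
      (inferInstance : t.IsLE ((t.truncLT (-(len : ℤ))).obj Y) (-(len : ℤ) - 1))
    haveI : ((t.truncLT (-(len : ℤ))).obj Y).IsGE (-(len : ℤ) - 1) :=
      (isGE_iff _ (-(len : ℤ) - 1)).2 (fun i hi => by
        haveI := hiso1 i (by omega)
        exact IsZero.of_iso (isZero_of_isGE Y (-((len + 1 : ℕ) : ℤ)) i (by push_cast; omega))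
          (asIso ((homologyFunctor 𝒜 i).map ((t.truncLTι (-(len : ℤ))).app Y))))
    have h1 : HomVanish Z ((homologyFunctor 𝒜 (-(len : ℤ) - 1)).obj
        ((t.truncLT (-(len : ℤ))).obj Y)) (1 + (len : ℤ)) := by
      haveI := hiso1 (-(len : ℤ) - 1) (by omega)
      have h' := h (-(len : ℤ) - 1)
      have e : -(-(len : ℤ) - 1) = 1 + (len : ℤ) := by omega
      rw [e] at h'
      exact homVanish_of_iso (asIso ((homologyFunctor 𝒜 (-(len : ℤ) - 1)).map
        ((t.truncLTι (-(len : ℤ))).app Y))).symm (1 + (len : ℤ)) h'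
    rw [hz₁, hom_eq_zero_of_single Z _ (-(len : ℤ) - 1) (1 + (len : ℤ)) (by omega) h1 z₁,
      zero_comp]

/-- dévissage: for `Y` bounded below, maps from `Z ∈ D^{≤ 0}` to `Y` vanish as soon as all maps
`Z ⟶ (σ H^q Y)[-q]` vanish -/
theorem hom_eq_zero_of_isGE (Z : DerivedCategory 𝒜) [Z.IsLE 0] (Y : DerivedCategory 𝒜)
    (hY : ∃ a : ℤ, Y.IsGE a)
    (h : ∀ q : ℤ, HomVanish Z ((homologyFunctor 𝒜 q).obj Y) (-q)) (z : Z ⟶ Y) : z = 0 := by
  obtain ⟨a, hGE⟩ := hY
  haveI := hGE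
  let t := TStructure.t (C := 𝒜)
  have hT := t.triangleLTGE_distinguished 1 Y
  haveI : t.IsLE Z (1 - 1) := (inferInstance : Z.IsLE 0)
  -- `z` factors through `τ_{<1} Y`
  have hz : z = t.liftTruncLT z 0 1 rfl ≫ (t.truncLTι 1).app Y := (t.liftTruncLT_ι z 0 1 rfl).symm
  have hiso1 : ∀ q, q < 1 → IsIso ((homologyFunctor 𝒜 q).map ((t.truncLTι 1).app Y)) := fun q hq =>
    TruncRlim.isIso_homology_map_mor₁ _ hT q (q - 1) (by omega)
      (isZero_of_isGE ((t.truncGE 1).obj Y) 1 (q - 1) (by omega))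
      (isZero_of_isGE ((t.truncGE 1).obj Y) 1 q (by omega))
  haveI : t.IsLE ((t.truncLT 1).obj Y) 0 := t.isLE_truncLT_obj Y 1 0
  have h1LE : ((t.truncLT 1).obj Y).IsLE 0 :=
    (inferInstance : t.IsLE ((t.truncLT 1).obj Y) 0)
  have h1GE : ((t.truncLT 1).obj Y).IsGE (-(((-a).toNat : ℕ) : ℤ)) :=
    (isGE_iff _ _).2 (fun i hi => by
      haveI := hiso1 i (by omega)
      exact IsZero.of_iso (isZero_of_isGE Y a i (by omega))
        (asIso ((homologyFunctor 𝒜 i).map ((t.truncLTι 1).app Y))))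
  have h1 : ∀ q, HomVanish Z ((homologyFunctor 𝒜 q).obj ((t.truncLT 1).obj Y)) (-q) := by
    intro q
    by_cases hq : q < 1
    · haveI := hiso1 q hq
      exact homVanish_of_iso
        (asIso ((homologyFunctor 𝒜 q).map ((t.truncLTι 1).app Y))).symm (-q) (h q)
    · exact homVanish_of_isZero (isZero_of_isLE ((t.truncLT 1).obj Y) 0 q (by omega)) (-q)
  rw [hz, hom_eq_zero_of_bounded Z (-a).toNat _ h1GE h1LE h1 (t.liftTruncLT z 0 1 rfl), zero_comp]

/-- dévissage, shifted form -/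
theorem hom_eq_zero_of_homVanish (Z : DerivedCategory 𝒜) [Z.IsLE 0] (X : DerivedCategory 𝒜)
    (hX : ∃ a : ℤ, X.IsGE a) (j : ℤ)
    (h : ∀ q : ℤ, HomVanish Z ((homologyFunctor 𝒜 q).obj X) (j - q))
    (z : Z ⟶ (shiftFunctor _ j).obj X) : z = 0 := by
  apply hom_eq_zero_of_isGE Z
  · obtain ⟨a, ha⟩ := hX
    haveI : TStructure.t.IsGE X a := ha
    exact ⟨a - j, TStructure.t.isGE_shift X a j (a - j) (by omega)⟩
  · intro q
    let i : (homologyFunctor 𝒜 (j + q)).obj X ≅
        (homologyFunctor 𝒜 q).obj ((shiftFunctor _ j).obj X) :=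
      (((homologyFunctor 𝒜 0).shiftIso j q (j + q) rfl).app X).symm
    have h' := h (j + q)
    have e : j - (j + q) = -q := by omega
    rw [e] at h'
    exact homVanish_of_iso i (-q) h'

section WeakSerre

/-- uniform bound over a finite range of degrees -/
lemma exists_uniform (P : ℤ → ℕ → Prop) (hP : ∀ i, ∃ n₀, ∀ n, n₀ ≤ n → P i n) (lo : ℤ)
    (len : ℕ) : ∃ N, ∀ i, lo ≤ i → i < lo + len → ∀ n, N ≤ n → P i n := by
  induction len with
  | zero => exact ⟨0, fun i h1 h2 => by simp at h2; omega⟩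
  | succ len ih =>
    obtain ⟨N, hN⟩ := ih
    obtain ⟨n₀, hn₀⟩ := hP (lo + len)
    refine ⟨max N n₀, fun i h1 h2 n hn => ?_⟩
    by_cases hi : i < lo + len
    · exact hN i h1 hi n (le_trans (le_max_left _ _) hn)
    · have hi' : i = lo + len := by push_cast at h2; omega
      subst hi'
      exact hn₀ n (le_trans (le_max_right _ _) hn)

omit [HasDerivedCategory.{w} 𝒜] in
/-- the middle term of a five term exact sequence with outer terms in a weak Serre class is in
the class -/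
lemma prop_of_five_term (A : ObjectProperty 𝒜) [WSerre.IsWeakSerre A]
    {X₁ X₂ X₃ X₄ X₅ : 𝒜} (u : X₁ ⟶ X₂) (v : X₂ ⟶ X₃) (w' : X₃ ⟶ X₄) (x : X₄ ⟶ X₅)
    (huv : u ≫ v = 0) (hvw : v ≫ w' = 0) (hwx : w' ≫ x = 0)
    (E₁ : (ShortComplex.mk u v huv).Exact) (E₂ : (ShortComplex.mk v w' hvw).Exact)
    (E₃ : (ShortComplex.mk w' x hwx).Exact)
    (h₁ : A X₁) (h₂ : A X₂) (h₄ : A X₄) (h₅ : A X₅) : A X₃ := by
  have hker : A (kernel x) := A.prop_kernel x h₄ h₅
  have hcoker : A (cokernel u) := A.prop_cokernel u h₁ h₂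
  let α : cokernel u ⟶ X₃ := cokernel.desc u v huv
  let β : X₃ ⟶ kernel x := kernel.lift x w' hwx
  have hαβ : α ≫ β = 0 := by
    rw [← cancel_mono (kernel.ι x), ← cancel_epi (cokernel.π u)]
    dsimp only [α, β]
    rw [Category.assoc, kernel.lift_ι, cokernel.π_desc_assoc, hvw, zero_comp, comp_zero]
  have hvβ : v ≫ β = 0 := by
    rw [← cancel_mono (kernel.ι x)]
    dsimp only [β]
    rw [Category.assoc, kernel.lift_ι, hvw, zero_comp]
  haveI : Mono α := (ShortComplex.exact_iff_mono_cokernel_desc (ShortComplex.mk u v huv)).1 E₁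
  haveI : Epi β := (ShortComplex.exact_iff_epi_kernel_lift (ShortComplex.mk w' x hwx)).1 E₃
  -- exactness in the middle
  let Smid : ShortComplex 𝒜 := ShortComplex.mk v β hvβ
  let φ : Smid ⟶ ShortComplex.mk v w' hvw :=
    { τ₁ := 𝟙 _
      τ₂ := 𝟙 _
      τ₃ := kernel.ι x
      comm₁₂ := by simp [Smid]
      comm₂₃ := by simp [Smid, β] }
  haveI : Epi φ.τ₁ := (inferInstance : Epi (𝟙 X₂))
  haveI : IsIso φ.τ₂ := (inferInstance : IsIso (𝟙 X₃))
  haveI : Mono φ.τ₃ := (inferInstance : Mono (kernel.ι x))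
  have hmid : Smid.Exact := (ShortComplex.exact_iff_of_epi_of_isIso_of_mono φ).2 E₂
  let T : ShortComplex 𝒜 := ShortComplex.mk α β hαβ
  let ψ : Smid ⟶ T :=
    { τ₁ := cokernel.π u
      τ₂ := 𝟙 _
      τ₃ := 𝟙 _
      comm₁₂ := by simp [Smid, T, α]
      comm₂₃ := by simp [Smid, T] }
  haveI : Epi ψ.τ₁ := (inferInstance : Epi (cokernel.π u))
  haveI : IsIso ψ.τ₂ := (inferInstance : IsIso (𝟙 X₃))
  haveI : Mono ψ.τ₃ := (inferInstance : Mono (𝟙 (kernel x)))
  have hT : T.Exact := (ShortComplex.exact_iff_of_epi_of_isIso_of_mono ψ).1 hmid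
  have hTs : T.ShortExact :=
    { exact := hT
      mono_f := (inferInstance : Mono α)
      epi_g := (inferInstance : Epi β) }
  exact A.prop_X₂_of_shortExact hTs hcoker hker

/-- the cohomology objects of a fibre of a map between objects of `D_A` are in `A` -/
lemma prop_homology_fibre (A : ObjectProperty 𝒜) [WSerre.IsWeakSerre A]
    (T : Triangle (DerivedCategory 𝒜)) (hT : T ∈ distTriang _)
    (h₂ : WSerre.cohIn A T.obj₂) (h₃ : WSerre.cohIn A T.obj₃) (q : ℤ) :
    A ((homologyFunctor 𝒜 q).obj T.obj₁) :=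
  prop_of_five_term A _ _ _ _ _ _ _
    ((homologyFunctor 𝒜 0).homologySequence_exact₃ T hT (q - 1) q (by omega))
    ((homologyFunctor 𝒜 0).homologySequence_exact₁ T hT (q - 1) q (by omega))
    ((homologyFunctor 𝒜 0).homologySequence_exact₂ T hT q)
    (h₂ (q - 1)) (h₃ (q - 1)) (h₂ q) (h₃ q)

/-- goodness from a cohomological dimension bound -/
theorem goodAt_of_cd (Z : DerivedCategory 𝒜) [Z.IsLE 0] (A : ObjectProperty 𝒜)
    [WSerre.IsWeakSerre A] (K : ℕ → DerivedCategory 𝒜) (t : ∀ n, K (n + 1) ⟶ K n)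
    (hK : ∀ n, WSerre.cohInPlus A (K n)) (d : ℕ)
    (hZ : ∀ F, A F → ∀ k : ℤ, (d : ℤ) < k → HomVanish Z F k) (m : ℤ) (n : ℕ)
    (hiso : ∀ i, m - d - 1 ≤ i → i ≤ m → IsIso ((homologyFunctor 𝒜 i).map (t n))) :
    TowerHom.GoodAt Z K t m n := by
  intro N f δ hT z
  obtain ⟨a₁, ha₁⟩ := (hK (n + 1)).2
  obtain ⟨a₂, ha₂⟩ := (hK n).2
  haveI : (K (n + 1)).IsGE a₁ := ha₁
  haveI : (K n).IsGE a₂ := ha₂
  have hzero : ∀ q, Epi ((homologyFunctor 𝒜 (q - 1)).map (t n)) →
      Mono ((homologyFunctor 𝒜 q).map (t n)) → IsZero ((homologyFunctor 𝒜 q).obj N) :=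
    fun q h0 h1 => TruncRlim.isZero_homology_obj₁ _ hT q (q - 1) (by omega) h0 h1
  apply hom_eq_zero_of_homVanish Z N _ m _ z
  · refine ⟨min a₁ (a₂ + 1), (isGE_iff N _).2 (fun i hi => ?_)⟩
    apply hzero i
    · have hz : IsZero ((homologyFunctor 𝒜 (i - 1)).obj (K n)) :=
        isZero_of_isGE (K n) a₂ (i - 1) (by omega)
      constructor
      intro Z' g h' _
      exact hz.eq_of_src _ _
    · have hz : IsZero ((homologyFunctor 𝒜 i).obj (K (n + 1))) :=
        isZero_of_isGE (K (n + 1)) a₁ i (by omega)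
      constructor
      intro Z' g h' _
      exact hz.eq_of_tgt _ _
  · intro q
    by_cases hq1 : m < q
    · exact homVanish_of_neg Z _ (m - q) (by omega)
    · by_cases hq2 : m - d ≤ q
      · apply homVanish_of_isZero
        apply hzero q
        · haveI := hiso (q - 1) (by omega) (by omega)
          infer_instance
        · haveI := hiso q (by omega) (by omega)
          infer_instance
      · exact hZ _ (prop_homology_fibre A _ hT (hK (n + 1)).1 (hK n).1 q) (m - q) (by omega)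

end WeakSerre

section Main

variable {C : Type u} [SmallCategory C] {J : GrothendieckTopology C}
  {Γ : 𝒜 ⥤ Sheaf J AddCommGrpCat.{u}} [PreservesFiniteColimits Γ] [Γ.Faithful] (D : Gen Γ)
  (K : ℕ → DerivedCategory 𝒜) (t : ∀ n, K (n + 1) ⟶ K n) [HasProduct K]
  (L : DerivedCategory 𝒜) (a : ∀ n, L ⟶ K n)

omit [HasProduct K] in
lemma isIso_homology_map_trans_of (j : ℤ) (n₁ : ℕ)
    (hconst : ∀ n, n₁ ≤ n → IsIso ((homologyFunctor 𝒜 j).map (t n))) (k : ℕ) :
    IsIso ((homologyFunctor 𝒜 j).map (MilnorSeq.trans K t n₁ k)) := by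
  induction k with
  | zero =>
    change IsIso ((homologyFunctor 𝒜 j).map (𝟙 (K n₁)))
    rw [CategoryTheory.Functor.map_id]
    infer_instance
  | succ k ih =>
    change IsIso ((homologyFunctor 𝒜 j).map (t (n₁ + k) ≫ MilnorSeq.trans K t n₁ k))
    rw [Functor.map_comp]
    haveI := hconst (n₁ + k) (by omega)
    infer_instance

/-- S9064 in abstract form -/
theorem isIso_homology_a (hL : CohCx.IsRlimVia K t L a) (j : ℤ) (n₁ : ℕ)
    (hconst : ∀ n, n₁ ≤ n → IsIso ((homologyFunctor 𝒜 j).map (t n)))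
    (B : Set C)
    (hB : ∀ U : C, ∃ (ι : Type u) (Y : ι → C) (f : ∀ i, Y i ⟶ U),
      Sieve.ofArrows Y f ∈ J U ∧ ∀ i, Y i ∈ B)
    (hgood : ∀ V ∈ B, ∃ N : ℕ, ∀ T ∈ J V, ∃ (ι : Type u) (Y : ι → C) (f : ∀ i, Y i ⟶ V),
      (∀ i, T.arrows (f i)) ∧ Sieve.ofArrows Y f ∈ J V ∧ ∀ (i : ι) (n : ℕ), N ≤ n →
        TowerHom.GoodAt (sg.obj (D.G (Y i))) K t j n ∧
        TowerHom.GoodAt (sg.obj (D.G (Y i))) K t (j + 1) n) :
    ∀ n, n₁ ≤ n → IsIso ((homologyFunctor 𝒜 j).map (a n)) := by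
  have hL' := hL
  obtain ⟨c, hΔ⟩ := hL'
  have ha := MilnorSeq.a_comp_t K t L a c hΔ
  have hfac : ∀ k, Γ.map ((homologyFunctor 𝒜 j).map (a (n₁ + k))) ≫
      Γ.map ((homologyFunctor 𝒜 j).map (MilnorSeq.trans K t n₁ k)) =
      Γ.map ((homologyFunctor 𝒜 j).map (a n₁)) := by
    intro k
    rw [← Functor.map_comp, ← Functor.map_comp, MilnorSeq.a_comp_trans K t a ha]
  -- the key case `n = n₁`
  have key : IsIso ((homologyFunctor 𝒜 j).map (a n₁)) := by
    haveI : Mono (Γ.map ((homologyFunctor 𝒜 j).map (a n₁))).hom := by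
      haveI : ∀ X, Mono ((Γ.map ((homologyFunctor 𝒜 j).map (a n₁))).hom.app X) := by
        intro X
        rw [AddCommGrpCat.mono_iff_injective, injective_iff_map_eq_zero]
        intro s hs
        apply RlimAcyclic.sect_eq_zero_of_B B hB
        intro W hW g
        obtain ⟨N, hN⟩ := hgood W hW
        obtain ⟨k, hk⟩ : ∃ k, max N n₁ = n₁ + k :=
          Nat.exists_eq_add_of_le (le_max_right _ _)
        have hk1 : N ≤ n₁ + k := by rw [← hk]; exact le_max_left _ _
        apply sections_injective D K t L a hL W j (n₁ + k) (by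
          intro T hT
          obtain ⟨ι, Yc, f, hTf, hcov, hvan⟩ := hN T hT
          exact ⟨ι, Yc, f, hTf, hcov, fun i n hn => (hvan i n (by omega)).1⟩)
        haveI := isIso_homology_map_trans_of K t j n₁ hconst k
        have hmono := (sect_bijective_of_isIso (Γ := Γ) ((homologyFunctor 𝒜 j).map
          (MilnorSeq.trans K t n₁ k)) W).1
        apply hmono
        rw [map_zero]
        have h1 := congrArg (fun φ => (φ.hom.app (op W)).hom
          (((Γ.obj ((homologyFunctor 𝒜 j).obj L)).obj.map g.op).hom s)) (hfac k)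
        refine h1.trans ?_
        have h2 := ConcreteCategory.congr_hom
          ((Γ.map ((homologyFunctor 𝒜 j).map (a n₁))).hom.naturality g.op) s
        refine h2.trans ?_
        change (((Γ.obj ((homologyFunctor 𝒜 j).obj (K n₁))).obj.map g.op).hom
          (((Γ.map ((homologyFunctor 𝒜 j).map (a n₁))).hom.app X).hom s)) = 0
        rw [hs, map_zero]
      exact NatTrans.mono_of_mono_app _
    haveI : Mono (Γ.map ((homologyFunctor 𝒜 j).map (a n₁))) :=
      Sheaf.Hom.mono_of_presheaf_mono J _ _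
    haveI : Mono ((homologyFunctor 𝒜 j).map (a n₁)) := Γ.mono_of_mono_map inferInstance
    -- local surjectivity over members of `B`
    have hsurjB : ∀ W ∈ B, ∀ s' : (Γ.obj ((homologyFunctor 𝒜 j).obj (K n₁))).obj.obj (op W),
        Presheaf.imageSieve (Γ.map ((homologyFunctor 𝒜 j).map (a n₁))).hom s' ∈ J W := by
      intro W hW s'
      obtain ⟨N, hN⟩ := hgood W hW
      obtain ⟨k, hk⟩ : ∃ k, max N n₁ = n₁ + k :=
        Nat.exists_eq_add_of_le (le_max_right _ _)
      have hk1 : N ≤ n₁ + k := by rw [← hk]; exact le_max_left _ _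
      haveI := isIso_homology_map_trans_of K t j n₁ hconst k
      obtain ⟨sN, hsN⟩ := (sect_bijective_of_isIso (Γ := Γ) ((homologyFunctor 𝒜 j).map
        (MilnorSeq.trans K t n₁ k)) W).2 s'
      have hmem := imageSieve_mem D K t L a hL W j (j + 1) (by omega) (n₁ + k) (by
        intro T hT
        obtain ⟨ι, Yc, f, hTf, hcov, hvan⟩ := hN T hT
        exact ⟨ι, Yc, f, hTf, hcov, fun i n hn => (hvan i n (by omega)).2⟩) sN
      refine J.superset_covering ?_ hmem
      intro W' g hg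
      obtain ⟨s'', hs''⟩ := hg
      refine ⟨s'', ?_⟩
      have h1 := congrArg (fun φ => (φ.hom.app (op W')).hom s'') (hfac k)
      refine h1.symm.trans ?_
      change ((Γ.map ((homologyFunctor 𝒜 j).map (MilnorSeq.trans K t n₁ k))).hom.app (op W')).hom
        (((Γ.map ((homologyFunctor 𝒜 j).map (a (n₁ + k)))).hom.app (op W')).hom s'') = _
      have hs3 : ((Γ.map ((homologyFunctor 𝒜 j).map (a (n₁ + k)))).hom.app (op W')).hom s'' =
          ((Γ.obj ((homologyFunctor 𝒜 j).obj (K (n₁ + k)))).obj.map g.op).hom sN := hs''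
      rw [hs3]
      have h2 := ConcreteCategory.congr_hom
        ((Γ.map ((homologyFunctor 𝒜 j).map (MilnorSeq.trans K t n₁ k))).hom.naturality g.op) sN
      refine h2.trans ?_
      change ((Γ.obj ((homologyFunctor 𝒜 j).obj (K n₁))).obj.map g.op).hom
        (((Γ.map ((homologyFunctor 𝒜 j).map (MilnorSeq.trans K t n₁ k))).hom.app (op W)).hom sN) = _
      rw [hsN]
    haveI : Epi (Γ.map ((homologyFunctor 𝒜 j).map (a n₁))) := by
      refine (Sheaf.isLocallySurjective_iff_epi' AddCommGrpCat.{u} _).1 ⟨fun {V} s => ?_⟩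
      obtain ⟨ι, Yc, f, hcov, hYB⟩ := hB V
      refine J.transitive hcov _ ?_
      intro W g hg
      obtain ⟨W', g', k, ⟨i⟩, rfl⟩ := hg
      rw [Sieve.pullback_comp]
      apply J.pullback_stable
      rw [Presheaf.pullback_imageSieve]
      exact hsurjB (Yc i) (hYB i) _
    haveI : Epi ((homologyFunctor 𝒜 j).map (a n₁)) := Γ.epi_of_epi_map inferInstance
    exact isIso_of_mono_of_epi _
  intro n hn
  obtain ⟨k, rfl⟩ := Nat.exists_eq_add_of_le hn
  haveI := isIso_homology_map_trans_of K t j n₁ hconst k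
  have hfac' : (homologyFunctor 𝒜 j).map (a (n₁ + k)) ≫
      (homologyFunctor 𝒜 j).map (MilnorSeq.trans K t n₁ k) =
      (homologyFunctor 𝒜 j).map (a n₁) := by
    rw [← Functor.map_comp, MilnorSeq.a_comp_trans K t a ha]
  haveI : IsIso ((homologyFunctor 𝒜 j).map (a (n₁ + k)) ≫
      (homologyFunctor 𝒜 j).map (MilnorSeq.trans K t n₁ k)) := by
    rw [hfac']
    exact key
  exact IsIso.of_isIso_comp_right _ ((homologyFunctor 𝒜 j).map (MilnorSeq.trans K t n₁ k))

end Main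

end Groth.Agent.Lib.Helper5.GenSite
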