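import Groth.Agent.Lib.Helper5.GenTrunc

/-!
# Local criterion for an isomorphism on a cohomology object, abstract generator setting (helper5)
-/

set_option autoImplicit false
universe w u
open CategoryTheory CategoryTheory.Limits CategoryTheory.Pretriangulated Opposite

noncomputable section
namespace Groth.Agent.Lib.Helper5.GenSite

open DerivedCategory ZeroObject

variable {C : Type u} [SmallCategory C] {J : GrothendieckTopology C}

/-- a section vanishing on all members of `B` below the arrows of a covering sieve vanishes -/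
lemma sect_eq_zero_of_cover_B (B : Set C)
    (hB : ∀ U : C, ∃ (ι : Type u) (Y : ι → C) (f : ∀ i, Y i ⟶ U),
      Sieve.ofArrows Y f ∈ J U ∧ ∀ i, Y i ∈ B)
    (T : Sheaf J AddCommGrpCat.{u}) {U : C} (s : T.obj.obj (op U)) (R : Sieve U) (hR : R ∈ J U)
    (h : ∀ (W : C) (f : W ⟶ U), R f → ∀ (W' : C) (_ : W' ∈ B) (g : W' ⟶ W),
      (T.obj.map g.op).hom ((T.obj.map f.op).hom s) = 0) : s = 0 := by
  apply FreeGen.sect_ext J T R hR
  intro W f hf
  rw [map_zero]
  exact RlimAcyclic.sect_eq_zero_of_B B hB T _ (fun W' hW' g => h W f hf W' hW' g)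

variable {𝒜 : Type (u + 1)} [Category.{u} 𝒜] [Abelian 𝒜] [HasDerivedCategory.{w} 𝒜]
  {Γ : 𝒜 ⥤ Sheaf J AddCommGrpCat.{u}} [PreservesFiniteColimits Γ] [Γ.Faithful] (D : Gen Γ)

/-- `H^q(φ)` is invertible as soon as `φ` induces bijections on `Hom(σ G W, -[q])` for `W` in a
covering class -/
theorem isIso_homology_of_local_bijective {K₁ K₂ : DerivedCategory 𝒜} (φ : K₁ ⟶ K₂) (q : ℤ)
    (B : Set C)
    (hB : ∀ U : C, ∃ (ι : Type u) (Y : ι → C) (f : ∀ i, Y i ⟶ U),
      Sieve.ofArrows Y f ∈ J U ∧ ∀ i, Y i ∈ B)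
    (hinj : ∀ W ∈ B, ∀ z : sg.obj (D.G W) ⟶ (shiftFunctor _ q).obj K₁,
      z ≫ (shiftFunctor _ q).map φ = 0 → z = 0)
    (hsurj : ∀ W ∈ B, ∀ z' : sg.obj (D.G W) ⟶ (shiftFunctor _ q).obj K₂,
      ∃ z : sg.obj (D.G W) ⟶ (shiftFunctor _ q).obj K₁, z ≫ (shiftFunctor _ q).map φ = z') :
    IsIso ((homologyFunctor 𝒜 q).map φ) := by
  -- injectivity on sections
  have hmono : ∀ (V : C) (s : (Γ.obj ((homologyFunctor 𝒜 q).obj K₁)).obj.obj (op V)),
      ((Γ.map ((homologyFunctor 𝒜 q).map φ)).hom.app (op V)).hom s = 0 → s = 0 := by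
    intro V s hs
    obtain ⟨R, hR, hRf⟩ := Θ_cover_lift D q K₁ V s
    apply sect_eq_zero_of_cover_B B hB _ s R hR
    intro W f hf W' hW' g
    obtain ⟨x, hx⟩ := hRf f hf
    rw [← hx, ← Θ_res]
    -- `z` is the restriction of `x` to `W'`
    have hz : Θ D q K₂ W' ((sg.map (D.Gmap g) ≫ x) ≫ (shiftFunctor _ q).map φ) = 0 := by
      rw [Θ_comp, Θ_res, hx]
      have h1 := ConcreteCategory.congr_hom
        ((Γ.map ((homologyFunctor 𝒜 q).map φ)).hom.naturality g.op)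
        (((Γ.obj ((homologyFunctor 𝒜 q).obj K₁)).obj.map f.op).hom s)
      have h2 := ConcreteCategory.congr_hom
        ((Γ.map ((homologyFunctor 𝒜 q).map φ)).hom.naturality f.op) s
      refine h1.trans ?_
      change ((Γ.obj ((homologyFunctor 𝒜 q).obj K₂)).obj.map g.op).hom
        (((Γ.map ((homologyFunctor 𝒜 q).map φ)).hom.app (op W)).hom
          (((Γ.obj ((homologyFunctor 𝒜 q).obj K₁)).obj.map f.op).hom s)) = 0
      have h3 : ((Γ.map ((homologyFunctor 𝒜 q).map φ)).hom.app (op W)).hom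
          (((Γ.obj ((homologyFunctor 𝒜 q).obj K₁)).obj.map f.op).hom s) =
          ((Γ.obj ((homologyFunctor 𝒜 q).obj K₂)).obj.map f.op).hom
            (((Γ.map ((homologyFunctor 𝒜 q).map φ)).hom.app (op V)).hom s) := h2
      rw [h3, hs, map_zero, map_zero]
    obtain ⟨R', hR', hR'f⟩ := Θ_eq_zero_cover D q K₂ W' _ hz
    apply sect_eq_zero_of_cover_B B hB _ _ R' hR'
    intro W'' f' hf' W''' hW''' g'
    rw [← Θ_res, ← Θ_res]
    have h4 : sg.map (D.Gmap g') ≫ sg.map (D.Gmap f') ≫ sg.map (D.Gmap g) ≫ x = 0 := by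
      apply hinj W''' hW'''
      have h5 := hR'f f' hf'
      rw [Category.assoc, Category.assoc, Category.assoc]
      rw [Category.assoc] at h5
      rw [h5, comp_zero]
    rw [h4, map_zero]
  haveI : Mono (Γ.map ((homologyFunctor 𝒜 q).map φ)).hom := by
    haveI : ∀ X, Mono ((Γ.map ((homologyFunctor 𝒜 q).map φ)).hom.app X) := by
      intro X
      rw [AddCommGrpCat.mono_iff_injective, injective_iff_map_eq_zero]
      intro s hs
      exact hmono X.unop s hs
    exact NatTrans.mono_of_mono_app _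
  haveI : Mono (Γ.map ((homologyFunctor 𝒜 q).map φ)) :=
    Sheaf.Hom.mono_of_presheaf_mono J _ _
  haveI : Mono ((homologyFunctor 𝒜 q).map φ) := Γ.mono_of_mono_map inferInstance
  haveI : Epi (Γ.map ((homologyFunctor 𝒜 q).map φ)) := by
    refine (Sheaf.isLocallySurjective_iff_epi' AddCommGrpCat.{u} _).1 ⟨fun {V} s' => ?_⟩
    obtain ⟨R, hR, hRf⟩ := Θ_cover_lift D q K₂ V s'
    refine J.transitive hR _ ?_
    intro W f hf
    obtain ⟨x, hx⟩ := hRf f hf
    obtain ⟨ι, Yc, gY, hcov, hYB⟩ := hB W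
    refine J.superset_covering ?_ hcov
    intro W' g hg
    obtain ⟨W'', g', k, ⟨i⟩, rfl⟩ := hg
    obtain ⟨z, hz⟩ := hsurj (Yc i) (hYB i) (sg.map (D.Gmap (gY i)) ≫ x)
    change Presheaf.imageSieve (Γ.map ((homologyFunctor 𝒜 q).map φ)).hom s' ((g' ≫ gY i) ≫ f)
    refine ⟨((Γ.obj ((homologyFunctor 𝒜 q).obj K₁)).obj.map g'.op).hom (Θ D q K₁ (Yc i) z), ?_⟩
    have h1 := ConcreteCategory.congr_hom
      ((Γ.map ((homologyFunctor 𝒜 q).map φ)).hom.naturality g'.op) (Θ D q K₁ (Yc i) z)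
    refine h1.trans ?_
    change ((Γ.obj ((homologyFunctor 𝒜 q).obj K₂)).obj.map g'.op).hom
      (((Γ.map ((homologyFunctor 𝒜 q).map φ)).hom.app (op (Yc i))).hom (Θ D q K₁ (Yc i) z)) = _
    rw [← Θ_comp, hz, Θ_res, hx]
    rw [op_comp, op_comp, Functor.map_comp, Functor.map_comp]
    rfl
  haveI : Epi ((homologyFunctor 𝒜 q).map φ) := Γ.epi_of_epi_map inferInstance
  exact isIso_of_mono_of_epi _

/-- `H^q(K)` vanishes as soon as `Hom(σ G W, K[q]) = 0` for `W` in a covering class -/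
theorem isZero_homology_of_local_vanish (K₂ : DerivedCategory 𝒜) (q : ℤ) (B : Set C)
    (hB : ∀ U : C, ∃ (ι : Type u) (Y : ι → C) (f : ∀ i, Y i ⟶ U),
      Sieve.ofArrows Y f ∈ J U ∧ ∀ i, Y i ∈ B)
    (h : ∀ W ∈ B, ∀ z' : sg.obj (D.G W) ⟶ (shiftFunctor _ q).obj K₂, z' = 0) :
    IsZero ((homologyFunctor 𝒜 q).obj K₂) := by
  have hz : IsZero (0 : DerivedCategory 𝒜) := isZero_zero _
  haveI := isIso_homology_of_local_bijective D (0 : (0 : DerivedCategory 𝒜) ⟶ K₂) q B hB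
    (fun W hW z _ => (Functor.map_isZero _ hz).eq_of_tgt _ _)
    (fun W hW z' => ⟨0, by rw [zero_comp, h W hW z']⟩)
  exact (Functor.map_isZero _ hz).of_iso
    (asIso ((homologyFunctor 𝒜 q).map (0 : (0 : DerivedCategory 𝒜) ⟶ K₂))).symm

end Groth.Agent.Lib.Helper5.GenSite
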