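import Mathlib
import Groth.Prelude.Def_CohCx
import Groth.Prelude.Def_CohSite
import Groth.Agent.Lib.Helper5.TruncRlimA
import Groth.Agent.Lib.Helper5.RlimAcyclic

/-!
# `E` is the derived limit of its truncations under local cohomological boundedness (helper5)

`isRlimVia_of_mono`: reduction to monomorphy of `H^m(R lim) ⟶ H^m(τ_{≥ -n} E)`;
`limOne_and_inj`: Mittag-Leffler type consequences of the vanishing of `H^k(U, H^{m-k}(E))`, `k > p(m)`;
`isRlimVia_site`: the site version (S0881).
-/

set_option autoImplicit false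
universe u
open CategoryTheory CategoryTheory.Limits CategoryTheory.Pretriangulated Opposite

noncomputable section
namespace Groth.Agent.Lib.Helper5.TruncRlim

open HDULocal DerivedCategory CohCx

/-- `lim¹ = 0` for an inverse system with eventually surjective transition maps -/
theorem limOneIsZero_of_eventually_surjective (N : ℕ) :
    ∀ (A : ℕ → Type u) [∀ n, AddCommGroup (A n)] (t : ∀ n, A (n + 1) →+ A n)
      (_ : ∀ n, N ≤ n → Function.Surjective (t n)), CohCx.LimOneIsZero A t := by
  induction N with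
  | zero =>
    intro A _ t h g
    let b : ∀ n, A n := fun n => Nat.rec (motive := fun n => A n) 0
      (fun n bn => Classical.choose (h n (Nat.zero_le n) (bn - g n))) n
    refine ⟨b, ?_⟩
    funext n
    have hb : t n (b (n + 1)) = b n - g n :=
      Classical.choose_spec (h n (Nat.zero_le n) (b n - g n))
    change b n - t n (b (n + 1)) = g n
    rw [hb]
    abel
  | succ N ih =>
    intro A _ t h g
    obtain ⟨b', hb'⟩ := ih (fun n => A (n + 1)) (fun n => t (n + 1))
      (fun n hn => h (n + 1) (by omega)) (fun n => g (n + 1))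
    let b : ∀ n, A n := fun n => match n with
      | 0 => g 0 + t 0 (b' 0)
      | n + 1 => b' n
    refine ⟨b, ?_⟩
    funext n
    cases n with
    | zero =>
      change g 0 + t 0 (b' 0) - t 0 (b' 0) = g 0
      abel
    | succ n => exact congrFun hb' n

variable {C : Type u} [SmallCategory C] {J : GrothendieckTopology C}
  [HasDerivedCategory.{u} (Sheaf J AddCommGrpCat.{u})]

/-- `Hom(σℤ_U, (σF)[k]) = 0` if `H^k(U, F) = 0` -/
lemma hom_eq_zero_of_ext (F : Sheaf J AddCommGrpCat.{u}) (U : C) (k : ℕ)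
    [Subsingleton (CohSite.HU F k U)] (m : ℤ) (hm : m = (k : ℤ))
    (y : sg.obj (CohCx.freeSheaf J U) ⟶ (shiftFunctor _ m).obj (sg.obj F)) : y = 0 := by
  subst hm
  have h1 : (Abelian.Ext.homEquiv (X := CohCx.freeSheaf J U) (Y := F) (n := k)).symm y =
      (Abelian.Ext.homEquiv (X := CohCx.freeSheaf J U) (Y := F) (n := k)).symm 0 :=
    Subsingleton.elim (α := CohSite.HU F k U) _ _
  exact (Abelian.Ext.homEquiv (X := CohCx.freeSheaf J U) (Y := F) (n := k)).symm.injective h1

/-- `((σ_i H)[j]) ≅ (σ_0 H)[k]` for `k = j - i` -/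
def shiftSingleIso (H : Sheaf J AddCommGrpCat.{u}) (i j k a : ℤ) (h1 : j + a = i)
    (h2 : k + a = 0) :
    (shiftFunctor _ j).obj ((singleFunctor (Sheaf J AddCommGrpCat.{u}) i).obj H) ≅
      (shiftFunctor _ k).obj (sg.obj H) :=
  ((singleFunctors (Sheaf J AddCommGrpCat.{u})).shiftIso j a i h1).app H ≪≫
    (((singleFunctors (Sheaf J AddCommGrpCat.{u})).shiftIso k a 0 h2).app H).symm

variable (E : DerivedCategory (Sheaf J AddCommGrpCat.{u}))

/-- (F5) vanishing of maps into shifts of the fibre -/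
lemma hom_fibre_eq_zero (n : ℕ) (N : DerivedCategory (Sheaf J AddCommGrpCat.{u}))
    (f : N ⟶ truncTower E (n + 1)) (δ : truncTower E n ⟶ N⟦(1 : ℤ)⟧)
    (hT : Triangle.mk f (truncTowerMap E n) δ ∈ distTriang _) (U : C) (j k : ℤ)
    (hk : k = j + n + 1)
    (hvan : ∀ z' : sg.obj (CohCx.freeSheaf J U) ⟶
      (shiftFunctor _ k).obj (sg.obj (CohCx.HD E (-((n : ℤ) + 1)))), z' = 0)
    (z : sg.obj (CohCx.freeSheaf J U) ⟶ (shiftFunctor _ j).obj N) : z = 0 := by
  obtain ⟨e⟩ := nonempty_fibre_iso E n N f δ hT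
  let e' : (shiftFunctor _ j).obj N ≅ (shiftFunctor _ k).obj (sg.obj (CohCx.HD E (-((n : ℤ) + 1)))) :=
    (shiftFunctor _ j).mapIso e ≪≫
      shiftSingleIso (CohCx.HD E (-((n : ℤ) + 1))) (-((n : ℤ) + 1)) j k (-k) (by omega) (by omega)
  have h3 : z = (z ≫ e'.hom) ≫ e'.inv := by
    rw [Category.assoc, Iso.hom_inv_id, Category.comp_id]
  rw [h3, hvan (z ≫ e'.hom), zero_comp]

/-- (F6, injectivity) -/
lemma comp_truncTowerMap_injective (n : ℕ) (U : C) (m : ℤ)
    (hN : ∀ (N : DerivedCategory (Sheaf J AddCommGrpCat.{u})) (f : N ⟶ truncTower E (n + 1))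
      (δ : truncTower E n ⟶ N⟦(1 : ℤ)⟧) (_ : Triangle.mk f (truncTowerMap E n) δ ∈ distTriang _)
      (z : sg.obj (CohCx.freeSheaf J U) ⟶ (shiftFunctor _ m).obj N), z = 0) :
    Function.Injective (Preadditive.rightComp (sg.obj (CohCx.freeSheaf J U))
      ((shiftFunctor _ m).map (truncTowerMap E n))) := by
  rw [injective_iff_map_eq_zero]
  intro z hz
  obtain ⟨N, f, δ, hT⟩ := distinguished_cocone_triangle₁ (truncTowerMap E n)
  obtain ⟨y, hy⟩ : ∃ y : sg.obj (CohCx.freeSheaf J U) ⟶ (shiftFunctor _ m).obj N,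
      z = y ≫ (shiftFunctor _ m).map f := MilnorSeq.exact₂_shift _ hT m z hz
  rw [hy, hN N f δ hT y, zero_comp]

/-- (F6, surjectivity) -/
lemma comp_truncTowerMap_surjective (n : ℕ) (U : C) (m m' : ℤ) (hm : 1 + m' = m)
    (hN : ∀ (N : DerivedCategory (Sheaf J AddCommGrpCat.{u})) (f : N ⟶ truncTower E (n + 1))
      (δ : truncTower E n ⟶ N⟦(1 : ℤ)⟧) (_ : Triangle.mk f (truncTowerMap E n) δ ∈ distTriang _)
      (z : sg.obj (CohCx.freeSheaf J U) ⟶ (shiftFunctor _ m).obj N), z = 0) :
    Function.Surjective (Preadditive.rightComp (sg.obj (CohCx.freeSheaf J U))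
      ((shiftFunctor _ m').map (truncTowerMap E n))) := by
  intro w
  obtain ⟨N, f, δ, hT⟩ := distinguished_cocone_triangle₁ (truncTowerMap E n)
  have hw : w ≫ (shiftFunctor _ m').map δ = 0 := by
    let i := (shiftFunctorAdd' (DerivedCategory (Sheaf J AddCommGrpCat.{u})) 1 m' m hm).app N
    have h3 : w ≫ (shiftFunctor _ m').map δ = ((w ≫ (shiftFunctor _ m').map δ) ≫ i.inv) ≫ i.hom := by
      rw [Category.assoc, Iso.inv_hom_id, Category.comp_id]
    rw [h3, hN N f δ hT ((w ≫ (shiftFunctor _ m').map δ) ≫ i.inv), zero_comp]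
  obtain ⟨y, hy⟩ : ∃ y : sg.obj (CohCx.freeSheaf J U) ⟶
      (shiftFunctor _ m').obj (truncTower E (n + 1)),
      w = y ≫ (shiftFunctor _ m').map (truncTowerMap E n) :=
    MilnorSeq.exact₂_shift _ (rot_of_distTriang _ hT) m' w hw
  exact ⟨y, hy.symm⟩

/-- (F7.2) injectivity of composite transition maps -/
lemma comp_transition_injective (U : C) (m : ℤ) (n₀ : ℕ)
    (hinj : ∀ n, n₀ ≤ n → Function.Injective (Preadditive.rightComp
      (sg.obj (CohCx.freeSheaf J U)) ((shiftFunctor _ m).map (truncTowerMap E n)))) (k : ℕ) :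
    Function.Injective (Preadditive.rightComp (sg.obj (CohCx.freeSheaf J U))
      ((shiftFunctor _ m).map (CohCx.transition (truncTower E) (truncTowerMap E) n₀ k))) := by
  induction k with
  | zero =>
    intro x y h
    have e : (shiftFunctor (DerivedCategory (Sheaf J AddCommGrpCat.{u})) m).map
        (CohCx.transition (truncTower E) (truncTowerMap E) n₀ 0) = 𝟙 _ :=
      (shiftFunctor _ m).map_id (truncTower E n₀)
    have hx : ∀ z : sg.obj (CohCx.freeSheaf J U) ⟶
        (shiftFunctor _ m).obj (truncTower E (n₀ + 0)),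
        z ≫ (shiftFunctor _ m).map (CohCx.transition (truncTower E) (truncTowerMap E) n₀ 0) =
          z := by
      intro z
      rw [e]
      exact Category.comp_id z
    have h' : x ≫ (shiftFunctor _ m).map (CohCx.transition (truncTower E) (truncTowerMap E) n₀ 0) =
      y ≫ (shiftFunctor _ m).map (CohCx.transition (truncTower E) (truncTowerMap E) n₀ 0) := h
    rwa [hx, hx] at h'
  | succ k ih =>
    intro x y h
    have h' : x ≫ (shiftFunctor _ m).map (truncTowerMap E (n₀ + k) ≫
        CohCx.transition (truncTower E) (truncTowerMap E) n₀ k) =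
      y ≫ (shiftFunctor _ m).map (truncTowerMap E (n₀ + k) ≫
        CohCx.transition (truncTower E) (truncTowerMap E) n₀ k) := h
    rw [Functor.map_comp, ← Category.assoc, ← Category.assoc] at h'
    exact hinj (n₀ + k) (by omega) (ih h')

/-- vanishing of maps into the shifted fibres from the cohomological dimension bound -/
lemma hN_of_vanishing (U : C) (m pm : ℤ)
    (hP : ∀ k : ℕ, pm < k → Subsingleton (CohSite.HU (CohCx.HD E (m - k)) k U)) (n : ℕ)
    (hn1 : pm - m ≤ n) (hn2 : -m ≤ n)
    (N : DerivedCategory (Sheaf J AddCommGrpCat.{u})) (f : N ⟶ truncTower E (n + 1))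
    (δ : truncTower E n ⟶ N⟦(1 : ℤ)⟧) (hT : Triangle.mk f (truncTowerMap E n) δ ∈ distTriang _)
    (z : sg.obj (CohCx.freeSheaf J U) ⟶ (shiftFunctor _ m).obj N) : z = 0 := by
  apply hom_fibre_eq_zero E n N f δ hT U m (m + n + 1) rfl _ z
  intro z'
  have h0 := hP (m + n + 1).toNat (by omega)
  have e : m - ((m + n + 1).toNat : ℤ) = -((n : ℤ) + 1) := by omega
  rw [e] at h0
  exact hom_eq_zero_of_ext (CohCx.HD E (-((n : ℤ) + 1))) U (m + n + 1).toNat (m + n + 1)
    (by omega) z'

/-- the hypotheses of the injectivity theorem at an object with bounded cohomological dimension -/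
lemma limOne_and_inj (U : C) (m pm : ℤ)
    (hP : ∀ k : ℕ, pm < k → Subsingleton (CohSite.HU (CohCx.HD E (m - k)) k U)) (nV : ℕ)
    (h1 : pm - m ≤ nV) (h2 : -m ≤ nV) :
    CohCx.LimOneIsZero (fun n => CohCx.HDU (truncTower E n) (m - 1) U)
      (fun n => Preadditive.rightComp _ ((shiftFunctor _ (m - 1)).map (truncTowerMap E n))) ∧
    ∀ k : ℕ, Function.Injective
      (Preadditive.rightComp _ ((shiftFunctor _ m).map
        (CohCx.transition (truncTower E) (truncTowerMap E) nV k)) :
        CohCx.HDU (truncTower E (nV + k)) m U → CohCx.HDU (truncTower E nV) m U) := by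
  constructor
  · apply limOneIsZero_of_eventually_surjective nV
    intro n hn
    exact comp_truncTowerMap_surjective E n U m (m - 1) (by omega)
      (hN_of_vanishing E U m pm hP n (by omega) (by omega))
  · intro k
    exact comp_transition_injective E U m nV (fun n hn =>
      comp_truncTowerMap_injective E n U m
        (hN_of_vanishing E U m pm hP n (by omega) (by omega))) k

/-- final assembly: `E` is the derived limit of its truncations as soon as the maps
`H^m(R lim) ⟶ H^m(τ_{≥ -n} E)` are monomorphisms for `n = (-m).toNat` -/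
theorem isRlimVia_of_mono [HasProduct (truncTower E)]
    (hkey : ∀ (M : DerivedCategory (Sheaf J AddCommGrpCat.{u})) (a : ∀ n, M ⟶ truncTower E n)
      (c : ∏ᶜ (truncTower E) ⟶ M⟦(1 : ℤ)⟧)
      (_ : Triangle.mk (Pi.lift a) (Pi.lift fun n => Pi.π (truncTower E) n -
        Pi.π (truncTower E) (n + 1) ≫ truncTowerMap E n) c ∈ distTriang _) (m : ℤ),
      Mono ((homologyFunctor _ m).map (a (-m).toNat))) :
    CohCx.IsRlimVia (truncTower E) (truncTowerMap E) E (toTruncTower E) := by
  obtain ⟨M, a', c, hΔ'⟩ := distinguished_cocone_triangle₁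
    (Pi.lift fun n => Pi.π (truncTower E) n - Pi.π (truncTower E) (n + 1) ≫ truncTowerMap E n)
  let a : ∀ n, M ⟶ truncTower E n := fun n => a' ≫ Pi.π _ n
  have ha' : a' = Pi.lift a := by
    apply Pi.hom_ext
    intro n
    rw [Pi.lift_π]
  have hΔ : Triangle.mk (Pi.lift a) (Pi.lift fun n => Pi.π (truncTower E) n -
      Pi.π (truncTower E) (n + 1) ≫ truncTowerMap E n) c ∈ distTriang _ := by
    rw [← ha']
    exact hΔ'
  have hαβ : Pi.lift (toTruncTower E) ≫ (Pi.lift fun n => Pi.π (truncTower E) n -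
      Pi.π (truncTower E) (n + 1) ≫ truncTowerMap E n) = 0 := by
    apply Pi.hom_ext
    intro n
    rw [Category.assoc, Pi.lift_π, Preadditive.comp_sub, Pi.lift_π, ← Category.assoc, Pi.lift_π,
      toTruncTower_comp_map, sub_self, zero_comp]
  obtain ⟨θ, hθ⟩ : ∃ θ : E ⟶ M, Pi.lift (toTruncTower E) = θ ≫ a' :=
    Triangle.coyoneda_exact₂ _ hΔ' (Pi.lift (toTruncTower E)) hαβ
  have hθn : ∀ n, θ ≫ a n = toTruncTower E n := by
    intro n
    dsimp only [a]
    rw [← Category.assoc, ← hθ, Pi.lift_π]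
  haveI : IsIso θ := by
    rw [DerivedCategory.isIso_iff]
    intro m
    haveI := hkey M a c hΔ m
    haveI := isIso_homology_map_toTruncTower E (-m).toNat m (by omega)
    have hfac : (homologyFunctor _ m).map θ ≫ (homologyFunctor _ m).map (a (-m).toNat) =
        (homologyFunctor _ m).map (toTruncTower E (-m).toNat) := by
      rw [← Functor.map_comp, hθn]
    haveI : Epi ((homologyFunctor _ m).map (a (-m).toNat)) := by
      haveI : Epi ((homologyFunctor _ m).map θ ≫ (homologyFunctor _ m).map (a (-m).toNat)) := by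
        rw [hfac]
        infer_instance
      exact epi_of_epi ((homologyFunctor _ m).map θ) _
    haveI : IsIso ((homologyFunctor _ m).map (a (-m).toNat)) := isIso_of_mono_of_epi _
    exact IsIso.of_isIso_fac_right hfac
  refine ⟨c ≫ (shiftFunctor _ (1 : ℤ)).map (inv θ), ?_⟩
  let eθ : E ≅ M := asIso θ
  refine CategoryTheory.Pretriangulated.isomorphic_distinguished _ hΔ' _
    (Triangle.isoMk _ _ eθ (Iso.refl _) (Iso.refl _) ?_ ?_ ?_)
  · change Pi.lift (toTruncTower E) ≫ 𝟙 _ = θ ≫ a'
    rw [Category.comp_id, hθ]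
  · change _ ≫ 𝟙 _ = 𝟙 _ ≫ _
    rw [Category.comp_id, Category.id_comp]
    rfl
  · change (c ≫ (shiftFunctor _ (1 : ℤ)).map (inv θ)) ≫ (shiftFunctor _ (1 : ℤ)).map θ = 𝟙 _ ≫ c
    rw [Category.id_comp, Category.assoc, ← Functor.map_comp, IsIso.inv_hom_id,
      CategoryTheory.Functor.map_id, Category.comp_id]

lemma isIso_homology_map_trans (n₀ k : ℕ) (m : ℤ) (h : -(n₀ : ℤ) ≤ m) :
    IsIso ((homologyFunctor _ m).map
      (MilnorSeq.trans (truncTower E) (truncTowerMap E) n₀ k)) := by
  induction k with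
  | zero =>
    change IsIso ((homologyFunctor _ m).map (𝟙 (truncTower E n₀)))
    rw [CategoryTheory.Functor.map_id]
    infer_instance
  | succ k ih =>
    change IsIso ((homologyFunctor _ m).map (truncTowerMap E (n₀ + k) ≫
      MilnorSeq.trans (truncTower E) (truncTowerMap E) n₀ k))
    rw [Functor.map_comp]
    haveI := isIso_homology_map_truncTowerMap E (n₀ + k) m (by push_cast; omega)
    infer_instance

/-- S0881 in library form -/
theorem isRlimVia_site [HasProduct (truncTower E)] (B : Set C)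
    (hB : ∀ U : C, ∃ (ι : Type u) (Y : ι → C) (f : ∀ i, Y i ⟶ U),
      Sieve.ofArrows Y f ∈ J U ∧ ∀ i, Y i ∈ B)
    (h : ∀ V ∈ B, ∃ p : ℤ → ℤ, ∀ T ∈ J V, ∃ (ι : Type u) (Y : ι → C) (f : ∀ i, Y i ⟶ V),
      (∀ i, T.arrows (f i)) ∧ Sieve.ofArrows Y f ∈ J V ∧
      ∀ (i : ι) (m : ℤ) (k : ℕ), p m < k →
        Subsingleton (CohSite.HU (CohCx.HD E (m - k)) k (Y i))) :
    CohCx.IsRlimVia (truncTower E) (truncTowerMap E) E (toTruncTower E) := by
  apply isRlimVia_of_mono
  intro M a c hΔ m
  have ha := MilnorSeq.a_comp_t (truncTower E) (truncTowerMap E) M a c hΔ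
  haveI : Mono ((homologyFunctor _ m).map (a (-m).toNat)).hom := by
    haveI : ∀ X, Mono (((homologyFunctor _ m).map (a (-m).toNat)).hom.app X) := by
      intro X
      rw [AddCommGrpCat.mono_iff_injective, injective_iff_map_eq_zero]
      intro s hs
      apply RlimAcyclic.sect_eq_zero_of_B B hB
      intro W hW g
      obtain ⟨p, hp⟩ := h W hW
      obtain ⟨k, hk⟩ : ∃ k, (max (max (p m - m) (-m)) 0).toNat = (-m).toNat + k :=
        Nat.exists_eq_add_of_le (by omega)
      have hk1 : p m - m ≤ (((-m).toNat + k : ℕ) : ℤ) := by rw [← hk]; omega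
      have hk2 : -m ≤ (((-m).toNat + k : ℕ) : ℤ) := by rw [← hk]; omega
      have hinj := RlimInj.sections_injective (truncTower E) (truncTowerMap E) M a ⟨c, hΔ⟩ W m
        ((-m).toNat + k) (by
          intro T hT
          obtain ⟨ι, Yc, f, hTf, hcov, hvan⟩ := hp T hT
          exact ⟨ι, Yc, f, hTf, hcov, fun i =>
            limOne_and_inj E (Yc i) m (p m) (fun k' hk' => hvan i m k' hk') _ hk1 hk2⟩)
      apply hinj
      rw [map_zero]
      -- the restriction of `s` to `W` dies in `H^m(τ_{≥ -n₀} E)`, hence in `H^m(τ_{≥ -(n₀+k)} E)`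
      haveI := isIso_homology_map_trans E (-m).toNat k m (by omega)
      have hmono : Function.Injective (((homologyFunctor _ m).map
          (MilnorSeq.trans (truncTower E) (truncTowerMap E) (-m).toNat k)).hom.app (op W)) := by
        have hiso : IsIso (((homologyFunctor _ m).map
            (MilnorSeq.trans (truncTower E) (truncTowerMap E) (-m).toNat k)).hom.app (op W)) :=
          inferInstanceAs (IsIso ((sheafToPresheaf _ _ ⋙ (evaluation _ _).obj (op W)).map
            ((homologyFunctor _ m).map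
              (MilnorSeq.trans (truncTower E) (truncTowerMap E) (-m).toNat k))))
        exact (ConcreteCategory.bijective_of_isIso _).1
      apply hmono
      rw [map_zero]
      have hfac : (homologyFunctor _ m).map (a ((-m).toNat + k)) ≫ (homologyFunctor _ m).map
          (MilnorSeq.trans (truncTower E) (truncTowerMap E) (-m).toNat k) =
          (homologyFunctor _ m).map (a (-m).toNat) := by
        rw [← Functor.map_comp, MilnorSeq.a_comp_trans (truncTower E) (truncTowerMap E) a ha]
      have h1 := congrArg (fun φ => (φ.hom.app (op W)).hom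
        ((((homologyFunctor _ m).obj M).obj.map g.op).hom s)) hfac
      refine h1.trans ?_
      have h2 := ConcreteCategory.congr_hom
        (((homologyFunctor _ m).map (a (-m).toNat)).hom.naturality g.op) s
      refine h2.trans ?_
      change ((((homologyFunctor _ m).obj (truncTower E (-m).toNat)).obj.map g.op).hom
        ((((homologyFunctor _ m).map (a (-m).toNat)).hom.app X).hom s)) = 0
      rw [hs, map_zero]
    exact NatTrans.mono_of_mono_app _
  exact Sheaf.Hom.mono_of_presheaf_mono J _ _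

end Groth.Agent.Lib.Helper5.TruncRlim
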