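import Mathlib
import Groth.Prelude.Def_CohCx
import Groth.Agent.Lib.Helper5.MilnorSeq
import Groth.Agent.Lib.Helper5.TruncRlim

/-!
# Maps from a fixed object into a tower and its derived limit (helper5)

In a pretriangulated category, for a tower `(K n, t n)` with derived limit `L` (via `a n`) and an
object `Z`: if all maps from `Z` to the `m`-shifted fibres of `t n` vanish for `n ≥ n₀` (`GoodAt`),
then `Hom(Z, L[m]) → Hom(Z, K n₀ [m])` is injective, and it is surjective if this holds for `m + 1`.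
-/

set_option autoImplicit false
universe v₁ u₁
open CategoryTheory CategoryTheory.Limits CategoryTheory.Pretriangulated Opposite

noncomputable section
namespace Groth.Agent.Lib.Helper5.TowerHom

variable {D : Type u₁} [Category.{v₁} D] [Preadditive D] [HasZeroObject D] [HasShift D ℤ]
  [∀ n : ℤ, (shiftFunctor D n).Additive] [Pretriangulated D]
  (Z : D) (K : ℕ → D) (t : ∀ n, K (n + 1) ⟶ K n)

/-- all maps from `Z` to the `m`-th shift of any fibre of `t n` vanish -/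
def GoodAt (m : ℤ) (n : ℕ) : Prop :=
  ∀ (N : D) (f : N ⟶ K (n + 1)) (δ : K n ⟶ N⟦(1 : ℤ)⟧),
    Triangle.mk f (t n) δ ∈ distTriang D → ∀ z : Z ⟶ N⟦m⟧, z = 0

variable {Z K t}

lemma injective_of_goodAt {m : ℤ} {n : ℕ} (h : GoodAt Z K t m n) :
    Function.Injective (fun y : Z ⟶ (K (n + 1))⟦m⟧ => y ≫ (t n)⟦m⟧') := by
  intro y y' hyy'
  rw [← sub_eq_zero]
  have hz : (y - y') ≫ (t n)⟦m⟧' = 0 := by
    rw [Preadditive.sub_comp, sub_eq_zero]
    exact hyy'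
  obtain ⟨N, f, δ, hT⟩ := distinguished_cocone_triangle₁ (t n)
  obtain ⟨w, hw⟩ : ∃ w : Z ⟶ N⟦m⟧, y - y' = w ≫ f⟦m⟧' :=
    MilnorSeq.exact₂_shift _ hT m (y - y') hz
  rw [hw, h N f δ hT w, zero_comp]

lemma surjective_of_goodAt {m m' : ℤ} (hm : 1 + m' = m) {n : ℕ} (h : GoodAt Z K t m n) :
    Function.Surjective (fun y : Z ⟶ (K (n + 1))⟦m'⟧ => y ≫ (t n)⟦m'⟧') := by
  intro w
  obtain ⟨N, f, δ, hT⟩ := distinguished_cocone_triangle₁ (t n)
  have hw : w ≫ δ⟦m'⟧' = 0 := by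
    let i := (shiftFunctorAdd' D 1 m' m hm).app N
    have h3 : w ≫ δ⟦m'⟧' = ((w ≫ δ⟦m'⟧') ≫ i.inv) ≫ i.hom := by
      rw [Category.assoc, Iso.inv_hom_id, Category.comp_id]
    rw [h3, h N f δ hT ((w ≫ δ⟦m'⟧') ≫ i.inv), zero_comp]
  obtain ⟨y, hy⟩ : ∃ y : Z ⟶ (K (n + 1))⟦m'⟧, w = y ≫ (t n)⟦m'⟧' :=
    MilnorSeq.exact₂_shift _ (rot_of_distTriang _ hT) m' w hw
  exact ⟨y, hy.symm⟩

lemma trans_injective (m : ℤ) (n₀ : ℕ)
    (hinj : ∀ n, n₀ ≤ n →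
      Function.Injective (fun y : Z ⟶ (K (n + 1))⟦m⟧ => y ≫ (t n)⟦m⟧')) (k : ℕ) :
    Function.Injective
      (fun b : Z ⟶ (K (n₀ + k))⟦m⟧ => b ≫ (MilnorSeq.trans K t n₀ k)⟦m⟧') := by
  induction k with
  | zero =>
    intro x y h
    have e : (MilnorSeq.trans K t n₀ 0)⟦m⟧' = 𝟙 _ := (shiftFunctor D m).map_id (K n₀)
    have hx : ∀ z : Z ⟶ (K (n₀ + 0))⟦m⟧, z ≫ (MilnorSeq.trans K t n₀ 0)⟦m⟧' = z := by
      intro z
      rw [e]
      exact Category.comp_id z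
    have h' : x ≫ (MilnorSeq.trans K t n₀ 0)⟦m⟧' = y ≫ (MilnorSeq.trans K t n₀ 0)⟦m⟧' := h
    rwa [hx, hx] at h'
  | succ k ih =>
    intro x y h
    have h' : x ≫ (t (n₀ + k) ≫ MilnorSeq.trans K t n₀ k)⟦m⟧' =
        y ≫ (t (n₀ + k) ≫ MilnorSeq.trans K t n₀ k)⟦m⟧' := h
    rw [Functor.map_comp, ← Category.assoc, ← Category.assoc] at h'
    exact hinj (n₀ + k) (by omega) (ih h')

lemma limOne_surjective (m' : ℤ) (n₀ : ℕ)
    (hsurj : ∀ n, n₀ ≤ n →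
      Function.Surjective (fun y : Z ⟶ (K (n + 1))⟦m'⟧ => y ≫ (t n)⟦m'⟧')) :
    Function.Surjective (fun (b : ∀ n, Z ⟶ (K n)⟦m'⟧) (n : ℕ) =>
      b n - b (n + 1) ≫ (t n)⟦m'⟧') :=
  TruncRlim.limOneIsZero_of_eventually_surjective n₀ (fun n => Z ⟶ (K n)⟦m'⟧)
    (fun n => Preadditive.rightComp Z ((t n)⟦m'⟧')) hsurj

section Rlim

variable [HasProduct K] (L : D) (a : ∀ n, L ⟶ K n) (c : ∏ᶜ K ⟶ L⟦(1 : ℤ)⟧)
  (hΔ : Triangle.mk (Pi.lift a) (Pi.lift fun n => Pi.π K n - Pi.π K (n + 1) ≫ t n) c ∈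
    distTriang D)

include hΔ in
/-- injectivity of `Hom(Z, L[m]) → Hom(Z, K n₀ [m])` -/
theorem comp_a_injective (m : ℤ) (n₀ : ℕ) (h : ∀ n, n₀ ≤ n → GoodAt Z K t m n) :
    Function.Injective (fun z : Z ⟶ L⟦m⟧ => z ≫ (a n₀)⟦m⟧') := by
  have ha := MilnorSeq.a_comp_t K t L a c hΔ
  intro z z' hzz'
  rw [← sub_eq_zero]
  have hz : (z - z') ≫ (a n₀)⟦m⟧' = 0 := by
    rw [Preadditive.sub_comp, sub_eq_zero]
    exact hzz'
  have hz' : ∀ n, (z - z') ≫ (a n)⟦m⟧' = 0 :=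
    MilnorSeq.comp_a_eq_zero K t L a ha m n₀ (z - z') hz
      (trans_injective m n₀ (fun n hn => injective_of_goodAt (h n hn)))
  exact MilnorSeq.eq_zero_of_limOne K t L a c hΔ m (m - 1) (by omega)
    (limOne_surjective (m - 1) n₀
      (fun n hn => surjective_of_goodAt (by omega) (h n hn))) (z - z') hz'

include hΔ in
/-- surjectivity of `Hom(Z, L[m]) → Hom(Z, K n₀ [m])` -/
theorem comp_a_surjective (m m₁ : ℤ) (hm : 1 + m = m₁) (n₀ : ℕ)
    (h : ∀ n, n₀ ≤ n → GoodAt Z K t m₁ n) :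
    Function.Surjective (fun z : Z ⟶ L⟦m⟧ => z ≫ (a n₀)⟦m⟧') := by
  intro x
  have hsurj : ∀ n, n₀ ≤ n →
      Function.Surjective (fun y : Z ⟶ (K (n + 1))⟦m⟧ => y ≫ (t n)⟦m⟧') :=
    fun n hn => surjective_of_goodAt hm (h n hn)
  let F : ℕᵒᵖ ⥤ D := Functor.ofOpSequence t
  let down : ∀ n : ℕ, n ≤ n₀ → (K n₀ ⟶ K n) := fun n hn => F.map (homOfLE hn).op
  have hdown_self : down n₀ le_rfl = 𝟙 (K n₀) := by
    have : homOfLE (le_refl n₀) = 𝟙 n₀ := Subsingleton.elim _ _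
    change F.map (homOfLE (le_refl n₀)).op = 𝟙 _
    rw [this, op_id, F.map_id]
  have hdown_succ : ∀ (n : ℕ) (hn : n + 1 ≤ n₀), down (n + 1) hn ≫ t n = down n (by omega) := by
    intro n hn
    have ht : t n = F.map (homOfLE (Nat.le_add_right n 1)).op :=
      (Functor.ofOpSequence_map_homOfLE_succ t n).symm
    have h1 : F.map (homOfLE hn).op ≫ F.map (homOfLE (Nat.le_add_right n 1)).op =
        F.map (homOfLE (by omega : n ≤ n₀)).op := by
      rw [← F.map_comp, ← op_comp]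
      rfl
    rw [ht]
    exact h1
  let xlow : ∀ n : ℕ, Z ⟶ (K n)⟦m⟧ := fun n =>
    if hn : n ≤ n₀ then x ≫ (down n hn)⟦m⟧' else 0
  let X : ∀ n : ℕ, Z ⟶ (K n)⟦m⟧ := fun n =>
    Nat.rec (motive := fun n => Z ⟶ (K n)⟦m⟧) (xlow 0)
      (fun n Xn => if hn : n₀ ≤ n then (hsurj n hn Xn).choose else xlow (n + 1)) n
  have hX_succ_pos : ∀ n (hn : n₀ ≤ n), X (n + 1) = (hsurj n hn (X n)).choose := by
    intro n hn
    change (if hn : n₀ ≤ n then (hsurj n hn (X n)).choose else xlow (n + 1)) = _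
    rw [dif_pos hn]
  have hX_succ_neg : ∀ n (_ : ¬ n₀ ≤ n), X (n + 1) = xlow (n + 1) := by
    intro n hn
    change (if hn : n₀ ≤ n then (hsurj n hn (X n)).choose else xlow (n + 1)) = _
    rw [dif_neg hn]
  have hX_low : ∀ n, n ≤ n₀ → X n = xlow n := by
    intro n hn
    cases n with
    | zero => rfl
    | succ n => exact hX_succ_neg n (by omega)
  have hxlow : ∀ n (hn : n ≤ n₀), xlow n = x ≫ (down n hn)⟦m⟧' := by
    intro n hn
    change (if hn : n ≤ n₀ then x ≫ (down n hn)⟦m⟧' else 0) = _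
    rw [dif_pos hn]
  have hXc : ∀ n, X (n + 1) ≫ (t n)⟦m⟧' = X n := by
    intro n
    by_cases hn : n₀ ≤ n
    · rw [hX_succ_pos n hn]
      exact (hsurj n hn (X n)).choose_spec
    · have h1 : n + 1 ≤ n₀ := by omega
      rw [hX_low (n + 1) h1, hX_low n (by omega), hxlow (n + 1) h1, hxlow n (by omega),
        Category.assoc, ← Functor.map_comp, hdown_succ n h1]
  obtain ⟨y, hy⟩ := MilnorSeq.exists_lift K t L a c hΔ m X hXc
  refine ⟨y, ?_⟩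
  change y ≫ (a n₀)⟦m⟧' = x
  rw [hy n₀, hX_low n₀ le_rfl, hxlow n₀ le_rfl, hdown_self, CategoryTheory.Functor.map_id,
    Category.comp_id]

end Rlim

end Groth.Agent.Lib.Helper5.TowerHom
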