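import Mathlib
import Groth.Prelude.Def_CohCx
import Groth.Prelude.Def_CohSite
import Groth.Agent.Lib.Helper5.HDULocal
import Groth.Agent.Lib.Helper5.FreeGen
import Groth.Agent.Lib.Helper5.TowerHom

/-!
# Abelian categories with a sections functor to abelian sheaves and representing generators (helper5)

Abstract setting for sheaves of modules on a ringed site: an abelian category `𝒜`, an exact faithful
functor `Γ : 𝒜 ⥤ Sheaf J Ab` and objects `G U` representing sections over `U`.  We port the locality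
lemmas of `HDULocal` (classes in `Hom(σ G U, K)` versus sections of `H^0(K)`) and the
injectivity / local surjectivity statements for derived limits.
-/

set_option autoImplicit false
universe w u
open CategoryTheory CategoryTheory.Limits CategoryTheory.Pretriangulated Opposite
  HomologicalComplex

noncomputable section
namespace Groth.Agent.Lib.Helper5.GenSite

variable {C : Type u} [SmallCategory C] {J : GrothendieckTopology C}
  {𝒜 : Type (u + 1)} [Category.{u} 𝒜] [Abelian 𝒜]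

/-- representing generators for the sections functor -/
structure Gen (Γ : 𝒜 ⥤ Sheaf J AddCommGrpCat.{u}) where
  G : C → 𝒜
  Gmap : ∀ {U V : C}, (V ⟶ U) → (G V ⟶ G U)
  ev : ∀ (U : C) (M : 𝒜), (G U ⟶ M) ≃+ (Γ.obj M).obj.obj (op U)
  ev_comp : ∀ (U : C) {M M' : 𝒜} (φ : G U ⟶ M) (ψ : M ⟶ M'),
    ev U M' (φ ≫ ψ) = ((Γ.map ψ).hom.app (op U)).hom (ev U M φ)
  ev_Gmap : ∀ {U V : C} (f : V ⟶ U) (M : 𝒜) (φ : G U ⟶ M),
    ev V M (Gmap f ≫ φ) = ((Γ.obj M).obj.map f.op).hom (ev U M φ)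

variable {Γ : 𝒜 ⥤ Sheaf J AddCommGrpCat.{u}} [PreservesFiniteColimits Γ] (D : Gen Γ)

/-- local sections of an epimorphism onto a generator -/
lemma exists_cover_factor {A' : 𝒜} {U : C} (π : A' ⟶ D.G U) [Epi π] :
    ∃ R ∈ J U, ∀ ⦃V : C⦄ (f : V ⟶ U), R f → ∃ r : D.G V ⟶ A', r ≫ π = D.Gmap f := by
  haveI : Epi (Γ.map π) := inferInstance
  have hloc : Presheaf.IsLocallySurjective J (Γ.map π).hom :=
    (Sheaf.isLocallySurjective_iff_epi' AddCommGrpCat.{u} (Γ.map π)).2 inferInstance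
  refine ⟨Presheaf.imageSieve (Γ.map π).hom (D.ev U (D.G U) (𝟙 _)), hloc.imageSieve_mem _, ?_⟩
  intro V f hf
  obtain ⟨a', ha'⟩ := hf
  refine ⟨(D.ev V A').symm a', ?_⟩
  apply (D.ev V (D.G U)).injective
  rw [D.ev_comp, AddEquiv.apply_symm_apply]
  refine ha'.trans ?_
  have h := D.ev_Gmap f (D.G U) (𝟙 _)
  rw [Category.comp_id] at h
  exact h.symm

variable [HasDerivedCategory.{w} 𝒜]

open DerivedCategory

/-- `σ = singleFunctor 0` -/
abbrev sg : 𝒜 ⥤ DerivedCategory 𝒜 := DerivedCategory.singleFunctor 𝒜 0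

/-- `H^0 : D(𝒜) ⥤ 𝒜` -/
abbrev H0 : DerivedCategory 𝒜 ⥤ 𝒜 := DerivedCategory.homologyFunctor 𝒜 0

/-- `H^0(σ X) ≅ X` -/
def sIsoG (X : 𝒜) : H0.obj (sg.obj X) ≅ X := HDULocal.sIso X

lemma sIsoG_inv_naturality {X Y : 𝒜} (f : X ⟶ Y) :
    (sIsoG X).inv ≫ H0.map (sg.map f) = f ≫ (sIsoG Y).inv :=
  HDULocal.sIso_inv_naturality f

/-- the section of `H^0(K)` over `U` attached to a class in `Hom(σ G U, K)` -/
def toSect (K : DerivedCategory 𝒜) (U : C) :
    (sg.obj (D.G U) ⟶ K) →+ (Γ.obj (H0.obj K)).obj.obj (op U) :=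
  (D.ev U (H0.obj K)).toAddMonoidHom.comp
    { toFun := fun x => (sIsoG (D.G U)).inv ≫ H0.map x
      map_zero' := by rw [Functor.map_zero, comp_zero]
      map_add' := fun x y => by rw [Functor.map_add, Preadditive.comp_add] }

lemma toSect_apply (K : DerivedCategory 𝒜) (U : C) (x : sg.obj (D.G U) ⟶ K) :
    toSect D K U x = D.ev U _ ((sIsoG (D.G U)).inv ≫ H0.map x) := rfl

lemma toSect_comp {K K' : DerivedCategory 𝒜} (U : C) (x : sg.obj (D.G U) ⟶ K) (f : K ⟶ K') :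
    toSect D K' U (x ≫ f) = ((Γ.map (H0.map f)).hom.app (op U)).hom (toSect D K U x) := by
  rw [toSect_apply, toSect_apply, Functor.map_comp, ← Category.assoc, D.ev_comp]

lemma toSect_res (K : DerivedCategory 𝒜) {U V : C} (f : V ⟶ U) (x : sg.obj (D.G U) ⟶ K) :
    toSect D K V (sg.map (D.Gmap f) ≫ x) =
      ((Γ.obj (H0.obj K)).obj.map f.op).hom (toSect D K U x) := by
  rw [toSect_apply, toSect_apply, Functor.map_comp, ← Category.assoc, sIsoG_inv_naturality,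
    Category.assoc, D.ev_Gmap]

lemma toSect_eq_zero_iff (K : DerivedCategory 𝒜) (U : C) (x : sg.obj (D.G U) ⟶ K) :
    toSect D K U x = 0 ↔ H0.map x = 0 := by
  rw [toSect_apply]
  constructor
  · intro h
    have h1 : (sIsoG (D.G U)).inv ≫ H0.map x = 0 := by
      apply (D.ev U _).injective
      rw [map_zero]
      exact h
    rw [← cancel_epi (sIsoG (D.G U)).inv, h1, comp_zero]
  · intro h
    rw [h, comp_zero, map_zero]

/-- a class in `Hom(σ G U, K)` whose section of `H^0(K)` vanishes is locally zero (`Q`-form) -/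
theorem exists_cover_comp_eq_zero' (K : DerivedCategory 𝒜) (U : C)
    (x : Q.obj ((HDULocal.sgl _).obj (D.G U)) ⟶ K) (hx : H0.map x = 0) :
    ∃ R ∈ J U, ∀ ⦃V : C⦄ (f : V ⟶ U), R f →
      Q.map ((HDULocal.sgl _).map (D.Gmap f)) ≫ x = 0 := by
  let L : CochainComplex 𝒜 ℤ := Q.objPreimage K
  let e : Q.obj L ≅ K := Q.objObjPreimageIso K
  let x' : Q.obj ((HDULocal.sgl _).obj (D.G U)) ⟶ Q.obj L := x ≫ e.inv
  obtain ⟨L', g, s, hs, hfac⟩ := left_fac x'
  have h1 : H0.map (Q.map g) = 0 := by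
    have : Q.map g = x' ≫ Q.map s := by
      rw [hfac, Category.assoc, IsIso.inv_hom_id, Category.comp_id]
    rw [this]
    dsimp only [x']
    rw [Functor.map_comp, Functor.map_comp, hx, zero_comp, zero_comp]
  let c : D.G U ⟶ L'.cycles 0 :=
    (singleObjCyclesSelfIso (ComplexShape.up ℤ) 0 _).inv ≫ cyclesMap g 0
  have hc : c ≫ L'.homologyπ 0 = 0 := by
    have := HDULocal.sIso_inv_H0_map_Q g
    rw [h1, zero_comp, comp_zero] at this
    dsimp only [c]
    rw [Category.assoc]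
    exact this.symm
  obtain ⟨A', π, hπ, x₁, fac⟩ :=
    (HDULocal.exact_toCycles_homologyπ L').exact_up_to_refinements c hc
  obtain ⟨R, hR, hRf⟩ := exists_cover_factor D π
  refine ⟨R, hR, fun V f hf => ?_⟩
  obtain ⟨r, hr⟩ := hRf f hf
  have h2 : Q.map ((HDULocal.sgl _).map (D.Gmap f) ≫ g) = 0 := by
    apply HDULocal.Q_map_comp_eq_zero g _ (r ≫ x₁)
    dsimp only at fac
    rw [Category.assoc, ← fac, ← Category.assoc, hr]
  have h3 : Q.map ((HDULocal.sgl _).map (D.Gmap f)) ≫ x' = 0 := by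
    rw [hfac, ← Category.assoc, ← Functor.map_comp, h2, zero_comp]
  have h4 : x = x' ≫ e.hom := by
    dsimp only [x']
    rw [Category.assoc, Iso.inv_hom_id, Category.comp_id]
  rw [h4, ← Category.assoc, h3, zero_comp]

/-- a class in `Hom(σ G U, K)` whose section of `H^0(K)` vanishes is locally zero -/
theorem exists_cover_comp_eq_zero (K : DerivedCategory 𝒜) (U : C)
    (x : sg.obj (D.G U) ⟶ K) (hx : H0.map x = 0) :
    ∃ R ∈ J U, ∀ ⦃V : C⦄ (f : V ⟶ U), R f → sg.map (D.Gmap f) ≫ x = 0 :=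
  exists_cover_comp_eq_zero' D K U x hx

/-- sections of `H^0(K)` locally come from classes in `Hom(σ G V, K)` -/
theorem exists_cover_lift (K : DerivedCategory 𝒜) (U : C)
    (s : (Γ.obj (H0.obj K)).obj.obj (op U)) :
    ∃ R ∈ J U, ∀ ⦃V : C⦄ (f : V ⟶ U), R f →
      ∃ x : sg.obj (D.G V) ⟶ K,
        toSect D K V x = ((Γ.obj (H0.obj K)).obj.map f.op).hom s := by
  let L : CochainComplex 𝒜 ℤ := Q.objPreimage K
  let e : Q.obj L ≅ K := Q.objObjPreimageIso K
  let ŝ : D.G U ⟶ H0.obj K := (D.ev U _).symm s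
  let t : D.G U ⟶ L.homology 0 :=
    ŝ ≫ H0.map e.inv ≫ (homologyFunctorFactors _ 0).hom.app L
  obtain ⟨A', π, hπ, c', fac⟩ := surjective_up_to_refinements_of_epi (L.homologyπ 0) t
  obtain ⟨R, hR, hRf⟩ := exists_cover_factor D π
  refine ⟨R, hR, fun V f hf => ?_⟩
  obtain ⟨r, hr⟩ := hRf f hf
  let c : D.G V ⟶ L.cycles 0 := r ≫ c'
  have hc : c ≫ L.homologyπ 0 = D.Gmap f ≫ t := by
    dsimp only [c]
    rw [Category.assoc, ← fac, ← Category.assoc, hr]
  let x : sg.obj (D.G V) ⟶ K := Q.map (HDULocal.ofCycle c) ≫ e.hom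
  refine ⟨x, ?_⟩
  have h1 := HDULocal.sIso_inv_H0_map_Q_ofCycle c
  rw [hc] at h1
  dsimp only [t] at h1
  have h2 : (HDULocal.sIso (D.G V)).inv ≫ H0.map (Q.map (HDULocal.ofCycle c)) =
      D.Gmap f ≫ ŝ ≫ H0.map e.inv := by
    rw [← cancel_mono ((homologyFunctorFactors _ 0).hom.app L), Category.assoc, Category.assoc,
      Category.assoc]
    exact h1
  have h3 : (sIsoG (D.G V)).inv ≫ H0.map x = D.Gmap f ≫ ŝ := by
    dsimp only [x]
    rw [Functor.map_comp, ← Category.assoc]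
    change ((HDULocal.sIso (D.G V)).inv ≫ H0.map (Q.map (HDULocal.ofCycle c))) ≫ _ = _
    rw [h2, Category.assoc, Category.assoc, ← Functor.map_comp, Iso.inv_hom_id,
      CategoryTheory.Functor.map_id, Category.comp_id]
  rw [toSect_apply, h3, D.ev_Gmap, AddEquiv.apply_symm_apply]

/-- `H^0(X[m]) ≅ H^m(X)` -/
abbrev shIso (m : ℤ) (X : DerivedCategory 𝒜) :
    H0.obj ((shiftFunctor _ m).obj X) ≅ (DerivedCategory.homologyFunctor 𝒜 m).obj X :=
  ((DerivedCategory.homologyFunctor 𝒜 0).shiftIso m 0 m (by omega)).app X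

lemma shIso_hom_naturality (m : ℤ) {X Y : DerivedCategory 𝒜} (f : X ⟶ Y) :
    H0.map ((shiftFunctor _ m).map f) ≫ (shIso m Y).hom =
      (shIso m X).hom ≫ (DerivedCategory.homologyFunctor 𝒜 m).map f :=
  ((DerivedCategory.homologyFunctor 𝒜 0).shiftIso m 0 m (by omega)).hom.naturality f

/-- the map from `Hom(σ G U, X[q])` to sections of `H^q(X)` over `U` -/
def Θ (q : ℤ) (X : DerivedCategory 𝒜) (U : C) :
    (sg.obj (D.G U) ⟶ (shiftFunctor _ q).obj X) →+
      (Γ.obj ((homologyFunctor 𝒜 q).obj X)).obj.obj (op U) :=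
  (((Γ.map (shIso q X).hom).hom.app (op U)).hom).comp (toSect D ((shiftFunctor _ q).obj X) U)

lemma Θ_apply (q : ℤ) (X : DerivedCategory 𝒜) (U : C)
    (z : sg.obj (D.G U) ⟶ (shiftFunctor _ q).obj X) :
    Θ D q X U z = ((Γ.map (shIso q X).hom).hom.app (op U)).hom (toSect D _ U z) := rfl

lemma Θ_comp (q : ℤ) {X Y : DerivedCategory 𝒜} (f : X ⟶ Y) (U : C)
    (z : sg.obj (D.G U) ⟶ (shiftFunctor _ q).obj X) :
    Θ D q Y U (z ≫ (shiftFunctor _ q).map f) =
      ((Γ.map ((homologyFunctor 𝒜 q).map f)).hom.app (op U)).hom (Θ D q X U z) := by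
  rw [Θ_apply, Θ_apply, toSect_comp]
  have h0 : Γ.map (H0.map ((shiftFunctor _ q).map f)) ≫ Γ.map (shIso q Y).hom =
      Γ.map (shIso q X).hom ≫ Γ.map ((homologyFunctor 𝒜 q).map f) := by
    rw [← Functor.map_comp, ← Functor.map_comp, shIso_hom_naturality]
  exact congrArg (fun φ => (φ.hom.app (op U)).hom (toSect D _ U z)) h0

lemma Θ_res (q : ℤ) (X : DerivedCategory 𝒜) {U V : C} (g : V ⟶ U)
    (z : sg.obj (D.G U) ⟶ (shiftFunctor _ q).obj X) :
    Θ D q X V (sg.map (D.Gmap g) ≫ z) =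
      ((Γ.obj ((homologyFunctor 𝒜 q).obj X)).obj.map g.op).hom (Θ D q X U z) := by
  rw [Θ_apply, Θ_apply, toSect_res]
  exact ConcreteCategory.congr_hom ((Γ.map (shIso q X).hom).hom.naturality g.op)
    (toSect D _ U z)

lemma Θ_cover_lift (q : ℤ) (X : DerivedCategory 𝒜) (V : C)
    (s : (Γ.obj ((homologyFunctor 𝒜 q).obj X)).obj.obj (op V)) :
    ∃ R ∈ J V, ∀ ⦃W : C⦄ (f : W ⟶ V), R f →
      ∃ x : sg.obj (D.G W) ⟶ (shiftFunctor _ q).obj X,
        Θ D q X W x = ((Γ.obj ((homologyFunctor 𝒜 q).obj X)).obj.map f.op).hom s := by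
  obtain ⟨R, hR, hRf⟩ := exists_cover_lift D ((shiftFunctor _ q).obj X) V
    (((Γ.map (shIso q X).inv).hom.app (op V)).hom s)
  refine ⟨R, hR, fun W f hf => ?_⟩
  obtain ⟨x, hx⟩ := hRf f hf
  refine ⟨x, ?_⟩
  rw [Θ_apply, hx]
  have h1 := ConcreteCategory.congr_hom ((Γ.map (shIso q X).hom).hom.naturality f.op)
    (((Γ.map (shIso q X).inv).hom.app (op V)).hom s)
  refine h1.trans ?_
  change ((Γ.obj ((homologyFunctor 𝒜 q).obj X)).obj.map f.op).hom
    (((Γ.map (shIso q X).hom).hom.app (op V)).hom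
      (((Γ.map (shIso q X).inv).hom.app (op V)).hom s)) = _
  congr 1
  have h2 : Γ.map (shIso q X).inv ≫ Γ.map (shIso q X).hom = 𝟙 _ := by
    rw [← Functor.map_comp, Iso.inv_hom_id, CategoryTheory.Functor.map_id]
  exact congrArg (fun φ => (φ.hom.app (op V)).hom s) h2

/-- if `Θ z` vanishes then `z` is locally zero -/
lemma Θ_eq_zero_cover (q : ℤ) (X : DerivedCategory 𝒜) (U : C)
    (z : sg.obj (D.G U) ⟶ (shiftFunctor _ q).obj X) (hz : Θ D q X U z = 0) :
    ∃ R ∈ J U, ∀ ⦃V : C⦄ (f : V ⟶ U), R f → sg.map (D.Gmap f) ≫ z = 0 := by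
  apply exists_cover_comp_eq_zero
  rw [← toSect_eq_zero_iff D]
  rw [Θ_apply] at hz
  have h2 : Γ.map (shIso q X).hom ≫ Γ.map (shIso q X).inv = 𝟙 _ := by
    rw [← Functor.map_comp, Iso.hom_inv_id, CategoryTheory.Functor.map_id]
  have h3 := congrArg (fun φ => (φ.hom.app (op U)).hom (toSect D _ U z)) h2
  refine h3.symm.trans ?_
  change ((Γ.map (shIso q X).inv).hom.app (op U)).hom
    (((Γ.map (shIso q X).hom).hom.app (op U)).hom (toSect D _ U z)) = 0
  rw [hz, map_zero]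

section Rlim

variable (K : ℕ → DerivedCategory 𝒜) (t : ∀ n, K (n + 1) ⟶ K n) [HasProduct K]
  (L : DerivedCategory 𝒜) (a : ∀ n, L ⟶ K n)

/-- injectivity on sections of `H^m(R lim K) → H^m(K nV)` over `V`, given that every covering
sieve of `V` contains a covering family of good objects -/
theorem sections_injective (hL : CohCx.IsRlimVia K t L a) (V : C) (m : ℤ) (nV : ℕ)
    (h : ∀ T ∈ J V, ∃ (ι : Type u) (Y : ι → C) (f : ∀ i, Y i ⟶ V), (∀ i, T.arrows (f i)) ∧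
      Sieve.ofArrows Y f ∈ J V ∧ ∀ i, ∀ n, nV ≤ n →
        TowerHom.GoodAt (sg.obj (D.G (Y i))) K t m n)
    (y : (Γ.obj ((homologyFunctor 𝒜 m).obj L)).obj.obj (op V))
    (hy : ((Γ.map ((homologyFunctor 𝒜 m).map (a nV))).hom.app (op V)).hom y = 0) : y = 0 := by
  obtain ⟨c, hΔ⟩ := hL
  obtain ⟨R, hR, hRf⟩ := Θ_cover_lift D m L V y
  choose x hx using hRf
  have h2 : ∀ ⦃W : C⦄ (f : W ⟶ V) (hf : R f), ∃ R' ∈ J W, ∀ ⦃W' : C⦄ (g : W' ⟶ W), R' g →
      sg.map (D.Gmap g) ≫ x f hf ≫ (shiftFunctor _ m).map (a nV) = 0 := by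
    intro W f hf
    apply Θ_eq_zero_cover D m (K nV)
    rw [Θ_comp, hx]
    have := ConcreteCategory.congr_hom
      ((Γ.map ((homologyFunctor 𝒜 m).map (a nV))).hom.naturality f.op) y
    refine this.trans ?_
    change ((Γ.obj ((homologyFunctor 𝒜 m).obj (K nV))).obj.map f.op).hom
      (((Γ.map ((homologyFunctor 𝒜 m).map (a nV))).hom.app (op V)).hom y) = 0
    rw [hy, map_zero]
  choose R' hR' hR'f using h2
  let T : Sieve V := Sieve.bind R (fun W f hf => R' f hf)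
  have hT : T ∈ J V := J.bind_covering hR (fun W f hf => hR' f hf)
  obtain ⟨ι, Yc, f, hTf, hcov, hprop⟩ := h T hT
  apply FreeGen.sect_ext J _ _ hcov
  intro W g hg
  obtain ⟨W', g', k, ⟨i⟩, rfl⟩ := hg
  rw [map_zero]
  obtain ⟨W₁, g₁, f₁, hf₁, hg₁, hcomp⟩ := hTf i
  let z : sg.obj (D.G (Yc i)) ⟶ (shiftFunctor _ m).obj L := sg.map (D.Gmap g₁) ≫ x f₁ hf₁
  have hz : z = 0 := by
    apply TowerHom.comp_a_injective L a c hΔ m nV (hprop i)
    change z ≫ (shiftFunctor _ m).map (a nV) = 0 ≫ (shiftFunctor _ m).map (a nV)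
    rw [zero_comp]
    dsimp only [z]
    rw [Category.assoc]
    exact hR'f f₁ hf₁ g₁ hg₁
  have h3 : Θ D m L (Yc i) z = ((Γ.obj ((homologyFunctor 𝒜 m).obj L)).obj.map (f i).op).hom y := by
    dsimp only [z]
    rw [Θ_res, hx, ← hcomp]
    have := ConcreteCategory.congr_hom
      ((Γ.obj ((homologyFunctor 𝒜 m).obj L)).obj.map_comp f₁.op g₁.op) y
    exact this.symm
  rw [hz, map_zero] at h3
  rw [op_comp, Functor.map_comp]
  change ((Γ.obj ((homologyFunctor 𝒜 m).obj L)).obj.map g'.op).hom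
    (((Γ.obj ((homologyFunctor 𝒜 m).obj L)).obj.map (f i).op).hom y) = 0
  rw [← h3, map_zero]

/-- local surjectivity on sections of `H^m(R lim K) → H^m(K nV)` over `V` -/
theorem imageSieve_mem (hL : CohCx.IsRlimVia K t L a) (V : C) (m m₁ : ℤ) (hm : 1 + m = m₁)
    (nV : ℕ)
    (h : ∀ T ∈ J V, ∃ (ι : Type u) (Y : ι → C) (f : ∀ i, Y i ⟶ V), (∀ i, T.arrows (f i)) ∧
      Sieve.ofArrows Y f ∈ J V ∧ ∀ i, ∀ n, nV ≤ n →
        TowerHom.GoodAt (sg.obj (D.G (Y i))) K t m₁ n)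
    (s : (Γ.obj ((homologyFunctor 𝒜 m).obj (K nV))).obj.obj (op V)) :
    Presheaf.imageSieve (Γ.map ((homologyFunctor 𝒜 m).map (a nV))).hom s ∈ J V := by
  obtain ⟨c, hΔ⟩ := hL
  obtain ⟨R, hR, hRf⟩ := Θ_cover_lift D m (K nV) V s
  obtain ⟨ι, Yc, f, hTf, hcov, hgood⟩ := h R hR
  refine J.superset_covering ?_ hcov
  intro W g hg
  obtain ⟨W', g', k, ⟨i⟩, rfl⟩ := hg
  apply Sieve.downward_closed
  obtain ⟨x, hx⟩ := hRf (f i) (hTf i)
  obtain ⟨z, hz⟩ := TowerHom.comp_a_surjective L a c hΔ m m₁ hm nV (hgood i) x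
  refine ⟨Θ D m L (Yc i) z, ?_⟩
  have hz' : z ≫ (shiftFunctor _ m).map (a nV) = x := hz
  rw [← hx, ← hz', Θ_comp]

end Rlim

end Groth.Agent.Lib.Helper5.GenSite
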