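import Mathlib
import Groth.Prelude.Def_CohCx
import Groth.Prelude.Def_DCoh2
import Groth.Agent.Lib.Helper5.GenSite
import Groth.Agent.Lib.Helper5.GenLocal
import Groth.Agent.Lib.Helper5.MilnorSeq

/-!
# Helper5: the limit of an acyclic inverse system is its derived limit (abstract `Gen` setting)

Port of `RlimAcyclic` to an abelian category `𝒜` with a sections functor `Γ : 𝒜 ⥤ Sheaf J Ab` and
representing generators, using `GenLocal.isIso_homology_of_local_bijective`.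
-/

set_option autoImplicit false
universe w u
open CategoryTheory CategoryTheory.Limits CategoryTheory.Pretriangulated Opposite

noncomputable section
namespace Groth.Agent.Lib.Helper5.GenRlimAcyclic

open GenSite DerivedCategory

variable {C : Type u} [SmallCategory C] {J : GrothendieckTopology C}
  {𝒜 : Type (u + 1)} [Category.{u} 𝒜] [Abelian 𝒜] [HasDerivedCategory.{w} 𝒜]
  {Γ : 𝒜 ⥤ Sheaf J AddCommGrpCat.{u}} [PreservesFiniteColimits Γ] [Γ.Faithful] (D : Gen Γ)

lemma sIsoG_hom_naturality {X Y : 𝒜} (f : X ⟶ Y) :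
    H0.map (sg.map f) ≫ (sIsoG Y).hom = (sIsoG X).hom ≫ f :=
  HDULocal.sIso_hom_naturality f

/-- `H^0((σF)[0]) ≅ F` -/
def ιF (F : 𝒜) : H0.obj ((shiftFunctor _ (0 : ℤ)).obj (sg.obj F)) ≅ F :=
  H0.mapIso ((shiftFunctorZero _ ℤ).app (sg.obj F)) ≪≫ sIsoG F

lemma ιF_hom_naturality {F G : 𝒜} (φ : F ⟶ G) :
    H0.map ((shiftFunctor _ (0 : ℤ)).map (sg.map φ)) ≫ (ιF G).hom = (ιF F).hom ≫ φ := by
  dsimp only [ιF, Iso.trans_hom, Functor.mapIso_hom, Iso.app_hom]
  rw [← Category.assoc, ← Functor.map_comp, (shiftFunctorZero _ ℤ).hom.naturality,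
    Functor.map_comp, Category.assoc, Category.assoc]
  congr 1
  exact sIsoG_hom_naturality φ

/-- the class in `Hom(σ G U, (σF)[0])` attached to a section of `F` -/
def ofF (F : 𝒜) (U : C) (s : (Γ.obj F).obj.obj (op U)) :
    sg.obj (D.G U) ⟶ (shiftFunctor _ (0 : ℤ)).obj (sg.obj F) :=
  sg.map ((D.ev U F).symm s) ≫ (shiftFunctorZero _ ℤ).inv.app (sg.obj F)

/-- the section of `F` attached to a class in `Hom(σ G U, (σF)[0])` -/
def toF (F : 𝒜) (U : C) :
    (sg.obj (D.G U) ⟶ (shiftFunctor _ (0 : ℤ)).obj (sg.obj F)) →+ (Γ.obj F).obj.obj (op U) :=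
  (((Γ.map (ιF F).hom).hom.app (op U)).hom).comp (toSect D _ U)

lemma toF_apply (F : 𝒜) (U : C)
    (b : sg.obj (D.G U) ⟶ (shiftFunctor _ (0 : ℤ)).obj (sg.obj F)) :
    toF D F U b = D.ev U F ((sIsoG (D.G U)).inv ≫ H0.map b ≫ (ιF F).hom) := by
  rw [← Category.assoc, D.ev_comp]
  rfl

lemma toF_ofF (F : 𝒜) (U : C) (s : (Γ.obj F).obj.obj (op U)) :
    toF D F U (ofF D F U s) = s := by
  rw [toF_apply]
  have : (sIsoG (D.G U)).inv ≫ H0.map (ofF D F U s) ≫ (ιF F).hom = (D.ev U F).symm s := by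
    dsimp only [ofF, ιF, Iso.trans_hom, Functor.mapIso_hom, Iso.app_hom]
    have h1 : H0.map ((shiftFunctorZero _ ℤ).inv.app (sg.obj F)) ≫
        H0.map ((shiftFunctorZero _ ℤ).hom.app (sg.obj F)) = 𝟙 _ := by
      rw [← Functor.map_comp, Iso.inv_hom_id_app, CategoryTheory.Functor.map_id]
    rw [Functor.map_comp, Category.assoc, reassoc_of% h1,
      ← Category.assoc, sIsoG_inv_naturality, Category.assoc, Iso.inv_hom_id, Category.comp_id]
  rw [this, AddEquiv.apply_symm_apply]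

lemma ofF_toF (F : 𝒜) (U : C)
    (b : sg.obj (D.G U) ⟶ (shiftFunctor _ (0 : ℤ)).obj (sg.obj F)) :
    ofF D F U (toF D F U b) = b := by
  obtain ⟨b₀, hb₀⟩ := sg.map_surjective (b ≫ (shiftFunctorZero _ ℤ).hom.app (sg.obj F))
  have hb : b = ofF D F U (D.ev U F b₀) := by
    dsimp only [ofF]
    rw [AddEquiv.symm_apply_apply, hb₀, Category.assoc, Iso.hom_inv_id_app, Category.comp_id]
  rw [hb, toF_ofF]

lemma toF_injective (F : 𝒜) (U : C) : Function.Injective (toF D F U) :=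
  Function.LeftInverse.injective (ofF_toF D F U)

lemma toF_comp {F G : 𝒜} (φ : F ⟶ G) (U : C)
    (b : sg.obj (D.G U) ⟶ (shiftFunctor _ (0 : ℤ)).obj (sg.obj F)) :
    toF D G U (b ≫ (shiftFunctor _ (0 : ℤ)).map (sg.map φ)) =
      ((Γ.map φ).hom.app (op U)).hom (toF D F U b) := by
  rw [toF_apply, toF_apply, Functor.map_comp, Category.assoc, ιF_hom_naturality]
  rw [← Category.assoc (H0.map b), ← Category.assoc, D.ev_comp]

lemma ofF_comp {F G : 𝒜} (φ : F ⟶ G) (U : C) (s : (Γ.obj F).obj.obj (op U)) :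
    ofF D F U s ≫ (shiftFunctor _ (0 : ℤ)).map (sg.map φ) =
      ofF D G U (((Γ.map φ).hom.app (op U)).hom s) := by
  apply toF_injective D
  rw [toF_comp, toF_ofF, toF_ofF]

omit [PreservesFiniteColimits Γ] [Γ.Faithful] in
/-- negative `Ext` vanish -/
lemma hom_eq_zero_of_neg (Z F : 𝒜) (m : ℤ) (hm : m < 0)
    (y : sg.obj Z ⟶ (shiftFunctor _ m).obj (sg.obj F)) : y = 0 := by
  have h1 : ((shiftFunctor _ m).obj (sg.obj F)).IsGE (-m) :=
    TStructure.t.isGE_shift (sg.obj F) 0 m (-m) (by omega)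
  have h2 : (sg.obj Z).IsLE 0 := inferInstance
  exact TStructure.t.zero_of_isLE_of_isGE y 0 (-m) (by omega) h2 h1

section Main

variable (F : ℕ → 𝒜) (t : ∀ n, F (n + 1) ⟶ F n) [HasProduct fun n => sg.obj (F n)]
  [HasLimit (Functor.ofOpSequence t)] (B : Set C)
  (hv : ∀ U ∈ B, ∀ (n : ℕ) (m : ℤ), 0 < m →
    ∀ y : sg.obj (D.G U) ⟶ (shiftFunctor _ m).obj (sg.obj (F n)), y = 0)
  (hvL : ∀ U ∈ B, ∀ (m : ℤ), 0 < m →
    ∀ y : sg.obj (D.G U) ⟶ (shiftFunctor _ m).obj (sg.obj (limit (Functor.ofOpSequence t))),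
      y = 0)
  (h2 : ∀ U ∈ B, CohCx.LimOneIsZero (fun n => (Γ.obj (F n)).obj.obj (op U))
    (fun n => ((Γ.map (t n)).hom.app (op U)).hom))
  (M : DerivedCategory 𝒜) (a : ∀ n, M ⟶ sg.obj (F n))
  (c : (∏ᶜ fun n => sg.obj (F n)) ⟶ (shiftFunctor _ (1 : ℤ)).obj M)
  (hΔ : Pretriangulated.Triangle.mk (Pi.lift a)
    (Pi.lift fun n => Pi.π (fun n => sg.obj (F n)) n -
      Pi.π (fun n => sg.obj (F n)) (n + 1) ≫ sg.map (t n)) c ∈
    Pretriangulated.distinguishedTriangles)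

omit [HasProduct fun n => sg.obj (F n)] [HasLimit (Functor.ofOpSequence t)]
  [PreservesFiniteColimits Γ] [Γ.Faithful] in
include hv in
lemma hom_F_eq_zero (U : C) (hU : U ∈ B) (m : ℤ) (hm : m ≠ 0) (n : ℕ)
    (y : sg.obj (D.G U) ⟶ (shiftFunctor _ m).obj (sg.obj (F n))) : y = 0 := by
  rcases lt_or_gt_of_ne hm with h | h
  · exact hom_eq_zero_of_neg _ _ m h y
  · exact hv U hU n m h y

omit [HasProduct fun n => sg.obj (F n)] [HasLimit (Functor.ofOpSequence t)] in
include h2 in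
lemma limOne_zero (U : C) (hU : U ∈ B) :
    Function.Surjective (fun (b : ∀ n, sg.obj (D.G U) ⟶
        (shiftFunctor _ (0 : ℤ)).obj (sg.obj (F n))) (n : ℕ) =>
      b n - b (n + 1) ≫ (shiftFunctor _ (0 : ℤ)).map (sg.map (t n))) := by
  intro g
  obtain ⟨s, hs⟩ := h2 U hU (fun n => toF D (F n) U (g n))
  refine ⟨fun n => ofF D (F n) U (s n), ?_⟩
  funext n
  apply toF_injective D
  have := congrFun hs n
  dsimp only at this
  rw [map_sub, toF_comp, toF_ofF, toF_ofF]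
  exact this

omit [HasLimit (Functor.ofOpSequence t)] in
include hv h2 hΔ in
/-- `Hom(σ G U, M[m]) = 0` for `U ∈ B` and `m ≠ 0` -/
lemma hom_M_eq_zero (U : C) (hU : U ∈ B) (m : ℤ) (hm : m ≠ 0)
    (z : sg.obj (D.G U) ⟶ (shiftFunctor _ m).obj M) : z = 0 := by
  apply MilnorSeq.eq_zero_of_limOne (fun n => sg.obj (F n)) (fun n => sg.map (t n)) M a c hΔ m
    (m - 1) (by omega) _ z (fun n => hom_F_eq_zero D F B hv U hU m hm n _)
  by_cases hm1 : m - 1 = 0
  · have : m - 1 = 0 := hm1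
    rw [this]
    exact limOne_zero D F t B h2 U hU
  · intro g
    refine ⟨fun n => 0, ?_⟩
    funext n
    exact (hom_F_eq_zero D F B hv U hU (m - 1) hm1 n _).trans
      (hom_F_eq_zero D F B hv U hU (m - 1) hm1 n _).symm

omit [HasLimit (Functor.ofOpSequence t)] [PreservesFiniteColimits Γ] [Γ.Faithful] in
include hΔ in
/-- uniqueness in degree `0` -/
lemma hom_M_zero_unique (U : C)
    (z : sg.obj (D.G U) ⟶ (shiftFunctor _ (0 : ℤ)).obj M)
    (hz : ∀ n, z ≫ (shiftFunctor _ (0 : ℤ)).map (a n) = 0) : z = 0 := by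
  apply MilnorSeq.eq_zero_of_limOne (fun n => sg.obj (F n)) (fun n => sg.map (t n)) M a c hΔ 0
    (-1) (by omega) _ z hz
  intro g
  refine ⟨fun n => 0, ?_⟩
  funext n
  exact (hom_eq_zero_of_neg _ _ (-1) (by omega) _).trans
    (hom_eq_zero_of_neg _ _ (-1) (by omega) _).symm

/-- the limit -/
abbrev Lim : 𝒜 := limit (Functor.ofOpSequence t)

/-- the projections of the limit -/
abbrev πn (n : ℕ) : Lim F t ⟶ F n := limit.π (Functor.ofOpSequence t) (op n)

omit [HasDerivedCategory.{w} 𝒜] [HasProduct fun n => sg.obj (F n)] [PreservesFiniteColimits Γ]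
  [Γ.Faithful] in
lemma πn_succ (n : ℕ) : πn F t (n + 1) ≫ t n = πn F t n := by
  have hw := limit.w (Functor.ofOpSequence t) (homOfLE (Nat.le_add_right n 1)).op
  rw [Functor.ofOpSequence_map_homOfLE_succ] at hw
  exact hw

omit [HasDerivedCategory.{w} 𝒜] [HasProduct fun n => sg.obj (F n)] [PreservesFiniteColimits Γ]
  [Γ.Faithful] in
include D in
/-- sections of the limit are determined by their projections -/
lemma limit_sect_ext {W : C} (s₁ s₂ : (Γ.obj (Lim F t)).obj.obj (op W))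
    (h : ∀ n, ((Γ.map (πn F t n)).hom.app (op W)).hom s₁ =
      ((Γ.map (πn F t n)).hom.app (op W)).hom s₂) : s₁ = s₂ := by
  have h0 : (D.ev W (Lim F t)).symm s₁ = (D.ev W (Lim F t)).symm s₂ := by
    apply limit.hom_ext
    rintro ⟨n⟩
    apply (D.ev W (F n)).injective
    change D.ev W (F n) ((D.ev W (Lim F t)).symm s₁ ≫ πn F t n) =
      D.ev W (F n) ((D.ev W (Lim F t)).symm s₂ ≫ πn F t n)
    rw [D.ev_comp, D.ev_comp, AddEquiv.apply_symm_apply, AddEquiv.apply_symm_apply]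
    exact h n
  exact (D.ev W (Lim F t)).symm.injective h0

omit [HasDerivedCategory.{w} 𝒜] [HasProduct fun n => sg.obj (F n)] [PreservesFiniteColimits Γ]
  [Γ.Faithful] in
include D in
/-- compatible families of sections come from sections of the limit -/
lemma limit_sect_exists {W : C} (s : ∀ n, (Γ.obj (F n)).obj.obj (op W))
    (hs : ∀ n, ((Γ.map (t n)).hom.app (op W)).hom (s (n + 1)) = s n) :
    ∃ σ : (Γ.obj (Lim F t)).obj.obj (op W),
      ∀ n, ((Γ.map (πn F t n)).hom.app (op W)).hom σ = s n := by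
  let φ : ∀ n, D.G W ⟶ F n := fun n => (D.ev W (F n)).symm (s n)
  have hφ : ∀ n, φ (n + 1) ≫ t n = φ n := by
    intro n
    apply (D.ev W (F n)).injective
    rw [D.ev_comp, AddEquiv.apply_symm_apply, AddEquiv.apply_symm_apply, hs]
  let cn : Cone (Functor.ofOpSequence t) :=
    { pt := D.G W
      π := NatTrans.ofOpSequence (F := (Functor.const _).obj _)
        (fun n => φ n) (fun n => by
          dsimp only [Functor.const_obj_obj, Functor.const_obj_map]
          refine (Category.id_comp _).trans ?_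
          have e := Functor.ofOpSequence_map_homOfLE_succ t n
          exact (hφ n).symm.trans (congrArg (fun k => φ (n + 1) ≫ k) e.symm)) }
  refine ⟨D.ev W (Lim F t) (limit.lift _ cn), fun n => ?_⟩
  rw [← D.ev_comp]
  have : limit.lift (Functor.ofOpSequence t) cn ≫ πn F t n = φ n :=
    limit.lift_π cn (op n)
  rw [this, AddEquiv.apply_symm_apply]

omit [HasLimit (Functor.ofOpSequence t)] [PreservesFiniteColimits Γ] [Γ.Faithful] in
include hΔ in
lemma a_succ (n : ℕ) : a (n + 1) ≫ sg.map (t n) = a n :=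
  MilnorSeq.a_comp_t (fun n => sg.obj (F n)) (fun n => sg.map (t n)) M a c hΔ n

omit [PreservesFiniteColimits Γ] [Γ.Faithful] in
include hΔ in
/-- the comparison map `σ(lim F) ⟶ M` -/
lemma exists_ψ : ∃ ψ : sg.obj (Lim F t) ⟶ M, ∀ n, ψ ≫ a n = sg.map (πn F t n) := by
  let p : sg.obj (Lim F t) ⟶ ∏ᶜ fun n => sg.obj (F n) := Pi.lift (fun n => sg.map (πn F t n))
  have h0 : p ≫ (Pi.lift fun n => Pi.π (fun n => sg.obj (F n)) n -
      Pi.π (fun n => sg.obj (F n)) (n + 1) ≫ sg.map (t n)) = 0 := by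
    apply Pi.hom_ext
    intro n
    rw [Category.assoc, Pi.lift_π, zero_comp, Preadditive.comp_sub, Pi.lift_π, ← Category.assoc,
      Pi.lift_π, ← Functor.map_comp, πn_succ, sub_self]
  obtain ⟨ψ, hψ⟩ : ∃ ψ : sg.obj (Lim F t) ⟶ M, p = ψ ≫ Pi.lift a :=
    Triangle.coyoneda_exact₂ _ hΔ p h0
  refine ⟨ψ, fun n => ?_⟩
  have h1 : p ≫ Pi.π _ n = (ψ ≫ Pi.lift a) ≫ Pi.π _ n := congrArg (fun k => k ≫ Pi.π _ n) hψ
  rw [Category.assoc, Pi.lift_π, Pi.lift_π] at h1
  exact h1.symm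

include hv hvL h2 hΔ in
theorem isIso_ψ
    (hB : ∀ U : C, ∃ (ι : Type u) (Y : ι → C) (f : ∀ i, Y i ⟶ U),
      Sieve.ofArrows Y f ∈ J U ∧ ∀ i, Y i ∈ B)
    (ψ : sg.obj (Lim F t) ⟶ M) (hψ : ∀ n, ψ ≫ a n = sg.map (πn F t n)) : IsIso ψ := by
  rw [DerivedCategory.isIso_iff]
  intro q
  apply isIso_homology_of_local_bijective D ψ q B hB
  · intro W hW z hz
    by_cases hq : q = 0
    · subst hq
      apply toF_injective D
      rw [map_zero]
      apply limit_sect_ext D F t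
      intro n
      rw [map_zero, ← toF_comp]
      have h1 : z ≫ (shiftFunctor _ (0 : ℤ)).map (sg.map (πn F t n)) = 0 := by
        rw [← hψ n, Functor.map_comp, ← Category.assoc, hz, zero_comp]
      rw [h1, map_zero]
    · rcases lt_or_gt_of_ne hq with h | h
      · exact hom_eq_zero_of_neg _ _ q h z
      · exact hvL W hW q h z
  · intro W hW z'
    by_cases hq : q = 0
    · subst hq
      let x : ∀ n, sg.obj (D.G W) ⟶ (shiftFunctor _ (0 : ℤ)).obj (sg.obj (F n)) :=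
        fun n => z' ≫ (shiftFunctor _ (0 : ℤ)).map (a n)
      have hx : ∀ n, x (n + 1) ≫ (shiftFunctor _ (0 : ℤ)).map (sg.map (t n)) = x n := by
        intro n
        dsimp only [x]
        rw [Category.assoc, ← Functor.map_comp, a_succ F t M a c hΔ n]
      obtain ⟨σ, hσ⟩ := limit_sect_exists D F t (fun n => toF D (F n) W (x n)) (fun n => by
        rw [← toF_comp, hx])
      refine ⟨ofF D (Lim F t) W σ, ?_⟩
      have hd : ofF D (Lim F t) W σ ≫ (shiftFunctor _ (0 : ℤ)).map ψ - z' = 0 := by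
        apply hom_M_zero_unique D F t M a c hΔ W
        intro n
        rw [Preadditive.sub_comp, Category.assoc, ← Functor.map_comp, hψ n, ofF_comp, hσ n,
          ofF_toF]
        exact sub_self _
      exact sub_eq_zero.1 hd
    · exact ⟨0, by
        rw [zero_comp]
        exact (hom_M_eq_zero D F t B hv h2 M a c hΔ W hW q hq z').symm⟩

end Main

/-- the limit of an inverse system which is acyclic on `B` (together with its limit) and has
vanishing `lim¹` of sections on `B` is its derived limit. -/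
theorem isRlim (F : ℕ → 𝒜) (t : ∀ n, F (n + 1) ⟶ F n) [HasProduct fun n => sg.obj (F n)]
    [HasLimit (Functor.ofOpSequence t)] (B : Set C)
    (hB : ∀ U : C, ∃ (ι : Type u) (Y : ι → C) (f : ∀ i, Y i ⟶ U),
      Sieve.ofArrows Y f ∈ J U ∧ ∀ i, Y i ∈ B)
    (hv : ∀ U ∈ B, ∀ (n : ℕ) (m : ℤ), 0 < m →
      ∀ y : sg.obj (D.G U) ⟶ (shiftFunctor _ m).obj (sg.obj (F n)), y = 0)
    (hvL : ∀ U ∈ B, ∀ (m : ℤ), 0 < m →
      ∀ y : sg.obj (D.G U) ⟶ (shiftFunctor _ m).obj (sg.obj (limit (Functor.ofOpSequence t))),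
        y = 0)
    (h2 : ∀ U ∈ B, CohCx.LimOneIsZero (fun n => (Γ.obj (F n)).obj.obj (op U))
      (fun n => ((Γ.map (t n)).hom.app (op U)).hom)) :
    DCoh.IsRlim (fun n => sg.obj (F n)) (fun n => sg.map (t n))
      (sg.obj (limit (Functor.ofOpSequence t))) := by
  obtain ⟨M, a', c, hΔ'⟩ := distinguished_cocone_triangle₁
    (Pi.lift fun n => Pi.π (fun n => sg.obj (F n)) n -
      Pi.π (fun n => sg.obj (F n)) (n + 1) ≫ sg.map (t n))
  let a : ∀ n, M ⟶ sg.obj (F n) := fun n => a' ≫ Pi.π _ n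
  have ha' : a' = Pi.lift a := by
    apply Pi.hom_ext
    intro n
    rw [Pi.lift_π]
  have hΔ : Triangle.mk (Pi.lift a)
      (Pi.lift fun n => Pi.π (fun n => sg.obj (F n)) n -
        Pi.π (fun n => sg.obj (F n)) (n + 1) ≫ sg.map (t n)) c ∈
        distTriang (DerivedCategory 𝒜) := by
    rw [← ha']
    exact hΔ'
  obtain ⟨ψ, hψ⟩ := exists_ψ F t M a c hΔ
  haveI := isIso_ψ D F t B hv hvL h2 M a c hΔ hB ψ hψ
  let e : sg.obj (limit (Functor.ofOpSequence t)) ≅ M := asIso ψ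
  refine ⟨e.hom ≫ a', c ≫ (shiftFunctor _ (1 : ℤ)).map e.inv, ?_⟩
  refine isomorphic_distinguished _ hΔ' _ (Triangle.isoMk _ _ e (Iso.refl _) (Iso.refl _) ?_ ?_ ?_)
  · change (e.hom ≫ a') ≫ 𝟙 _ = e.hom ≫ a'
    rw [Category.comp_id]
  · exact (Category.comp_id _).trans (Category.id_comp _).symm
  · change (c ≫ (shiftFunctor _ (1 : ℤ)).map e.inv) ≫ (shiftFunctor _ (1 : ℤ)).map e.hom =
      𝟙 _ ≫ c
    rw [Category.id_comp, Category.assoc, ← Functor.map_comp, Iso.inv_hom_id,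
      CategoryTheory.Functor.map_id, Category.comp_id]

end Groth.Agent.Lib.Helper5.GenRlimAcyclic
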