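import Groth.Prelude.Def_SGA4a
import Groth.Agent.Lib.Helper5.CanonicalEff
import Mathlib.CategoryTheory.Sites.Preserves
import Mathlib.CategoryTheory.Limits.Shapes.StrictInitial

/-!
# Giraud's theorem, part I: basic facts about categories satisfying Giraud's axioms
-/

set_option autoImplicit false
open CategoryTheory Limits Opposite
universe v u

namespace Groth.Agent.Lib.Helper5.Giraud

variable {E : Type v} [Category.{u} E]

section Coprod

variable (hb : SGA4.HasDisjointUniversalCoproducts.{v, u} E)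
include hb

lemma isUniversal_of_isColimit {ι : Type u} {X : ι → E} (c : Cofan X) (hc : IsColimit c) :
    IsUniversalColimit c := by
  obtain ⟨c₀, h₀, _, hu⟩ := hb ι X
  exact hu.of_iso (h₀.uniqueUpToIso hc)

lemma hasCoproduct {ι : Type u} (X : ι → E) : HasCoproduct X := by
  obtain ⟨c₀, h₀, _, hu⟩ := hb ι X
  exact ⟨⟨c₀, h₀⟩⟩

lemma coproductDisjoint {ι : Type u} (X : ι → E) : CoproductDisjoint X := by
  obtain ⟨c₀, h₀, hd, hu⟩ := hb ι X
  exact hd

lemma exists_isInitial : ∃ I : E, Nonempty (IsInitial I) := by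
  obtain ⟨c₀, h₀, _, hu⟩ := hb PEmpty.{u + 1} (fun x => x.elim)
  refine ⟨c₀.pt, ⟨IsInitial.ofUniqueHom (fun Y => h₀.desc (Cofan.mk Y (fun x => x.elim))) ?_⟩⟩
  intro Y m
  exact h₀.hom_ext (fun ⟨x⟩ => x.elim)

/-- The initial object is strict. -/
lemma isInitial_of_hom {I T : E} (hI : IsInitial I) (f : T ⟶ I) : Nonempty (IsInitial T) := by
  obtain ⟨c₀, h₀, _, hu⟩ := hb PEmpty.{u + 1} (fun x => x.elim)
  have hI₀ : IsInitial c₀.pt :=
    IsInitial.ofUniqueHom (fun Y => h₀.desc (Cofan.mk Y (fun x => x.elim)))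
      (fun Y m => h₀.hom_ext (fun ⟨x⟩ => x.elim))
  let c' : Cofan (fun x : PEmpty.{u + 1} => (x.elim : E)) := Cofan.mk T (fun x => x.elim)
  obtain ⟨h'⟩ := hu c' (𝟙 _) (f ≫ hI.to _) (by ext ⟨x⟩; exact x.elim) (.of_isIso _)
    (fun ⟨x⟩ => x.elim)
  refine ⟨IsInitial.ofUniqueHom (fun Y => h'.desc (Cofan.mk Y (fun x => x.elim))) ?_⟩
  intro Y m
  exact h'.hom_ext (fun ⟨x⟩ => x.elim)

end Coprod

section Canonical

variable (hb : SGA4.HasDisjointUniversalCoproducts.{v, u} E)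
include hb

lemma bot_mem_of_isInitial {T : E} (hT : IsInitial T) :
    (⊥ : Sieve T) ∈ Sheaf.canonicalTopology E T := by
  refine Sheaf.mem_finestTopology_of_forall_isSheafFor ?_
  rintro P ⟨W, rfl⟩ Y f
  obtain ⟨hY⟩ := isInitial_of_hom hb hT f
  intro x hx
  refine ⟨hY.to W, ?_, fun _ _ => hY.hom_ext _ _⟩
  rintro Z g ⟨⟩

variable [HasPullbacks E]

lemma ofArrows_mem {ι : Type u} {X : ι → E} (c : Cofan X) (hc : IsColimit c) :
    Sieve.ofArrows X c.inj ∈ Sheaf.canonicalTopology E c.pt := by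
  refine Sheaf.mem_finestTopology_of_forall_isSheafFor ?_
  rintro P ⟨W, rfl⟩ Y f
  have hu := isUniversal_of_isColimit hb c hc
  let c' : Cofan (fun i => pullback (c.inj i) f) := Cofan.mk Y (fun i => pullback.snd (c.inj i) f)
  obtain ⟨hc'⟩ := hu c' (Discrete.natTrans fun i => pullback.fst (c.inj i.as) f) f
    (by ext ⟨i⟩; simpa [c', Cofan.inj] using pullback.condition) (.of_discrete _)
    (fun ⟨i⟩ => by
      simpa [c', Cofan.inj] using (IsPullback.of_hasPullback (c.inj i) f).flip)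
  have h1 : (Sieve.ofArrows X c.inj).pullback f =
      Sieve.generate (Presieve.ofArrows _ c'.inj) := by
    rw [Sieve.ofArrows, ← Sieve.pullbackArrows_comm, ← Presieve.ofArrows_pullback]
    rfl
  rw [h1, ← Presieve.isSheafFor_iff_generate]
  exact Presieve.isSheafFor_of_preservesProduct _ c' hc'

end Canonical

section Image

variable [HasPullbacks E]

lemma isEquivRel_kernelPair {B Z : E} (f : B ⟶ Z) :
    SGA4.IsEquivRel (pullback.fst f f) (pullback.snd f f) := by
  intro T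
  have key : ∀ a b : T ⟶ B, (∃ h : T ⟶ pullback f f, h ≫ pullback.fst f f = a ∧
      h ≫ pullback.snd f f = b) ↔ a ≫ f = b ≫ f := by
    intro a b
    constructor
    · rintro ⟨h, rfl, rfl⟩
      simp [pullback.condition]
    · intro h
      exact ⟨pullback.lift a b h, pullback.lift_fst _ _ _, pullback.lift_snd _ _ _⟩
  refine ⟨?_, ?_⟩
  · intro a b h
    exact pullback.hom_ext (congrArg Prod.fst h) (congrArg Prod.snd h)
  · refine ⟨fun a => (key a a).2 rfl, fun {a b} h => (key b a).2 ((key a b).1 h).symm,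
      fun {a b c} h1 h2 => (key a c).2 (((key a b).1 h1).trans ((key b c).1 h2))⟩

variable
  (hc : ∀ (R A : E) (p₁ p₂ : R ⟶ A), SGA4.IsEquivRel p₁ p₂ → SGA4.IsEffectiveUniversalEquivRel p₁ p₂)
include hc

lemma exists_image_factorization {B Z : E} (f : B ⟶ Z) :
    ∃ (Q : E) (q : B ⟶ Q) (m : Q ⟶ Z), q ≫ m = f ∧ Mono m ∧
      (∀ (B' : E) (g : B' ⟶ Q), EffectiveEpi (pullback.snd q g)) := by
  obtain ⟨Q, π, hpb, hpo, heff⟩ := hc _ _ _ _ (isEquivRel_kernelPair f)
  refine ⟨Q, π, hpo.desc f f pullback.condition, hpo.inl_desc _ _ _, ⟨?_⟩, heff⟩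
  intro T x y hxy
  set m := hpo.desc f f pullback.condition with hm
  have hπm : π ≫ m = f := hpo.inl_desc _ _ _
  haveI := heff T x
  haveI := heff _ (pullback.snd π x ≫ y)
  let w₁ := pullback.snd π x
  let w₂ := pullback.snd π (w₁ ≫ y)
  let a₁ : pullback π (w₁ ≫ y) ⟶ B := w₂ ≫ pullback.fst π x
  let a₂ : pullback π (w₁ ≫ y) ⟶ B := pullback.fst π (w₁ ≫ y)
  have h1 : a₁ ≫ π = (w₂ ≫ w₁) ≫ x := by
    simp only [a₁, Category.assoc, pullback.condition]
    rfl
  have h2 : a₂ ≫ π = (w₂ ≫ w₁) ≫ y := by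
    simp only [a₂, Category.assoc, pullback.condition]
    rfl
  have h3 : a₁ ≫ f = a₂ ≫ f := by
    rw [← hπm, ← Category.assoc, ← Category.assoc, h1, h2, Category.assoc, Category.assoc,
      Category.assoc, Category.assoc, hxy]
  have h4 : a₁ ≫ π = a₂ ≫ π := by
    have e1 : pullback.lift a₁ a₂ h3 ≫ pullback.fst f f = a₁ := pullback.lift_fst _ _ _
    have e2 : pullback.lift a₁ a₂ h3 ≫ pullback.snd f f = a₂ := pullback.lift_snd _ _ _
    calc a₁ ≫ π = (pullback.lift a₁ a₂ h3 ≫ pullback.fst f f) ≫ π := by rw [e1]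
      _ = (pullback.lift a₁ a₂ h3 ≫ pullback.snd f f) ≫ π := by
        rw [Category.assoc, Category.assoc, hpb.w]
      _ = a₂ ≫ π := by rw [e2]
  rw [h1, h2] at h4
  haveI : Epi w₁ := inferInstance
  haveI : Epi w₂ := inferInstance
  rwa [cancel_epi] at h4

end Image

end Groth.Agent.Lib.Helper5.Giraud
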