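import Mathlib.CategoryTheory.Limits.VanKampen
import Mathlib.CategoryTheory.Limits.Types.Coproducts
import Mathlib.CategoryTheory.Limits.Types.Pullbacks
import Mathlib.CategoryTheory.Limits.Shapes.DisjointCoproduct
import Mathlib.CategoryTheory.Sites.Sheafification
import Mathlib.CategoryTheory.Sites.Limits
import Mathlib.CategoryTheory.Sites.LeftExact

/-!
# Small coproducts in `Type`, presheaf and sheaf categories are van Kampen
-/

set_option autoImplicit false
open CategoryTheory Limits
universe w v₁ u₁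

namespace Groth.Agent.Lib.Helper5.GiraudCoprod

/-- Colimit cofans in `Type` are van Kampen. -/
theorem types_cofan_isVanKampen {ι : Type*} {X : ι → Type w} (c : Cofan X) (hc : IsColimit c) :
    IsVanKampenColimit c := by
  intro F' c' α f e hα
  obtain ⟨f', rfl⟩ : ∃ f' : ι → Type w, F' = Discrete.functor f' :=
    ⟨F'.obj ∘ Discrete.mk, Functor.hext (fun i ↦ rfl)
      (by rintro ⟨i⟩ ⟨j⟩ ⟨⟨rfl : i = j⟩⟩; simp)⟩
  have e' : ∀ i (z : f' i), c.inj i (α.app ⟨i⟩ z) = f (Cofan.inj c' i z) := fun i z => by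
    have := ConcreteCategory.congr_hom (NatTrans.congr_app e ⟨i⟩) z
    exact this
  constructor
  · rintro ⟨hc'⟩ ⟨j⟩
    rw [Types.isPullback_iff]
    refine ⟨(NatTrans.congr_app e ⟨j⟩).symm, ?_, ?_⟩
    · rintro x y ⟨h1, -⟩
      exact Cofan.inj_injective_of_isColimit hc' j h1
    · intro x y hxy
      obtain ⟨k, z, rfl⟩ := Cofan.inj_jointly_surjective_of_isColimit hc' x
      have h2 : c.inj k (α.app ⟨k⟩ z) = c.inj j y := (e' k z).trans hxy
      obtain rfl := Cofan.eq_of_inj_apply_eq_of_isColimit hc _ _ h2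
      exact ⟨z, rfl, Cofan.inj_injective_of_isColimit hc k h2⟩
  · intro H
    rw [Cofan.nonempty_isColimit_iff_bijective_fromSigma]
    constructor
    · rintro ⟨i, x⟩ ⟨j, y⟩ h
      have h' : Cofan.inj c' i x = Cofan.inj c' j y := h
      have h2 : c.inj i (α.app ⟨i⟩ x) = c.inj j (α.app ⟨j⟩ y) := by
        rw [e', e', h']
      obtain rfl := Cofan.eq_of_inj_apply_eq_of_isColimit hc _ _ h2
      have h3 := Cofan.inj_injective_of_isColimit hc i h2
      rw [Types.ext_of_isPullback (H ⟨i⟩) h' h3]
    · intro x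
      obtain ⟨i, y, hy⟩ := Cofan.inj_jointly_surjective_of_isColimit hc (f x)
      obtain ⟨z, hz, -⟩ := Types.exists_of_isPullback (H ⟨i⟩) x y hy.symm
      exact ⟨⟨i, z⟩, hz⟩

/-- Colimit cocones over discrete diagrams in `Type` are van Kampen. -/
theorem types_discrete_isVanKampen {ι : Type*} {F : Discrete ι ⥤ Type w} (c : Cocone F)
    (hc : IsColimit c) : IsVanKampenColimit c := by
  obtain ⟨f', rfl⟩ : ∃ f' : ι → Type w, F = Discrete.functor f' :=
    ⟨F.obj ∘ Discrete.mk, Functor.hext (fun i ↦ rfl)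
      (by rintro ⟨i⟩ ⟨j⟩ ⟨⟨rfl : i = j⟩⟩; simp)⟩
  exact types_cofan_isVanKampen c hc

variable {C : Type u₁} [Category.{v₁} C]

/-- Small colimit cofans in presheaf categories are van Kampen. -/
theorem psh_discrete_isVanKampen {ι : Type w} {F : Discrete ι ⥤ (C ⥤ Type w)} (c : Cocone F)
    (hc : IsColimit c) : IsVanKampenColimit c :=
  isVanKampenColimit_of_evaluation F c fun x =>
    types_discrete_isVanKampen _ (isColimitOfPreserves _ hc)

variable (J : GrothendieckTopology C) [HasSheafify J (Type w)]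

/-- Every small family of sheaves of types has a van Kampen coproduct cofan. -/
theorem sheaf_exists_vanKampen_cofan {ι : Type w} (X : ι → Sheaf J (Type w)) :
    ∃ c : Cofan X, IsVanKampenColimit c := by
  let F : Discrete ι ⥤ Sheaf J (Type w) := Discrete.functor X
  let c₀ := colimit.cocone (F ⋙ sheafToPresheaf J (Type w))
  have H₀ : IsVanKampenColimit c₀ := psh_discrete_isVanKampen _ (colimit.isColimit _)
  have H₁ := H₀.map_reflective (sheafificationAdjunction J (Type w))
  let β : (F ⋙ sheafToPresheaf J (Type w)) ⋙ presheafToSheaf J (Type w) ≅ F :=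
    Functor.associator _ _ _ ≪≫
      Functor.isoWhiskerLeft F (asIso (sheafificationAdjunction J (Type w)).counit) ≪≫
      F.rightUnitor
  exact ⟨_, (IsVanKampenColimit.precompose_isIso_iff β.inv).2 H₁⟩

/-- Giraud: small coproducts of sheaves of types are disjoint and universal. -/
theorem sheaf_coproducts {ι : Type w} (X : ι → Sheaf J (Type w)) :
    ∃ (c : Cofan X) (_ : IsColimit c), CoproductDisjoint X ∧ IsUniversalColimit c := by
  obtain ⟨c, hc⟩ := sheaf_exists_vanKampen_cofan J X
  refine ⟨c, hc.isColimit, ?_, hc.isUniversal⟩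
  haveI : ∀ i, Mono (c.inj i) := fun i => mono_of_cofan_isVanKampen hc ⟨i⟩
  refine CoproductDisjoint.of_cofan hc.isColimit
    (fun {i j} hij => (isPullback_initial_to_of_cofan_isVanKampen hc ⟨i⟩ ⟨j⟩
      (fun h => hij (congr_arg Discrete.as h))).cone)
    (fun {i j} hij => (isPullback_initial_to_of_cofan_isVanKampen hc ⟨i⟩ ⟨j⟩
      (fun h => hij (congr_arg Discrete.as h))).isLimit)
    (fun {i j} hij => initialIsInitial)

end Groth.Agent.Lib.Helper5.GiraudCoprod
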