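import Groth.Agent.Lib.Helper5.GiraudBasic
import Mathlib.CategoryTheory.Sites.DenseSubsite.InducedTopology
import Mathlib.CategoryTheory.ObjectProperty.Small
import Mathlib.CategoryTheory.EssentiallySmall

/-!
# Giraud's theorem, part II: a small detecting family is a dense subsite for the canonical topology
-/

set_option autoImplicit false
open CategoryTheory Limits Opposite
universe v u

namespace Groth.Agent.Lib.Helper5.Giraud

variable {E : Type v} [Category.{u} E]

section Dense

variable [HasPullbacks E] (hb : SGA4.HasDisjointUniversalCoproducts.{v, u} E)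
  (hc : ∀ (R A : E) (p₁ p₂ : R ⟶ A), SGA4.IsEquivRel p₁ p₂ → SGA4.IsEffectiveUniversalEquivRel p₁ p₂)
  {C : Type u} [SmallCategory C] (i : C ⥤ E)
  (hdet : ∀ ⦃X Y : E⦄ (f : X ⟶ Y),
    (∀ (c : C) (h : i.obj c ⟶ Y), ∃! h' : i.obj c ⟶ X, h' ≫ f = h) → IsIso f)
include hb hc hdet

lemma coverByImage_mem (T : E) : Sieve.coverByImage i T ∈ Sheaf.canonicalTopology E T := by
  let X : (Σ c : C, (i.obj c ⟶ T)) → E := fun k => i.obj k.1
  haveI := hasCoproduct hb X
  let p : ∐ X ⟶ T := Sigma.desc (fun k => k.2)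
  obtain ⟨Q, q, m, hqm, hm, heff⟩ := exists_image_factorization hc p
  haveI : IsIso m := by
    apply hdet
    intro c h
    refine ⟨Sigma.ι X ⟨c, h⟩ ≫ q, ?_, ?_⟩
    · show (Sigma.ι X ⟨c, h⟩ ≫ q) ≫ m = h
      rw [Category.assoc, hqm]
      exact Sigma.ι_desc (f := X) (fun k => k.2) ⟨c, h⟩
    · intro y hy
      rw [← cancel_mono m, hy, Category.assoc, hqm]
      exact (Sigma.ι_desc (f := X) (fun k => k.2) ⟨c, h⟩).symm
  have hq : Sieve.generate (Presieve.singleton q) ∈ Sheaf.canonicalTopology E Q :=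
    (CanonicalEff.generate_singleton_mem_canonical_iff q).2 heff
  have hA : (Sieve.coverByImage i T).pullback p ∈ Sheaf.canonicalTopology E (∐ X) := by
    refine GrothendieckTopology.superset_covering _ ?_
      (ofArrows_mem hb (Cofan.mk (∐ X) (Sigma.ι X)) (coproductIsCoproduct X))
    rintro Y g ⟨Z, a, b, ⟨k⟩, rfl⟩
    show Sieve.coverByImage i T ((a ≫ Sigma.ι X k) ≫ p)
    rw [Category.assoc]
    refine (Sieve.coverByImage i T).downward_closed ?_ a
    have : Sigma.ι X k ≫ p = k.2 := Sigma.ι_desc _ _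
    rw [this]
    exact Presieve.in_coverByImage i k.2
  have hQ : (Sieve.coverByImage i T).pullback m ∈ Sheaf.canonicalTopology E Q := by
    refine GrothendieckTopology.transitive _ hq _ ?_
    rintro Y g ⟨Z, a, b, ⟨⟩, rfl⟩
    rw [← Sieve.pullback_comp, Category.assoc, hqm, Sieve.pullback_comp]
    exact GrothendieckTopology.pullback_stable _ a hA
  have := GrothendieckTopology.pullback_stable _ (inv m) hQ
  rwa [← Sieve.pullback_comp, IsIso.inv_hom_id, Sieve.pullback_id] at this

lemma isCoverDense : i.IsCoverDense (Sheaf.canonicalTopology E) :=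
  ⟨fun T => coverByImage_mem hb hc i hdet T⟩

lemma nonempty_sheafEquiv [i.Full] [i.Faithful] :
    ∃ J : GrothendieckTopology C,
      Nonempty (Sheaf J (Type u) ≌ Sheaf (Sheaf.canonicalTopology E) (Type u)) := by
  haveI := isCoverDense hb hc i hdet
  exact ⟨i.inducedTopology (Sheaf.canonicalTopology E),
    ⟨Functor.sheafInducedTopologyEquivOfIsCoverDense i _ (Type u)⟩⟩

end Dense

lemma exists_small_detecting {P : ObjectProperty E} (hs : ObjectProperty.Small.{u} P)
    (hP : P.IsDetecting) :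
    ∃ (C : Type u) (_ : SmallCategory C) (i : C ⥤ E), i.Full ∧ i.Faithful ∧
      ∀ ⦃X Y : E⦄ (f : X ⟶ Y),
        (∀ (c : C) (h : i.obj c ⟶ Y), ∃! h' : i.obj c ⟶ X, h' ≫ f = h) → IsIso f := by
  haveI := hs
  haveI : LocallySmall.{u} P.FullSubcategory := inferInstance
  haveI : EssentiallySmall.{u} P.FullSubcategory := essentiallySmall_of_small_of_locallySmall _
  let e := equivSmallModel.{u} P.FullSubcategory
  refine ⟨SmallModel.{u} P.FullSubcategory, inferInstance, e.inverse ⋙ P.ι, inferInstance,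
    inferInstance, ?_⟩
  intro X Y f hf
  apply hP
  intro G hG h
  let G' : P.FullSubcategory := ⟨G, hG⟩
  let φ : (e.inverse ⋙ P.ι).obj (e.functor.obj G') ≅ G := P.ι.mapIso (e.unitIso.app G').symm
  obtain ⟨h', hh', hu⟩ := hf (e.functor.obj G') (φ.hom ≫ h)
  refine ⟨φ.inv ≫ h', ?_, ?_⟩
  · show (φ.inv ≫ h') ≫ f = h
    rw [Category.assoc, hh', Iso.inv_hom_id_assoc]
  · intro y hy
    have := hu (φ.hom ≫ y) (by show (φ.hom ≫ y) ≫ f = _; rw [Category.assoc, hy])
    rw [← this, Iso.inv_hom_id_assoc]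

end Groth.Agent.Lib.Helper5.Giraud
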