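import Groth.Agent.Lib.Helper5.GiraudDense
import Mathlib.CategoryTheory.Sites.LocallyBijective

/-!
# Giraud's theorem, part III: sheaves for the canonical topology are representable
-/

set_option autoImplicit false
open CategoryTheory Limits Opposite
universe w v u

namespace Groth.Agent.Lib.Helper5.Giraud

variable {E : Type v} [Category.{u} E]

section Repr

/-- Subobjects are closed for the canonical topology. -/
lemma exists_lift_of_mono_of_cover {R Z T : E} (m : R ⟶ Z) [Mono m] (z : T ⟶ Z) (S : Sieve T)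
    (hS : S ∈ Sheaf.canonicalTopology E T)
    (h : ∀ ⦃V : E⦄ (g : V ⟶ T), S g → ∃ r : V ⟶ R, r ≫ m = g ≫ z) :
    ∃ r : T ⟶ R, r ≫ m = z := by
  have hR := Sheaf.isSheaf_yoneda_obj R S hS
  have hZ := Sheaf.isSheaf_yoneda_obj Z S hS
  let x : Presieve.FamilyOfElements (yoneda.obj R) S.arrows := fun V g hg => (h g hg).choose
  have hx : ∀ ⦃V : E⦄ (g : V ⟶ T) (hg : S g), x g hg ≫ m = g ≫ z :=
    fun V g hg => (h g hg).choose_spec
  have hcomp : x.Compatible := by
    intro Y₁ Y₂ W g₁ g₂ f₁ f₂ h₁ h₂ hgf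
    show g₁ ≫ x f₁ h₁ = g₂ ≫ x f₂ h₂
    rw [← cancel_mono m, Category.assoc, Category.assoc, hx f₁ h₁, hx f₂ h₂, ← Category.assoc,
      ← Category.assoc, hgf]
  obtain ⟨r, hr, -⟩ := hR x hcomp
  refine ⟨r, ?_⟩
  refine hZ.isSeparatedFor.ext ?_
  intro V g hg
  show g ≫ r ≫ m = g ≫ z
  have : g ≫ r = x g hg := hr g hg
  rw [← Category.assoc, this, hx g hg]

variable [HasPullbacks E] (hb : SGA4.HasDisjointUniversalCoproducts.{v, u} E)
include hb

lemma exists_section_coprod (F : Sheaf (Sheaf.canonicalTopology E) (Type w)) {ι : Type u}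
    (X : ι → E) [HasCoproduct X] (s : ∀ k, F.obj.obj (op (X k))) :
    ∃ t : F.obj.obj (op (∐ X)), ∀ k, F.obj.map (Sigma.ι X k).op t = s k := by
  have h1 := ofArrows_mem hb (Cofan.mk (∐ X) (Sigma.ι X)) (coproductIsCoproduct X)
  have h2 := (isSheaf_iff_isSheaf_of_type _ _).1 F.property _ h1
  rw [Sieve.ofArrows, ← Presieve.isSheafFor_iff_generate] at h2
  have h3 := (Presieve.isSheafFor_arrows_iff _ _).1 h2 s
  haveI := coproductDisjoint hb X
  have hcompat : Presieve.Arrows.Compatible F.obj (Cofan.mk (∐ X) (Sigma.ι X)).inj s := by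
    intro k l Z gk gl hkl
    by_cases hkl' : k = l
    · subst hkl'
      have : gk = gl := by
        have hm : Mono (Sigma.ι X k) := inferInstance
        exact (cancel_mono (Sigma.ι X k)).1 hkl
      rw [this]
    · have hI : IsInitial (pullback (Sigma.ι X k) (Sigma.ι X l)) :=
        IsInitial.ofCoproductDisjoint hkl'
      obtain ⟨hZ⟩ := isInitial_of_hom hb hI (pullback.lift gk gl hkl)
      have := Types.isTerminalEquivUnique _
        (Sheaf.isTerminalOfBotCover F Z (bot_mem_of_isInitial hb hZ))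
      exact Subsingleton.elim _ _
  obtain ⟨t, ht, -⟩ := h3 hcompat
  exact ⟨t, ht⟩

end Repr

section Repr2

/-- The sieve of arrows `g : V ⟶ T` such that `t|_V` is the pullback of `s` along some `V ⟶ A`. -/
def liftSieve (F : Eᵒᵖ ⥤ Type u) {A : E} (s : F.obj (op A)) {T : E} (t : F.obj (op T)) :
    Sieve T where
  arrows V g := ∃ a : V ⟶ A, F.map a.op s = F.map g.op t
  downward_closed := by
    rintro V W g ⟨a, ha⟩ h
    refine ⟨h ≫ a, ?_⟩
    rw [op_comp, op_comp, Functor.map_comp_apply, Functor.map_comp_apply, ha]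

variable [HasPullbacks E] (hb : SGA4.HasDisjointUniversalCoproducts.{v, u} E)
  (hc : ∀ (R A : E) (p₁ p₂ : R ⟶ A), SGA4.IsEquivRel p₁ p₂ → SGA4.IsEffectiveUniversalEquivRel p₁ p₂)
  {C : Type u} [SmallCategory C] (i : C ⥤ E)
  (hdet : ∀ ⦃X Y : E⦄ (f : X ⟶ Y),
    (∀ (c : C) (h : i.obj c ⟶ Y), ∃! h' : i.obj c ⟶ X, h' ≫ f = h) → IsIso f)
include hb hc hdet

lemma exists_cover (F : Sheaf (Sheaf.canonicalTopology E) (Type u)) :
    ∃ (A : E) (s : F.obj.obj (op A)), ∀ (T : E) (t : F.obj.obj (op T)),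
      liftSieve F.obj s t ∈ Sheaf.canonicalTopology E T := by
  let X : (Σ c : C, F.obj.obj (op (i.obj c))) → E := fun k => i.obj k.1
  haveI := hasCoproduct hb X
  obtain ⟨s, hs⟩ := exists_section_coprod hb F X (fun k => k.2)
  refine ⟨∐ X, s, fun T t => ?_⟩
  refine GrothendieckTopology.superset_covering _ ?_ (coverByImage_mem hb hc i hdet T)
  rintro V g ⟨⟨c, lift, map, fac⟩⟩
  refine ⟨lift ≫ Sigma.ι X ⟨c, F.obj.map map.op t⟩, ?_⟩
  rw [op_comp, Functor.map_comp_apply, hs, ← fac, op_comp, Functor.map_comp_apply]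

end Repr2

section Repr3

lemma map_op_comp_apply (F : Eᵒᵖ ⥤ Type w) {X Y Z : E} (a : X ⟶ Y) (b : Y ⟶ Z)
    (s : F.obj (op Z)) : F.map (a ≫ b).op s = F.map a.op (F.map b.op s) := by
  rw [op_comp, Functor.map_comp_apply]

lemma sheaf_ext_of_cover (F : Sheaf (Sheaf.canonicalTopology E) (Type w)) {T : E} (S : Sieve T)
    (hS : S ∈ Sheaf.canonicalTopology E T) (t t' : F.obj.obj (op T))
    (h : ∀ ⦃V : E⦄ (g : V ⟶ T), S g → F.obj.map g.op t = F.obj.map g.op t') : t = t' :=
  ((isSheaf_iff_isSheaf_of_type _ _).1 F.property S hS).isSeparatedFor.ext h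

variable [HasPullbacks E] (hb : SGA4.HasDisjointUniversalCoproducts.{v, u} E)
include hb

lemma section_coprod_ext (F : Sheaf (Sheaf.canonicalTopology E) (Type w)) {ι : Type u}
    (X : ι → E) [HasCoproduct X] (t t' : F.obj.obj (op (∐ X)))
    (h : ∀ k, F.obj.map (Sigma.ι X k).op t = F.obj.map (Sigma.ι X k).op t') : t = t' := by
  refine sheaf_ext_of_cover F _
    (ofArrows_mem hb (Cofan.mk (∐ X) (Sigma.ι X)) (coproductIsCoproduct X)) t t' ?_
  rintro V g ⟨Z, a, b, ⟨k⟩, rfl⟩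
  rw [op_comp, Functor.map_comp_apply, Functor.map_comp_apply]
  exact congrArg _ (h k)

end Repr3


section Repr4

variable [HasFiniteLimits E] (hb : SGA4.HasDisjointUniversalCoproducts.{v, u} E)
  (hc : ∀ (R A : E) (p₁ p₂ : R ⟶ A), SGA4.IsEquivRel p₁ p₂ → SGA4.IsEffectiveUniversalEquivRel p₁ p₂)
  {C : Type u} [SmallCategory C] (i : C ⥤ E)
  (hdet : ∀ ⦃X Y : E⦄ (f : X ⟶ Y),
    (∀ (c : C) (h : i.obj c ⟶ Y), ∃! h' : i.obj c ⟶ X, h' ≫ f = h) → IsIso f)
include hb hc hdet

lemma exists_kernel_rel (F : Sheaf (Sheaf.canonicalTopology E) (Type w)) {A : E}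
    (s : F.obj.obj (op A)) :
    ∃ (R : E) (p₁ p₂ : R ⟶ A),
      (∀ (T : E) (r r' : T ⟶ R), r ≫ p₁ = r' ≫ p₁ → r ≫ p₂ = r' ≫ p₂ → r = r') ∧
      ∀ (T : E) (a b : T ⟶ A), (∃ r : T ⟶ R, r ≫ p₁ = a ∧ r ≫ p₂ = b) ↔
        F.obj.map a.op s = F.obj.map b.op s := by
  let ιB := Σ c : C, {ab : (i.obj c ⟶ A) × (i.obj c ⟶ A) //
    F.obj.map ab.1.op s = F.obj.map ab.2.op s}
  let XB : ιB → E := fun k => i.obj k.1
  haveI := hasCoproduct hb XB
  let f : ∐ XB ⟶ A ⨯ A := Sigma.desc (fun k => prod.lift k.2.1.1 k.2.1.2)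
  have hf : ∀ k : ιB, Sigma.ι XB k ≫ f = prod.lift k.2.1.1 k.2.1.2 := fun k =>
    Sigma.ι_desc (f := XB) (fun k => prod.lift k.2.1.1 k.2.1.2) k
  obtain ⟨R, q, m, hqm, hm, heff⟩ := exists_image_factorization hc f
  have hq : Sieve.generate (Presieve.singleton q) ∈ Sheaf.canonicalTopology E R :=
    (CanonicalEff.generate_singleton_mem_canonical_iff q).2 heff
  -- the two pullbacks of `s` to `B` agree
  have hB : F.obj.map (f ≫ prod.fst).op s = F.obj.map (f ≫ prod.snd).op s := by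
    refine section_coprod_ext hb F XB _ _ (fun k => ?_)
    rw [← Functor.map_comp_apply, ← Functor.map_comp_apply, ← op_comp, ← op_comp,
      ← Category.assoc, ← Category.assoc, hf k, prod.lift_fst, prod.lift_snd]
    exact k.2.2
  -- hence also the two pullbacks to `R`
  have hR : F.obj.map (m ≫ prod.fst).op s = F.obj.map (m ≫ prod.snd).op s := by
    refine sheaf_ext_of_cover F _ hq _ _ ?_
    rintro V g ⟨Z, a, b, ⟨⟩, rfl⟩
    rw [← Functor.map_comp_apply, ← Functor.map_comp_apply, ← op_comp, ← op_comp]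
    have e1 : (a ≫ q) ≫ m ≫ prod.fst = a ≫ f ≫ prod.fst := by
      rw [Category.assoc, ← Category.assoc q, hqm]
    have e2 : (a ≫ q) ≫ m ≫ prod.snd = a ≫ f ≫ prod.snd := by
      rw [Category.assoc, ← Category.assoc q, hqm]
    rw [e1, e2, map_op_comp_apply F.obj a (f ≫ prod.fst), map_op_comp_apply F.obj a (f ≫ prod.snd),
      hB]
  refine ⟨R, m ≫ prod.fst, m ≫ prod.snd, ?_, ?_⟩
  · intro T r r' h1 h2
    rw [← cancel_mono m]
    apply Limits.prod.hom_ext
    · simpa using h1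
    · simpa using h2
  · intro T a b
    constructor
    · rintro ⟨r, rfl, rfl⟩
      rw [map_op_comp_apply F.obj r (m ≫ prod.fst), map_op_comp_apply F.obj r (m ≫ prod.snd), hR]
    · intro hab
      obtain ⟨r, hr⟩ := exists_lift_of_mono_of_cover m (prod.lift a b) _
        (coverByImage_mem hb hc i hdet T) (by
          rintro V g ⟨⟨c, lift, map, fac⟩⟩
          let k : ιB := ⟨c, ⟨(map ≫ a, map ≫ b), by
            show F.obj.map (map ≫ a).op s = F.obj.map (map ≫ b).op s
            rw [map_op_comp_apply, map_op_comp_apply, hab]⟩⟩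
          refine ⟨lift ≫ Sigma.ι XB k ≫ q, ?_⟩
          rw [Category.assoc, Category.assoc, hqm, hf k, ← fac, Category.assoc]
          congr 1
          apply Limits.prod.hom_ext <;> simp [k])
      refine ⟨r, ?_, ?_⟩
      · rw [← Category.assoc, hr, prod.lift_fst]
      · rw [← Category.assoc, hr, prod.lift_snd]

theorem exists_representing (F : Sheaf (Sheaf.canonicalTopology E) (Type u)) :
    ∃ X : E, Nonempty ((Sheaf.canonicalTopology E).yoneda.obj X ≅ F) := by
  obtain ⟨A, s, hs⟩ := exists_cover hb hc i hdet F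
  obtain ⟨R, p₁, p₂, hmono, hrel⟩ := exists_kernel_rel hb hc i hdet F s
  have heq : SGA4.IsEquivRel p₁ p₂ := by
    intro T
    refine ⟨?_, ?_⟩
    · intro r r' h
      exact hmono T r r' (congrArg Prod.fst h) (congrArg Prod.snd h)
    · refine ⟨fun a => (hrel T a a).2 rfl, fun {a b} h => (hrel T b a).2 ((hrel T a b).1 h).symm,
        fun {a b c} h1 h2 => (hrel T a c).2 (((hrel T a b).1 h1).trans ((hrel T b c).1 h2))⟩
  obtain ⟨X, π, hpb, hpo, heff⟩ := hc _ _ _ _ heq
  have hπ : Sieve.generate (Presieve.singleton π) ∈ Sheaf.canonicalTopology E X :=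
    (CanonicalEff.generate_singleton_mem_canonical_iff π).2 heff
  -- descend `s` to `X`
  have hsh := (isSheaf_iff_isSheaf_of_type _ _).1 F.property _ hπ
  rw [← Presieve.isSheafFor_iff_generate, Presieve.isSheafFor_singleton] at hsh
  obtain ⟨sX, hsX, -⟩ := hsh s (by
    intro Z a b hab
    exact (hrel Z a b).1 ⟨hpb.lift a b hab, hpb.lift_fst _ _ _, hpb.lift_snd _ _ _⟩)
  let τ : (Sheaf.canonicalTopology E).yoneda.obj X ⟶ F :=
    (Sheaf.canonicalTopology E).yonedaEquiv.symm sX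
  have hτ : ∀ (T : E) (x : T ⟶ X), τ.hom.app (op T) x = F.obj.map x.op sX := fun T x =>
    GrothendieckTopology.yonedaEquiv_symm_app_apply _ sX (op T) x
  have h1 : Sheaf.IsLocallyInjective τ := by
    constructor
    intro T x y hxy
    change (unop T ⟶ X) at x y
    rw [hτ, hτ] at hxy
    refine GrothendieckTopology.superset_covering _ ?_
      (GrothendieckTopology.intersection_covering _
        (GrothendieckTopology.pullback_stable _ x hπ)
        (GrothendieckTopology.pullback_stable _ y hπ))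
    rintro V g ⟨⟨Z, a, b, ⟨⟩, hab⟩, ⟨Z', a', b', ⟨⟩, hab'⟩⟩
    show g ≫ x = g ≫ y
    have e1 : F.obj.map a.op s = F.obj.map a'.op s := by
      rw [← hsX, ← map_op_comp_apply, ← map_op_comp_apply, hab, hab', map_op_comp_apply,
        map_op_comp_apply, hxy]
    obtain ⟨r, hr1, hr2⟩ := (hrel V a a').2 e1
    rw [← hab, ← hab', ← hr1, ← hr2, Category.assoc, Category.assoc, hpb.w]
  have h2 : Sheaf.IsLocallySurjective τ := by
    constructor
    intro T t
    refine GrothendieckTopology.superset_covering _ ?_ (hs T t)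
    rintro V g ⟨a, ha⟩
    refine ⟨a ≫ π, ?_⟩
    show τ.hom.app (op V) (a ≫ π) = F.obj.map g.op t
    rw [hτ, map_op_comp_apply, hsX, ha]
  haveI : IsIso τ := (Sheaf.isLocallyBijective_iff_isIso τ).1 ⟨h1, h2⟩
  exact ⟨X, ⟨asIso τ⟩⟩

end Repr4

end Groth.Agent.Lib.Helper5.Giraud
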