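import Mathlib
import Groth.Prelude.Def_CohTop
set_option autoImplicit false
universe u
open CategoryTheory CategoryTheory.Limits Opposite TopologicalSpace TopCat

namespace Groth.Agent.Lib.Helper5.Godement

noncomputable section

lemma eq_of_bot {Y : TopCat.{u}} (G : TopCat.Sheaf AddCommGrpCat.{u} Y) {W : Opens Y} (hW : W = ⊥)
    (s t : G.1.obj (op W)) : s = t := by
  refine TopCat.Sheaf.eq_of_locally_eq' G (fun i : PEmpty.{1} => i.elim) W (fun i => i.elim) ?_ s t
    (fun i => i.elim)
  rw [hW]
  exact bot_le

/-- every sheaf on a discrete space is flasque. -/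
theorem isFlasque_of_discrete {Y : TopCat.{u}} [DiscreteTopology Y]
    (G : TopCat.Sheaf AddCommGrpCat.{u} Y) : TopCat.Sheaf.IsFlasque G := by
  constructor
  intro U V i
  induction U using Opposite.rec with | _ U => ?_
  induction V using Opposite.rec with | _ V => ?_
  have hVU : V ≤ U := leOfHom i.unop
  rw [AddCommGrpCat.epi_iff_surjective]
  intro s
  let W : Opens Y := ⟨(U : Set Y) \ (V : Set Y), isOpen_discrete _⟩
  have hWU : W ≤ U := fun x hx => hx.1
  let Uf : Bool → Opens Y := fun b => if b then V else W
  let iUV : ∀ b, Uf b ⟶ U := fun b => homOfLE (by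
    cases b
    · exact hWU
    · exact hVU)
  let sf : ∀ b, G.1.obj (op (Uf b)) := fun b => match b with
    | true => s
    | false => 0
  have hcov : U ≤ iSup Uf := by
    intro x hx
    by_cases hxV : x ∈ V
    · exact Opens.mem_iSup.2 ⟨true, hxV⟩
    · exact Opens.mem_iSup.2 ⟨false, ⟨hx, hxV⟩⟩
  have hcompat : TopCat.Presheaf.IsCompatible G.1 Uf sf := by
    intro b b'
    cases b <;> cases b'
    · rfl
    · apply eq_of_bot G
      ext x
      simp only [Opens.coe_inf, Opens.coe_bot, Set.mem_inter_iff, Set.mem_empty_iff_false, iff_false]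
      rintro ⟨⟨_, h1⟩, h2⟩
      exact h1 h2
    · apply eq_of_bot G
      ext x
      simp only [Opens.coe_inf, Opens.coe_bot, Set.mem_inter_iff, Set.mem_empty_iff_false, iff_false]
      rintro ⟨h2, ⟨_, h1⟩⟩
      exact h1 h2
    · rfl
  obtain ⟨t, ht, -⟩ := TopCat.Sheaf.existsUnique_gluing' G Uf U iUV hcov sf hcompat
  exact ⟨t, ht true⟩

section Germs

variable {X Y : TopCat.{u}} (f : Y ⟶ X) (F : TopCat.Sheaf AddCommGrpCat.{u} X)

/-- the presheaf on `Y` of all families of germs of `F` at the points `f y`. -/
def germsPresheaf : TopCat.Presheaf AddCommGrpCat.{u} Y where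
  obj U := AddCommGrpCat.of (∀ y : U.unop, F.presheaf.stalk (f.hom y))
  map {U V} i := AddCommGrpCat.ofHom
    { toFun := fun g y => g (i.unop y)
      map_zero' := rfl
      map_add' := fun _ _ => rfl }

lemma germsPresheaf_isSheaf : (germsPresheaf f F).IsSheaf := by
  rw [TopCat.Presheaf.isSheaf_iff_isSheaf_comp (forget AddCommGrpCat.{u})]
  exact TopCat.Presheaf.toTypes_isSheaf Y (fun y => F.presheaf.stalk (f.hom y))

/-- the sheaf of all families of germs. -/
def germsSheaf : TopCat.Sheaf AddCommGrpCat.{u} Y := ⟨germsPresheaf f F, germsPresheaf_isSheaf f F⟩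

/-- the map sending a section to the family of its germs. -/
def toGerms : F ⟶ (TopCat.Sheaf.pushforward AddCommGrpCat.{u} f).obj (germsSheaf f F) :=
  ⟨{ app := fun U => AddCommGrpCat.ofHom
      { toFun := fun s y => (F.presheaf.germ U.unop (f.hom y.1) y.2).hom s
        map_zero' := by
          funext y
          exact map_zero _
        map_add' := fun s t => by
          funext y
          exact map_add _ s t }
     naturality := fun U V i => by
      apply AddCommGrpCat.hom_ext
      ext s
      funext y
      exact TopCat.Presheaf.germ_res_apply F.presheaf i.unop (f.hom y.1) y.2 s }⟩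

lemma toGerms_injective (hf : Function.Surjective f.hom) (U : (Opens X)ᵒᵖ) :
    Function.Injective ((toGerms f F).hom.app U).hom := by
  intro s t h
  apply TopCat.Presheaf.section_ext F U.unop
  intro x hx
  obtain ⟨y, rfl⟩ := hf x
  exact congrFun h ⟨y, hx⟩

lemma mono_toGerms (hf : Function.Surjective f.hom) : Mono (toGerms f F) := by
  have : ∀ U, Mono ((toGerms f F).hom.app U) := fun U =>
    (AddCommGrpCat.mono_iff_injective _).2 (toGerms_injective f F hf U)
  have : Mono (toGerms f F).hom := NatTrans.mono_of_mono_app _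
  exact Sheaf.Hom.mono_of_presheaf_mono _ _ _

theorem mono_unit (hf : Function.Surjective f.hom) :
    Mono ((TopCat.Sheaf.pullbackPushforwardAdjunction AddCommGrpCat.{u} f).unit.app F) := by
  let adj := TopCat.Sheaf.pullbackPushforwardAdjunction AddCommGrpCat.{u} f
  have h : adj.unit.app F ≫ (TopCat.Sheaf.pushforward AddCommGrpCat.{u} f).map
      ((adj.homEquiv _ _).symm (toGerms f F)) = toGerms f F := by
    have := adj.homEquiv_unit (f := (adj.homEquiv _ _).symm (toGerms f F))
    rw [Equiv.apply_symm_apply] at this
    exact this.symm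
  haveI := mono_toGerms f F hf
  exact mono_of_mono_fac h

end Germs

end

end Groth.Agent.Lib.Helper5.Godement
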