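import Groth.Agent.Lib.Helper5.GrpQuot
import Mathlib.CategoryTheory.Subobject.Basic

/-!
# Subgroup objects of a quotient group object
-/

set_option autoImplicit false
open CategoryTheory Limits MonoidalCategory CartesianMonoidalCategory MonObj
  SemiCartesianMonoidalCategory

namespace Groth.Agent.Lib.Helper5.GrpQuot

universe v u
variable {𝒮 : Type u} [Category.{v} 𝒮] [CartesianMonoidalCategory 𝒮]

section Image
variable (hE : Exact 𝒮) [HasPullbacks 𝒮] [HasCoequalizers 𝒮]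

include hE in
lemma exists_image {A B : 𝒮} (f : A ⟶ B) :
    ∃ (I : 𝒮) (e : A ⟶ I) (m : I ⟶ B), Epi e ∧ Mono m ∧ e ≫ m = f := by
  obtain ⟨e, he⟩ : ∃ e, e = coequalizer.π (pullback.fst f f) (pullback.snd f f) := ⟨_, rfl⟩
  obtain ⟨m, hm⟩ : ∃ m, m = coequalizer.desc f (pullback.condition (f := f) (g := f)) := ⟨_, rfl⟩
  have hem : e ≫ m = f := by rw [he, hm]; exact coequalizer.π_desc _ _
  have hk : IsKernelPair f (pullback.fst f f) (pullback.snd f f) := IsPullback.of_hasPullback f f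
  have eq : EquivalenceRelation (pullback.fst f f) (pullback.snd f f) :=
    IsKernelPair.equivalenceRelation f _ _
      (pullback.isLimit (pullback.snd f f) (pullback.fst f f)) hk
  have hke : IsKernelPair e (pullback.fst f f) (pullback.snd f f) := by
    rw [he]; exact hE.kp eq
  have hee : Epi e := by rw [he]; infer_instance
  refine ⟨_, e, m, hee, ⟨fun {Y} a b hab => ?_⟩, hem⟩
  obtain ⟨Y₁, c₁, hc₁, a', ha'⟩ := exists_lift hE e hee a
  obtain ⟨Y₂, c₂, hc₂, b', hb'⟩ := exists_lift hE e hee (c₁ ≫ b)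
  rw [← cancel_epi c₁, ← cancel_epi c₂, ← hb', ← ha', ← Category.assoc]
  have h1 : (c₂ ≫ a') ≫ f = b' ≫ f := by
    rw [← hem, ← Category.assoc, ← Category.assoc, Category.assoc c₂, ha', hb']
    simp only [Category.assoc, hab]
  have l1 : hk.lift (c₂ ≫ a') b' h1 ≫ pullback.fst f f = c₂ ≫ a' := hk.lift_fst _ _ h1
  have l2 : hk.lift (c₂ ≫ a') b' h1 ≫ pullback.snd f f = b' := hk.lift_snd _ _ h1
  calc (c₂ ≫ a') ≫ e = (hk.lift _ _ h1 ≫ pullback.fst f f) ≫ e := by rw [l1]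
    _ = (hk.lift _ _ h1 ≫ pullback.snd f f) ≫ e := by
        rw [Category.assoc, Category.assoc, hke.w]
    _ = b' ≫ e := by rw [l2]

include hE in
/-- The image of a homomorphism of group objects is a subgroup object. -/
lemma image_grp {K Q I : 𝒮} [GrpObj K] [hQ : GrpObj Q] (f : K ⟶ Q) [IsMonHom f] (e : K ⟶ I)
    (m : I ⟶ Q) (he : Epi e) [Mono m] (hem : e ≫ m = f) :
    ∃ str : GrpObj I, @IsMonHom 𝒮 _ _ I Q str.toMonObj hQ.toMonObj m := by
  have e2 : Epi (e ⊗ₘ e) := @epi_tensorHom _ _ _ hE _ _ _ _ e e he he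
  haveI := hE.eff (e ⊗ₘ e) e2
  haveI := hE.eff e he
  have hinv : ι[K] ≫ f = f ≫ ι[Q] := by
    have := GrpObj.inv_comp (𝟙 K) f
    simpa [Hom.inv_def] using this
  have wd1 : ∀ {Z : 𝒮} (g₁ g₂ : Z ⟶ K ⊗ K), g₁ ≫ (e ⊗ₘ e) = g₂ ≫ (e ⊗ₘ e) →
      g₁ ≫ μ ≫ e = g₂ ≫ μ ≫ e := by
    intro Z g₁ g₂ h
    rw [← cancel_mono m]
    have hff : f ⊗ₘ f = (e ⊗ₘ e) ≫ (m ⊗ₘ m) := by rw [tensorHom_comp_tensorHom, hem]
    have key : ∀ g : Z ⟶ K ⊗ K, (g ≫ μ ≫ e) ≫ m = (g ≫ (e ⊗ₘ e)) ≫ (m ⊗ₘ m) ≫ μ := by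
      intro g
      rw [Category.assoc, Category.assoc, hem, IsMonHom.mul_hom, hff, Category.assoc,
        Category.assoc]
    rw [key, key, h]
  have wd2 : ∀ {Z : 𝒮} (g₁ g₂ : Z ⟶ K), g₁ ≫ e = g₂ ≫ e → g₁ ≫ ι ≫ e = g₂ ≫ ι ≫ e := by
    intro Z g₁ g₂ h
    rw [← cancel_mono m]
    have key : ∀ g : Z ⟶ K, (g ≫ ι ≫ e) ≫ m = (g ≫ e) ≫ m ≫ ι := by
      intro g
      rw [Category.assoc, Category.assoc, hem, hinv, ← hem, Category.assoc, Category.assoc]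
    rw [key, key, h]
  obtain ⟨mI, hmI⟩ : ∃ mI : I ⊗ I ⟶ I, (e ⊗ₘ e) ≫ mI = μ ≫ e :=
    ⟨EffectiveEpi.desc (e ⊗ₘ e) (μ ≫ e) wd1, EffectiveEpi.fac _ _ _⟩
  obtain ⟨iI, hiI⟩ : ∃ iI : I ⟶ I, e ≫ iI = ι ≫ e :=
    ⟨EffectiveEpi.desc e (ι ≫ e) wd2, EffectiveEpi.fac _ _ _⟩
  have ho : (η[K] ≫ e) ≫ m = η[Q] := by rw [Category.assoc, hem, IsMonHom.one_hom]
  have hm : mI ≫ m = (m ⊗ₘ m) ≫ μ := by
    rw [← cancel_epi (e ⊗ₘ e), reassoc_of% hmI, hem, IsMonHom.mul_hom,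
      tensorHom_comp_tensorHom_assoc, hem]
  have hi : iI ≫ m = m ≫ ι := by
    rw [← cancel_epi e, reassoc_of% hiI, hem, hinv, ← hem, Category.assoc]
  refine ⟨grpOfMono m (η[K] ≫ e) ho mI hm iI hi, ?_⟩
  letI := grpOfMono m (η[K] ≫ e) ho mI hm iI hi
  exact { one_hom := ho, mul_hom := hm }

include hE in
lemma le_of_pullback_le {G Q : 𝒮} (π : G ⟶ Q) (hπ : Epi π) (K₁ K₂ : Subobject Q)
    (h : (Subobject.pullback π).obj K₁ ≤ (Subobject.pullback π).obj K₂) : K₁ ≤ K₂ := by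
  have sq₁ := Subobject.isPullback π K₁
  have sq₂ := Subobject.isPullback π K₂
  have he₁ : Epi (Subobject.pullbackπ π K₁) := hE.epi_pullback sq₁ hπ
  obtain ⟨s, hs⟩ := exists_factor_of_epi hE (Subobject.pullbackπ π K₁) he₁ K₂.arrow K₁.arrow
    (Subobject.ofLE _ _ h ≫ Subobject.pullbackπ π K₂) (by
      rw [Category.assoc, sq₂.w, Subobject.ofLE_arrow_assoc, sq₁.w])
  exact Subobject.le_of_comm s hs

include hE in
lemma pullback_obj_injective {G Q : 𝒮} (π : G ⟶ Q) (hπ : Epi π) :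
    Function.Injective (Subobject.pullback π).obj := fun K₁ K₂ h =>
  le_antisymm (le_of_pullback_le hE π hπ K₁ K₂ h.le) (le_of_pullback_le hE π hπ K₂ K₁ h.ge)

end Image

section Corr
variable (hE : Exact 𝒮) [HasPullbacks 𝒮] [HasCoequalizers 𝒮]
  {H G : 𝒮} [hH : GrpObj H] [hG : GrpObj G] (u : H ⟶ G) [Mono u] [IsMonHom u]
  [hQ : GrpObj (coequalizer (fst G H) ((G ◁ u) ≫ μ))]
  (hπ : @IsMonHom 𝒮 _ _ G (coequalizer (fst G H) ((G ◁ u) ≫ μ)) hG.toMonObj hQ.toMonObj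
    (coequalizer.π (fst G H) ((G ◁ u) ≫ μ)))

include hπ in
lemma u_comp_π : u ≫ coequalizer.π (fst G H) ((G ◁ u) ≫ μ) = toUnit H ≫ η := by
  haveI := hπ
  have h1 := π_eq_of_eq_mul u (1 : H ⟶ G) (𝟙 H)
  rw [_root_.one_mul, Category.id_comp, MonObj.one_comp] at h1
  rw [h1, Hom.one_def]

include hπ in
/-- The inverse image of a subgroup object of the quotient is a subgroup object containing `H`. -/
lemma corr_mapsTo (K' : Subobject (coequalizer (fst G H) ((G ◁ u) ≫ μ)))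
    (str' : GrpObj (K' : 𝒮))
    (hK' : @IsMonHom 𝒮 _ _ _ _ str'.toMonObj hQ.toMonObj K'.arrow) :
    Subobject.mk u ≤ (Subobject.pullback (coequalizer.π (fst G H) ((G ◁ u) ≫ μ))).obj K' ∧
      ∃ str : GrpObj
          ((Subobject.pullback (coequalizer.π (fst G H) ((G ◁ u) ≫ μ))).obj K' : 𝒮),
        @IsMonHom 𝒮 _ _ _ _ str.toMonObj hG.toMonObj
          ((Subobject.pullback (coequalizer.π (fst G H) ((G ◁ u) ≫ μ))).obj K').arrow := by
  haveI := hπ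
  haveI := hK'
  obtain ⟨π, hπdef⟩ : ∃ π, π = coequalizer.π (fst G H) ((G ◁ u) ≫ μ) := ⟨_, rfl⟩
  have huπ : u ≫ π = toUnit H ≫ η := by rw [hπdef]; exact u_comp_π u hπ
  haveI : IsMonHom π := by rw [hπdef]; exact hπ
  rw [← hπdef]
  have sq := Subobject.isPullback π K'
  obtain ⟨a, ha⟩ : ∃ a, a = ((Subobject.pullback π).obj K').arrow := ⟨_, rfl⟩
  obtain ⟨b, hb⟩ : ∃ b, b = Subobject.pullbackπ π K' := ⟨_, rfl⟩
  rw [← ha, ← hb] at sq
  haveI : Mono a := by rw [ha]; infer_instance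
  have hinvπ : ι[G] ≫ π = π ≫ ι := by
    have := GrpObj.inv_comp (𝟙 G) π
    simpa [Hom.inv_def] using this
  have hinvK : ι[(K' : 𝒮)] ≫ K'.arrow = K'.arrow ≫ ι := by
    have := GrpObj.inv_comp (𝟙 (K' : 𝒮)) K'.arrow
    simpa [Hom.inv_def] using this
  refine ⟨?_, ?_⟩
  · refine Subobject.mk_le_of_comm (sq.lift (toUnit H ≫ η) u ?_) ?_
    · rw [Category.assoc, IsMonHom.one_hom, huπ]
    · rw [← ha, sq.lift_snd]
  · have c1 : η[(K' : 𝒮)] ≫ K'.arrow = η[G] ≫ π := by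
      rw [IsMonHom.one_hom, IsMonHom.one_hom]
    have c2 : ((b ⊗ₘ b) ≫ μ) ≫ K'.arrow = ((a ⊗ₘ a) ≫ μ) ≫ π := by
      rw [Category.assoc, Category.assoc, IsMonHom.mul_hom, IsMonHom.mul_hom,
        tensorHom_comp_tensorHom_assoc, tensorHom_comp_tensorHom_assoc, sq.w]
    have c3 : (b ≫ ι) ≫ K'.arrow = (a ≫ ι) ≫ π := by
      rw [Category.assoc, Category.assoc, hinvK, hinvπ, reassoc_of% sq.w]
    rw [← ha]
    refine ⟨grpOfMono a (sq.lift _ _ c1) (sq.lift_snd _ _ _) (sq.lift _ _ c2) (sq.lift_snd _ _ _)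
      (sq.lift _ _ c3) (sq.lift_snd _ _ _), ?_⟩
    letI := grpOfMono a (sq.lift _ _ c1) (sq.lift_snd _ _ _) (sq.lift _ _ c2) (sq.lift_snd _ _ _)
      (sq.lift _ _ c3) (sq.lift_snd _ _ _)
    exact { one_hom := sq.lift_snd _ _ _, mul_hom := sq.lift_snd _ _ _ }

include hE hπ in
/-- Every subgroup object of `G` containing `H` is the inverse image of a subgroup object of the
quotient. -/
lemma corr_surjOn (K : Subobject G) (hHK : Subobject.mk u ≤ K) (str : GrpObj (K : 𝒮))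
    (hK : @IsMonHom 𝒮 _ _ _ _ str.toMonObj hG.toMonObj K.arrow) :
    ∃ K' : Subobject (coequalizer (fst G H) ((G ◁ u) ≫ μ)),
      (∃ str' : GrpObj (K' : 𝒮), @IsMonHom 𝒮 _ _ _ _ str'.toMonObj hQ.toMonObj K'.arrow) ∧
      (Subobject.pullback (coequalizer.π (fst G H) ((G ◁ u) ≫ μ))).obj K' = K := by
  haveI := hπ
  haveI := hK
  obtain ⟨π, hπdef⟩ : ∃ π, π = coequalizer.π (fst G H) ((G ◁ u) ≫ μ) := ⟨_, rfl⟩
  have hπiff : ∀ {Y : 𝒮} (x y : Y ⟶ G), x ≫ π = y ≫ π ↔ ∃ h : Y ⟶ H, y = x * (h ≫ u) := by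
    intro Y x y; rw [hπdef]; exact π_eq_iff hE u x y
  haveI : IsMonHom π := by rw [hπdef]; exact hπ
  haveI : Epi π := by rw [hπdef]; infer_instance
  rw [← hπdef]
  obtain ⟨I, e, m, he, hm, hem⟩ := exists_image hE (K.arrow ≫ π)
  haveI := hm
  have he' : Epi (e ≫ (Subobject.underlyingIso m).inv) := epi_comp _ _
  have hem' : (e ≫ (Subobject.underlyingIso m).inv) ≫ (Subobject.mk m).arrow = K.arrow ≫ π := by
    rw [Category.assoc, Subobject.underlyingIso_arrow, hem]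
  obtain ⟨str', hstr'⟩ := image_grp hE (K.arrow ≫ π) (e ≫ (Subobject.underlyingIso m).inv)
    (Subobject.mk m).arrow he' hem'
  refine ⟨Subobject.mk m, ⟨str', hstr'⟩, ?_⟩
  have sq := Subobject.isPullback π (Subobject.mk m)
  apply le_antisymm
  · -- `π⁻¹(K') ≤ K`
    obtain ⟨Y', c, hc, k, hk⟩ := exists_lift hE (e ≫ (Subobject.underlyingIso m).inv) he'
      (Subobject.pullbackπ π (Subobject.mk m))
    have h1 : (k ≫ K.arrow) ≫ π =
        (c ≫ ((Subobject.pullback π).obj (Subobject.mk m)).arrow) ≫ π := by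
      rw [Category.assoc, ← hem', ← Category.assoc, hk, Category.assoc, Category.assoc, sq.w]
    obtain ⟨h, hh⟩ := (hπiff _ _).1 h1
    have hj : Subobject.ofMkLE u K hHK ≫ K.arrow = u := Subobject.ofMkLE_arrow hHK
    obtain ⟨s, hs⟩ := exists_factor_of_epi hE c hc K.arrow
      ((Subobject.pullback π).obj (Subobject.mk m)).arrow
      (k * (h ≫ Subobject.ofMkLE u K hHK)) (by
        rw [MonObj.mul_comp, Category.assoc, hj, hh])
    exact Subobject.le_of_comm s hs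
  · -- `K ≤ π⁻¹(K')`
    exact Subobject.le_of_comm (sq.lift (e ≫ (Subobject.underlyingIso m).inv) K.arrow hem')
      (sq.lift_snd _ _ _)

include hE hπ in
lemma corr_normal (K' : Subobject (coequalizer (fst G H) ((G ◁ u) ≫ μ))) :
    (∀ (Y : 𝒮) (g : Y ⟶ coequalizer (fst G H) ((G ◁ u) ≫ μ)) (k : Y ⟶ (K' : 𝒮)),
        ∃ k' : Y ⟶ (K' : 𝒮), g * (k ≫ K'.arrow) * g⁻¹ = k' ≫ K'.arrow) ↔
      (∀ (Y : 𝒮) (g : Y ⟶ G)
        (k : Y ⟶ ((Subobject.pullback (coequalizer.π (fst G H) ((G ◁ u) ≫ μ))).obj K' : 𝒮)),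
        ∃ k' : Y ⟶ ((Subobject.pullback (coequalizer.π (fst G H) ((G ◁ u) ≫ μ))).obj K' : 𝒮),
          g * (k ≫ ((Subobject.pullback (coequalizer.π (fst G H) ((G ◁ u) ≫ μ))).obj K').arrow) *
              g⁻¹ =
            k' ≫ ((Subobject.pullback (coequalizer.π (fst G H) ((G ◁ u) ≫ μ))).obj K').arrow) := by
  haveI := hπ
  obtain ⟨π, hπdef⟩ : ∃ π, π = coequalizer.π (fst G H) ((G ◁ u) ≫ μ) := ⟨_, rfl⟩
  haveI : IsMonHom π := by rw [hπdef]; exact hπ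
  have hπe : Epi π := by rw [hπdef]; infer_instance
  rw [← hπdef]
  have sq := Subobject.isPullback π K'
  obtain ⟨a, ha⟩ : ∃ a, a = ((Subobject.pullback π).obj K').arrow := ⟨_, rfl⟩
  obtain ⟨b, hb⟩ : ∃ b, b = Subobject.pullbackπ π K' := ⟨_, rfl⟩
  rw [← ha, ← hb] at sq
  rw [← ha]
  constructor
  · intro hN Y g p
    obtain ⟨k'', hk''⟩ := hN Y (g ≫ π) (p ≫ b)
    have h1 : (g * (p ≫ a) * g⁻¹) ≫ π = k'' ≫ K'.arrow := by
      rw [MonObj.mul_comp, MonObj.mul_comp, GrpObj.inv_comp, Category.assoc, ← sq.w, ← hk'',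
        Category.assoc]
    exact ⟨sq.lift k'' _ h1.symm, (sq.lift_snd _ _ _).symm⟩
  · intro hN Y g k
    obtain ⟨Y₁, c₁, hc₁, g', hg'⟩ := exists_lift hE π hπe g
    obtain ⟨Y₂, c₂, hc₂, k₂, hk₂⟩ := exists_lift hE π hπe (c₁ ≫ k ≫ K'.arrow)
    have hcond : (c₂ ≫ c₁ ≫ k) ≫ K'.arrow = k₂ ≫ π := by
      rw [hk₂]; simp only [Category.assoc]
    obtain ⟨p', hp'⟩ := hN Y₂ (c₂ ≫ g') (sq.lift (c₂ ≫ c₁ ≫ k) k₂ hcond)
    rw [sq.lift_snd] at hp'
    have hcc : Epi (c₂ ≫ c₁) := epi_comp _ _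
    have hfac : (p' ≫ b) ≫ K'.arrow = (c₂ ≫ c₁) ≫ (g * (k ≫ K'.arrow) * g⁻¹) := by
      rw [Category.assoc, sq.w, ← Category.assoc, ← hp', MonObj.mul_comp, MonObj.mul_comp,
        GrpObj.inv_comp, Category.assoc, hg', hk₂, MonObj.comp_mul, MonObj.comp_mul,
        GrpObj.comp_inv]
      simp only [Category.assoc]
    obtain ⟨s, hs⟩ := exists_factor_of_epi hE (c₂ ≫ c₁) hcc K'.arrow
      (g * (k ≫ K'.arrow) * g⁻¹) (p' ≫ b) hfac
    exact ⟨s, hs.symm⟩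

include hE hπ in
theorem subgroup_corr :
    Set.BijOn (Subobject.pullback (coequalizer.π (fst G H) ((G ◁ u) ≫ μ))).obj
      {K' : Subobject (coequalizer (fst G H) ((G ◁ u) ≫ μ)) |
        ∃ str : GrpObj (K' : 𝒮), @IsMonHom 𝒮 _ _ _ _ str.toMonObj hQ.toMonObj K'.arrow}
      {K : Subobject G | Subobject.mk u ≤ K ∧
        ∃ str : GrpObj (K : 𝒮), @IsMonHom 𝒮 _ _ _ _ str.toMonObj hG.toMonObj K.arrow} := by
  refine ⟨?_, ?_, ?_⟩
  · rintro K' ⟨str', hK'⟩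
    exact corr_mapsTo u hπ K' str' hK'
  · exact (pullback_obj_injective hE _ inferInstance).injOn
  · rintro K ⟨hHK, str, hK⟩
    obtain ⟨K', hK', hKK'⟩ := corr_surjOn hE u hπ K hHK str hK
    exact ⟨K', hK', hKK'⟩

end Corr

section EqRelSub
variable (hE : Exact 𝒮) [HasPullbacks 𝒮] [HasCoequalizers 𝒮]

include hE in
theorem subobject_pullback_quotient {R X : 𝒮} {p₁ p₂ : R ⟶ X}
    (e : EffectiveEquivalenceRelation p₁ p₂) :
    Function.Injective (Subobject.pullback e.π).obj ∧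
      Set.range (Subobject.pullback e.π).obj =
        {Y : Subobject X | (Subobject.pullback p₁).obj Y = (Subobject.pullback p₂).obj Y} := by
  have hπ : Epi e.π := (IsRegularEpi.getStruct e.π).epi
  refine ⟨pullback_obj_injective hE e.π hπ, ?_⟩
  ext Y
  constructor
  · rintro ⟨K', rfl⟩
    change (Subobject.pullback p₁).obj ((Subobject.pullback e.π).obj K') =
      (Subobject.pullback p₂).obj ((Subobject.pullback e.π).obj K')
    rw [← Subobject.pullback_comp, ← Subobject.pullback_comp, e.isKernelPair.w]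
  · intro hY
    change (Subobject.pullback p₁).obj Y = (Subobject.pullback p₂).obj Y at hY
    obtain ⟨I, q, m, hq, hm, hqm⟩ := exists_image hE (Y.arrow ≫ e.π)
    haveI := hm
    have hq' : Epi (q ≫ (Subobject.underlyingIso m).inv) := epi_comp _ _
    have hqm' : (q ≫ (Subobject.underlyingIso m).inv) ≫ (Subobject.mk m).arrow =
        Y.arrow ≫ e.π := by
      rw [Category.assoc, Subobject.underlyingIso_arrow, hqm]
    refine ⟨Subobject.mk m, ?_⟩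
    have sq := Subobject.isPullback e.π (Subobject.mk m)
    have sq₁ := Subobject.isPullback p₁ Y
    have sq₂ := Subobject.isPullback p₂ Y
    apply le_antisymm
    · obtain ⟨W, c, hc, y, hy⟩ := exists_lift hE (q ≫ (Subobject.underlyingIso m).inv) hq'
        (Subobject.pullbackπ e.π (Subobject.mk m))
      have h1 : (y ≫ Y.arrow) ≫ e.π =
          (c ≫ ((Subobject.pullback e.π).obj (Subobject.mk m)).arrow) ≫ e.π := by
        rw [Category.assoc, ← hqm', ← Category.assoc, hy, Category.assoc, Category.assoc, sq.w]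
      have hr1 : e.isKernelPair.lift _ _ h1 ≫ p₁ = y ≫ Y.arrow := e.isKernelPair.lift_fst _ _ h1
      have hr2 : e.isKernelPair.lift _ _ h1 ≫ p₂ =
          c ≫ ((Subobject.pullback e.π).obj (Subobject.mk m)).arrow :=
        e.isKernelPair.lift_snd _ _ h1
      obtain ⟨s, hs⟩ := exists_factor_of_epi hE c hc Y.arrow
        ((Subobject.pullback e.π).obj (Subobject.mk m)).arrow
        (sq₁.lift y (e.isKernelPair.lift _ _ h1) hr1.symm ≫ Subobject.ofLE _ _ hY.le ≫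
          Subobject.pullbackπ p₂ Y) (by
          rw [Category.assoc, Category.assoc, sq₂.w, Subobject.ofLE_arrow_assoc,
            sq₁.lift_snd_assoc, hr2])
      exact Subobject.le_of_comm s hs
    · exact Subobject.le_of_comm (sq.lift (q ≫ (Subobject.underlyingIso m).inv) Y.arrow hqm')
        (sq.lift_snd _ _ _)

end EqRelSub

section Points
variable (hE : Exact 𝒮) [HasPullbacks 𝒮] [HasCoequalizers 𝒮]

include hE in
theorem quotient_points_a {R X : 𝒮} {p₁ p₂ : R ⟶ X} (e : EffectiveEquivalenceRelation p₁ p₂)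
    (Y Z : 𝒮) (j : Z ⟶ X ⊗ Y) (hj : Mono j)
    (hst : ∀ (W : 𝒮) (r : W ⟶ R) (y : W ⟶ Y),
      (∃ z : W ⟶ Z, z ≫ j = lift (r ≫ p₁) y) ↔ (∃ z : W ⟶ Z, z ≫ j = lift (r ≫ p₂) y))
    (hepi : Epi (j ≫ snd X Y))
    (hrel : ∀ (W : 𝒮) (z₁ z₂ : W ⟶ Z), z₁ ≫ j ≫ snd X Y = z₂ ≫ j ≫ snd X Y →
      ∃ r : W ⟶ R, r ≫ p₁ = z₁ ≫ j ≫ fst X Y ∧ r ≫ p₂ = z₂ ≫ j ≫ fst X Y) :
    ∃! f : Y ⟶ e.B, IsPullback (j ≫ fst X Y) (j ≫ snd X Y) e.π f := by
  haveI := hE.eff (j ≫ snd X Y) hepi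
  have wd : ∀ {W : 𝒮} (z₁ z₂ : W ⟶ Z), z₁ ≫ j ≫ snd X Y = z₂ ≫ j ≫ snd X Y →
      z₁ ≫ (j ≫ fst X Y) ≫ e.π = z₂ ≫ (j ≫ fst X Y) ≫ e.π := by
    intro W z₁ z₂ h
    obtain ⟨r, hr1, hr2⟩ := hrel W z₁ z₂ h
    calc z₁ ≫ (j ≫ fst X Y) ≫ e.π = (z₁ ≫ j ≫ fst X Y) ≫ e.π := by
          simp only [Category.assoc]
      _ = (r ≫ p₁) ≫ e.π := by rw [hr1]
      _ = (r ≫ p₂) ≫ e.π := by rw [Category.assoc, Category.assoc, e.isKernelPair.w]
      _ = (z₂ ≫ j ≫ fst X Y) ≫ e.π := by rw [hr2]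
      _ = _ := by simp only [Category.assoc]
  obtain ⟨f, hf⟩ : ∃ f : Y ⟶ e.B, (j ≫ snd X Y) ≫ f = (j ≫ fst X Y) ≫ e.π :=
    ⟨EffectiveEpi.desc (j ≫ snd X Y) ((j ≫ fst X Y) ≫ e.π) wd, EffectiveEpi.fac _ _ _⟩
  have key : ∀ {W : 𝒮} (x : W ⟶ X) (y : W ⟶ Y), x ≫ e.π = y ≫ f →
      ∃ z : W ⟶ Z, z ≫ j = lift x y := by
    intro W x y hxy
    obtain ⟨W', c, hc, z', hz'⟩ := exists_lift hE (j ≫ snd X Y) hepi y
    have h1 : (z' ≫ j ≫ fst X Y) ≫ e.π = (c ≫ x) ≫ e.π := by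
      rw [Category.assoc, Category.assoc, ← Category.assoc j, ← hf, ← Category.assoc,
        hz', Category.assoc, Category.assoc, hxy]
    have hr1 : e.isKernelPair.lift _ _ h1 ≫ p₁ = z' ≫ j ≫ fst X Y :=
      e.isKernelPair.lift_fst _ _ h1
    have hr2 : e.isKernelPair.lift _ _ h1 ≫ p₂ = c ≫ x := e.isKernelPair.lift_snd _ _ h1
    obtain ⟨z'', hz''⟩ := (hst W' (e.isKernelPair.lift _ _ h1) (c ≫ y)).1 ⟨z', by
      apply CartesianMonoidalCategory.hom_ext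
      · rw [Category.assoc, lift_fst, hr1]
      · rw [Category.assoc, lift_snd, ← hz']⟩
    rw [hr2] at hz''
    exact exists_factor_of_epi hE c hc j (lift x y) z'' (by rw [hz'', comp_lift])
  have hpb : IsPullback (j ≫ fst X Y) (j ≫ snd X Y) e.π f := by
    refine ⟨⟨hf.symm⟩, ⟨PullbackCone.IsLimit.mk _
      (fun s => (key s.fst s.snd s.condition).choose) ?_ ?_ ?_⟩⟩
    · intro s
      rw [← Category.assoc, (key s.fst s.snd s.condition).choose_spec, lift_fst]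
    · intro s
      rw [← Category.assoc, (key s.fst s.snd s.condition).choose_spec, lift_snd]
    · intro s m h1 h2
      rw [← cancel_mono j, (key s.fst s.snd s.condition).choose_spec]
      apply CartesianMonoidalCategory.hom_ext
      · rw [Category.assoc, h1, lift_fst]
      · rw [Category.assoc, h2, lift_snd]
  refine ⟨f, hpb, fun f' hf' => ?_⟩
  rw [← cancel_epi (j ≫ snd X Y), hf, hf'.w]

include hE in
theorem quotient_points_b {R X : 𝒮} {p₁ p₂ : R ⟶ X} (e : EffectiveEquivalenceRelation p₁ p₂)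
    (Y : 𝒮) (f : Y ⟶ e.B) :
    ∃ (Z : 𝒮) (j : Z ⟶ X ⊗ Y), Mono j ∧
      (∀ (W : 𝒮) (r : W ⟶ R) (y : W ⟶ Y),
        (∃ z : W ⟶ Z, z ≫ j = lift (r ≫ p₁) y) ↔ (∃ z : W ⟶ Z, z ≫ j = lift (r ≫ p₂) y)) ∧
      Epi (j ≫ snd X Y) ∧
      (∀ (W : 𝒮) (z₁ z₂ : W ⟶ Z), z₁ ≫ j ≫ snd X Y = z₂ ≫ j ≫ snd X Y →
        ∃ r : W ⟶ R, r ≫ p₁ = z₁ ≫ j ≫ fst X Y ∧ r ≫ p₂ = z₂ ≫ j ≫ fst X Y) ∧
      IsPullback (j ≫ fst X Y) (j ≫ snd X Y) e.π f := by
  have hπ : Epi e.π := (IsRegularEpi.getStruct e.π).epi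
  have hfac : ∀ {W : 𝒮} (x : W ⟶ X) (y : W ⟶ Y),
      (∃ z : W ⟶ pullback e.π f, z ≫ lift (pullback.fst e.π f) (pullback.snd e.π f) = lift x y) ↔
        x ≫ e.π = y ≫ f := by
    intro W x y
    constructor
    · rintro ⟨z, hz⟩
      have h1 := congrArg (· ≫ fst X Y) hz
      have h2 := congrArg (· ≫ snd X Y) hz
      simp only [Category.assoc, lift_fst, lift_snd] at h1 h2
      rw [← h1, ← h2, Category.assoc, Category.assoc, pullback.condition]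
    · intro h
      refine ⟨pullback.lift x y h, ?_⟩
      apply CartesianMonoidalCategory.hom_ext
      · rw [Category.assoc, lift_fst, lift_fst, pullback.lift_fst]
      · rw [Category.assoc, lift_snd, lift_snd, pullback.lift_snd]
  refine ⟨pullback e.π f, lift (pullback.fst e.π f) (pullback.snd e.π f), ?_, ?_, ?_, ?_, ?_⟩
  · refine ⟨fun {W} a b hab => ?_⟩
    have h1 := congrArg (· ≫ fst X Y) hab
    have h2 := congrArg (· ≫ snd X Y) hab
    simp only [Category.assoc, lift_fst, lift_snd] at h1 h2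
    exact pullback.hom_ext h1 h2
  · intro W r y
    rw [hfac, hfac, Category.assoc, Category.assoc, e.isKernelPair.w]
  · rw [lift_snd]
    exact hE.epi_pullback (IsPullback.of_hasPullback e.π f).flip hπ
  · intro W z₁ z₂ h
    simp only [lift_snd, lift_fst] at h ⊢
    have h1 : (z₁ ≫ pullback.fst e.π f) ≫ e.π = (z₂ ≫ pullback.fst e.π f) ≫ e.π := by
      rw [Category.assoc, Category.assoc, pullback.condition, ← Category.assoc, h, Category.assoc]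
    exact ⟨e.isKernelPair.lift _ _ h1, e.isKernelPair.lift_fst _ _ h1,
      e.isKernelPair.lift_snd _ _ h1⟩
  · rw [lift_fst, lift_snd]
    exact IsPullback.of_hasPullback e.π f

end Points

end Groth.Agent.Lib.Helper5.GrpQuot
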