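import Mathlib
import Groth.Prelude
import Groth.Agent.Lib.Helper7.LocFreePn
import Groth.Agent.Lib.Helper7.TwistH0
import Groth.Agent.Lib.Helper7.Mumford

/-!
# A nonzero map `O(b) ⟶ E` into a locally free module on `P^n_k` gives sections of `E(m)`, `b + m ≥ 0`
(helper5, sub-lemma B3 for helper11 / S11505)
-/

set_option autoImplicit false
universe u
open CategoryTheory CategoryTheory.Limits AlgebraicGeometry TopologicalSpace Opposite
open Scheme.Modules

namespace Groth.Agent.Lib.Helper5.H0OfHom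

open Groth.Agent.Lib.Helper3 Groth.Agent.Lib.Helper3.QCSec Groth.Agent.Lib.Helper3.InvGen
  Groth.Agent.Lib.Helper3.InvTensor Groth.Agent.Lib.Helper3.InvMonoidal
  Groth.Agent.Lib.Helper3.TwistBasic Groth.Agent.Lib.Helper3.TwistMul
  Groth.Agent.Lib.Helper7.TwFun Groth.Agent.Lib.Helper7.TwProj Groth.Agent.Lib.Helper7.RegRes
  Groth.Agent.Lib.Helper7.TorsFree Groth.Agent.Lib.Helper7.LocFreePn

/-- `H⁰(P^n_k, O(e)) ≠ 0` for `e ≥ 0` (any `n`). -/
theorem not_subsingleton_H0_twist (n : ℕ) (k : Type u) [Field k] (e : ℕ) :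
    ¬ Subsingleton (Coh.HH (CohB1.ProjSpace n k) (Twist.twistProjSpace n k (e : ℤ)) 0) := by
  intro h
  obtain ⟨φ⟩ := Groth.Agent.S0843.result k n e
  haveI := h
  haveI : Subsingleton ↥(MvPolynomial.homogeneousSubmodule (Fin (n + 1)) k e) :=
    φ.symm.toEquiv.subsingleton
  have hmem : (MvPolynomial.X 0 : MvPolynomial (Fin (n + 1)) k) ^ e ∈
      MvPolynomial.homogeneousSubmodule (Fin (n + 1)) k e := by
    have := (MvPolynomial.isHomogeneous_X k (0 : Fin (n + 1))).pow e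
    simpa using this
  have h0 := Subsingleton.elim
    (⟨_, hmem⟩ : ↥(MvPolynomial.homogeneousSubmodule (Fin (n + 1)) k e)) 0
  have h1 : (MvPolynomial.X 0 : MvPolynomial (Fin (n + 1)) k) ^ e = 0 :=
    congrArg Subtype.val h0
  exact pow_ne_zero e (MvPolynomial.X_ne_zero _) h1

/-- `E` locally free on `P^n_k`: a nonzero map `O(b) ⟶ E` with `0 ≤ b + m` gives `H⁰(E(m)) ≠ 0`. -/
theorem not_subsingleton_H0_of_hom (n : ℕ) (k : Type u) [Field k]
    (E : (CohB1.ProjSpace n k).Modules) (r : ℕ) (hE : FlatMod.IsFinLocFreeOfRank r E) (b m : ℤ)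
    (hbm : 0 ≤ b + m) (ρ : Twist.twistProjSpace n k b ⟶ E) (hρ : ρ ≠ 0) :
    ¬ Subsingleton (Coh.HH (CohB1.ProjSpace n k)
      (CohB1.tensorMod E (Twist.twistProjSpace n k m)) 0) := by
  intro hsub
  have hU := Groth.Agent.Lib.Helper7.Mumford.hU n k
  haveI hmono : Mono ρ := mono_of_ne_zero
    (isFinLocFreeOfRank_one_of_isInvertible' (isInvertible_twist hU b)) hE ρ hρ
  haveI := isEquivalence_twR (Twist.twistProjSpace n k m) (Twist.twistProjSpace n k (-m))
    (pairIso hU m)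
  haveI h1 : Mono (tensorMap ρ (𝟙 (Twist.twistProjSpace n k m))) :=
    inferInstanceAs (Mono ((twR (Twist.twistProjSpace n k m)).map ρ))
  have h2 : Subsingleton (Coh.HH (CohB1.ProjSpace n k)
      (CohB1.tensorMod (Twist.twistProjSpace n k b) (Twist.twistProjSpace n k m)) 0) :=
    Groth.Agent.Lib.Helper7.TwistH0.sub_H0_of_mono
      (tensorMap ρ (𝟙 (Twist.twistProjSpace n k m))) hsub
  obtain ⟨e, he⟩ := Int.eq_ofNat_of_zero_le hbm
  obtain ⟨β, -⟩ : ∃ β : CohB1.tensorMod (Twist.twistProjSpace n k b)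
      (Twist.twistProjSpace n k m) ≅ Twist.twistProjSpace n k (e : ℤ), True :=
    ⟨mulIso' hU b m (e : ℤ) he, trivial⟩
  have h3 : Subsingleton (Coh.HH (CohB1.ProjSpace n k) (Twist.twistProjSpace n k (e : ℤ)) 0) :=
    Groth.Agent.Lib.Helper7.TwistH0.sub_H0_of_mono β.inv h2
  exact not_subsingleton_H0_twist n k e h3

end Groth.Agent.Lib.Helper5.H0OfHom
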