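import Mathlib

/-!
# Morphisms `σ M ⟶ (Q L)⟦n⟧` in the derived category, for `L` K-injective (helper5)

For a cochain complex `L` in an abelian category, an object `M` and `a : M ⟶ Lⁿ` with `a ≫ d = 0`,
we define `cls a : σ M ⟶ (Q L)⟦n⟧`.  It is additive, natural in `M`, and for `L` K-injective every
morphism is such a class, and `cls a = 0` iff `a` is a coboundary.
-/

set_option autoImplicit false
universe w v u
open CategoryTheory CategoryTheory.Limits CochainComplex HomComplex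

noncomputable section
namespace Groth.Agent.Lib.Helper5.HDUCls

variable {A : Type u} [Category.{v} A] [Abelian A]
  (L : CochainComplex A ℤ) (n : ℤ)

/-- the chain map `M[0] ⟶ L⟦n⟧` of a closed map `M ⟶ Lⁿ`. -/
def chn {M : A} (a : M ⟶ L.X n) (ha : a ≫ L.d n (n + 1) = 0) :
    (CochainComplex.singleFunctor A 0).obj M ⟶ L⟦n⟧ :=
  Cocycle.equivHomShift.symm (Cocycle.fromSingleMk a (zero_add n) (n + 1) rfl ha)

lemma chn_add {M : A} (a b : M ⟶ L.X n) (ha : a ≫ L.d n (n + 1) = 0)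
    (hb : b ≫ L.d n (n + 1) = 0) :
    chn L n (a + b) (by rw [Preadditive.add_comp, ha, hb, add_zero]) =
      chn L n a ha + chn L n b hb := by
  unfold chn
  rw [Cocycle.fromSingleMk_add a b (zero_add n) (n + 1) rfl ha hb, map_add]

lemma chn_precomp {M M' : A} (g : M' ⟶ M) (a : M ⟶ L.X n) (ha : a ≫ L.d n (n + 1) = 0) :
    chn L n (g ≫ a) (by rw [Category.assoc, ha, comp_zero]) =
      (CochainComplex.singleFunctor A 0).map g ≫ chn L n a ha := by
  unfold chn
  rw [Cocycle.fromSingleMk_precomp g a (zero_add n) (n + 1) rfl ha,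
    Cocycle.equivHomShift_symm_precomp]

lemma chn_surjective {M : A} (φ : (CochainComplex.singleFunctor A 0).obj M ⟶ L⟦n⟧) :
    ∃ (a : M ⟶ L.X n) (ha : a ≫ L.d n (n + 1) = 0), chn L n a ha = φ := by
  obtain ⟨a, ha, h⟩ := Cocycle.fromSingleMk_surjective (Cocycle.equivHomShift φ) n (zero_add n)
    (n + 1) rfl
  refine ⟨a, ha, ?_⟩
  unfold chn
  rw [h, AddEquiv.symm_apply_apply]

lemma quotient_map_chn_eq_zero_iff {M : A} (a : M ⟶ L.X n) (ha : a ≫ L.d n (n + 1) = 0) :
    (HomotopyCategory.quotient A (ComplexShape.up ℤ)).map (chn L n a ha) = 0 ↔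
      ∃ b : M ⟶ L.X (n - 1), b ≫ L.d (n - 1) n = a := by
  rw [← Cocycle.fromSingleMk_mem_coboundaries_iff a (zero_add n) (n + 1) rfl ha (n - 1) (by omega),
    ← CohomologyClass.toHom_mk_eq_zero_iff, CohomologyClass.toHom_mk]
  rfl

variable [HasDerivedCategory.{w} A]

open DerivedCategory

/-- the class `σ M ⟶ (Q L)⟦n⟧` of a closed map `M ⟶ Lⁿ`. -/
def cls {M : A} (a : M ⟶ L.X n) (ha : a ≫ L.d n (n + 1) = 0) :
    (DerivedCategory.singleFunctor A 0).obj M ⟶ (Q.obj L)⟦n⟧ :=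
  (singleFunctorIsoCompQ A 0).hom.app M ≫ Q.map (chn L n a ha) ≫ (Q.commShiftIso n).hom.app L

lemma cls_add {M : A} (a b : M ⟶ L.X n) (ha : a ≫ L.d n (n + 1) = 0)
    (hb : b ≫ L.d n (n + 1) = 0) :
    cls L n (a + b) (by rw [Preadditive.add_comp, ha, hb, add_zero]) =
      cls L n a ha + cls L n b hb := by
  unfold cls
  rw [chn_add L n a b ha hb, Functor.map_add, Preadditive.add_comp, Preadditive.comp_add]

lemma cls_precomp {M M' : A} (g : M' ⟶ M) (a : M ⟶ L.X n) (ha : a ≫ L.d n (n + 1) = 0) :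
    cls L n (g ≫ a) (by rw [Category.assoc, ha, comp_zero]) =
      (DerivedCategory.singleFunctor A 0).map g ≫ cls L n a ha := by
  unfold cls
  rw [chn_precomp L n g a ha, Functor.map_comp]
  have h := (singleFunctorIsoCompQ A 0).hom.naturality g
  dsimp at h
  rw [← Category.assoc, ← Category.assoc, ← h]
  simp only [Category.assoc]

lemma Q_map_surjective {K₁ K₂ : CochainComplex A ℤ} [K₂.IsKInjective]
    (y : Q.obj K₁ ⟶ Q.obj K₂) : ∃ φ : K₁ ⟶ K₂, Q.map φ = y := by
  obtain ⟨g, hg⟩ := (CochainComplex.IsKInjective.Qh_map_bijective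
    ((HomotopyCategory.quotient _ _).obj K₁) K₂).surjective
    ((quotientCompQhIso A).hom.app K₁ ≫ y ≫ (quotientCompQhIso A).inv.app K₂)
  obtain ⟨φ, rfl⟩ := (HomotopyCategory.quotient _ _).map_surjective g
  refine ⟨φ, ?_⟩
  have h1 : (HomotopyCategory.quotient _ _ ⋙ Qh).map φ ≫ (quotientCompQhIso A).hom.app K₂ =
      (quotientCompQhIso A).hom.app K₁ ≫ Q.map φ := (quotientCompQhIso A).hom.naturality φ
  have h2 : (HomotopyCategory.quotient _ _ ⋙ Qh).map φ =
      (quotientCompQhIso A).hom.app K₁ ≫ y ≫ (quotientCompQhIso A).inv.app K₂ := hg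
  rw [← cancel_epi ((quotientCompQhIso A).hom.app K₁)]
  refine h1.symm.trans ?_
  rw [h2, Category.assoc, Category.assoc, Iso.inv_hom_id_app, Category.comp_id]

lemma Q_map_eq_zero_iff {K₁ K₂ : CochainComplex A ℤ} [K₂.IsKInjective] (φ : K₁ ⟶ K₂) :
    Q.map φ = 0 ↔ (HomotopyCategory.quotient A (ComplexShape.up ℤ)).map φ = 0 := by
  have h1 : (HomotopyCategory.quotient _ _ ⋙ Qh).map φ ≫ (quotientCompQhIso A).hom.app K₂ =
      (quotientCompQhIso A).hom.app K₁ ≫ Q.map φ := (quotientCompQhIso A).hom.naturality φ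
  constructor
  · intro h
    apply (CochainComplex.IsKInjective.Qh_map_bijective _ K₂).injective
    rw [Functor.map_zero]
    have h3 : (HomotopyCategory.quotient _ _ ⋙ Qh).map φ = 0 := by
      rw [← cancel_mono ((quotientCompQhIso A).hom.app K₂), h1, h, comp_zero, zero_comp]
    exact h3
  · intro h
    have h3 : (HomotopyCategory.quotient _ _ ⋙ Qh).map φ = 0 := by
      change Qh.map ((HomotopyCategory.quotient _ _).map φ) = 0
      rw [h, Functor.map_zero]
    rw [← cancel_epi ((quotientCompQhIso A).hom.app K₁), ← h1, h3, zero_comp, comp_zero]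

lemma cls_surjective [L.IsKInjective] {M : A}
    (x : (DerivedCategory.singleFunctor A 0).obj M ⟶ (Q.obj L)⟦n⟧) :
    ∃ (a : M ⟶ L.X n) (ha : a ≫ L.d n (n + 1) = 0), cls L n a ha = x := by
  obtain ⟨φ, hφ⟩ := Q_map_surjective (K₂ := L⟦n⟧)
    ((singleFunctorIsoCompQ A 0).inv.app M ≫ x ≫ (Q.commShiftIso n).inv.app L)
  obtain ⟨a, ha, rfl⟩ := chn_surjective L n φ
  refine ⟨a, ha, ?_⟩
  unfold cls
  rw [hφ]
  simp

lemma cls_eq_zero_iff [L.IsKInjective] {M : A} (a : M ⟶ L.X n)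
    (ha : a ≫ L.d n (n + 1) = 0) :
    cls L n a ha = 0 ↔ ∃ b : M ⟶ L.X (n - 1), b ≫ L.d (n - 1) n = a := by
  rw [← quotient_map_chn_eq_zero_iff L n a ha, ← Q_map_eq_zero_iff]
  unfold cls
  constructor
  · intro h
    have h2 := congrArg (fun t => (singleFunctorIsoCompQ A 0).inv.app M ≫ t ≫
      (Q.commShiftIso n).inv.app L) h
    simpa using h2
  · intro h
    rw [h, zero_comp, comp_zero]

end Groth.Agent.Lib.Helper5.HDUCls
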