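import Mathlib
import Groth.Prelude.Def_CohCx
import Groth.Prelude.Def_FreeSh
import Groth.Agent.Lib.Helper5.HDUCls

/-!
# Hypercohomology classes of cocycle sections of a K-injective complex of sheaves (helper5)

For a complex `L` of abelian sheaves on a site and an object `U`, the additive map `clsS` from the
group of `n`-cocycles of `L(U)` to `H^n(U, L) = Hom(σ ℤ_U, (Q L)⟦n⟧)`.  If `L` is K-injective it is
surjective with kernel the coboundaries.
-/

set_option autoImplicit false
universe w u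
open CategoryTheory CategoryTheory.Limits Opposite

noncomputable section
namespace Groth.Agent.Lib.Helper5.HDUSect

open Groth.Agent.Lib.Helper5.HDUCls DerivedCategory

/-- two surjections with the same kernel have isomorphic targets. -/
def equivOfKer {Zg H₁ H₂ : Type*} [AddCommGroup Zg] [AddCommGroup H₁] [AddCommGroup H₂]
    (c₁ : Zg →+ H₁) (c₂ : Zg →+ H₂) (h₁ : Function.Surjective c₁) (h₂ : Function.Surjective c₂)
    (hk : c₁.ker = c₂.ker) : H₁ ≃+ H₂ :=
  (QuotientAddGroup.quotientKerEquivOfSurjective c₁ h₁).symm.trans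
    ((QuotientAddGroup.quotientAddEquivOfEq hk).trans
      (QuotientAddGroup.quotientKerEquivOfSurjective c₂ h₂))

lemma equivOfKer_apply {Zg H₁ H₂ : Type*} [AddCommGroup Zg] [AddCommGroup H₁] [AddCommGroup H₂]
    (c₁ : Zg →+ H₁) (c₂ : Zg →+ H₂) (h₁ : Function.Surjective c₁) (h₂ : Function.Surjective c₂)
    (hk : c₁.ker = c₂.ker) (z : Zg) : equivOfKer c₁ c₂ h₁ h₂ hk (c₁ z) = c₂ z := by
  have h : (QuotientAddGroup.quotientKerEquivOfSurjective c₁ h₁).symm (c₁ z) =
      QuotientAddGroup.mk z := by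
    rw [AddEquiv.symm_apply_eq]
    rfl
  unfold equivOfKer
  rw [AddEquiv.trans_apply, h, AddEquiv.trans_apply]
  rfl

variable {C : Type u} [SmallCategory C] {J : GrothendieckTopology C}
  (L : CochainComplex (Sheaf J AddCommGrpCat.{u}) ℤ)

/-- the differential on sections. -/
abbrev dU (U : C) (i j : ℤ) : (L.X i).obj.obj (op U) →+ (L.X j).obj.obj (op U) :=
  ((L.d i j).hom.app (op U)).hom

/-- the cocycles. -/
abbrev Z (U : C) (n : ℤ) : AddSubgroup ((L.X n).obj.obj (op U)) := (dU L U n (n + 1)).ker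

lemma ofSect_comp_d (U : C) (i j : ℤ) (s : (L.X i).obj.obj (op U)) :
    CohFree.ofSect J U (L.X i) s ≫ L.d i j = CohFree.ofSect J U (L.X j) (dU L U i j s) := by
  apply (CohFree.homEquivSect J U _).injective
  rw [CohFree.homEquivSect_apply, CohFree.homEquivSect_apply, CohFree.evalGen_ofSect]
  change (dU L U i j) (CohFree.evalGen J U _ (CohFree.ofSect J U (L.X i) s)) = _
  rw [CohFree.evalGen_ofSect]

lemma ofSect_zero (U : C) (F : Sheaf J AddCommGrpCat.{u}) : CohFree.ofSect J U F 0 = 0 :=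
  (CohFree.homEquivSect J U F).symm.map_zero

lemma ofSect_add (U : C) (F : Sheaf J AddCommGrpCat.{u}) (s t : F.obj.obj (op U)) :
    CohFree.ofSect J U F (s + t) = CohFree.ofSect J U F s + CohFree.ofSect J U F t :=
  (CohFree.homEquivSect J U F).symm.map_add s t

lemma ofSect_comp_d_eq_zero (U : C) (n : ℤ) (s : Z L U n) :
    CohFree.ofSect J U (L.X n) s.1 ≫ L.d n (n + 1) = 0 := by
  rw [ofSect_comp_d, show dU L U n (n + 1) s.1 = 0 from s.2, ofSect_zero]

lemma freeSheafMap_ofSect {U V : C} (g : V ⟶ U) (F : Sheaf J AddCommGrpCat.{u})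
    (s : F.obj.obj (op U)) :
    CohCx.freeSheafMap J g ≫ CohFree.ofSect J U F s =
      CohFree.ofSect J V F ((F.obj.map g.op).hom s) := by
  apply (CohFree.homEquivSect J V _).injective
  rw [CohFree.homEquivSect_apply, CohFree.homEquivSect_apply, CohFree.evalGen_ofSect,
    CohFree.evalGen_freeSheafMap_comp, CohFree.evalGen_ofSect]

/-- restriction of cocycles. -/
def resZ {U V : C} (g : V ⟶ U) (n : ℤ) (s : Z L U n) : Z L V n :=
  ⟨((L.X n).obj.map g.op).hom s.1, by
    change dU L V n (n + 1) (((L.X n).obj.map g.op).hom s.1) = 0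
    have h := ConcreteCategory.congr_hom ((L.d n (n + 1)).hom.naturality g.op) s.1
    refine h.trans ?_
    change ((L.X (n + 1)).obj.map g.op).hom (dU L U n (n + 1) s.1) = 0
    rw [show dU L U n (n + 1) s.1 = 0 from s.2, map_zero]⟩

variable [HasDerivedCategory.{w} (Sheaf J AddCommGrpCat.{u})]

lemma cls_congr {M : Sheaf J AddCommGrpCat.{u}} (n : ℤ) (a a' : M ⟶ L.X n) (h : a = a')
    (ha : a ≫ L.d n (n + 1) = 0) (ha' : a' ≫ L.d n (n + 1) = 0) :
    cls L n a ha = cls L n a' ha' := by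
  subst h
  rfl

/-- the class of a cocycle. -/
def clsS (U : C) (n : ℤ) : Z L U n →+ CohCx.HDU (Q.obj L) n U :=
  AddMonoidHom.mk' (fun s => cls L n (CohFree.ofSect J U (L.X n) s.1) (ofSect_comp_d_eq_zero L U n s))
    (fun s t => by
      rw [← cls_add]
      exact cls_congr L n _ _ (ofSect_add U (L.X n) s.1 t.1) _ _)

lemma clsS_apply (U : C) (n : ℤ) (s : Z L U n) :
    clsS L U n s = cls L n (CohFree.ofSect J U (L.X n) s.1) (ofSect_comp_d_eq_zero L U n s) := rfl

lemma clsS_res {U V : C} (g : V ⟶ U) (n : ℤ) (s : Z L U n) :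
    clsS L V n (resZ L g n s) =
      (DerivedCategory.singleFunctor _ 0).map (CohCx.freeSheafMap J g) ≫ clsS L U n s := by
  rw [clsS_apply, clsS_apply, ← cls_precomp]
  exact cls_congr L n _ _ (freeSheafMap_ofSect g (L.X n) s.1).symm _ _

lemma clsS_surjective [L.IsKInjective] (U : C) (n : ℤ) : Function.Surjective (clsS L U n) := by
  intro x
  obtain ⟨a, ha, rfl⟩ := cls_surjective L n x
  have hs : dU L U n (n + 1) (CohFree.evalGen J U _ a) = 0 := by
    change CohFree.evalGen J U _ (a ≫ L.d n (n + 1)) = 0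
    rw [ha, map_zero]
  refine ⟨⟨CohFree.evalGen J U _ a, hs⟩, ?_⟩
  rw [clsS_apply]
  exact cls_congr L n _ _ (CohFree.ofSect_evalGen J U _ a) _ _

lemma clsS_eq_zero_iff [L.IsKInjective] (U : C) (n : ℤ) (s : Z L U n) :
    clsS L U n s = 0 ↔ ∃ t : (L.X (n - 1)).obj.obj (op U), dU L U (n - 1) n t = s.1 := by
  rw [clsS_apply, cls_eq_zero_iff]
  constructor
  · rintro ⟨b, hb⟩
    refine ⟨CohFree.evalGen J U _ b, ?_⟩
    change CohFree.evalGen J U _ (b ≫ L.d (n - 1) n) = _
    rw [hb, CohFree.evalGen_ofSect]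
  · rintro ⟨t, ht⟩
    refine ⟨CohFree.ofSect J U _ t, ?_⟩
    rw [ofSect_comp_d, ht]

end Groth.Agent.Lib.Helper5.HDUSect
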