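import Mathlib
import Groth.Agent.Lib.Helper9.HilbD12Defs

set_option autoImplicit false
universe u
open CategoryTheory CategoryTheory.Limits AlgebraicGeometry
open Groth.Agent.Lib.Helper9.HilbD12Defs

namespace Groth.Agent.Lib.Helper5.HilbD12Q2

variable {k : Type u} [Field k] {Hs : Scheme.{u}} (ϖ : Hs ⟶ Spec (CommRingCat.of k))
  (h₀ : Spec (CommRingCat.of k) ⟶ Hs)

theorem fromSpecStalk_comp :
    Hs.fromSpecStalk (h₀.base (IsLocalRing.closedPoint k)) ≫ ϖ = Spec.map (algRing ϖ h₀) := by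
  rw [← cancel_mono (Spec (CommRingCat.of k)).toSpecΓ, Category.assoc,
    Scheme.toSpecΓ_naturality, Scheme.fromSpecStalk_toSpecΓ_assoc, ← SpecMap_ΓSpecIso_hom,
    ← Spec.map_comp, ← Spec.map_comp]
  unfold algRing
  rw [Iso.hom_inv_id_assoc]

/-- Q2 -/
theorem gOf_comp {A : CommRingCat.{u}}
    (φ : Hs.presheaf.stalk (h₀.base (IsLocalRing.closedPoint k)) ⟶ A) :
    gOf h₀ φ ≫ ϖ = Spec.map (algRing ϖ h₀ ≫ φ) := by
  unfold gOf
  rw [Category.assoc, fromSpecStalk_comp, ← Spec.map_comp]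

end Groth.Agent.Lib.Helper5.HilbD12Q2
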