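import Mathlib
import Groth.Agent.Lib.Helper9.HilbD12Defs
import Groth.Agent.Lib.Helper5.HilbD12Q2

set_option autoImplicit false
universe u
open CategoryTheory CategoryTheory.Limits AlgebraicGeometry
open Groth.Agent.Lib.Helper9.HilbD12Defs

namespace Groth.Agent.Lib.Helper5.HilbD12Q1

variable {k : Type u} [Field k] {Hs : Scheme.{u}} (ϖ : Hs ⟶ Spec (CommRingCat.of k))
  (h₀ : Spec (CommRingCat.of k) ⟶ Hs)

/-- Q1 -/
theorem algRing_resRing (hϖ : h₀ ≫ ϖ = 𝟙 _) : algRing ϖ h₀ ≫ resRing h₀ = 𝟙 _ := by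
  apply Spec.map_injective
  rw [Spec.map_comp, Spec.map_id, ← Groth.Agent.Lib.Helper5.HilbD12Q2.fromSpecStalk_comp ϖ h₀,
    ← Category.assoc]
  have h := Scheme.Spec_stalkClosedPointTo_fromSpecStalk h₀
  unfold resRing
  rw [h, hϖ]

end Groth.Agent.Lib.Helper5.HilbD12Q1
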