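import Mathlib
import Groth.Agent.Lib.Helper5.TowerD
import Groth.Agent.Lib.Helper5.CoprodFilt
import Groth.Agent.Lib.Helper2.DCoprod
import Groth.Agent.Lib.Helper2.SeqColim
import Groth.Agent.Lib.Helper2.Leray
import Groth.Agent.Lib.Helper2.FreeSum
import Groth.Agent.Lib.Helper2.KInj.Main
import Groth.Agent.Lib.Helper13.KInjCompute
import Groth.Agent.Lib.Helper10.FinDimDerived

/-!
# The unit `F(K) ⟶ RF(K)` for complexes with `F`-acyclic terms, when `RF` commutes with countable
coproducts (helper5)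

`K` is the homotopy colimit of its brutal truncations `σ_{≥ -n} K`; for these the unit is an
isomorphism by Leray's acyclicity lemma, and `RF` commutes with the coproducts involved.
-/

set_option autoImplicit false
universe w w' w₁ v v' u u'
open CategoryTheory CategoryTheory.Limits

namespace Groth.Agent.Lib.Helper5.HocolimUnit

open Groth.Agent.Lib.Helper5.RestrictCx Groth.Agent.Lib.Helper5.TowerD
open Groth.Agent.Lib.Helper2
open Groth.Agent.Lib.Helper2.RDBridge
open Groth.Agent.Lib.Helper13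

/-! ## Cocones over `ℕ` with eventually invertible legs -/

section EvIso

variable {C : Type*} [Category C]

/-- a cocone over `ℕ` whose legs are eventually isomorphisms is a colimit cocone -/
noncomputable def isColimitOfEventuallyIso (G : ℕ ⥤ C) (c : Cocone G) (N : ℕ)
    (h : ∀ n, N ≤ n → IsIso (c.ι.app n)) : IsColimit c := by
  haveI := h N le_rfl
  refine
    { desc := fun s => inv (c.ι.app N) ≫ s.ι.app N
      fac := fun s j => ?_
      uniq := fun s m hm => ?_ }
  · rcases le_total j N with hj | hj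
    · rw [← c.w (homOfLE hj), ← s.w (homOfLE hj), Category.assoc, IsIso.hom_inv_id_assoc]
    · haveI := h j hj
      have h1 : G.map (homOfLE hj) ≫ c.ι.app j = c.ι.app N := c.w _
      have h2 : G.map (homOfLE hj) ≫ s.ι.app j = s.ι.app N := s.w _
      have e : inv (c.ι.app N) ≫ G.map (homOfLE hj) = inv (c.ι.app j) := by
        rw [← cancel_mono (c.ι.app j), Category.assoc, h1, IsIso.inv_hom_id, IsIso.inv_hom_id]
      rw [← h2, ← Category.assoc (inv (c.ι.app N)), e, IsIso.hom_inv_id_assoc]
  · rw [← hm N, IsIso.inv_hom_id_assoc]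

end EvIso

/-! ## The tower of brutal truncations -/

section Tower

variable {A : Type u} [Category.{v} A] [Abelian A] (K : CochainComplex A ℤ)

/-- `σ_{≥ -n} K` -/
noncomputable abbrev Ln (n : ℕ) : CochainComplex A ℤ := T K (-(n : ℤ))

/-- the transition maps -/
noncomputable def tn (n : ℕ) : Ln K n ⟶ Ln K (n + 1) :=
  rmap K (PGE (-(n : ℤ))) (PGE (-((n + 1 : ℕ) : ℤ))) (fun k h1 h2 => by pred_tac)

/-- the inclusions -/
noncomputable def jn (n : ℕ) : Ln K n ⟶ K := jT K (-(n : ℤ))

lemma jn_f (n : ℕ) (k : ℤ) : (jn K n).f k = rι K (PGE (-(n : ℤ))) k := jT_f K _ k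

lemma tn_jn (n : ℕ) : tn K n ≫ jn K (n + 1) = jn K n := by
  ext k
  rw [HomologicalComplex.comp_f, jn_f, jn_f]
  show (rι K (PGE (-(n : ℤ))) k ≫ rπ K (PGE (-((n + 1 : ℕ) : ℤ))) k) ≫
    rι K (PGE (-((n + 1 : ℕ) : ℤ))) k = _
  rw [Category.assoc, rπ_rι]
  by_cases h : PGE (-(n : ℤ)) k
  · rw [χ_pos K (PGE (-((n + 1 : ℕ) : ℤ))) (by pred_tac), Category.comp_id]
  · rw [rι_eq_zero K _ h, zero_comp]

lemma isIso_jn_f (n : ℕ) (k : ℤ) (h : -(n : ℤ) ≤ k) : IsIso ((jn K n).f k) := by
  rw [jn_f]
  exact ⟨⟨rπ K (PGE (-(n : ℤ))) k, rι_rπ K _ k,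
    (rπ_rι K _ k).trans (χ_pos K (PGE (-(n : ℤ))) h)⟩⟩

lemma isStrictlyGE_Ln (n : ℕ) : (Ln K n).IsStrictlyGE (-(n : ℤ)) := by
  rw [CochainComplex.isStrictlyGE_iff]
  intro k hk
  exact isZero_rX K _ (by simp only [PGE]; omega)

lemma Ln_X_cases (n : ℕ) (k : ℤ) :
    IsZero ((Ln K n).X k) ∨ Nonempty ((Ln K n).X k ≅ K.X k) := by
  by_cases h : PGE (-(n : ℤ)) k
  · exact Or.inr ⟨eqToIso (rX_pos K _ h)⟩
  · exact Or.inl (isZero_rX K _ h)

/-- the tower as a functor -/
noncomputable abbrev Fu : ℕ ⥤ CochainComplex A ℤ := Functor.ofSequence (tn K)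

/-- the cocone with point `K` -/
noncomputable def coc : Cocone (Fu K) where
  pt := K
  ι := NatTrans.ofSequence (fun n => jn K n) (fun n => by
    rw [Functor.ofSequence_map_homOfLE_succ]
    exact (tn_jn K n).trans (Category.comp_id _).symm)

/-- `K` is the colimit of its brutal truncations -/
noncomputable def isColimitCoc : IsColimit (coc K) :=
  HomologicalComplex.isColimitOfEval _ _ (fun k =>
    isColimitOfEventuallyIso _ _ (-k).toNat (fun n hn => by
      have h : -(n : ℤ) ≤ k := by omega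
      exact isIso_jn_f K n k h))

variable [HasColimitsOfShape ℕ A] [HasColimitsOfShape (Discrete ℕ) A]

/-- comparison with the chosen colimit -/
noncomputable def eK : colimit (Fu K) ≅ K :=
  (colimit.isColimit (Fu K)).coconePointUniqueUpToIso (isColimitCoc K)

lemma ι_eK (n : ℕ) : colimit.ι (Fu K) n ≫ (eK K).hom = jn K n :=
  IsColimit.comp_coconePointUniqueUpToIso_hom (colimit.isColimit (Fu K)) (isColimitCoc K) n

/-- `1 - shift` -/
noncomputable def phi : (∐ (Fu K).obj) ⟶ ∐ (Fu K).obj := 𝟙 _ - SeqColim.fShift (Fu K)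

/-- the canonical map to `K` -/
noncomputable def gK : (∐ (Fu K).obj) ⟶ K := Sigma.desc (fun n => jn K n)

lemma desc_eK : Sigma.desc (fun n => colimit.ι (Fu K) n) ≫ (eK K).hom = gK K := by
  apply Sigma.hom_ext
  intro n
  rw [← Category.assoc, Sigma.ι_desc]
  exact (ι_eK K n).trans (Sigma.ι_desc _ _).symm

lemma phi_gK : phi K ≫ gK K = 0 := by
  rw [← desc_eK, ← Category.assoc]
  unfold phi
  rw [SeqColim.one_sub_shiftMap_comp_desc, zero_comp]

lemma ι_gK (n : ℕ) : Sigma.ι (Fu K).obj n ≫ gK K = jn K n := Sigma.ι_desc _ _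

variable [HasExactColimitsOfShape ℕ A]

theorem shortExact_K : (ShortComplex.mk (phi K) (gK K) (phi_gK K)).ShortExact := by
  refine ShortComplex.shortExact_of_iso ?_ (SeqColim.shortExact (Fu K))
  exact ShortComplex.isoMk (Iso.refl _) (Iso.refl _) (eK K)
    ((Category.id_comp _).trans (Category.comp_id _).symm)
    ((Category.id_comp _).trans (desc_eK K).symm)

end Tower

/-! ## Additive functors commuting with filtered colimits commute with countable coproducts -/

section Coprod

variable {A : Type u} [Category.{v} A] [Abelian A]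

theorem preservesCoprodNat (G : A ⥤ AddCommGrpCat.{v}) [G.Additive]
    [HasColimitsOfShape (Discrete ℕ) A] [HasColimitsOfShape (Finset (Discrete ℕ)) A]
    (h : ∀ (J : Type v) [SmallCategory J] [IsFiltered J], PreservesColimitsOfShape J G) :
    PreservesColimitsOfShape (Discrete ℕ) G := by
  classical
  haveI : IsFiltered (AsSmall.{v} (Finset (Discrete ℕ))) :=
    IsFiltered.of_equivalence
      (AsSmall.equiv : Finset (Discrete ℕ) ≌ AsSmall.{v} (Finset (Discrete ℕ)))
  haveI := h (AsSmall.{v} (Finset (Discrete ℕ)))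
  haveI : PreservesColimitsOfShape (Finset (Discrete ℕ)) G :=
    preservesColimitsOfShape_of_equiv
      (AsSmall.equiv : Finset (Discrete ℕ) ≌ AsSmall.{v} (Finset (Discrete ℕ))).symm G
  exact CoprodFilt.preservesColimitsOfShape_discrete (α := ℕ) G

end Coprod

/-! ## `Q` commutes with coproducts (universe-polymorphic copy of helper2's `DCoprod`) -/

section QCoprod

variable {A : Type u} [Category.{v} A] [Abelian A] [HasDerivedCategory.{w} A]
  {J : Type w₁} [HasColimitsOfShape (Discrete J) A] [HasExactColimitsOfShape (Discrete J) A]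

open DerivedCategory Groth.Agent.Lib.Helper2.DCoprod

lemma exists_desc' (K : J → CochainComplex A ℤ) (L : CochainComplex A ℤ)
    (g : ∀ j, Q.obj (K j) ⟶ Q.obj L) :
    ∃ d : Q.obj (∐ K) ⟶ Q.obj L, ∀ j, Q.map (Limits.Sigma.ι K j) ≫ d = g j := by
  have ex := fun j => right_fac (g j)
  choose K' s hs f hg using ex
  haveI : ∀ j, QuasiIso (s j) := fun j => (isIso_Q_map_iff_quasiIso _ (s j)).1 (hs j)
  haveI : IsIso (Q.map (Limits.Sigma.map s)) := by
    rw [isIso_Q_map_iff_quasiIso]; infer_instance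
  refine ⟨inv (Q.map (Limits.Sigma.map s)) ≫ Q.map (Limits.Sigma.desc f), fun j => ?_⟩
  haveI := hs j
  rw [hg j, ← cancel_epi (Q.map (s j)), IsIso.hom_inv_id_assoc]
  have e1 : Q.map (s j) ≫ Q.map (Limits.Sigma.ι K j) =
      Q.map (Limits.Sigma.ι K' j) ≫ Q.map (Limits.Sigma.map s) := by
    rw [← Q.map_comp, ← Q.map_comp, Limits.Sigma.ι_map]
  rw [reassoc_of% e1, IsIso.hom_inv_id_assoc, ← Q.map_comp, Limits.Sigma.ι_desc]

lemma eq_zero_of_comp_ι' (K : J → CochainComplex A ℤ) (L : CochainComplex A ℤ)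
    (d : Q.obj (∐ K) ⟶ Q.obj L) (h : ∀ j, Q.map (Limits.Sigma.ι K j) ≫ d = 0) : d = 0 := by
  obtain ⟨L', g, t, ht, rfl⟩ := left_fac d
  haveI := ht
  have hg : ∀ j, Q.map (Limits.Sigma.ι K j ≫ g) = 0 := fun j => by
    have := h j =≫ Q.map t
    simpa using this
  have ex := fun j => exists_quasiIso_comp_homotopy_zero _ (hg j)
  choose K'' u hu hH using ex
  haveI : ∀ j, QuasiIso (u j) := hu
  have hUg : Nonempty (Homotopy (Limits.Sigma.map u ≫ g) 0) := by
    apply homotopy_zero_of_sigma
    intro j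
    obtain ⟨H⟩ := hH j
    exact ⟨(Homotopy.ofEq (by rw [Limits.Sigma.ι_map_assoc])).trans H⟩
  obtain ⟨H⟩ := hUg
  have h0 : Q.map (Limits.Sigma.map u) ≫ Q.map g = 0 := by
    rw [← Q.map_comp, Q_map_eq_of_homotopy _ H, Q.map_zero]
  haveI : IsIso (Q.map (Limits.Sigma.map u)) := by
    rw [isIso_Q_map_iff_quasiIso]; infer_instance
  have : Q.map g = 0 := by rw [← cancel_epi (Q.map (Limits.Sigma.map u)), h0, comp_zero]
  rw [this, zero_comp]

/-- `Q` sends the coproduct of a family of cochain complexes to a coproduct in `D(A)`. -/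
noncomputable def isColimitCofanQ' (K : J → CochainComplex A ℤ) :
    IsColimit (Cofan.mk (Q.obj (∐ K)) (fun j => Q.map (Limits.Sigma.ι K j))) :=
  mkCofanColimit _
    (fun s => (exists_desc' K (Q.objPreimage s.pt)
      (fun j => s.inj j ≫ (Q.objObjPreimageIso s.pt).inv)).choose ≫ (Q.objObjPreimageIso s.pt).hom)
    (fun s j => by
      have := (exists_desc' K (Q.objPreimage s.pt)
        (fun j => s.inj j ≫ (Q.objObjPreimageIso s.pt).inv)).choose_spec j
      dsimp only [Cofan.mk_pt, Cofan.mk_ι_app, Cofan.inj] at this ⊢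
      rw [reassoc_of% this, Iso.inv_hom_id, Category.comp_id])
    (fun s m hm => by
      have spec := (exists_desc' K (Q.objPreimage s.pt)
        (fun j => s.inj j ≫ (Q.objObjPreimageIso s.pt).inv)).choose_spec
      rw [← cancel_mono (Q.objObjPreimageIso s.pt).inv, Category.assoc, Iso.hom_inv_id,
        Category.comp_id, ← sub_eq_zero]
      apply eq_zero_of_comp_ι' K (Q.objPreimage s.pt)
      intro j
      rw [Preadditive.comp_sub, spec j, sub_eq_zero]
      have := hm j
      dsimp only [Cofan.mk_pt, Cofan.mk_ι_app, Cofan.inj] at this ⊢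
      rw [← this, Category.assoc])

instance preservesColimit_Q' (L : J → CochainComplex A ℤ) :
    PreservesColimit (Discrete.functor L) (Q (C := A)) :=
  preservesColimit_of_preserves_colimit_cocone (coproductIsCoproduct L)
    ((isColimitMapCoconeCofanMkEquiv _ _ _).symm (isColimitCofanQ' L))

end QCoprod

/-! ## The unit on a coproduct -/

section CoprodUnit

variable {A : Type u} [Category.{v} A] [Abelian A] [HasDerivedCategory.{w} A]
  {B : Type u'} [Category.{v'} B] [Abelian B] [HasDerivedCategory.{w'} B]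
  (F : A ⥤ B) [F.Additive]
  [(KInjCompute.Fh F).HasRightDerivedFunctor (HomotopyCategory.quasiIso A (ComplexShape.up ℤ))]
  {J : Type w₁} [HasColimitsOfShape (Discrete J) A] [HasExactColimitsOfShape (Discrete J) A]
  [HasColimitsOfShape (Discrete J) B] [HasExactColimitsOfShape (Discrete J) B]
  [PreservesColimitsOfShape (Discrete J) F]
  [PreservesColimitsOfShape (Discrete J) (KInjCompute.RF F)]

open DerivedCategory

theorem isIso_u_sigma (L : J → CochainComplex A ℤ) (h : ∀ j, IsIso (KInjCompute.u F (L j))) :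
    IsIso (KInjCompute.u F (∐ L)) := by
  have h1 : IsColimit (Cofan.mk ((KInjCompute.RF F).obj (Q.obj (∐ L)))
      (fun j => (KInjCompute.RF F).map (Q.map (Sigma.ι L j)))) :=
    isColimitMapCoconeCofanMkEquiv _ _ _
      (isColimitOfPreserves (KInjCompute.RF F) (isColimitCofanQ' L))
  have hF' : IsColimit (Cofan.mk ((F.mapHomologicalComplex (ComplexShape.up ℤ)).obj (∐ L))
      (fun j => (F.mapHomologicalComplex (ComplexShape.up ℤ)).map (Sigma.ι L j))) :=
    isColimitMapCoconeCofanMkEquiv _ _ _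
      (isColimitOfPreserves (F.mapHomologicalComplex (ComplexShape.up ℤ))
        (coproductIsCoproduct L))
  have h2 : IsColimit (Cofan.mk
      (Q.obj ((F.mapHomologicalComplex (ComplexShape.up ℤ)).obj (∐ L)))
      (fun j => Q.map ((F.mapHomologicalComplex (ComplexShape.up ℤ)).map (Sigma.ι L j)))) :=
    isColimitMapCoconeCofanMkEquiv _ _ _ (isColimitOfPreserves Q hF')
  haveI := h
  obtain ⟨β, hβ⟩ : ∃ β : (KInjCompute.RF F).obj (Q.obj (∐ L)) ⟶
      Q.obj ((F.mapHomologicalComplex (ComplexShape.up ℤ)).obj (∐ L)),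
      ∀ j, (KInjCompute.RF F).map (Q.map (Sigma.ι L j)) ≫ β = inv (KInjCompute.u F (L j)) ≫
        Q.map ((F.mapHomologicalComplex (ComplexShape.up ℤ)).map (Sigma.ι L j)) :=
    ⟨Cofan.IsColimit.desc h1 (fun j => inv (KInjCompute.u F (L j)) ≫
      Q.map ((F.mapHomologicalComplex (ComplexShape.up ℤ)).map (Sigma.ι L j))),
      fun j => Cofan.IsColimit.fac h1 _ j⟩
  refine ⟨⟨β, ?_, ?_⟩⟩
  · apply Cofan.IsColimit.hom_ext h2
    intro j
    show Q.map ((F.mapHomologicalComplex (ComplexShape.up ℤ)).map (Sigma.ι L j)) ≫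
      KInjCompute.u F (∐ L) ≫ β =
      Q.map ((F.mapHomologicalComplex (ComplexShape.up ℤ)).map (Sigma.ι L j)) ≫ 𝟙 _
    rw [← Category.assoc, KInjCompute.u_naturality F (Sigma.ι L j), Category.assoc, hβ j,
      IsIso.hom_inv_id_assoc, Category.comp_id]
  · apply Cofan.IsColimit.hom_ext h1
    intro j
    show (KInjCompute.RF F).map (Q.map (Sigma.ι L j)) ≫ β ≫ KInjCompute.u F (∐ L) =
      (KInjCompute.RF F).map (Q.map (Sigma.ι L j)) ≫ 𝟙 _
    rw [← Category.assoc, hβ j, Category.assoc, KInjCompute.u_naturality F (Sigma.ι L j),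
      IsIso.inv_hom_id_assoc, Category.comp_id]

end CoprodUnit

/-! ## Leray's lemma for the unbounded derived functor -/

section LerayU

variable {A : Type u} [Category.{v} A] [Abelian A] [HasDerivedCategory.{w} A] [EnoughInjectives A]
  {B : Type u'} [Category.{v'} B] [Abelian B] [HasDerivedCategory.{w'} B]
  (F : A ⥤ B) [F.Additive] [PreservesFiniteLimits F]

open Groth.Agent.Lib.Helper2.Leray

theorem exists_resolution_map_quasiIso (K : CochainComplex A ℤ) (a : ℤ) [K.IsStrictlyGE a]
    (hK : ∀ m, RAcyc F (K.X m)) :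
    ∃ (L : CochainComplex A ℤ) (i : K ⟶ L), QuasiIso i ∧ L.IsKInjective ∧
      QuasiIso ((F.mapHomologicalComplex (ComplexShape.up ℤ)).map i) := by
  obtain ⟨L, i, hi, hi', hL, hLge⟩ :=
    CochainComplex.Plus.modelCategoryQuillen.exists_mono_quasiIso_injective K (a - 1) a
      (by omega)
  let S : ShortComplex (CochainComplex A ℤ) :=
    ShortComplex.mk i (cokernel.π i) (cokernel.condition i)
  have hS : S.ShortExact :=
    { exact := ShortComplex.exact_cokernel i
      mono_f := hi
      epi_g := inferInstanceAs (Epi (cokernel.π i)) }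
  have hSn : ∀ n, (S.map (HomologicalComplex.eval A (ComplexShape.up ℤ) n)).ShortExact :=
    fun n => hS.map_of_exact _
  have hterms : ∀ n, RAcyc F (S.X₃.X n) := fun n =>
    racyc_X₃ F _ (hSn n) (hK n) (haveI := hL n; racyc_of_injective F (L.X n))
  let S' := S.map (F.mapHomologicalComplex (ComplexShape.up ℤ))
  have hS' : S'.ShortExact := by
    apply HomologicalComplex.shortExact_of_degreewise_shortExact
    intro n
    exact shortExact_map_of_isZero F _ (hSn n) (hK n 1 (by omega))
  have hMacyc : S.X₃.Acyclic := hS.acyclic_X₃ hi'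
  haveI : S.X₃.IsStrictlyGE (a - 1) := by
    rw [CochainComplex.isStrictlyGE_iff]
    intro n hn
    have hepi : Epi (S.map (HomologicalComplex.eval A (ComplexShape.up ℤ) n)).g := (hSn n).epi_g
    exact @IsZero.of_epi _ _ _ _ _ (S.map (HomologicalComplex.eval A (ComplexShape.up ℤ) n)).g
      hepi (CochainComplex.isZero_of_isStrictlyGE L (a - 1) n hn)
  have hFM := map_acyclic F S.X₃ (a - 1) hMacyc hterms
  have hFi : QuasiIso ((F.mapHomologicalComplex (ComplexShape.up ℤ)).map i) :=
    quasiIso_f_of_acyclic hS' hFM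
  haveI := hL
  haveI := hLge
  exact ⟨L, i, hi', CochainComplex.isKInjective_of_injective L (a - 1), hFi⟩

variable [(KInjCompute.Fh F).HasRightDerivedFunctor
  (HomotopyCategory.quasiIso A (ComplexShape.up ℤ))]

theorem isIso_u_of_isStrictlyGE (hKI : KInjCompute.HasKInj A) (K : CochainComplex A ℤ) (a : ℤ)
    [K.IsStrictlyGE a] (hK : ∀ m, RAcyc F (K.X m)) : IsIso (KInjCompute.u F K) := by
  obtain ⟨L, i, hi, hLK, hFi⟩ := exists_resolution_map_quasiIso F K a hK
  have nat := KInjCompute.u_naturality F i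
  haveI : IsIso (DerivedCategory.Q.map i) := (DerivedCategory.isIso_Q_map_iff_quasiIso _ i).2 hi
  haveI : IsIso (DerivedCategory.Q.map ((F.mapHomologicalComplex (ComplexShape.up ℤ)).map i)) :=
    (DerivedCategory.isIso_Q_map_iff_quasiIso _ _).2 hFi
  haveI := KInjCompute.isIso_u F hKI L hLK
  haveI : IsIso (KInjCompute.u F K ≫ (KInjCompute.RF F).map (DerivedCategory.Q.map i)) := by
    rw [← nat]; infer_instance
  exact IsIso.of_isIso_comp_right _ ((KInjCompute.RF F).map (DerivedCategory.Q.map i))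

end LerayU

/-! ## `F` preserves acyclicity of complexes with `F`-acyclic terms -/

section Hexact

variable {A : Type u} [Category.{v} A] [Abelian A] [IsGrothendieckAbelian.{v} A]
  [HasDerivedCategory.{w} A] [HasDerivedCategory.{w'} AddCommGrpCat.{v}]
  (F : A ⥤ AddCommGrpCat.{v}) [F.Additive] [PreservesFiniteLimits F]

theorem shortExact_map_K [HasExactColimitsOfShape ℕ A] (K : CochainComplex A ℤ) :
    ((ShortComplex.mk (phi K) (gK K) (phi_gK K)).map
      (F.mapHomologicalComplex (ComplexShape.up ℤ))).ShortExact := by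
  apply HomologicalComplex.shortExact_of_degreewise_shortExact
  intro k
  have hk : ((ShortComplex.mk (phi K) (gK K) (phi_gK K)).map
      (HomologicalComplex.eval A (ComplexShape.up ℤ) k)).ShortExact :=
    (shortExact_K K).map_of_exact _
  refine shortExact_map_of_epi F _ hk ?_
  show Epi (F.map ((gK K).f k))
  have h2 : (Sigma.ι (Fu K).obj (-k).toNat).f k ≫ (gK K).f k = (jn K (-k).toNat).f k := by
    rw [← HomologicalComplex.comp_f, ι_gK]
  have hiso : IsIso ((jn K (-k).toNat).f k) := isIso_jn_f K _ k (by omega)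
  have hepi : Epi (F.map ((Sigma.ι (Fu K).obj (-k).toNat).f k) ≫ F.map ((gK K).f k)) := by
    rw [← F.map_comp, h2]
    haveI := hiso
    have h5 : IsIso (F.map ((jn K (-k).toNat).f k)) := Functor.map_isIso F _
    exact @IsIso.epi_of_iso _ _ _ _ _ h5
  exact epi_of_epi (F.map ((Sigma.ι (Fu K).obj (-k).toNat).f k)) _

variable [(KInjCompute.Fh F).HasRightDerivedFunctor
    (HomotopyCategory.quasiIso A (ComplexShape.up ℤ))]
  [PreservesColimitsOfShape (Discrete ℕ) F]
  [PreservesColimitsOfShape (Discrete ℕ) (KInjCompute.RF F)]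

theorem hexact (hKI : KInjCompute.HasKInj A) (K : CochainComplex A ℤ)
    (hK : ∀ m, RAcyc F (K.X m)) (hac : ∀ m, K.ExactAt m) (m : ℤ) :
    ((F.mapHomologicalComplex (ComplexShape.up ℤ)).obj K).ExactAt m := by
  haveI : HasExactColimitsOfShape ℕ A := FreeSum.hasExactColimitsOfShape_nat
  have hq : QuasiIso (phi K) := Leray.quasiIso_f_of_acyclic (shortExact_K K) hac
  haveI hu : ∀ n, IsIso (KInjCompute.u F ((Fu K).obj n)) := fun n => by
    haveI : ((Fu K).obj n).IsStrictlyGE (-(n : ℤ)) := isStrictlyGE_Ln K n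
    refine isIso_u_of_isStrictlyGE F hKI ((Fu K).obj n) (-(n : ℤ)) (fun k => ?_)
    rcases Ln_X_cases K n k with h | ⟨⟨i⟩⟩
    · exact racyc_of_isZero F _ h
    · exact fun q hq => IsZero.of_iso (hK k q hq) ((F.rightDerived q).mapIso i)
  haveI huS : IsIso (KInjCompute.u F (∐ (Fu K).obj)) := isIso_u_sigma F (Fu K).obj hu
  have nat := KInjCompute.u_naturality F (phi K)
  haveI : IsIso (DerivedCategory.Q.map (phi K)) :=
    (DerivedCategory.isIso_Q_map_iff_quasiIso _ _).2 hq
  haveI h3 : IsIso (DerivedCategory.Q.map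
      ((F.mapHomologicalComplex (ComplexShape.up ℤ)).map (phi K)) ≫
      KInjCompute.u F (∐ (Fu K).obj)) := by
    rw [nat]; infer_instance
  haveI : IsIso (DerivedCategory.Q.map
      ((F.mapHomologicalComplex (ComplexShape.up ℤ)).map (phi K))) :=
    IsIso.of_isIso_comp_right _ (KInjCompute.u F (∐ (Fu K).obj))
  have hq' : QuasiIso ((F.mapHomologicalComplex (ComplexShape.up ℤ)).map (phi K)) :=
    (DerivedCategory.isIso_Q_map_iff_quasiIso _ _).1 inferInstance
  exact (shortExact_map_K F K).acyclic_X₃ hq' m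

end Hexact

/-! ## Main theorem -/

section Main

theorem main
    {A : Type u} [Category.{v} A] [Abelian A] [IsGrothendieckAbelian.{v} A]
    [HasDerivedCategory.{w} A] [HasDerivedCategory.{w'} AddCommGrpCat.{v}]
    (F : A ⥤ AddCommGrpCat.{v}) [F.Additive] [PreservesFiniteLimits F]
    (hcolim : ∀ (n : ℕ) (J : Type v) [SmallCategory J] [IsFiltered J],
      PreservesColimitsOfShape J (F.rightDerived n))
    [(F.mapHomotopyCategory (ComplexShape.up ℤ) ⋙ DerivedCategory.Qh).HasRightDerivedFunctor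
      (HomotopyCategory.quasiIso A (ComplexShape.up ℤ))]
    [PreservesColimitsOfShape (Discrete ℕ)
      ((F.mapHomotopyCategory (ComplexShape.up ℤ) ⋙ DerivedCategory.Qh).totalRightDerived
        DerivedCategory.Qh (HomotopyCategory.quasiIso A (ComplexShape.up ℤ)))]
    (K : CochainComplex A ℤ)
    (hK : ∀ (m : ℤ) (i : ℕ), 0 < i → IsZero ((F.rightDerived i).obj (K.X m))) :
    IsIso (((F.mapHomotopyCategory (ComplexShape.up ℤ) ⋙
      DerivedCategory.Qh).totalRightDerivedUnit DerivedCategory.Qh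
      (HomotopyCategory.quasiIso A (ComplexShape.up ℤ))).app
        ((HomotopyCategory.quotient A (ComplexShape.up ℤ)).obj K)) := by
  have hKI : KInjCompute.HasKInj A := fun K => by
    obtain ⟨I, f, h1, h2, -, -⟩ := KInj.exists_kInjective_resolution K
    exact ⟨I, f, h1, h2⟩
  have hF : ∀ (J : Type v) [SmallCategory J] [IsFiltered J], PreservesColimitsOfShape J F :=
    fun J _ _ => by
      haveI := hcolim 0 J
      exact preservesColimitsOfShape_of_natIso F.rightDerivedZeroIsoSelf
  haveI : PreservesColimitsOfShape (Discrete ℕ) F := preservesCoprodNat F hF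
  haveI : H10FD.PGood (H10FD.Pac F) :=
    ⟨H10FD.pac_of_isZero F, fun e h => H10FD.pac_of_iso F e h,
      fun hX hY => H10FD.pac_biprod F hX hY, fun X => by
        obtain ⟨I, f, -, h2, -, h4⟩ := KInj.exists_kInjective_resolution X
        exact ⟨I, f, h2, fun k => haveI := h4 k; H10FD.pac_of_injective F (I.X k)⟩⟩
  exact H10FD.isIso_unit (H10FD.Pac F) F
    (fun K hK hac m => hexact F hKI K (fun m => hK m) hac m) K (fun m i hi => hK m i hi)

end Main

end Groth.Agent.Lib.Helper5.HocolimUnit
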