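import Groth.Agent.Lib.Helper5.DepthHpull
import Groth.Agent.Lib.Helper15.GammaSupp
import Groth.Agent.Lib.Helper2.GSS.HomFunctor

/-!
# Helper5: `Hom(ℤ_X / j_! ℤ_U, -) ≅ Γ_Y(X, -)` and `Ext^p(ℤ_X / j_! ℤ_U, F) ≅ H^p_Y(X, F)`
-/

set_option autoImplicit false
universe u
open CategoryTheory CategoryTheory.Limits AlgebraicGeometry Opposite EtCore

namespace Groth.Agent.Lib.Helper5.HomQGamma

open Groth.Agent.Lib.Helper2.EtMV Groth.Agent.Lib.Helper5.DepthHpull
open Groth.Agent.Lib.Helper15.GammaSupp Groth.Agent.Lib.Helper2.GSS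
open Groth.Agent.Lib.Helper13.DerivedCommute

set_option backward.isDefEq.respectTransparency.types false

variable {U X : Scheme.{u}}

/-- `Hom(ℤ_X, G) ≃ G(X)`. -/
noncomputable def σ (G : EtCoh.Ab X) :
    (EtCoh.const X ℤ ⟶ G) ≃+ G.obj.obj (op (EtCoh.top X)) :=
  ((constAdj X).homAddEquiv _ G).trans (AddCommGrpCat.uliftZMultiplesAddEquiv _)

lemma σ_apply (G : EtCoh.Ab X) (φ : EtCoh.const X ℤ ⟶ G) :
    σ G φ = ((constAdj X).homEquiv _ G φ).hom (ULift.up 1) := rfl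

lemma σ_naturality {G G' : EtCoh.Ab X} (φ : EtCoh.const X ℤ ⟶ G) (α : G ⟶ G') :
    σ G' (φ ≫ α) = α.hom.app (op (EtCoh.top X)) (σ G φ) := by
  rw [σ_apply, Adjunction.homEquiv_naturality_right]
  rfl

variable (j : U ⟶ X) [IsOpenImmersion j]

lemma aMap_comp_eq_zero_iff (G : EtCoh.Ab X) (φ : EtCoh.const X ℤ ⟶ G) :
    aMap j ≫ φ = 0 ↔ (EtDual.unitApp j G).hom.app (op (EtCoh.top X)) (σ G φ) = 0 := by
  haveI : (EtShriek.extZero j).Additive := (adjJ j).left_adjoint_additive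
  have h1 : aMap j ≫ φ = 0 ↔ (adjJ j).homEquiv _ _ (aMap j ≫ φ) = 0 := by
    constructor
    · intro h
      rw [h]
      exact ((adjJ j).homAddEquiv _ _).map_zero
    · intro h
      exact ((adjJ j).homAddEquiv _ _).map_eq_zero_iff.1 h
  have h2 : (adjJ j).homEquiv _ _ (aMap j ≫ φ) = (pullConst j ℤ).inv ≫ (EtCoh.pull j).map φ := by
    rw [Adjunction.homEquiv_naturality_right, homEquiv_aMap]
  have h3 : (pullConst j ℤ).inv ≫ (EtCoh.pull j).map φ = 0 ↔ (EtCoh.pull j).map φ = 0 :=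
    Preadditive.IsIso.comp_left_eq_zero _ _
  have h4 : (EtCoh.pull j).map φ = 0 ↔
      (EtCoh.pullPushAdj j).homEquiv _ _ ((EtCoh.pull j).map φ) = 0 := by
    constructor
    · intro h
      rw [h]
      exact ((EtCoh.pullPushAdj j).homAddEquiv _ _).map_zero
    · intro h
      exact ((EtCoh.pullPushAdj j).homAddEquiv _ _).map_eq_zero_iff.1 h
  have h5 : (EtCoh.pullPushAdj j).homEquiv _ _ ((EtCoh.pull j).map φ) =
      φ ≫ EtDual.unitApp j G := by
    rw [Adjunction.homEquiv_unit]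
    exact ((EtCoh.pullPushAdj j).unit.naturality φ).symm
  have h6 : φ ≫ EtDual.unitApp j G = 0 ↔ σ _ (φ ≫ EtDual.unitApp j G) = 0 :=
    (σ _).map_eq_zero_iff.symm
  rw [h1, h2, h3, h4, h5, h6, σ_naturality]

lemma mem_ker_σ (G : EtCoh.Ab X) (ψ : Q j ⟶ G) :
    σ G (cokernel.π (aMap j) ≫ ψ) ∈ (G.obj.map (rho j).op).hom.ker := by
  rw [AddMonoidHom.mem_ker]
  refine (Groth.Agent.Lib.Helper15.GammaSupp.unit_app_eq_zero_iff j G _).1 ?_
  refine (aMap_comp_eq_zero_iff j G _).1 ?_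
  rw [← Category.assoc, cokernel.condition, zero_comp]

/-- the comparison `Hom(Q, G) → ker (G(X) → G(U))`. -/
noncomputable def toKer (G : EtCoh.Ab X) : (Q j ⟶ G) →+ (G.obj.map (rho j).op).hom.ker where
  toFun ψ := ⟨σ G (cokernel.π (aMap j) ≫ ψ), mem_ker_σ j G ψ⟩
  map_zero' := by
    apply Subtype.ext
    change σ G (cokernel.π (aMap j) ≫ 0) = 0
    rw [comp_zero, map_zero]
  map_add' ψ ψ' := by
    apply Subtype.ext
    change σ G (cokernel.π (aMap j) ≫ (ψ + ψ')) =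
      σ G (cokernel.π (aMap j) ≫ ψ) + σ G (cokernel.π (aMap j) ≫ ψ')
    rw [Preadditive.comp_add, map_add]

lemma toKer_bijective (G : EtCoh.Ab X) : Function.Bijective (toKer j G) := by
  constructor
  · intro ψ ψ' h
    have h1 : σ G (cokernel.π (aMap j) ≫ ψ) = σ G (cokernel.π (aMap j) ≫ ψ') :=
      congrArg Subtype.val h
    have h2 := (σ G).injective h1
    exact (cancel_epi (cokernel.π (aMap j))).1 h2
  · rintro ⟨s, hs⟩
    obtain ⟨φ, rfl⟩ := (σ G).surjective s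
    have h0 : aMap j ≫ φ = 0 := by
      refine (aMap_comp_eq_zero_iff j G φ).2 ?_
      exact (Groth.Agent.Lib.Helper15.GammaSupp.unit_app_eq_zero_iff j G _).2
        ((AddMonoidHom.mem_ker).1 hs)
    refine ⟨cokernel.desc (aMap j) φ h0, ?_⟩
    apply Subtype.ext
    change σ G (cokernel.π (aMap j) ≫ cokernel.desc (aMap j) φ h0) = σ G φ
    rw [cokernel.π_desc]

/-- `Hom(ℤ_X / j_! ℤ_U, -) ≅ ker (Γ(X, -) → Γ(U, -))`. -/
noncomputable def homQIsoKerSec : homF (Q j) ≅ kerSec (rho j) :=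
  NatIso.ofComponents
    (fun G => (AddEquiv.ofBijective (toKer j G) (toKer_bijective j G)).toAddCommGrpIso)
    (by
      intro G G' α
      ext ψ
      apply Subtype.ext
      change σ G' (cokernel.π (aMap j) ≫ ψ ≫ α) =
        α.hom.app (op (EtCoh.top X)) (σ G (cokernel.π (aMap j) ≫ ψ))
      rw [← Category.assoc, σ_naturality])

/-- `Hom(ℤ_X / j_! ℤ_U, -) ≅ Γ_Y(X, -)`. -/
noncomputable def homQIsoGammaSupp : homF (Q j) ≅ EtDual.gammaSupp j :=
  homQIsoKerSec j ≪≫ (gammaSuppIso j).symm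

/-- `Ext^p(ℤ_X / j_! ℤ_U, F) ≅ H^p_Y(X, F)`. -/
noncomputable def extQIsoHY (F : EtCoh.Ab X) (p : ℕ) :
    AddCommGrpCat.of (Abelian.Ext.{u + 1} (Q j) F p) ≅ (EtDual.HY j p).obj F :=
  (rightDerivedHomFIso (Q j) F p).symm ≪≫ rightDerivedObjIsoOfNatIso (homQIsoGammaSupp j) p F

lemma subsingleton_ext_Q_iff (F : EtCoh.Ab X) (p : ℕ) :
    Subsingleton (Abelian.Ext.{u + 1} (Q j) F p) ↔ IsZero ((EtDual.HY j p).obj F) := by
  constructor
  · intro h
    exact IsZero.of_iso (AddCommGrpCat.isZero_of_subsingleton _) (extQIsoHY j F p).symm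
  · intro h
    exact AddCommGrpCat.subsingleton_of_isZero (IsZero.of_iso h (extQIsoHY j F p))

end Groth.Agent.Lib.Helper5.HomQGamma
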