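import Mathlib
import Groth.Prelude.Def_CohTop
import Groth.Prelude.Def_CohCx
import Groth.Agent.Lib.Helper5.HDUSect

/-!
# Hypercohomology of `f_* L` for `L` K-injective (helper5)

For a continuous map `f : X ⟶ Y` and a complex `L` of abelian sheaves on `X` such that `L` and
`f_* L` are K-injective: the presheaf `U ↦ H^n(f⁻¹ U, L)` is isomorphic to `U ↦ H^n(U, f_* L)`.
-/

set_option autoImplicit false
universe u
open CategoryTheory CategoryTheory.Limits Opposite TopologicalSpace

noncomputable section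
namespace Groth.Agent.Lib.Helper5.HyperPush

open Groth.Agent.Lib.Helper5.HDUSect DerivedCategory

variable {X Y : TopCat.{u}} (f : X ⟶ Y)
  [HasDerivedCategory.{u} (CohTop.Ab X)] [HasDerivedCategory.{u} (CohTop.Ab Y)]
  (L : CochainComplex (CohTop.Ab X) ℤ) (n : ℤ)

/-- the direct image complex. -/
abbrev L' : CochainComplex (CohTop.Ab Y) ℤ :=
  ((CohTop.push f).mapHomologicalComplex (ComplexShape.up ℤ)).obj L

/-- preimage of opens. -/
abbrev pr (U : Opens Y) : Opens X := (Opens.map f).obj U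

/-- cocycles of `L` over `f⁻¹ U` are cocycles of `f_* L` over `U`. -/
def toZ' (U : Opens Y) : Z L (pr f U) n →+ Z (L' f L) U n where
  toFun s := ⟨s.1, s.2⟩
  map_zero' := rfl
  map_add' _ _ := rfl

lemma toZ'_surjective (U : Opens Y) : Function.Surjective (toZ' f L n U) := fun s =>
  ⟨⟨s.1, s.2⟩, rfl⟩

/-- first class map. -/
abbrev c₁ (U : Opens Y) : Z L (pr f U) n →+ CohCx.HDU (Q.obj L) n (pr f U) := clsS L (pr f U) n

/-- second class map. -/
abbrev c₂ (U : Opens Y) : Z L (pr f U) n →+ CohCx.HDU (Q.obj (L' f L)) n U :=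
  (clsS (L' f L) U n).comp (toZ' f L n U)

variable [L.IsKInjective] [(L' f L).IsKInjective]

lemma ker_eq (U : Opens Y) : (c₁ f L n U).ker = (c₂ f L n U).ker := by
  ext s
  rw [AddMonoidHom.mem_ker, AddMonoidHom.mem_ker, AddMonoidHom.comp_apply, clsS_eq_zero_iff,
    clsS_eq_zero_iff]
  rfl

/-- the comparison of hypercohomology groups. -/
def Ψ (U : Opens Y) : CohCx.HDU (Q.obj L) n (pr f U) ≃+ CohCx.HDU (Q.obj (L' f L)) n U :=
  equivOfKer (c₁ f L n U) (c₂ f L n U) (clsS_surjective L (pr f U) n)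
    ((clsS_surjective (L' f L) U n).comp (toZ'_surjective f L n U)) (ker_eq f L n U)

lemma Ψ_apply (U : Opens Y) (s : Z L (pr f U) n) :
    Ψ f L n U (clsS L (pr f U) n s) = clsS (L' f L) U n (toZ' f L n U s) :=
  equivOfKer_apply _ _ _ _ _ s

/-- the isomorphism of presheaves. -/
def presheafIso : (Opens.map f).op ⋙ CohCx.HDUPresheaf (Q.obj L) n ≅
    CohCx.HDUPresheaf (Q.obj (L' f L)) n :=
  NatIso.ofComponents (fun U => (Ψ f L n U.unop).toAddCommGrpIso) (by
    intro U U' i
    apply AddCommGrpCat.hom_ext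
    apply AddMonoidHom.ext
    intro x
    obtain ⟨s, rfl⟩ := clsS_surjective L (pr f U.unop) n x
    have e1 : ((((Opens.map f).op ⋙ CohCx.HDUPresheaf (Q.obj L) n).map i).hom
        (clsS L (pr f U.unop) n s) : CohCx.HDU (Q.obj L) n (pr f U'.unop)) =
        clsS L (pr f U'.unop) n (resZ L ((Opens.map f).map i.unop) n s) :=
      (clsS_res L ((Opens.map f).map i.unop) n s).symm
    have e2 : (((CohCx.HDUPresheaf (Q.obj (L' f L)) n).map i).hom
        (clsS (L' f L) U.unop n (toZ' f L n U.unop s)) : CohCx.HDU (Q.obj (L' f L)) n U'.unop) =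
        clsS (L' f L) U'.unop n (resZ (L' f L) i.unop n (toZ' f L n U.unop s)) :=
      (clsS_res (L' f L) i.unop n (toZ' f L n U.unop s)).symm
    have e3 : resZ (L' f L) i.unop n (toZ' f L n U.unop s) =
        toZ' f L n U'.unop (resZ L ((Opens.map f).map i.unop) n s) := rfl
    change Ψ f L n U'.unop ((((Opens.map f).op ⋙ CohCx.HDUPresheaf (Q.obj L) n).map i).hom
        (clsS L (pr f U.unop) n s)) =
      ((CohCx.HDUPresheaf (Q.obj (L' f L)) n).map i).hom (Ψ f L n U.unop (clsS L (pr f U.unop) n s))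
    rw [e1, Ψ_apply, Ψ_apply, e2, e3])

end Groth.Agent.Lib.Helper5.HyperPush
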