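import Groth.Agent.Lib.Helper5.TripleLES
import Groth.Agent.Lib.Helper5.EtSectDerived

/-!
# Helper5: restriction along an open immersion is surjective on sections of an injective sheaf
-/

set_option autoImplicit false
universe u

namespace Groth.Agent.Lib.Helper5.InjRestrSurj

open CategoryTheory Limits AlgebraicGeometry Opposite Groth.Agent.Lib.Helper13
open Groth.Agent.Lib.Helper15.GammaSupp Groth.Agent.Lib.Helper5.EtSectDerived

set_option backward.isDefEq.respectTransparency.types false

variable {X : Scheme.{u}} {U V : X.Etale} (g : V ⟶ U) [IsOpenImmersion g.left]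

/-- `(V → U → X) ≅ V`. -/
noncomputable def eV : (EtShriek.compEtale U.hom).obj (Scheme.Etale.mk g.left) ≅ V :=
  MorphismProperty.Over.isoMk (Iso.refl _) (by
    change 𝟙 V.left ≫ V.hom = g.left ≫ U.hom
    rw [Category.id_comp]
    exact (MorphismProperty.Over.w g).symm)

lemma square : (EtShriek.compEtale U.hom).map (rho g.left) ≫ (eW U).hom = (eV g).hom ≫ g := by
  apply MorphismProperty.Over.Hom.ext
  change g.left ≫ 𝟙 _ = 𝟙 _ ≫ g.left
  rw [Category.comp_id, Category.id_comp]

open Groth.Agent.Lib.Helper5.EtaleLocSupp in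
/-- restriction along an open immersion is surjective on sections of an injective sheaf. -/
theorem surjective_map_of_injective (I : EtCoh.Ab X) [Injective I] :
    Function.Surjective (I.obj.map g.op) := by
  haveI : Injective ((EtShriek.restrAlong U.hom).obj I) :=
    (EtShriek.restrAlong U.hom).injective_obj_of_injective inferInstance
  have hs := TripleLES.surjective_restr_of_injective g.left ((EtShriek.restrAlong U.hom).obj I)
  intro t
  obtain ⟨s', hs'⟩ := hs (I.obj.map (eV g).hom.op t)
  have hs'' : I.obj.map ((EtShriek.compEtale U.hom).map (rho g.left)).op s' =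
      I.obj.map (eV g).hom.op t := hs'
  refine ⟨I.obj.map (eW U).inv.op s', ?_⟩
  have hg : g = (eV g).inv ≫ (EtShriek.compEtale U.hom).map (rho g.left) ≫ (eW U).hom := by
    rw [square, Iso.inv_hom_id_assoc]
  rw [hg, Groth.Agent.S0728.map_comp_apply, Groth.Agent.S0728.map_comp_apply,
    ← Groth.Agent.S0728.map_comp_apply I (eW U).hom (eW U).inv, Iso.hom_inv_id]
  have h1 : I.obj.map (𝟙 ((EtShriek.compEtale U.hom).obj (EtCoh.top U.left))).op s' = s' := by
    simp
  rw [h1, hs'', ← Groth.Agent.S0728.map_comp_apply, Iso.inv_hom_id]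
  simp

end Groth.Agent.Lib.Helper5.InjRestrSurj
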