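import Mathlib

/-!
# Helper5: a sheaf-theoretic gluing lemma

If `F` is a sheaf on `X`, `U` an open, and the restriction maps `F(B) → F(B ⊓ U)` are bijective for
all sufficiently small opens `B` (contained in some member of a family `W i`), then
`F(V) → F(V ⊓ U)` is bijective for all opens `V` covered by the `W i`.
-/

set_option autoImplicit false

open CategoryTheory CategoryTheory.Limits TopologicalSpace Opposite TopCat TopCat.Presheaf

namespace Groth.Agent.Lib.Helper5

universe x

variable {C : Type*} [Category C] {FC : C → C → Type*} {CC : C → Type*}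
variable [∀ X Y, FunLike (FC X Y) (CC X) (CC Y)] [ConcreteCategory C FC]
variable [HasLimitsOfSize.{x, x} C] [(CategoryTheory.forget C).ReflectsIsomorphisms]
variable [PreservesLimitsOfSize.{x, x} (CategoryTheory.forget C)]
variable {X : TopCat.{x}} (F : TopCat.Sheaf C X)

/-- Restriction of sections of a sheaf along an inclusion of opens. -/
def res {A B : Opens X} (h : A ≤ B) : ToType (F.1.obj (op B)) → ToType (F.1.obj (op A)) :=
  fun s => F.1.map (homOfLE h).op s

omit [HasLimitsOfSize.{x, x} C] [(CategoryTheory.forget C).ReflectsIsomorphisms]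
  [PreservesLimitsOfSize.{x, x} (CategoryTheory.forget C)] in
theorem res_res {A B D : Opens X} (h : A ≤ B) (h' : B ≤ D) (s : ToType (F.1.obj (op D))) :
    res F h (res F h' s) = res F (h.trans h') s := by
  simp only [res]
  rw [← ConcreteCategory.comp_apply, ← Functor.map_comp]
  rfl

theorem bijective_res_of_locally (U : Opens X) {ι : Type*} (W : ι → Opens X)
    (hloc : ∀ (i : ι) (A B : Opens X) (hAB : A ≤ B), B ≤ W i → A = B ⊓ U →
      Function.Bijective (res F hAB))
    (V : Opens X) (hV : V ≤ iSup W) :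
    Function.Bijective (res F (inf_le_left : V ⊓ U ≤ V)) := by
  have hcov : V ≤ ⨆ i, V ⊓ W i := by
    rw [← inf_iSup_eq]; exact le_inf le_rfl hV
  have hcovU : V ⊓ U ≤ ⨆ i, V ⊓ W i ⊓ U := by
    rw [← iSup_inf_eq]; exact inf_le_inf_right _ hcov
  have hb : ∀ i, Function.Bijective (res F (inf_le_left : V ⊓ W i ⊓ U ≤ V ⊓ W i)) :=
    fun i => hloc i _ _ _ inf_le_right rfl
  have hle : ∀ i, V ⊓ W i ⊓ U ≤ V ⊓ U := fun i => inf_le_inf_right U inf_le_left
  constructor
  · intro s t hst
    refine F.eq_of_locally_eq' (fun i => V ⊓ W i) V (fun i => homOfLE inf_le_left) hcov s t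
      (fun i => ?_)
    apply (hb i).1
    change res F _ (res F _ s) = res F _ (res F _ t)
    rw [res_res, res_res, ← res_res F (hle i) inf_le_left, ← res_res F (hle i) inf_le_left, hst]
  · intro t
    choose sf hsf using fun i => (hb i).2 (res F (hle i) t)
    have hcompat : IsCompatible F.1 (fun i => V ⊓ W i) sf := by
      intro i j
      have hB : Function.Bijective (res F (inf_le_left :
          (V ⊓ W i) ⊓ (V ⊓ W j) ⊓ U ≤ (V ⊓ W i) ⊓ (V ⊓ W j))) :=
        hloc i _ _ _ (inf_le_left.trans inf_le_right) rfl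
      apply hB.1
      change res F _ (res F inf_le_left (sf i)) = res F _ (res F inf_le_right (sf j))
      rw [res_res, res_res]
      have e1 : res F ((inf_le_left : (V ⊓ W i) ⊓ (V ⊓ W j) ⊓ U ≤ _).trans inf_le_left) (sf i) =
          res F (inf_le_inf_right U (inf_le_left.trans inf_le_left)) t := by
        rw [← res_res F (inf_le_inf_right U inf_le_left :
          (V ⊓ W i) ⊓ (V ⊓ W j) ⊓ U ≤ V ⊓ W i ⊓ U) inf_le_left, hsf, res_res]
      have e2 : res F ((inf_le_left : (V ⊓ W i) ⊓ (V ⊓ W j) ⊓ U ≤ _).trans inf_le_right) (sf j) =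
          res F (inf_le_inf_right U (inf_le_left.trans inf_le_left)) t := by
        rw [← res_res F (inf_le_inf_right U inf_le_right :
          (V ⊓ W i) ⊓ (V ⊓ W j) ⊓ U ≤ V ⊓ W j ⊓ U) inf_le_left, hsf, res_res]
      rw [e1, e2]
    obtain ⟨s, hs, -⟩ := F.existsUnique_gluing' (fun i => V ⊓ W i) V
      (fun i => homOfLE inf_le_left) hcov sf hcompat
    refine ⟨s, ?_⟩
    refine F.eq_of_locally_eq' (fun i => V ⊓ W i ⊓ U) (V ⊓ U) (fun i => homOfLE (hle i)) hcovU _ _
      (fun i => ?_)
    change res F _ (res F _ s) = res F _ t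
    rw [res_res, ← res_res F (inf_le_left : V ⊓ W i ⊓ U ≤ V ⊓ W i) inf_le_left]
    have : res F inf_le_left s = sf i := hs i
    rw [this, hsf]

end Groth.Agent.Lib.Helper5
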