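import Groth.Agent.Lib.Helper5.InvMod
import Groth.Agent.Lib.Helper5.SheafGlue

/-!
# Helper5: sections of invertible modules

If restriction of functions `O(B) → O(B ⊓ U)` is bijective for all opens `B`, then the same holds
for the sections of every invertible module.
-/

set_option autoImplicit false
universe u

open CategoryTheory AlgebraicGeometry TopologicalSpace Opposite

namespace Groth.Agent.Lib.Helper5

variable {X : Scheme.{u}}

/-- The flexible form of "restriction of functions to `U` is bijective". -/
def FunResBij (X : Scheme.{u}) (U : X.Opens) : Prop :=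
  ∀ (A B : X.Opens) (hAB : A ≤ B), A = B ⊓ U →
    Function.Bijective (X.presheaf.map (homOfLE hAB).op)

theorem funResBij_of_forall {U : X.Opens}
    (h : ∀ V : X.Opens, Function.Bijective (X.presheaf.map (homOfLE (inf_le_left : V ⊓ U ≤ V)).op)) :
    FunResBij X U := by
  intro A B hAB hA
  subst hA
  exact h B

/-- Step 1: on an open `W` trivialising `L`, restriction of sections of `L` is bijective. -/
theorem bijective_map_of_trivial {U : X.Opens} (hO : FunResBij X U) (L : X.Modules) (W : X.Opens)
    (e : L.restrict W.ι ≅ Coh.structureModule (W : Scheme.{u}))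
    (A B : X.Opens) (hAB : A ≤ B) (hBW : B ≤ W) (hA : A = B ⊓ U) :
    Function.Bijective (L.presheaf.map (homOfLE hAB).op) := by
  obtain ⟨A', rfl⟩ : ∃ A' : (W : Scheme.{u}).Opens, A = W.ι ''ᵁ A' :=
    ⟨W.ι ⁻¹ᵁ A, by
      rw [Scheme.Hom.image_preimage_eq_opensRange_inf, Scheme.Opens.opensRange_ι,
        inf_eq_right.mpr (hAB.trans hBW)]⟩
  obtain ⟨B', rfl⟩ : ∃ B' : (W : Scheme.{u}).Opens, B = W.ι ''ᵁ B' :=
    ⟨W.ι ⁻¹ᵁ B, by
      rw [Scheme.Hom.image_preimage_eq_opensRange_inf, Scheme.Opens.opensRange_ι,
        inf_eq_right.mpr hBW]⟩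
  have hA'B' : A' ≤ B' := by
    intro x hx
    obtain ⟨y, hy, hxy⟩ := hAB ⟨x, hx, rfl⟩
    have : y = x := W.ι.isOpenEmbedding.injective hxy
    exact this ▸ hy
  have hnat := e.hom.mapPresheaf.naturality (homOfLE hA'B').op
  simp only [Scheme.Modules.mapPresheaf_app] at hnat
  have hbot : Function.Bijective
      ((Coh.structureModule (W : Scheme.{u})).presheaf.map (homOfLE hA'B').op) :=
    hO _ _ hAB hA
  have hcomp : Function.Bijective ((e.hom.app A') ∘
      ((L.restrict W.ι).presheaf.map (homOfLE hA'B').op)) := by
    have : ((e.hom.app A') ∘ ((L.restrict W.ι).presheaf.map (homOfLE hA'B').op)) =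
        ((Coh.structureModule (W : Scheme.{u})).presheaf.map (homOfLE hA'B').op) ∘
          (e.hom.app B') := by
      funext x
      exact congr($hnat x)
    rw [this]
    exact hbot.comp (ConcreteCategory.bijective_of_isIso _)
  exact (Function.Bijective.of_comp_iff' (ConcreteCategory.bijective_of_isIso (e.hom.app A')) _).mp
    hcomp

/-- Lemma A: restriction of sections of an invertible module to `U` is bijective as soon as this
holds for functions. -/
theorem bijective_map_of_isInvertible {U : X.Opens} (hO : FunResBij X U) (L : X.Modules)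
    (hL : PicF.IsInvertible L) (A B : X.Opens) (hAB : A ≤ B) (hA : A = B ⊓ U) :
    Function.Bijective (L.presheaf.map (homOfLE hAB).op) := by
  subst hA
  choose W hW e using hL
  exact bijective_res_of_locally ⟨L.presheaf, L.isSheaf⟩ U W
    (fun i A B hAB hB hA => bijective_map_of_trivial hO L (W i) (e i).some A B hAB hB hA) B
    (fun x _ => Opens.mem_iSup.mpr ⟨x, hW x⟩)

end Groth.Agent.Lib.Helper5
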