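import Groth.Agent.Lib.Helper13.KInjMV
import Groth.Agent.Lib.Helper5.FMVChain

/-!
# Naturality of helper13's `isoRestrict` in the K-injective model (helper5)
-/

set_option autoImplicit false
set_option backward.isDefEq.respectTransparency false
universe u
open CategoryTheory CategoryTheory.Limits AlgebraicGeometry

attribute [local instance] HasDerivedCategory.standard

namespace Groth.Agent.Lib.Helper5.IsoRestrictNat

open AlgebraicGeometry.Scheme.Modules
  Groth.Agent.Lib.Helper13 Groth.Agent.Lib.Helper13.KInjMV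
  Groth.Agent.Lib.Helper13.KInjCompute

local notation "cc" => ComplexShape.up ℤ

section Abstract

variable {C : Type*} [Category C]

lemma comp4 {D : Type*} [Category D] (G : C ⥤ D) {A A' A1 A1' : C} {B1 B1' B2 B2' : D}
    (p : A' ⟶ A) (x : A ⟶ A1) (x' : A' ⟶ A1') (q : A1' ⟶ A1) (s1 : p ≫ x = x' ≫ q)
    (k : G.obj A1 ⟶ B1) (k' : G.obj A1' ⟶ B1') (t : B1' ⟶ B1) (s2 : G.map q ≫ k = k' ≫ t)
    (c : B1 ⟶ B2) (c' : B1' ⟶ B2') (w : B2' ⟶ B2) (s3 : t ≫ c = c' ≫ w) :
    G.map p ≫ (G.map x ≫ k ≫ c) = (G.map x' ≫ k' ≫ c') ≫ w := by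
  calc G.map p ≫ (G.map x ≫ k ≫ c) = G.map (p ≫ x) ≫ k ≫ c := by
        rw [Functor.map_comp, Category.assoc]
    _ = G.map x' ≫ (G.map q ≫ k) ≫ c := by
        rw [s1, Functor.map_comp]; simp only [Category.assoc]
    _ = G.map x' ≫ k' ≫ (t ≫ c) := by rw [s2]; simp only [Category.assoc]
    _ = (G.map x' ≫ k' ≫ c') ≫ w := by rw [s3]; simp only [Category.assoc]

end Abstract

section Restr

variable {X : Scheme.{u}}

/-- the comparison `F(I|_W) ≅ (restr ⋙ F)(I)` of complexes used in `isoRestrict` -/
noncomputable def cI (W : X.Opens) {B : Type*} [Category B] [Abelian B]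
    (F : (W : Scheme.{u}).Modules ⥤ B) [F.Additive] (I : CochainComplex X.Modules ℤ) :
    (F.mapHomologicalComplex cc).obj (((restrictFunctor W.ι).mapHomologicalComplex cc).obj I) ≅
      ((restrictFunctor W.ι ⋙ F).mapHomologicalComplex cc).obj I :=
  HomologicalComplex.Hom.isoOfComponents (fun _ => Iso.refl _) (fun i j _ => by simp)

lemma cI_naturality (W : X.Opens) {B : Type*} [Category B] [Abelian B]
    (F : (W : Scheme.{u}).Modules ⥤ B) [F.Additive] {I I' : CochainComplex X.Modules ℤ}
    (φ : I' ⟶ I) :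
    (F.mapHomologicalComplex cc).map (((restrictFunctor W.ι).mapHomologicalComplex cc).map φ) ≫
        (cI W F I).hom =
      (cI W F I').hom ≫ ((restrictFunctor W.ι ⋙ F).mapHomologicalComplex cc).map φ := by
  ext n
  simp [cI]

variable (W : X.Opens) {B : Type*} [Category B] [Abelian B]
    (F : (W : Scheme.{u}).Modules ⥤ B) [F.Additive]
    [(Fh F).HasRightDerivedFunctor
      (HomotopyCategory.quasiIso (W : Scheme.{u}).Modules (ComplexShape.up ℤ))]
    [PreservesFiniteLimits (Scheme.Modules.restrictFunctor W.ι)]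

lemma isoRestrict_hom (I : CochainComplex X.Modules ℤ) (hI : I.IsKInjective) {E : DCoh.D X}
    (e : E ≅ DerivedCategory.Q.obj I) :
    (isoRestrict W F I hI e).hom =
      (RF F).map ((DCoh.restrictD W.ι).map e.hom ≫
        (restrictFunctor W.ι).mapDerivedCategoryFactors.hom.app I) ≫
      (KInjCompute.iso F (KInjSch.hasKInj (W : Scheme.{u})) _
        (KInjSch.isKInjective_restrict W I hI)).hom ≫
      DerivedCategory.Q.map (cI W F I).hom := rfl

/-- naturality of `isoRestrict` with respect to a morphism `u : E' ⟶ E` and a chain map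
`φ : I' ⟶ I` between K-injective models representing it -/
lemma isoRestrict_naturality {I I' : CochainComplex X.Modules ℤ} (hI : I.IsKInjective)
    (hI' : I'.IsKInjective) {E E' : DCoh.D X} (e : E ≅ DerivedCategory.Q.obj I)
    (e' : E' ≅ DerivedCategory.Q.obj I') (u : E' ⟶ E) (φ : I' ⟶ I)
    (hφ : e'.hom ≫ DerivedCategory.Q.map φ = u ≫ e.hom) :
    (RF F).map ((DCoh.restrictD W.ι).map u) ≫ (isoRestrict W F I hI e).hom =
      (isoRestrict W F I' hI' e').hom ≫
        DerivedCategory.Q.map (((restrictFunctor W.ι ⋙ F).mapHomologicalComplex cc).map φ) := by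
  rw [isoRestrict_hom, isoRestrict_hom]
  refine comp4 (RF F) _ _ _
    (DerivedCategory.Q.map (((restrictFunctor W.ι).mapHomologicalComplex cc).map φ)) ?_ _ _
    (DerivedCategory.Q.map ((F.mapHomologicalComplex cc).map
      (((restrictFunctor W.ι).mapHomologicalComplex cc).map φ))) ?_ _ _ _ ?_
  · have n := (restrictFunctor W.ι).mapDerivedCategoryFactors.hom.naturality φ
    rw [← Category.assoc, ← Functor.map_comp, ← hφ, Functor.map_comp, Category.assoc,
      Category.assoc]
    congr 1
  · exact KInjCompute.iso_naturality F (KInjSch.hasKInj (W : Scheme.{u}))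
      (KInjSch.isKInjective_restrict W I' hI') (KInjSch.isKInjective_restrict W I hI)
      (((restrictFunctor W.ι).mapHomologicalComplex cc).map φ)
  · rw [← Functor.map_comp, ← Functor.map_comp, cI_naturality]

end Restr

end Groth.Agent.Lib.Helper5.IsoRestrictNat
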