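import Mathlib

/-!
# Homology commutes with countable products when these are exact (helper5)
-/

set_option autoImplicit false
universe v u
open CategoryTheory CategoryTheory.Limits

namespace Groth.Agent.Lib.Helper5.ProdHomology

variable {A : Type u} [Category.{v} A] [Abelian A]

/-- transport of a limit fan along an isomorphism of the point -/
def isLimitFanOfIso {f : ℕ → A} {c : Fan f} (hc : IsLimit c) {W : A} (e : W ≅ c.pt)
    (q : ∀ n, W ⟶ f n) (hq : ∀ n, q n = e.hom ≫ c.proj n) : IsLimit (Fan.mk W q) :=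
  Fan.IsLimit.mk _ (fun s => Fan.IsLimit.lift hc s.proj ≫ e.inv)
    (fun s n => by
      change (Fan.IsLimit.lift hc s.proj ≫ e.inv) ≫ q n = s.proj n
      rw [hq, Category.assoc, Iso.inv_hom_id_assoc, Fan.IsLimit.fac])
    (fun s m hm => by
      rw [Iso.eq_comp_inv]
      refine Fan.IsLimit.hom_ext hc _ _ (fun n => ?_)
      rw [Category.assoc, Fan.IsLimit.fac, ← hq]
      exact hm n)

/-- family of short complexes as a short complex of diagrams -/
@[simps]
def famSC (S : ℕ → ShortComplex A) : ShortComplex (Discrete ℕ ⥤ A) where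
  X₁ := Discrete.functor (fun j => (S j).X₁)
  X₂ := Discrete.functor (fun j => (S j).X₂)
  X₃ := Discrete.functor (fun j => (S j).X₃)
  f := Discrete.natTrans (fun j => (S j.as).f)
  g := Discrete.natTrans (fun j => (S j.as).g)
  zero := by ext ⟨j⟩; simp

variable [HasLimitsOfShape (Discrete ℕ) A]

/-- the projection `lim ⟶ ev_n` -/
noncomputable def projNT (n : ℕ) :
    (lim : (Discrete ℕ ⥤ A) ⥤ A) ⟶ (evaluation (Discrete ℕ) A).obj ⟨n⟩ where
  app F := limit.π F ⟨n⟩
  naturality F G α := by simp

variable [HasExactLimitsOfShape (Discrete ℕ) A]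

/-- the projection of short complexes -/
noncomputable def prSC (S : ℕ → ShortComplex A) (n : ℕ) : (famSC S).map lim ⟶ S n :=
  (famSC S).mapNatTrans (projNT n)

/-- the projection on homology -/
noncomputable def prH (S : ℕ → ShortComplex A) (n : ℕ) :
    ((famSC S).map lim).homology ⟶ (S n).homology :=
  ShortComplex.homologyMap (prSC S n)

noncomputable def isLimitModel (S : ℕ → ShortComplex A) :
    IsLimit (Fan.mk ((famSC S).map lim).homology (prH S)) := by
  let 𝕊 := famSC S
  let E : (𝕊.map lim).homology ≅ limit 𝕊.homology := 𝕊.mapHomologyIso lim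
  let i : ∀ n, ((S n).homology ≅ 𝕊.homology.obj ⟨n⟩) :=
    fun n => 𝕊.mapHomologyIso ((evaluation (Discrete ℕ) A).obj ⟨n⟩)
  have hpr : ∀ n, prH S n = E.hom ≫ limit.π 𝕊.homology ⟨n⟩ ≫ (i n).inv := fun n =>
    ShortComplex.homologyMap_mapNatTrans 𝕊 (projNT n)
  refine Fan.IsLimit.mk _ (fun s => limit.lift 𝕊.homology
      { pt := s.pt, π := Discrete.natTrans (fun j => s.proj j.as ≫ (i j.as).hom) } ≫ E.inv) ?_ ?_
  · intro s n
    have hp : (Fan.mk ((famSC S).map lim).homology (prH S)).proj n = prH S n := rfl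
    rw [hp, hpr n]
    simp
  · intro s m hm
    rw [Iso.eq_comp_inv]
    apply limit.hom_ext
    rintro ⟨n⟩
    have h := hm n
    change m ≫ prH S n = s.proj n at h
    rw [hpr n] at h
    rw [limit.lift_π]
    dsimp
    rw [← h]
    simp

section Complexes

omit [HasExactLimitsOfShape (Discrete ℕ) A] in
lemma comm_aux {a b : ℕ → A} (d : ∀ n, a n ⟶ b n) {Pa Pb : A} (πa : ∀ n, Pa ⟶ a n)
    (πb : ∀ n, Pb ⟶ b n) (ha : IsLimit (Fan.mk Pa πa)) (hb : IsLimit (Fan.mk Pb πb))
    (D : Pa ⟶ Pb) (hD : ∀ n, D ≫ πb n = πa n ≫ d n) :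
    (ha.conePointUniqueUpToIso (productIsProduct a)).hom ≫
        limMap (Discrete.natTrans (F := Discrete.functor a) (G := Discrete.functor b)
          (fun j => d j.as)) =
      D ≫ (hb.conePointUniqueUpToIso (productIsProduct b)).hom := by
  apply limit.hom_ext
  rintro ⟨n⟩
  rw [Category.assoc, Category.assoc, limMap_π]
  have h1 := IsLimit.conePointUniqueUpToIso_hom_comp ha (productIsProduct a) ⟨n⟩
  have h2 := IsLimit.conePointUniqueUpToIso_hom_comp hb (productIsProduct b) ⟨n⟩
  dsimp at h1 h2 ⊢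
  rw [reassoc_of% h1, h2, hD]

variable (X : ℕ → CochainComplex A ℤ)

/-- the terms of the product complex are products of the terms -/
noncomputable def isLimitX' (q : ℤ) :
    IsLimit (Fan.mk ((∏ᶜ X).X q) (fun n => (Pi.π X n).f q)) :=
  isLimitFanMkObjOfIsLimit (HomologicalComplex.eval A (ComplexShape.up ℤ) q) _ _
    (productIsProduct X)

noncomputable def eX (q : ℤ) : (∏ᶜ X).X q ≅ ∏ᶜ (fun n => (X n).X q) :=
  (isLimitX' X q).conePointUniqueUpToIso (productIsProduct _)

lemma eX_π (q : ℤ) (n : ℕ) :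
    (eX X q).hom ≫ limit.π (Discrete.functor fun n => (X n).X q) (Discrete.mk n) =
      (Pi.π X n).f q :=
  IsLimit.conePointUniqueUpToIso_hom_comp _ _ (Discrete.mk n)

variable (p : ℤ)

noncomputable def theta :
    (∏ᶜ X).sc p ≅ (famSC (fun n => (X n).sc p)).map lim :=
  ShortComplex.isoMk (eX X _) (eX X p) (eX X _)
    (comm_aux (fun n => ((X n).sc p).f) _ _ (isLimitX' X _) (isLimitX' X p) _
      (fun n => ((Pi.π X n).comm _ _).symm))
    (comm_aux (fun n => ((X n).sc p).g) _ _ (isLimitX' X p) (isLimitX' X _) _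
      (fun n => ((Pi.π X n).comm _ _).symm))

lemma key (n : ℕ) : HomologicalComplex.homologyMap (Pi.π X n) p =
    ShortComplex.homologyMap (theta X p).hom ≫ prH (fun n => (X n).sc p) n := by
  have h : (HomologicalComplex.shortComplexFunctor A (ComplexShape.up ℤ) p).map (Pi.π X n) =
      (theta X p).hom ≫ prSC (fun n => (X n).sc p) n := by
    ext
    · exact (eX_π X _ n).symm
    · exact (eX_π X _ n).symm
    · exact (eX_π X _ n).symm
  unfold prH
  rw [← ShortComplex.homologyMap_comp, ← h]
  rfl

/-- homology commutes with countable products when these are exact -/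
noncomputable def isLimitHomologyProd :
    IsLimit (Fan.mk ((∏ᶜ X).homology p)
      (fun n => HomologicalComplex.homologyMap (Pi.π X n) p)) :=
  isLimitFanOfIso (isLimitModel (fun n => (X n).sc p))
    (ShortComplex.homologyMapIso (theta X p)) _ (fun n => key X p n)

end Complexes

end Groth.Agent.Lib.Helper5.ProdHomology
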