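import Mathlib

/-!
# Eventually constant towers in an abelian category (helper5)

For a tower `(M n, s n : M (n+1) ⟶ M n)` with product `P`, vanishing below `N` and with
isomorphic transition maps from `N` on, the map `ψ = 1 - shift : P ⟶ P` is a (split)
epimorphism and its kernel is given by any compatible family which is an isomorphism at `N`.
-/

set_option autoImplicit false
universe v u
open CategoryTheory CategoryTheory.Limits

namespace Groth.Agent.Lib.Helper5.TowerML

variable {A : Type u} [Category.{v} A] [Abelian A]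

/-- pseudo-inverse: the inverse if the map is an isomorphism, zero otherwise -/
noncomputable def pinv {X Y : A} (f : X ⟶ Y) : Y ⟶ X := by
  classical exact if h : IsIso f then @inv _ _ _ _ f h else 0

lemma pinv_comp {X Y : A} (f : X ⟶ Y) [hf : IsIso f] : pinv f ≫ f = 𝟙 Y := by
  unfold pinv
  rw [dif_pos hf]
  exact IsIso.inv_hom_id f

variable (M : ℕ → A) (s : ∀ n, M (n + 1) ⟶ M n) {P : A} (pr : ∀ n, P ⟶ M n)

/-- recursive solution of `x n - s n (x (n+1)) = y n` -/
noncomputable def r : ∀ n, P ⟶ M n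
  | 0 => 0
  | (n + 1) => (r n - pr n) ≫ pinv (s n)

lemma r_succ (n : ℕ) : r M s pr (n + 1) = (r M s pr n - pr n) ≫ pinv (s n) := rfl

variable (N : ℕ) (h0 : ∀ n, n < N → IsZero (M n)) (h1 : ∀ n, N ≤ n → IsIso (s n))

include h0 h1 in
lemma r_rel (n : ℕ) : r M s pr n - r M s pr (n + 1) ≫ s n = pr n := by
  by_cases hn : n < N
  · exact (h0 n hn).eq_of_tgt _ _
  · haveI : IsIso (s n) := h1 n (by omega)
    rw [r_succ, Category.assoc, pinv_comp, Category.comp_id, sub_sub_cancel]

variable (hP : IsLimit (Fan.mk P pr)) (ψ : P ⟶ P)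
  (hψ : ∀ n, ψ ≫ pr n = pr n - pr (n + 1) ≫ s n)

include h0 h1 hψ hP in
theorem epi_psi : Epi ψ := by
  let σ : P ⟶ P := Fan.IsLimit.lift hP (r M s pr)
  have hσ : ∀ n, σ ≫ pr n = r M s pr n := fun n => Fan.IsLimit.fac hP (r M s pr) n
  have h : σ ≫ ψ = 𝟙 P := by
    refine Fan.IsLimit.hom_ext hP _ _ (fun n => ?_)
    change (σ ≫ ψ) ≫ pr n = 𝟙 P ≫ pr n
    rw [Category.assoc, hψ, Preadditive.comp_sub, ← Category.assoc, hσ, hσ, Category.id_comp]
    exact r_rel M s pr N h0 h1 n
  exact epi_of_epi_fac h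

variable {H : A} (c : H ⟶ P) (hc : ∀ n, (c ≫ pr (n + 1)) ≫ s n = c ≫ pr n)
  (hcN : IsIso (c ≫ pr N))

include hcN in
lemma mono_c : Mono c := by
  haveI := hcN
  exact mono_of_mono c (pr N)

include hP hψ hc in
lemma c_psi : c ≫ ψ = 0 := by
  refine Fan.IsLimit.hom_ext hP _ _ (fun n => ?_)
  change (c ≫ ψ) ≫ pr n = 0 ≫ pr n
  rw [Category.assoc, hψ, Preadditive.comp_sub, ← Category.assoc, hc, sub_self, zero_comp]

include h0 h1 in
lemma agree {W : A} (x y : W ⟶ P)
    (hx : ∀ n, (x ≫ pr (n + 1)) ≫ s n = x ≫ pr n)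
    (hy : ∀ n, (y ≫ pr (n + 1)) ≫ s n = y ≫ pr n)
    (hN : x ≫ pr N = y ≫ pr N) (n : ℕ) : x ≫ pr n = y ≫ pr n := by
  by_cases hn : n < N
  · exact (h0 n hn).eq_of_tgt _ _
  · have hn' : N ≤ n := by omega
    clear hn
    induction n, hn' using Nat.le_induction with
    | base => exact hN
    | succ k hk ih =>
      haveI : IsIso (s k) := h1 k hk
      rw [← cancel_mono (s k), hx, hy]
      exact ih

include h0 h1 hP hψ hc hcN in
theorem exact_c_psi :
    (ShortComplex.mk c ψ (c_psi M s pr hP ψ hψ c hc)).Exact := by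
  haveI := hcN
  haveI : Mono c := mono_c M pr N c hcN
  apply ShortComplex.exact_of_f_is_kernel
  dsimp
  refine KernelFork.IsLimit.ofι' _ _ (fun {W} x hx => ⟨x ≫ pr N ≫ inv (c ≫ pr N), ?_⟩)
  refine Fan.IsLimit.hom_ext hP _ _ (agree M s pr N h0 h1 _ x ?_ ?_ ?_)
  · intro n
    have h := hc n
    rw [Category.assoc] at h
    simp only [Category.assoc]
    rw [h]
  · intro n
    have h : x ≫ ψ ≫ pr n = 0 := by rw [← Category.assoc, hx, zero_comp]
    rw [hψ, Preadditive.comp_sub, sub_eq_zero] at h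
    rw [Category.assoc]
    exact h.symm
  · simp

end Groth.Agent.Lib.Helper5.TowerML
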