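import Mathlib
import Groth.Agent.Lib.Helper5.TowerML
import Groth.Agent.Lib.Helper5.ProdHomology
import Groth.Agent.Lib.Helper2.KInj.DProd

/-!
# K-injective resolutions when countable products are exact (helper5)

`K ⟶ holim I_n`, where `I_n` is an injective resolution of the canonical truncation `τ_{≥ -n} K`,
the homotopy limit being the mapping cocone of `1 - shift` on `∏ I_n`.
-/

set_option autoImplicit false
universe v u
open CategoryTheory CategoryTheory.Limits

namespace Groth.Agent.Lib.Helper5.KInjRes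

attribute [local instance] HasDerivedCategory.standard

open DerivedCategory Groth.Agent.Lib.Helper2.KInj Groth.Agent.Lib.Helper5
open HomologicalComplex (homologyMap)

variable {A : Type u} [Category.{v} A] [Abelian A]

lemma isKInjective_mappingCone {K L : CochainComplex A ℤ} (φ : K ⟶ L) [K.IsKInjective]
    [L.IsKInjective] : (CochainComplex.mappingCone φ).IsKInjective := by
  rw [CochainComplex.isKInjective_iff_rightOrthogonal]
  exact (HomotopyCategory.subcategoryAcyclic A).rightOrthogonal.ext_of_isTriangulatedClosed₃ _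
    (HomotopyCategory.mappingCone_triangleh_distinguished φ)
    (CochainComplex.IsKInjective.rightOrthogonal K) (CochainComplex.IsKInjective.rightOrthogonal L)

lemma isKInjective_mappingCocone {K L : CochainComplex A ℤ} (φ : K ⟶ L) [K.IsKInjective]
    [L.IsKInjective] : (CochainComplex.mappingCocone φ).IsKInjective := by
  haveI := isKInjective_mappingCone φ
  unfold CochainComplex.mappingCocone
  infer_instance

lemma homologyMap_eq_of_Q_map_eq {K L : CochainComplex A ℤ} (f f' : K ⟶ L)
    (h : Q.map f = Q.map f') (p : ℤ) : homologyMap f p = homologyMap f' p := by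
  have h1 := NatIso.naturality_1 (homologyFunctorFactors A p) f
  have h2 := NatIso.naturality_1 (homologyFunctorFactors A p) f'
  dsimp at h1 h2
  rw [h] at h1
  exact h1.symm.trans h2

lemma epi_map_Q {K L : CochainComplex A ℤ} (f : K ⟶ L) (p : ℤ) [Epi (homologyMap f p)] :
    Epi ((homologyFunctor A p).map (Q.map f)) := by
  have h := NatIso.naturality_2 (homologyFunctorFactors A p) f
  dsimp at h
  rw [← h]
  haveI : Epi ((HomologicalComplex.homologyFunctor A (ComplexShape.up ℤ) p).map f) :=
    ‹Epi (homologyMap f p)›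
  infer_instance

lemma mono_map_Q {K L : CochainComplex A ℤ} (f : K ⟶ L) (p : ℤ) [Mono (homologyMap f p)] :
    Mono ((homologyFunctor A p).map (Q.map f)) := by
  have h := NatIso.naturality_2 (homologyFunctorFactors A p) f
  dsimp at h
  rw [← h]
  haveI : Mono ((HomologicalComplex.homologyFunctor A (ComplexShape.up ℤ) p).map f) :=
    ‹Mono (homologyMap f p)›
  infer_instance

lemma exact_map_Q {K L M : CochainComplex A ℤ} (f : K ⟶ L) (f' : L ⟶ M) (p : ℤ)
    (w : homologyMap f p ≫ homologyMap f' p = 0)
    (h : (ShortComplex.mk _ _ w).Exact)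
    (w' : (homologyFunctor A p).map (Q.map f) ≫ (homologyFunctor A p).map (Q.map f') = 0) :
    (ShortComplex.mk _ _ w').Exact := by
  refine (ShortComplex.exact_iff_of_iso (ShortComplex.isoMk
    ((homologyFunctorFactors A p).app K) ((homologyFunctorFactors A p).app L)
    ((homologyFunctorFactors A p).app M) ?_ ?_)).2 h
  · exact (homologyFunctorFactors_hom_naturality f p).symm
  · exact (homologyFunctorFactors_hom_naturality f' p).symm

theorem isIso_of_triangle {X : DerivedCategory A}
    (T : Pretriangulated.Triangle (DerivedCategory A))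
    (hT : T ∈ Pretriangulated.distinguishedTriangles) (ã : X ⟶ T.obj₁) (b : X ⟶ T.obj₂)
    (hb : ã ≫ T.mor₁ = b)
    (h1 : ∀ p : ℤ, Epi ((homologyFunctor A p).map T.mor₂))
    (h2 : ∀ p : ℤ, Mono ((homologyFunctor A p).map b))
    (h3 : ∀ (p : ℤ) (w : (homologyFunctor A p).map b ≫ (homologyFunctor A p).map T.mor₂ = 0),
      (ShortComplex.mk _ _ w).Exact) : IsIso ã := by
  rw [DerivedCategory.isIso_iff]
  intro p
  have hz12 : (homologyFunctor A p).map T.mor₁ ≫ (homologyFunctor A p).map T.mor₂ = 0 := by
    rw [← Functor.map_comp, Pretriangulated.comp_distTriang_mor_zero₁₂ _ hT, Functor.map_zero]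
  have w : (homologyFunctor A p).map b ≫ (homologyFunctor A p).map T.mor₂ = 0 := by
    rw [← hb, Functor.map_comp, Category.assoc, hz12, comp_zero]
  have hmono : Mono ((homologyFunctor A p).map T.mor₁) :=
    (HomologySequence.mono_homologyMap_mor₁_iff T hT (p - 1) p (by omega)).2
      ((HomologySequence.epi_homologyMap_mor₂_iff T hT (p - 1) p (by omega)).1 (h1 (p - 1)))
  have hfac : (homologyFunctor A p).map ã ≫ (homologyFunctor A p).map T.mor₁ =
      (homologyFunctor A p).map b := by rw [← Functor.map_comp, hb]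
  haveI := h2 p
  haveI : Mono ((homologyFunctor A p).map ã) := by
    haveI : Mono ((homologyFunctor A p).map ã ≫ (homologyFunctor A p).map T.mor₁) := by
      rw [hfac]; infer_instance
    exact mono_of_mono _ ((homologyFunctor A p).map T.mor₁)
  have hex := h3 p w
  haveI : Mono (ShortComplex.mk _ _ w).f := h2 p
  let l := hex.lift ((homologyFunctor A p).map T.mor₁) hz12
  have hl : l ≫ (homologyFunctor A p).map b = (homologyFunctor A p).map T.mor₁ :=
    hex.lift_f _ _
  have hl2 : l ≫ (homologyFunctor A p).map ã = 𝟙 _ := by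
    rw [← cancel_mono ((homologyFunctor A p).map T.mor₁), Category.assoc, hfac, hl,
      Category.id_comp]
  haveI : Epi ((homologyFunctor A p).map ã) := epi_of_epi_fac hl2
  exact isIso_of_mono_of_epi _

section Tower

variable [HasLimitsOfShape (Discrete ℕ) A] [HasExactLimitsOfShape (Discrete ℕ) A]
  (K : CochainComplex A ℤ) (I : ℕ → CochainComplex A ℤ) (g : ∀ n, K ⟶ I n)
  (t : ∀ n, I (n + 1) ⟶ I n)

/-- the shift map on the product -/
noncomputable def sh : ∏ᶜ I ⟶ ∏ᶜ I := Pi.lift (fun n => Pi.π I (n + 1) ≫ t n)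

/-- `1 - shift` -/
noncomputable def phi : ∏ᶜ I ⟶ ∏ᶜ I := 𝟙 _ - sh I t

/-- the canonical map to the product -/
noncomputable def aa : K ⟶ ∏ᶜ I := Pi.lift g

variable [∀ n, (I n).IsKInjective]
  (hg : ∀ n, Q.map (g (n + 1)) ≫ Q.map (t n) = Q.map (g n))
  (hiso : ∀ (n : ℕ) (p : ℤ), -(n : ℤ) ≤ p → IsIso (homologyMap (g n) p))
  (hzero : ∀ (n : ℕ) (p : ℤ), p < -(n : ℤ) → IsZero ((I n).homology p))

include hg in
lemma Q_aa_sh : Q.map (aa K I g ≫ sh I t) = Q.map (aa K I g) := by
  refine Fan.IsLimit.hom_ext (DProd.isLimitQProd I) _ _ (fun n => ?_)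
  change Q.map (aa K I g ≫ sh I t) ≫ Q.map (Pi.π I n) = Q.map (aa K I g) ≫ Q.map (Pi.π I n)
  have e1 : (aa K I g ≫ sh I t) ≫ Pi.π I n = g (n + 1) ≫ t n := by simp [aa, sh]
  have e2 : aa K I g ≫ Pi.π I n = g n := by simp [aa]
  rw [← Functor.map_comp, ← Functor.map_comp, e1, e2, Functor.map_comp, hg]

include hg in
lemma Q_aa_phi : Q.map (aa K I g) ≫ Q.map (phi I t) = 0 := by
  rw [← Functor.map_comp]
  have : aa K I g ≫ phi I t = aa K I g - aa K I g ≫ sh I t := by
    simp [phi, Preadditive.comp_sub]
  rw [this, Functor.map_sub, Q_aa_sh K I g t hg, sub_self]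

section P

variable (p : ℤ)

omit [HasExactLimitsOfShape (Discrete ℕ) A] [∀ n, (I n).IsKInjective] in
lemma hpsi (n : ℕ) : homologyMap (phi I t) p ≫ homologyMap (Pi.π I n) p =
    homologyMap (Pi.π I n) p - homologyMap (Pi.π I (n + 1)) p ≫ homologyMap (t n) p := by
  rw [← HomologicalComplex.homologyMap_comp, ← HomologicalComplex.homologyMap_comp,
    ← HomologicalComplex.homologyMap_sub]
  congr 1
  simp [phi, sh, Preadditive.sub_comp]

omit [HasExactLimitsOfShape (Discrete ℕ) A] [∀ n, (I n).IsKInjective] in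
lemma c_pr (n : ℕ) : homologyMap (aa K I g) p ≫ homologyMap (Pi.π I n) p = homologyMap (g n) p := by
  rw [← HomologicalComplex.homologyMap_comp]
  congr 1
  simp [aa]

include hg in
omit [HasLimitsOfShape (Discrete ℕ) A] [HasExactLimitsOfShape (Discrete ℕ) A] in
lemma H_g_t (n : ℕ) :
    homologyMap (g (n + 1)) p ≫ homologyMap (t n) p = homologyMap (g n) p := by
  rw [← HomologicalComplex.homologyMap_comp]
  exact homologyMap_eq_of_Q_map_eq _ _ (by rw [Functor.map_comp, hg]) p

include hg hiso in
omit [HasLimitsOfShape (Discrete ℕ) A] [HasExactLimitsOfShape (Discrete ℕ) A] in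
lemma isIso_sM (n : ℕ) (hn : (-p).toNat ≤ n) : IsIso (homologyMap (t n) p) := by
  haveI := hiso (n + 1) p (by push_cast; omega)
  haveI := hiso n p (by omega)
  exact IsIso.of_isIso_fac_left (H_g_t K I g t hg p n)

include hg hiso hzero in
lemma epi_H_phi : Epi (homologyMap (phi I t) p) :=
  TowerML.epi_psi (fun n => (I n).homology p) (fun n => homologyMap (t n) p)
    (fun n => homologyMap (Pi.π I n) p) (-p).toNat
    (fun n hn => hzero n p (by omega)) (fun n hn => isIso_sM K I g t hg hiso p n hn)
    (ProdHomology.isLimitHomologyProd I p) _ (hpsi I t p)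

include hg in
lemma hc (n : ℕ) : (homologyMap (aa K I g) p ≫ homologyMap (Pi.π I (n + 1)) p) ≫
    homologyMap (t n) p = homologyMap (aa K I g) p ≫ homologyMap (Pi.π I n) p := by
  rw [c_pr, c_pr, H_g_t K I g t hg p n]

include hiso in
lemma hcN : IsIso (homologyMap (aa K I g) p ≫ homologyMap (Pi.π I (-p).toNat) p) := by
  rw [c_pr]
  exact hiso _ p (by omega)

include hiso in
lemma mono_H_aa : Mono (homologyMap (aa K I g) p) :=
  TowerML.mono_c (fun n => (I n).homology p) (fun n => homologyMap (Pi.π I n) p) (-p).toNat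
    _ (hcN K I g hiso p)

include hg hiso hzero in
lemma exact_H (w : homologyMap (aa K I g) p ≫ homologyMap (phi I t) p = 0) :
    (ShortComplex.mk _ _ w).Exact :=
  TowerML.exact_c_psi (fun n => (I n).homology p) (fun n => homologyMap (t n) p)
    (fun n => homologyMap (Pi.π I n) p) (-p).toNat
    (fun n hn => hzero n p (by omega)) (fun n hn => isIso_sM K I g t hg hiso p n hn)
    (ProdHomology.isLimitHomologyProd I p) _ (hpsi I t p) _ (hc K I g t hg p) (hcN K I g hiso p)

end P

include hg hiso hzero in
theorem exists_iso :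
    ∃ ã : Q.obj K ⟶ Q.obj (CochainComplex.mappingCocone (phi I t)), IsIso ã := by
  have hT := DerivedCategory.mappingCocone_triangle_distinguished (phi I t)
  obtain ⟨ã, hã⟩ := Pretriangulated.Triangle.coyoneda_exact₂ _ hT (Q.map (aa K I g))
    (Q_aa_phi K I g t hg)
  refine ⟨ã, isIso_of_triangle _ hT ã (Q.map (aa K I g)) hã.symm ?_ ?_ ?_⟩
  · intro p
    haveI := epi_H_phi K I g t hg hiso hzero p
    exact epi_map_Q (phi I t) p
  · intro p
    haveI := mono_H_aa K I g hiso p
    exact mono_map_Q (aa K I g) p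
  · intro p w
    have w0 : homologyMap (aa K I g) p ≫ homologyMap (phi I t) p = 0 := by
      rw [← HomologicalComplex.homologyMap_comp]
      have := homologyMap_eq_of_Q_map_eq (aa K I g ≫ phi I t) 0
        (by rw [Functor.map_comp, Q_aa_phi K I g t hg, Functor.map_zero]) p
      rw [this, HomologicalComplex.homologyMap_zero]
    exact exact_map_Q (aa K I g) (phi I t) p w0 (exact_H K I g t hg hiso hzero p w0) w

include hg hiso hzero in
theorem exists_quasiIso :
    ∃ f : K ⟶ CochainComplex.mappingCocone (phi I t), QuasiIso f := by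
  obtain ⟨ã, hã⟩ := exists_iso K I g t hg hiso hzero
  haveI := isKInjective_mappingCocone (phi I t)
  obtain ⟨f, hf⟩ := DProd.exists_Q_map_eq K _ ã
  refine ⟨f, ?_⟩
  rw [← isIso_Q_map_iff_quasiIso, ← hf]
  exact hã

end Tower

end Groth.Agent.Lib.Helper5.KInjRes
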