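import Mathlib
import Groth.Agent.Lib.Helper5.KInjRes

/-!
# K-injective resolutions when countable products are exact: the tower (helper5)
-/

set_option autoImplicit false
universe v u
open CategoryTheory CategoryTheory.Limits

namespace Groth.Agent.Lib.Helper5.KInjRes

attribute [local instance] HasDerivedCategory.standard

open DerivedCategory Groth.Agent.Lib.Helper2.KInj Groth.Agent.Lib.Helper5
open HomologicalComplex (homologyMap)

variable {A : Type u} [Category.{v} A] [Abelian A] [EnoughInjectives A]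
  [HasLimitsOfShape (Discrete ℕ) A] [HasExactLimitsOfShape (Discrete ℕ) A]

theorem main (K : CochainComplex A ℤ) :
    ∃ (I : CochainComplex A ℤ) (f : K ⟶ I), I.IsKInjective ∧ QuasiIso f := by
  have hres : ∀ n : ℕ, ∃ (L : CochainComplex A ℤ) (i : K.truncGE (-(n : ℤ)) ⟶ L),
      QuasiIso i ∧ L.IsKInjective := by
    intro n
    obtain ⟨L, i, hi, hL, hLge⟩ :=
      CochainComplex.Plus.modelCategoryQuillen.exists_quasiIso_injective
        (K.truncGE (-(n : ℤ))) (-(n : ℤ))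
    haveI := hL
    haveI := hLge
    exact ⟨L, i, hi, CochainComplex.isKInjective_of_injective L (-(n : ℤ))⟩
  choose I j hj hI using hres
  haveI : ∀ n, (I n).IsKInjective := hI
  haveI : ∀ n, QuasiIso (j n) := hj
  have hu : ∀ n : ℕ, ∃ u : K.truncGE (-((n + 1 : ℕ) : ℤ)) ⟶ K.truncGE (-(n : ℤ)),
      K.πTruncGE (-((n + 1 : ℕ) : ℤ)) ≫ u = K.πTruncGE (-(n : ℤ)) := by
    intro n
    haveI : (K.truncGE (-(n : ℤ))).IsStrictlyGE (-((n + 1 : ℕ) : ℤ)) :=
      CochainComplex.isStrictlyGE_of_ge _ _ (-(n : ℤ)) (by push_cast; omega)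
    refine ⟨CochainComplex.truncGEMap (K.πTruncGE (-(n : ℤ))) (-((n + 1 : ℕ) : ℤ)) ≫
      inv ((K.truncGE (-(n : ℤ))).πTruncGE (-((n + 1 : ℕ) : ℤ))), ?_⟩
    rw [CochainComplex.πTruncGE_naturality_assoc, IsIso.hom_inv_id, Category.comp_id]
  choose u hu using hu
  have ht : ∀ n : ℕ, ∃ t : I (n + 1) ⟶ I n,
      Q.map (j (n + 1)) ≫ Q.map t = Q.map (u n) ≫ Q.map (j n) := by
    intro n
    haveI : IsIso (Q.map (j (n + 1))) := (isIso_Q_map_iff_quasiIso _ (j (n + 1))).2 inferInstance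
    obtain ⟨t, ht⟩ := DProd.exists_Q_map_eq (I (n + 1)) (I n)
      (inv (Q.map (j (n + 1))) ≫ Q.map (u n) ≫ Q.map (j n))
    exact ⟨t, by rw [← ht, IsIso.hom_inv_id_assoc]⟩
  choose t ht using ht
  have hg : ∀ n : ℕ, Q.map (K.πTruncGE (-((n + 1 : ℕ) : ℤ)) ≫ j (n + 1)) ≫ Q.map (t n) =
      Q.map (K.πTruncGE (-(n : ℤ)) ≫ j n) := by
    intro n
    rw [Functor.map_comp, Functor.map_comp, Category.assoc, ht n, ← Category.assoc,
      ← Functor.map_comp, hu n]
  have hiso : ∀ (n : ℕ) (p : ℤ), -(n : ℤ) ≤ p →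
      IsIso (homologyMap (K.πTruncGE (-(n : ℤ)) ≫ j n) p) := by
    intro n p hp
    haveI : QuasiIsoAt (K.πTruncGE (-(n : ℤ))) p := K.quasiIsoAt_πTruncGE _ _ hp
    rw [HomologicalComplex.homologyMap_comp]
    infer_instance
  have hzero : ∀ (n : ℕ) (p : ℤ), p < -(n : ℤ) → IsZero ((I n).homology p) := by
    intro n p hp
    have hz : IsZero ((K.truncGE (-(n : ℤ))).homology p) :=
      ShortComplex.isZero_homology_of_isZero_X₂ _
        (CochainComplex.isZero_of_isStrictlyGE (K.truncGE (-(n : ℤ))) (-(n : ℤ)) p hp)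
    exact IsZero.of_iso hz (asIso (homologyMap (j n) p)).symm
  obtain ⟨f, hf⟩ := exists_quasiIso K I (fun n => K.πTruncGE (-(n : ℤ)) ≫ j n) t hg hiso hzero
  exact ⟨_, f, isKInjective_mappingCocone (phi I t), hf⟩

end Groth.Agent.Lib.Helper5.KInjRes
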