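import Mathlib

/-!
# The spectral object in the derived category attached to a tower of complexes (helper5)

A functor `T : ComposableArrows ι 1 ⥤ CochainComplex C ℤ` such that for every `i ≤ j ≤ k` the
sequence `T(i,j) ⟶ T(i,k) ⟶ T(j,k)` is short exact gives a spectral object in `D(C)`.
-/

set_option autoImplicit false
universe w v u v' u'

namespace Groth.Agent.Lib.Helper5.LGenSO

open CategoryTheory CategoryTheory.Limits ComposableArrows Pretriangulated

variable {C : Type u} [Category.{v} C] [Abelian C] [HasDerivedCategory.{w} C]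
  {ι : Type u'} [Category.{v'} ι]
  (T : ComposableArrows ι 1 ⥤ CochainComplex C ℤ)

/-- the short complex `T(i,j) ⟶ T(i,k) ⟶ T(j,k)` (given that the composition is zero) -/
def sc (w : ∀ D : ComposableArrows ι 2, T.map ((mapFunctorArrows ι 0 1 0 2 2).app D) ≫
    T.map ((mapFunctorArrows ι 0 2 1 2 2).app D) = 0) (D : ComposableArrows ι 2) :
    ShortComplex (CochainComplex C ℤ) :=
  ShortComplex.mk _ _ (w D)

variable (w : ∀ D : ComposableArrows ι 2, T.map ((mapFunctorArrows ι 0 1 0 2 2).app D) ≫
    T.map ((mapFunctorArrows ι 0 2 1 2 2).app D) = 0)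
  (hT : ∀ D : ComposableArrows ι 2, (sc T w D).ShortExact)

/-- functoriality of the short complex -/
def scMap {D D' : ComposableArrows ι 2} (ψ : D ⟶ D') : sc T w D ⟶ sc T w D' where
  τ₁ := T.map ((functorArrows ι 0 1 2).map ψ)
  τ₂ := T.map ((functorArrows ι 0 2 2).map ψ)
  τ₃ := T.map ((functorArrows ι 1 2 2).map ψ)
  comm₁₂ := by
    dsimp [sc]
    rw [← Functor.map_comp, ← Functor.map_comp]
    congr 1
    exact (mapFunctorArrows ι 0 1 0 2 2).naturality ψ
  comm₂₃ := by
    dsimp [sc]
    rw [← Functor.map_comp, ← Functor.map_comp]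
    congr 1
    exact (mapFunctorArrows ι 0 2 1 2 2).naturality ψ

/-- the tower in the derived category -/
noncomputable def ω₁ : ComposableArrows ι 1 ⥤ DerivedCategory C := T ⋙ DerivedCategory.Q

/-- the connecting morphism -/
noncomputable def δ (D : ComposableArrows ι 2) :
    (ω₁ T).obj ((functorArrows ι 1 2 2).obj D) ⟶
      ((ω₁ T).obj ((functorArrows ι 0 1 2).obj D))⟦(1 : ℤ)⟧ :=
  DerivedCategory.triangleOfSESδ (hT D)

lemma δ_naturality {D D' : ComposableArrows ι 2} (ψ : D ⟶ D') :
    (ω₁ T).map ((functorArrows ι 1 2 2).map ψ) ≫ δ T w hT D' =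
      δ T w hT D ≫ ((ω₁ T).map ((functorArrows ι 0 1 2).map ψ))⟦(1 : ℤ)⟧' :=
  (DerivedCategory.triangleOfSESδ_naturality (hT D) (hT D') (scMap T w ψ)).symm

/-- the spectral object of a tower -/
noncomputable def so : Triangulated.SpectralObject (DerivedCategory C) ι where
  ω₁ := ω₁ T
  δ' :=
    { app := fun D => δ T w hT D
      naturality := fun _ _ ψ => δ_naturality T w hT ψ }
  distinguished' D := DerivedCategory.triangleOfSES_distinguished (hT D)

end Groth.Agent.Lib.Helper5.LGenSO
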