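import Groth.Agent.Lib.Helper5.LHomTower
import Groth.Agent.Lib.Helper5.LHomDer

/-!
# The spectral sequence `E₁^{p,q} = Ext^q(P_p, F) ⇒ Ext^{p+q}(M, F)` of a left resolution
`P_• ⟶ M` (helper5)
-/

set_option autoImplicit false
universe v u

namespace Groth.Agent.Lib.Helper5.LeftE1

open CategoryTheory CategoryTheory.Limits ComposableArrows CochainComplex Abelian
open Groth.Agent.Lib.Helper5.RestrictCx Groth.Agent.Lib.Helper5.LHom
open Groth.Agent.Lib.Helper5.LHomTower Groth.Agent.Lib.Helper5.LHomDer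
open Groth.Agent.Lib.Helper5.E1Core Groth.Agent.Lib.Helper2.GSS

variable {C : Type u} [Category.{v} C] [Abelian C] [HasExt.{v} C]
  (P : CochainComplex C ℤ) [P.IsStrictlyLE 0] (M : C) {F : C} (R : InjectiveResolution F)
  (ε : P ⟶ (CochainComplex.singleFunctor C 0).obj M) [QuasiIso ε]

attribute [local instance] HasDerivedCategory.standard

lemma Pc_single (a m : ℤ) :
    Pc (((a - 1 : ℤ) : EInt)) (((a : ℤ) : EInt)) m ↔ m = a := by
  unfold Pc
  rw [WithBotTop.coe_lt_coe, WithBotTop.coe_le_coe]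
  omega

lemma Pc_top (m : ℤ) : Pc (⊥ : EInt) ⊤ m :=
  ⟨bot_lt_iff_ne_bot.2 (WithBotTop.coe_ne_bot _), le_top⟩

/-- the first page -/
noncomputable def firstPageEquiv (p q : ℕ) :
    ((Y P R.cochainComplex).H ((p : ℤ) + (q : ℤ))).obj (mk₁ (homOfLE
      (WithBotTop.coe_le_coe.2 (by omega) :
        ((-(p : ℤ) - 1 : ℤ) : EInt) ≤ ((-(p : ℤ) : ℤ) : EInt)))) ≃+
      Ext.{v} (P.X (-(p : ℤ))) F q :=
  (YHIso P R.cochainComplex ((p : ℤ) + (q : ℤ)) _).addCommGroupIsoToAddEquiv.trans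
    (homologyAddEquivExt _ R (P.X (-(p : ℤ))) (-(-(p : ℤ)))
      (DerivedCategory.Q.mapIso (restrSingleIso P _ (-(p : ℤ)) (fun m => Pc_single (-(p : ℤ)) m)) ≪≫
        singleShiftIso (P.X (-(p : ℤ))) (-(p : ℤ))) q ((p : ℤ) + (q : ℤ)) (by omega))

/-- the abutment -/
noncomputable def abutEquiv (n : ℕ) :
    (abut (Y P R.cochainComplex) (n : ℤ) : AddCommGrpCat.{v}) ≃+ Ext.{v} M F n :=
  (YHIso P R.cochainComplex (n : ℤ) _).addCommGroupIsoToAddEquiv.trans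
    (homologyAddEquivExt _ R M 0
      (DerivedCategory.Q.mapIso (restrTopIso P _ (fun m => Pc_top m)) ≪≫ quasiIsoShiftIso M P ε) n (n : ℤ)
      (by omega))

include R ε in
/-- The spectral sequence `E₁^{p,q} = Ext^q(P^{-p}, F) ⇒ Ext^{p+q}(M, F)` of a left resolution
`P ⟶ M`, in the `if … then … else …` shape used in the statements. -/
theorem exists_spectralSequence_ite
    (Rn : ℕ → AddCommGrpCat.{v})
    (hR : ∀ n : ℕ, Nonempty (Rn n ≅ AddCommGrpCat.of (Ext.{v} M F n)))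
    (E1 : ℕ → ℕ → AddCommGrpCat.{v})
    (hE1 : ∀ p q : ℕ, Nonempty (E1 p q ≅ AddCommGrpCat.of (Ext.{v} (P.X (-(p : ℤ))) F q)))
    (Z Z' : AddCommGrpCat.{v}) (hZ : IsZero Z) (hZ' : IsZero Z') :
    ∃ (E : CohomologicalSpectralSequence AddCommGrpCat.{v} 1)
      (a : SpSeq.Abutment E (fun n : ℤ => if 0 ≤ n then Rn n.toNat else Z)),
      (∀ n, a.IsFinite n) ∧ SpSeq.IsBounded E ∧
      ∀ p q : ℤ, Nonempty ((E.page 1 le_rfl).X (p, q) ≅
        (if 0 ≤ p ∧ 0 ≤ q then E1 p.toNat q.toNat else Z')) := by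
  have e : ∀ n : ℤ, Nonempty ((if 0 ≤ n then Rn n.toNat else Z) ≅
      abut (Y P R.cochainComplex) n) := by
    intro n
    by_cases hn : 0 ≤ n
    · obtain ⟨k, rfl⟩ := Int.eq_ofNat_of_zero_le hn
      obtain ⟨e⟩ := hR k
      simp only [hn, if_true, Int.toNat_natCast]
      exact ⟨e ≪≫ (AddEquiv.toAddCommGrpIso (abutEquiv P M R ε k)).symm⟩
    · simp only [hn, if_false]
      exact ⟨IsZero.iso hZ (isZero_Y_H_of_neg P R.cochainComplex _ _ _ n (by omega))⟩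
  obtain ⟨E, a, ha, hE, h1, h0⟩ := exists_abutment (isFirstQuadrantE₁ P R.cochainComplex) _
    (fun n => (e n).some)
  refine ⟨E, a, ha, hE, ?_⟩
  intro p q
  by_cases hpq : 0 ≤ p ∧ 0 ≤ q
  · obtain ⟨p', rfl⟩ := Int.eq_ofNat_of_zero_le hpq.1
    obtain ⟨q', rfl⟩ := Int.eq_ofNat_of_zero_le hpq.2
    rw [if_pos hpq, Int.toNat_natCast, Int.toNat_natCast]
    obtain ⟨e1⟩ := h1 (p' : ℤ) (q' : ℤ)
    obtain ⟨e'⟩ := hE1 p' q'
    exact ⟨e1 ≪≫ AddEquiv.toAddCommGrpIso (firstPageEquiv P R p' q') ≪≫ e'.symm⟩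
  · rw [if_neg hpq]
    refine ⟨IsZero.iso (h0 p q ?_) hZ'⟩
    rw [not_and_or, not_le, not_le] at hpq
    exact hpq

end Groth.Agent.Lib.Helper5.LeftE1
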