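import Groth.Agent.Lib.Helper5.NatIso
import Groth.Agent.Lib.Helper5.ExtPartial
import Groth.Agent.Lib.Helper13.ClosedEmbPush
import Groth.Agent.Lib.Helper1.FlasqueAcyclic
import Groth.Agent.Lib.Helper5.LHomDer

/-!
# `Ext^q(ℤ[h_Y], G) ≃ H^q(Y, a^* G)` for an open locally injective map `a : Y ⟶ S` (helper5)
-/

set_option autoImplicit false
universe u

namespace Groth.Agent.Lib.Helper5.NatPull

open CategoryTheory CategoryTheory.Limits Opposite TopologicalSpace Topology Abelian
open Groth.Agent.Lib.Helper5.SecSh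

variable {Y S : TopCat.{u}} {a : Y ⟶ S} (ha : IsOpenMap a)
  (hsm : ∀ y : Y, ∃ W : Opens Y, y ∈ W ∧ Set.InjOn a W)

instance mono_M_map {W W' : Opens Y} (f : W ⟶ W') : Mono ((M a).map f) := by
  have h0 : ∀ U, Mono ((secMap a f.le).hom.app U) := fun U => by
    rw [mono_iff_injective]
    intro s t h
    apply secSh_ext
    intro x
    exact congrFun (congrArg Subtype.val h) x
  have h1 : Mono (Functor.whiskerRight (secMap a f.le).hom AddCommGrpCat.free.{u}) := by
    haveI : ∀ U, Mono ((Functor.whiskerRight (secMap a f.le).hom AddCommGrpCat.free.{u}).app U) :=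
      fun U => by
        haveI := h0 U
        exact inferInstanceAs (Mono (AddCommGrpCat.free.{u}.map ((secMap a f.le).hom.app U)))
    apply NatTrans.mono_of_mono_app
  exact inferInstanceAs (Mono ((presheafToSheaf _ AddCommGrpCat.{u}).map
    (Functor.whiskerRight (secMap a f.le).hom AddCommGrpCat.free.{u})))

lemma isFlasque_nat (I : CohTop.Ab S) [Injective I] :
    TopCat.Sheaf.IsFlasque ((natFunctor a).obj I) where
  epi {U V} i := by
    rw [AddCommGrpCat.epi_iff_surjective]
    intro ψ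
    exact ⟨Injective.factorThru (show (M a).obj (unop V) ⟶ I from ψ) ((M a).map i.unop),
      Injective.comp_factorThru (show (M a).obj (unop V) ⟶ I from ψ) ((M a).map i.unop)⟩


lemma isFlasque_of_iso {F G : CohTop.Ab Y} (e : F ≅ G) (hF : TopCat.Sheaf.IsFlasque F) :
    TopCat.Sheaf.IsFlasque G where
  epi {U V} i := by
    have h : G.obj.map i = e.inv.hom.app U ≫ F.obj.map i ≫ e.hom.hom.app V := by
      rw [← e.inv.hom.naturality_assoc]
      have : e.inv.hom.app V ≫ e.hom.hom.app V = 𝟙 _ := by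
        rw [← NatTrans.comp_app, ← ObjectProperty.FullSubcategory.comp_hom, e.inv_hom_id]
        rfl
      rw [this, Category.comp_id]
    rw [h]
    haveI : Epi (F.obj.map i) := hF.epi i
    haveI : IsIso (e.inv.hom.app U) :=
      ⟨e.hom.hom.app U, by
        rw [← NatTrans.comp_app, ← ObjectProperty.FullSubcategory.comp_hom, e.inv_hom_id]; rfl,
        by rw [← NatTrans.comp_app, ← ObjectProperty.FullSubcategory.comp_hom, e.hom_inv_id]; rfl⟩
    haveI : IsIso (e.hom.hom.app V) :=
      ⟨e.inv.hom.app V, by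
        rw [← NatTrans.comp_app, ← ObjectProperty.FullSubcategory.comp_hom, e.hom_inv_id]; rfl,
        by rw [← NatTrans.comp_app, ← ObjectProperty.FullSubcategory.comp_hom, e.inv_hom_id]; rfl⟩
    infer_instance

/-- the constant sheaf `ℤ` -/
noncomputable abbrev ZSh (Y : TopCat.{u}) : CohTop.Ab Y :=
  (constantSheaf (Opens.grothendieckTopology Y) AddCommGrpCat.{u}).obj
    (AddCommGrpCat.of (ULift.{u} ℤ))

/-- morphisms from the constant sheaf `ℤ` are global sections -/
noncomputable def sectEquiv (F : CohTop.Ab Y) : (ZSh Y ⟶ F) ≃+ F.obj.obj (op ⊤) :=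
  ((constantSheafAdj (Opens.grothendieckTopology Y) AddCommGrpCat.{u}
      isTerminalTop).homAddEquiv _ F).trans (AddCommGrpCat.uliftZMultiplesAddEquiv _)

lemma sectEquiv_naturality {F F' : CohTop.Ab Y} (φ : F ⟶ F') (x : ZSh Y ⟶ F) :
    sectEquiv F' (x ≫ φ) = (φ.hom.app (op ⊤)).hom (sectEquiv F x) := by
  show AddCommGrpCat.uliftZMultiplesAddEquiv _
    ((constantSheafAdj (Opens.grothendieckTopology Y) AddCommGrpCat.{u}
      isTerminalTop).homEquiv _ F' (x ≫ φ)) = _
  rw [Adjunction.homEquiv_naturality_right]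
  rfl


instance pull_additive : (CohTop.pull a).Additive :=
  (Groth.Agent.Lib.Helper13.ClosedEmbPush.adj a).left_adjoint_additive

instance pull_preservesFiniteColimits : PreservesFiniteColimits (CohTop.pull a) := by
  have : PreservesColimitsOfSize.{0, 0} (CohTop.pull a) :=
    (Groth.Agent.Lib.Helper13.ClosedEmbPush.adj a).leftAdjoint_preservesColimits
  exact PreservesColimitsOfSize.preservesFiniteColimits.{0, 0} _

/-- `Hom(ℤ[h_Y], G) ≃ Γ(Y, a^* G)` -/
noncomputable def θ (G : CohTop.Ab S) :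
    ((M a).obj ⊤ ⟶ G) ≃+ (ZSh Y ⟶ (CohTop.pull a).obj G) :=
  (show ((M a).obj ⊤ ⟶ G) ≃+ (ZSh Y ⟶ (natFunctor a).obj G) from
    (sectEquiv ((natFunctor a).obj G)).symm).trans
    (Groth.Agent.Lib.Helper5.LHomDer.homCongrAdd (Iso.refl _) ((pullNatIso ha hsm).symm.app G))

lemma θ_apply (G : CohTop.Ab S) (f : (M a).obj ⊤ ⟶ G) :
    θ ha hsm G f = (sectEquiv ((natFunctor a).obj G)).symm f ≫ (pullNatIso ha hsm).inv.app G := by
  show (Iso.refl (ZSh Y)).inv ≫ (sectEquiv ((natFunctor a).obj G)).symm f ≫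
    ((pullNatIso ha hsm).symm.app G).hom = _
  simp

lemma hθ {G G' : CohTop.Ab S} (φ : G ⟶ G') (f : (M a).obj ⊤ ⟶ G) :
    θ ha hsm G' (f ≫ φ) = θ ha hsm G f ≫ (CohTop.pull a).map φ := by
  rw [θ_apply, θ_apply, Category.assoc]
  have h1 : (sectEquiv ((natFunctor a).obj G')).symm (f ≫ φ) =
      (sectEquiv ((natFunctor a).obj G)).symm f ≫ (natFunctor a).map φ := by
    apply (sectEquiv ((natFunctor a).obj G')).injective
    rw [AddEquiv.apply_symm_apply, sectEquiv_naturality, AddEquiv.apply_symm_apply]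
    rfl
  rw [h1, Category.assoc]
  congr 1
  exact (pullNatIso ha hsm).inv.naturality φ

include ha hsm in
theorem nonempty_ext_addEquiv (G : CohTop.Ab S) (q : ℕ) :
    Nonempty (Ext.{u} ((M a).obj ⊤) G q ≃+ CohTop.H ((CohTop.pull a).obj G) q) :=
  Groth.Agent.Lib.Helper5.ExtPartial.nonempty_addEquiv (CohTop.pull a) ((M a).obj ⊤) (ZSh Y)
    (θ ha hsm) (fun φ f => hθ ha hsm φ f)
    (fun I _ n x => Groth.Agent.Lib.Helper1.FlasqueAcyclic.flasque_H_eq_zero n _
      (isFlasque_of_iso ((pullNatIso ha hsm).symm.app I) (isFlasque_nat I)) x) q G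

end Groth.Agent.Lib.Helper5.NatPull
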