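import Groth.Agent.Lib.Helper5.SecWP
import Groth.Agent.Lib.Helper5.NatExt
import Groth.Agent.Lib.Helper5.LeftE1
import Groth.Agent.Lib.Helper5.CechRes
import Groth.Agent.Lib.Helper5.CoContCoh
import Groth.Agent.Lib.Helper13.ExtAdj

/-!
# The descent spectral sequence of a surjective local homeomorphism (helper5)
-/

set_option autoImplicit false
universe u

namespace Groth.Agent.Lib.Helper5.LHDescent

open CategoryTheory CategoryTheory.Limits Opposite TopologicalSpace Topology Abelian
open Groth.Agent.Lib.Helper5.SecSh Groth.Agent.Lib.Helper5.WPTop Groth.Agent.Lib.Helper5.SecWP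
open Groth.Agent.Lib.Helper5.NatPull

variable {X S : TopCat.{u}} (f : X ⟶ S)

/-- the augmented simplicial abelian sheaf: free abelian sheaves on the Čech nerve -/
noncomputable def Aug : SimplicialObject.Augmented (CohTop.Ab S) :=
  ((SimplicialObject.Augmented.whiskering _ _).obj (freeSh S)).obj
    (Arrow.mk (fSh f)).augmentedCechNerve

/-- the chain complex -/
noncomputable def P₀ : ChainComplex (CohTop.Ab S) ℕ :=
  (AlgebraicTopology.alternatingFaceMapComplex _).obj (SimplicialObject.Augmented.drop.obj (Aug f))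

/-- the target of the augmentation -/
noncomputable def MS (S : TopCat.{u}) : CohTop.Ab S := (freeSh S).obj (K S)

/-- the augmentation -/
noncomputable def ε₀ : P₀ f ⟶ (ChainComplex.single₀ _).obj (MS S) :=
  AlgebraicTopology.AlternatingFaceMapComplex.ε.app (Aug f)

lemma quasiIso_ε₀ [Epi (fSh f)] : QuasiIso (ε₀ f) :=
  Groth.Agent.Lib.Helper5.CechRes.quasiIso_free_cechNerve _ (fSh f)

/-- the cochain complex -/
noncomputable def P : CochainComplex (CohTop.Ab S) ℤ :=
  (P₀ f).extend ComplexShape.embeddingDownNat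

instance : (P f).IsStrictlyLE 0 := by
  dsimp [P]
  infer_instance

/-- the augmentation -/
noncomputable def ε : P f ⟶ (CochainComplex.singleFunctor _ 0).obj (MS S) :=
  (ComplexShape.embeddingDownNat.extendFunctor _).map (ε₀ f) ≫
    (HomologicalComplex.extendSingleIso _ _ _ _ (by simp)).hom

set_option backward.defeqAttrib.useBackward true in
set_option backward.isDefEq.respectTransparency false in
lemma quasiIso_ε [Epi (fSh f)] : QuasiIso (ε f) := by
  haveI := quasiIso_ε₀ f
  dsimp [ε]
  infer_instance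

/-- the terms of the complex -/
noncomputable def PXIso (p : ℕ) : (P f).X (-(p : ℤ)) ≅ (M (ap f p)).obj ⊤ :=
  HomologicalComplex.extendXIso (P₀ f) ComplexShape.embeddingDownNat (i := p) (by simp) ≪≫
    (freeSh S).mapIso (cechIso f p)


/-- `ℤ[h_S]` is the constant sheaf `ℤ` -/
noncomputable def MSIso (S : TopCat.{u}) : ZSh S ≅ MS S :=
  have ha : IsOpenMap (𝟙 S) := IsOpenMap.id
  have hT : IsTerminal (ha.functor.obj ⊤) :=
    IsTerminal.ofUniqueHom (fun _ => homOfLE (fun x _ => ⟨x, trivial, rfl⟩))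
      (fun _ _ => Subsingleton.elim _ _)
  haveI : IsIso (κ ha ⊤) := isIso_κ ha ⊤ (fun _ _ _ _ h => h)
  Groth.Agent.Lib.Helper5.CoContCoh.constIsoFreeSheaf (Opens.grothendieckTopology S) hT ≪≫
    (asIso (κ ha ⊤)).symm

variable {f}

/-- the descent spectral sequence of a surjective local homeomorphism -/
theorem exists_spectralSequence (hf : IsLocalHomeomorph f) (hsurj : Function.Surjective f)
    (F : CohTop.Ab S) :
    ∃ (E : CohomologicalSpectralSequence AddCommGrpCat.{u} 1)
      (a : SpSeq.Abutment E (fun n : ℤ =>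
        if 0 ≤ n then AddCommGrpCat.of (CohTop.H F n.toNat) else AddCommGrpCat.of PUnit.{u + 1})),
      (∀ n, a.IsFinite n) ∧ SpSeq.IsBounded E ∧
      ∀ p q : ℤ, Nonempty ((E.page 1 le_rfl).X (p, q) ≅
        (if 0 ≤ p ∧ 0 ≤ q then
          AddCommGrpCat.of (CohTop.H ((CohTop.pull (ap f p.toNat)).obj F) q.toNat)
         else AddCommGrpCat.of PUnit.{u + 1})) := by
  haveI := epi_fSh hf hsurj
  haveI := quasiIso_ε f
  have hZ : IsZero (AddCommGrpCat.of PUnit.{u + 1}) := AddCommGrpCat.isZero_of_subsingleton _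
  refine Groth.Agent.Lib.Helper5.LeftE1.exists_spectralSequence_ite.{u, u + 1} (P f) (MS S)
    (injectiveResolution F) (ε f) (fun n => AddCommGrpCat.of (CohTop.H F n)) ?_
    (fun p q => AddCommGrpCat.of (CohTop.H ((CohTop.pull (ap f p)).obj F) q)) ?_ _ _ hZ hZ
  · intro n
    exact ⟨(Groth.Agent.Lib.Helper13.ExtAdj.extIsoLeft (MSIso S) F n).symm.toAddCommGrpIso⟩
  · intro p q
    obtain ⟨e1⟩ := nonempty_ext_addEquiv (isOpenMap_ap p hf) (fun y => exists_injOn p hf y) F q
    exact ⟨(e1.symm.trans
      (Groth.Agent.Lib.Helper13.ExtAdj.extIsoLeft (PXIso f p) F q)).toAddCommGrpIso⟩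

end Groth.Agent.Lib.Helper5.LHDescent
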