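import Groth.Agent.Lib.Helper5.LHom
import Groth.Agent.Lib.Helper5.LGenSO
import Groth.Agent.Lib.Helper5.E1Abut
import Groth.Agent.Lib.Helper2.GSS.MapHomological

/-!
# The tower of Hom complexes out of the stupid filtration of a complex (helper5)
-/

set_option autoImplicit false
universe w v u

namespace Groth.Agent.Lib.Helper5.LHomTower

open CategoryTheory CategoryTheory.Limits ComposableArrows CochainComplex
open Groth.Agent.Lib.Helper5.RestrictCx Groth.Agent.Lib.Helper5.LHom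

/-- the degrees `n` with `i < n ≤ j` -/
def Pc (i j : EInt) (n : ℤ) : Prop := i < ((n : ℤ) : EInt) ∧ ((n : ℤ) : EInt) ≤ j

noncomputable instance (i j : EInt) : DecidablePred (Pc i j) := fun _ => Classical.propDecidable _

lemma Pc_cond {i j i' j' : EInt} (hi : i ≤ i') (hj : j ≤ j') (n : ℤ)
    (h : Pc i' j' n) (h' : Pc i j (n + 1)) : Pc i' j' (n + 1) ↔ Pc i j n := by
  have hlt : ((n : ℤ) : EInt) < ((n + 1 : ℤ) : EInt) := WithBotTop.coe_lt_coe.2 (by omega)
  constructor
  · intro _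
    exact ⟨lt_of_le_of_lt hi h.1, hlt.le.trans h'.2⟩
  · intro _
    exact ⟨h.1.trans hlt, h'.2.trans hj⟩

lemma Pc_mid {i j i' j' i'' j'' : EInt} (n : ℤ)
    (h'' : Pc i'' j'' n) (h : Pc i j n) (hi' : i' ≤ i'') (hj' : j ≤ j') : Pc i' j' n :=
  ⟨lt_of_le_of_lt hi' h''.1, h.2.trans hj'⟩

lemma Pc_or {i j k : EInt} (hij : i ≤ j) (hjk : j ≤ k) (n : ℤ) :
    Pc i k n ↔ (Pc j k n ∨ Pc i j n) := by
  constructor
  · intro h
    rcases le_or_gt ((n : ℤ) : EInt) j with h' | h'
    · exact Or.inr ⟨h.1, h'⟩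
    · exact Or.inl ⟨h', h.2⟩
  · rintro (h | h)
    · exact ⟨lt_of_le_of_lt hij h.1, h.2⟩
    · exact ⟨h.1, h.2.trans hjk⟩

lemma Pc_disj {i j k : EInt} (n : ℤ) : ¬ (Pc j k n ∧ Pc i j n) := fun h =>
  absurd h.2.2 (not_le.2 h.1.1)

variable {C : Type u} [Category.{v} C] [Abelian C] (P I : CochainComplex C ℤ)

/-- the tower of Hom complexes -/
noncomputable def T : ComposableArrows EInt 1 ⥤ CochainComplex AddCommGrpCat.{v} ℤ where
  obj D := HomComplex (restr P (Pc (D.obj 0) (D.obj 1))) I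
  map {D D'} φ := homMap I (rmap P (Pc (D'.obj 0) (D'.obj 1)) (Pc (D.obj 0) (D.obj 1))
    (Pc_cond (leOfHom (φ.app 0)) (leOfHom (φ.app 1))))
  map_id _ := by
    rw [rmap_self, homMap_id]
  map_comp {D D' D''} φ ψ := by
    rw [← homMap_comp]
    congr 1
    exact (rmap_comp P _ _ _ _ _ _ (fun n h'' h =>
      Pc_mid (i := D.obj 0) (j := D.obj 1) (i' := D'.obj 0) (j' := D'.obj 1) n h'' h
        (leOfHom (ψ.app 0)) (leOfHom (φ.app 1)))).symm

/-- the short exact sequence of restrictions -/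
noncomputable def rsc (D : ComposableArrows EInt 2) : ShortComplex (CochainComplex C ℤ) :=
  sc P (Pc (D.obj' 1) (D.obj' 2)) (Pc (D.obj' 0) (D.obj' 2)) (Pc (D.obj' 0) (D.obj' 1))
    (Pc_cond (leOfHom (D.map' 0 1)) le_rfl) (Pc_cond le_rfl (leOfHom (D.map' 1 2)))
    (fun n => Pc_disj n)

lemma T_w (D : ComposableArrows EInt 2) :
    (T P I).map ((mapFunctorArrows EInt 0 1 0 2 2).app D) ≫
      (T P I).map ((mapFunctorArrows EInt 0 2 1 2 2).app D) = 0 :=
  (homSc I (rsc P D)).zero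

lemma T_shortExact (D : ComposableArrows EInt 2) :
    (LGenSO.sc (T P I) (T_w P I) D).ShortExact := by
  let σ := fun n => splittingDeg P (Pc (D.obj' 1) (D.obj' 2)) (Pc (D.obj' 0) (D.obj' 2))
    (Pc (D.obj' 0) (D.obj' 1)) (Pc_or (leOfHom (D.map' 0 1)) (leOfHom (D.map' 1 2)))
    (fun n => Pc_disj n) n
  exact homSc_shortExact I (rsc P D) (fun n => (σ n).r) (fun n => (σ n).s)
    (fun n => (σ n).f_r) (fun n => (σ n).s_g) (fun n => (σ n).id)

section SO

open Groth.Agent.Lib.Helper2.GSS Groth.Agent.Lib.Helper5.E1Core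

attribute [local instance] HasDerivedCategory.standard

/-- the spectral object of abelian groups -/
noncomputable def Y : Abelian.SpectralObject AddCommGrpCat.{v} EInt :=
  mapHomological (LGenSO.so (T P I) (T_w P I) (T_shortExact P I))
    (DerivedCategory.homologyFunctor AddCommGrpCat.{v} 0)

/-- the terms of the spectral object are the cohomology groups of the Hom complexes -/
noncomputable def YHIso (n : ℤ) (D : ComposableArrows EInt 1) :
    ((Y P I).H n).obj D ≅ ((T P I).obj D).homology n :=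
  (DerivedCategory.homologyFunctorFactors AddCommGrpCat.{v} n).app ((T P I).obj D)

lemma isZero_T_obj_of_nonneg [P.IsStrictlyLE 0] (i j : EInt) (hij : i ≤ j)
    (hi : ((0 : ℤ) : EInt) ≤ i) : IsZero ((T P I).obj (mk₁ (homOfLE hij))) := by
  apply isZero_homComplex
  apply isZero_restr
  intro n hn
  have h1 : ((0 : ℤ) : EInt) < ((n : ℤ) : EInt) := lt_of_le_of_lt hi hn.1
  have := WithBotTop.coe_lt_coe.1 h1
  exact P.isZero_of_isStrictlyLE 0 n

lemma isZero_T_obj_X [I.IsStrictlyGE 0] (i j : EInt) (hij : i ≤ j) (n : ℤ)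
    (hj : j < ((-n : ℤ) : EInt)) : IsZero (((T P I).obj (mk₁ (homOfLE hij))).X n) := by
  have : Subsingleton (HomComplex.Cochain (restr P (Pc i j)) I n) := by
    refine ⟨fun z z' => ?_⟩
    ext p q hpq
    by_cases hp : Pc i j p
    · have h1 : ((p : ℤ) : EInt) < ((-n : ℤ) : EInt) := lt_of_le_of_lt hp.2 hj
      have := WithBotTop.coe_lt_coe.1 h1
      exact (I.isZero_of_isStrictlyGE 0 q).eq_of_tgt _ _
    · exact (isZero_rX P (Pc i j) hp).eq_of_src _ _
  show IsZero (AddCommGrpCat.of (HomComplex.Cochain (restr P (Pc i j)) I n))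
  exact AddCommGrpCat.isZero_of_subsingleton _

lemma isZero_T_obj_X_of_neg [P.IsStrictlyLE 0] [I.IsStrictlyGE 0] (i j : EInt) (hij : i ≤ j)
    (n : ℤ) (hn : n < 0) : IsZero (((T P I).obj (mk₁ (homOfLE hij))).X n) := by
  have : Subsingleton (HomComplex.Cochain (restr P (Pc i j)) I n) := by
    refine ⟨fun z z' => ?_⟩
    ext p q hpq
    by_cases hp : p ≤ 0
    · exact (I.isZero_of_isStrictlyGE 0 q).eq_of_tgt _ _
    · exact (isZero_rX_of_isZero P (Pc i j) (P.isZero_of_isStrictlyLE 0 p)).eq_of_src _ _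
  show IsZero (AddCommGrpCat.of (HomComplex.Cochain (restr P (Pc i j)) I n))
  exact AddCommGrpCat.isZero_of_subsingleton _

lemma isZero_Y_H_of_neg [P.IsStrictlyLE 0] [I.IsStrictlyGE 0] (i j : EInt) (hij : i ≤ j)
    (n : ℤ) (hn : n < 0) : IsZero (((Y P I).H n).obj (mk₁ (homOfLE hij))) :=
  IsZero.of_iso (ShortComplex.isZero_homology_of_isZero_X₂ _
      (isZero_T_obj_X_of_neg P I i j hij n hn))
    (YHIso P I n (mk₁ (homOfLE hij)))

lemma isFirstQuadrantE₁ [P.IsStrictlyLE 0] [I.IsStrictlyGE 0] : IsFirstQuadrantE₁ (Y P I) where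
  isZero₁ i j hij hi n := by
    show IsZero (((DerivedCategory.homologyFunctor AddCommGrpCat.{v} 0).shift n).obj
      (DerivedCategory.Q.obj ((T P I).obj (mk₁ (homOfLE hij)))))
    exact Functor.map_isZero _ (Functor.map_isZero _ (isZero_T_obj_of_nonneg P I i j hij hi))
  isZero₂ i j hij n hj :=
    IsZero.of_iso (ShortComplex.isZero_homology_of_isZero_X₂ _ (isZero_T_obj_X P I i j hij n hj))
      (YHIso P I n (mk₁ (homOfLE hij)))

end SO

end Groth.Agent.Lib.Helper5.LHomTower
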