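import Groth.Agent.Lib.Helper5.LTorsion
import Groth.Agent.Lib.Helper5.EtSectDerived
import Groth.Agent.Lib.Helper15.AcycComp

set_option autoImplicit false
universe u
open CategoryTheory CategoryTheory.Limits AlgebraicGeometry Opposite

namespace Groth.Agent.Lib.Helper5.LTorsionPush

open Groth.Agent.Lib.Helper5.LTorsion Groth.Agent.Lib.Helper5.EtSectDerived

variable {Y : Scheme.{u}}

/-- affine refinement in the small étale site. -/
lemma exists_affine_refinement (V : Y.Etale) (v : V.left) :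
    ∃ (V' : Y.Etale) (g : V' ⟶ V) (v' : V'.left), IsAffine V'.left ∧ g.left.base v' = v := by
  obtain ⟨W, hW, hvW, -⟩ := exists_isAffineOpen_mem_and_subset (x := v) (U := ⊤) trivial
  haveI : Etale V.hom := V.prop
  let V' : Y.Etale := Scheme.Etale.mk (W.ι ≫ V.hom)
  let g : V' ⟶ V := MorphismProperty.Over.homMk W.ι rfl trivial
  refine ⟨V', g, ⟨v, hvW⟩, hW, rfl⟩


/-- the sheafification of a presheaf that is `L`-torsion on affines is an `L`-torsion sheaf. -/
lemma isLTorsion_sheafify (L : Set ℕ) (P : Y.Etaleᵒᵖ ⥤ AddCommGrpCat.{u + 1})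
    (hP : ∀ (V : Y.Etale), IsAffine V.left → ∀ c : P.obj (op V),
      ∃ m : ℕ, EtAcyc.PrimesIn L m ∧ m • c = 0) :
    EtAcyc.IsLTorsion L ((presheafToSheaf Y.smallEtaleTopology AddCommGrpCat.{u + 1}).obj P) := by
  intro U σ x
  have hmem := Presheaf.imageSieve_mem Y.smallEtaleTopology
    (toSheafify Y.smallEtaleTopology P) σ
  obtain ⟨V, g, v, ⟨c, hc⟩, hv⟩ := pointwise_of_mem_smallEtale _ hmem x
  obtain ⟨V', g', v', hV', hv'⟩ := exists_affine_refinement V v
  obtain ⟨m, hm, hmc⟩ := hP V' hV' ((P.map g'.op).hom c)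
  refine ⟨V', g' ≫ g, m, ⟨v', ?_⟩, hm, ?_⟩
  · change g.left.base (g'.left.base v') = x
    rw [hv', hv]
  · have hnat := ConcreteCategory.congr_hom
      ((toSheafify Y.smallEtaleTopology P).naturality g'.op) c
    have h1 : (((presheafToSheaf Y.smallEtaleTopology AddCommGrpCat.{u + 1}).obj P).obj.map
        (g' ≫ g).op).hom σ =
        ((toSheafify Y.smallEtaleTopology P).app (op V')).hom ((P.map g'.op).hom c) := by
      rw [op_comp, Functor.map_comp]
      change ((sheafify Y.smallEtaleTopology P).map g'.op).hom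
        (((sheafify Y.smallEtaleTopology P).map g.op).hom σ) = _
      rw [← hc]
      exact hnat.symm
    change m • (((presheafToSheaf Y.smallEtaleTopology AddCommGrpCat.{u + 1}).obj P).obj.map
        (g' ≫ g).op).hom σ = 0
    rw [h1, ← map_nsmul, hmc, map_zero]


section Push

open Groth.Agent.Lib.Helper13.DerivedCommute

variable {X : Scheme.{u}} (f : X ⟶ Y)

/-- the presheaf of higher direct images. -/
noncomputable abbrev PR (F : EtCoh.Ab X) (q : ℕ) : Y.Etaleᵒᵖ ⥤ AddCommGrpCat.{u + 1} :=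
  ((EtCoh.push f ⋙ sheafToPresheaf Y.smallEtaleTopology AddCommGrpCat.{u + 1}).rightDerived q).obj F

noncomputable def e1 : EtCoh.push f ≅
    (EtCoh.push f ⋙ sheafToPresheaf Y.smallEtaleTopology AddCommGrpCat.{u + 1}) ⋙
      presheafToSheaf Y.smallEtaleTopology AddCommGrpCat.{u + 1} :=
  (Functor.rightUnitor (EtCoh.push f)).symm ≪≫
    Functor.isoWhiskerLeft (EtCoh.push f)
      (asIso (sheafificationAdjunction Y.smallEtaleTopology AddCommGrpCat.{u + 1}).counit).symm ≪≫
    (Functor.associator _ _ _).symm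

/-- `R^q f_* F` is the sheafification of the presheaf of higher direct images. -/
noncomputable def RpushIsoSheafify (F : EtCoh.Ab X) (q : ℕ) :
    (EtCoh.Rpush f q).obj F ≅
      (presheafToSheaf Y.smallEtaleTopology AddCommGrpCat.{u + 1}).obj (PR f F q) :=
  rightDerivedObjIsoOfNatIso (e1 f) q F ≪≫
    rightDerivedCompExactObjIso
      (EtCoh.push f ⋙ sheafToPresheaf Y.smallEtaleTopology AddCommGrpCat.{u + 1})
      (presheafToSheaf Y.smallEtaleTopology AddCommGrpCat.{u + 1}) q F

/-- sections of the presheaf of higher direct images. -/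
noncomputable def PRsections (F : EtCoh.Ab X) (q : ℕ) (V : Y.Etale) :
    (PR f F q).obj (op V) ≅ ((Γ ((EtCoh.bc f).obj V)).rightDerived q).obj F :=
  (rightDerivedCompExactObjIso
      (EtCoh.push f ⋙ sheafToPresheaf Y.smallEtaleTopology AddCommGrpCat.{u + 1})
      ((evaluation Y.Etaleᵒᵖ AddCommGrpCat.{u + 1}).obj (op V)) q F).symm ≪≫
    rightDerivedObjIsoOfNatIso
      (NatIso.ofComponents (fun _ => Iso.refl _) (fun {A B} φ => by
        simp only [Iso.refl_hom, Category.comp_id, Category.id_comp]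
        rfl) :
        (EtCoh.push f ⋙ sheafToPresheaf Y.smallEtaleTopology AddCommGrpCat.{u + 1}) ⋙
          (evaluation Y.Etaleᵒᵖ AddCommGrpCat.{u + 1}).obj (op V) ≅ Γ ((EtCoh.bc f).obj V)) q F


lemma isLTorsion_of_iso (L : Set ℕ) {G G' : EtCoh.Ab Y} (e : G ≅ G')
    (h : EtAcyc.IsLTorsion L G') : EtAcyc.IsLTorsion L G := by
  intro U s x
  obtain ⟨V, g, m, hv, hm, hs⟩ := h U ((e.hom.hom.app (op U)).hom s) x
  refine ⟨V, g, m, hv, hm, ?_⟩
  have hnat := ConcreteCategory.congr_hom (e.hom.hom.naturality g.op) s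
  have hinj : Function.Injective (e.hom.hom.app (op V)).hom := by
    have : IsIso (e.hom.hom.app (op V)) :=
      inferInstanceAs (IsIso ((sheafToPresheaf _ _ ⋙ (evaluation _ _).obj (op V)).map e.hom))
    exact (ConcreteCategory.bijective_of_isIso (e.hom.hom.app (op V))).1
  apply hinj
  rw [map_nsmul, map_zero]
  have h2 : (e.hom.hom.app (op V)).hom ((G.obj.map g.op).hom s) =
      (G'.obj.map g.op).hom ((e.hom.hom.app (op U)).hom s) := hnat
  rw [h2]
  exact hs

theorem isLTorsion_Rpush [QuasiCompact f] [QuasiSeparated f] (L : Set ℕ) (F : EtCoh.Ab X)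
    (hF : EtAcyc.IsLTorsion L F) (q : ℕ) :
    EtAcyc.IsLTorsion L ((EtCoh.Rpush f q).obj F) := by
  refine isLTorsion_of_iso L (RpushIsoSheafify f F q) (isLTorsion_sheafify L _ ?_)
  intro V hV c
  let W : X.Etale := (EtCoh.bc f).obj V
  let Vl : Scheme.{u} := V.left
  let pV : Vl ⟶ Y := V.hom
  let Wl : Scheme.{u} := W.left
  have hVl : IsAffine Vl := hV
  have hqc1 : QuasiCompact (pullback.fst pV f) := inferInstance
  have hqs1 : QuasiSeparated (pullback.fst pV f) := inferInstance
  have hcs0 : CompactSpace (pullback pV f : Scheme.{u}) :=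
    @QuasiCompact.compactSpace_of_compactSpace _ _ (pullback.fst pV f) hqc1 _
  have hqs0 : QuasiSeparatedSpace (pullback pV f : Scheme.{u}) :=
    @quasiSeparatedSpace_of_quasiSeparated _ _ (pullback.fst pV f) _ hqs1
  have hcs : CompactSpace Wl := hcs0
  have hqs : QuasiSeparatedSpace Wl := hqs0
  let iso : (PR f F q).obj (op V) ≅
      AddCommGrpCat.of (EtCoh.H W.left ((EtCoh.pull W.hom).obj F) q) :=
    PRsections f F q V ≪≫ sectDerivedIso W F q
  have hpull : EtAcyc.IsLTorsion L ((EtCoh.pull W.hom).obj F) :=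
    Groth.Agent.Lib.Helper15.AcycComp.isLTorsion_pull W.hom L F hF
  obtain ⟨m, hm, hmc⟩ := exists_nsmul_eq_zero (Z := Wl) L _ hpull q (iso.hom.hom c)
  refine ⟨m, hm, ?_⟩
  apply (ConcreteCategory.bijective_of_isIso iso.hom).1
  rw [map_nsmul, map_zero]
  exact hmc

end Push

end Groth.Agent.Lib.Helper5.LTorsionPush
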