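import Groth.Agent.Lib.Helper5.PullGen
import Groth.Agent.Lib.Helper5.GenLocal
import Groth.Agent.Lib.Helper5.GenConst
import Groth.Agent.Lib.Helper2.TExact.AdjUnitCounit

/-!
# The derived unit `M[0] ⟶ Rf_* f^* M[0]` is invertible when `f^* M` is locally acyclic (helper5)
-/

set_option autoImplicit false
universe w u
open CategoryTheory CategoryTheory.Limits CategoryTheory.Pretriangulated Opposite

noncomputable section
namespace Groth.Agent.Lib.Helper5.LerayUnit

open Groth.Agent.Lib.Helper2.ModHomAcyclic Groth.Agent.Lib.Helper2.TExactIso DerivedCategory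

section Adj

variable {𝒜 ℬ : Type*} [Category 𝒜] [Category ℬ] {L : ℬ ⥤ 𝒜} {Rr : 𝒜 ⥤ ℬ} (adj : L ⊣ Rr)

/-- a left adjoint is bijective on `Hom(X, Y)` when the unit at `Y` is invertible -/
lemma map_bijective_of_isIso_unit (X Y : ℬ) [IsIso (adj.unit.app Y)] :
    Function.Bijective (fun φ : X ⟶ Y => L.map φ) := by
  have h : ∀ φ : X ⟶ Y, adj.homEquiv X (L.obj Y) (L.map φ) = φ ≫ adj.unit.app Y := fun φ => by
    rw [Adjunction.homEquiv_unit]
    exact (adj.unit.naturality φ).symm
  constructor
  · intro φ φ' hφ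
    have h1 : adj.homEquiv X (L.obj Y) (L.map φ) = adj.homEquiv X (L.obj Y) (L.map φ') :=
      congrArg _ hφ
    rw [h, h] at h1
    exact (cancel_mono _).1 h1
  · intro g
    refine ⟨adj.homEquiv X _ g ≫ inv (adj.unit.app Y), ?_⟩
    apply (adj.homEquiv X (L.obj Y)).injective
    change adj.homEquiv X (L.obj Y) (L.map _) = _
    rw [h, Category.assoc, IsIso.inv_hom_id, Category.comp_id]

end Adj

variable {C : Type u} [SmallCategory C] {J : GrothendieckTopology C} {O_C : Sheaf J CommRingCat.{u}}
  {D : Type u} [SmallCategory D] {K : GrothendieckTopology D} {O_D : Sheaf K CommRingCat.{u}}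
  (f : ModSite.RMor O_C O_D) [PreservesFiniteLimits f.pull]
  [HasDerivedCategory.{w} (ModSite.Mod O_C)] [HasDerivedCategory.{w} (ModSite.Mod O_D)]
  {R : DerivedCategory (ModSite.Mod O_C) ⥤ DerivedCategory (ModSite.Mod O_D)}
  (adj : f.pull.mapDerivedCategory ⊣ R)

/-- `f^*` of the generator in degree zero -/
def e₁ (W : D) : f.pull.mapDerivedCategory.obj (GenSite.sg.obj ((ModGen.gen O_D).G W)) ≅
    GenSite.sg.obj ((ModGen.gen O_C).G (f.fn.obj W)) :=
  (f.pull.mapDerivedCategorySingleFunctor 0).app ((ModGen.gen O_D).G W) ≪≫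
    GenSite.sg.mapIso (PullGen.pullGenIso f W).symm

/-- `Φ` is bijective on `Hom(σ G W, σ M)` when the module unit at `M` is invertible -/
lemma mapD_bijective (M : ModSite.Mod O_D) [IsIso (f.adj.unit.app M)] (X₀ : ModSite.Mod O_D) :
    Function.Bijective (fun y : GenSite.sg.obj X₀ ⟶ GenSite.sg.obj M =>
      f.pull.mapDerivedCategory.map y) := by
  have hb := map_bijective_of_isIso_unit f.adj X₀ M
  have hnat : ∀ y₀ : X₀ ⟶ M, f.pull.mapDerivedCategory.map (GenSite.sg.map y₀) =
      (f.pull.mapDerivedCategorySingleFunctor 0).hom.app X₀ ≫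
        GenSite.sg.map (f.pull.map y₀) ≫ (f.pull.mapDerivedCategorySingleFunctor 0).inv.app M := by
    intro y₀
    have h1 := (f.pull.mapDerivedCategorySingleFunctor 0).hom.naturality y₀
    exact ((Iso.eq_comp_inv ((f.pull.mapDerivedCategorySingleFunctor 0).app M)).2 h1).trans
      (Category.assoc _ _ _)
  constructor
  · intro y y' hy
    obtain ⟨y₀, rfl⟩ := GenSite.sg.map_surjective y
    obtain ⟨y₀', rfl⟩ := GenSite.sg.map_surjective y'
    have h2 : f.pull.mapDerivedCategory.map (GenSite.sg.map y₀) =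
        f.pull.mapDerivedCategory.map (GenSite.sg.map y₀') := hy
    rw [hnat, hnat, cancel_epi, cancel_mono] at h2
    have h3 : f.pull.map y₀ = f.pull.map y₀' := GenSite.sg.map_injective h2
    rw [hb.1 h3]
  · intro g
    obtain ⟨g₀, hg₀⟩ := GenSite.sg.map_surjective
      ((f.pull.mapDerivedCategorySingleFunctor 0).inv.app X₀ ≫ g ≫
        (f.pull.mapDerivedCategorySingleFunctor 0).hom.app M)
    obtain ⟨y₀, hy₀⟩ := hb.2 g₀
    refine ⟨GenSite.sg.map y₀, ?_⟩
    change f.pull.mapDerivedCategory.map (GenSite.sg.map y₀) = g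
    have hy₀' : f.pull.map y₀ = g₀ := hy₀
    rw [hnat, hy₀', hg₀]
    simp

include adj in
theorem isIso_unit_single (M : ModSite.Mod O_D) (hmod : IsIso (f.adj.unit.app M)) (B : Set D)
    (hB : ∀ U : D, ∃ (ι : Type u) (Y : ι → D) (g : ∀ i, Y i ⟶ U),
      Sieve.ofArrows Y g ∈ K U ∧ ∀ i, Y i ∈ B)
    (hvan : ∀ W ∈ B, ∀ q : ℕ, 0 < q →
      Subsingleton (ModSite.HU O_C (f.pull.obj M) q (f.fn.obj W))) :
    IsIso (adj.unit.app ((DerivedCategory.singleFunctor _ 0).obj M)) := by
  letI := adj.rightAdjointCommShift ℤ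
  haveI := adj.commShift_of_leftAdjoint ℤ
  haveI := adj.right_adjoint_additive
  have hhe0 : ∀ (Z : DerivedCategory (ModSite.Mod O_D)) (Y : DerivedCategory (ModSite.Mod O_C))
      (z : Z ⟶ R.obj Y), (adj.homEquiv Z Y).symm z = 0 → z = 0 := by
    intro Z Y z hz
    have h1 : z = adj.homEquiv Z Y ((adj.homEquiv Z Y).symm z) := by simp
    rw [h1, hz, Adjunction.homEquiv_unit, Functor.map_zero, comp_zero]
  have hhe : ∀ {Z X' : DerivedCategory (ModSite.Mod O_D)} (y : Z ⟶ X'),
      adj.homEquiv Z (f.pull.mapDerivedCategory.obj X') (f.pull.mapDerivedCategory.map y) =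
        y ≫ adj.unit.app X' := by
    intro Z X' y
    rw [Adjunction.homEquiv_unit]
    exact (adj.unit.naturality y).symm
  rw [DerivedCategory.isIso_iff]
  intro q
  have hGE : (R.obj (f.pull.mapDerivedCategory.obj (GenSite.sg.obj M))).IsGE 0 :=
    isGE_rightAdjoint_obj adj _ 0 (isGE_mapDerivedCategory_obj f.pull _ 0 inferInstance)
  rcases lt_trichotomy q 0 with hq | rfl | hq
  · have h1 : IsZero ((homologyFunctor _ q).obj (GenSite.sg.obj M)) :=
      isZero_of_isGE (GenSite.sg.obj M) 0 q hq
    have h2 : IsZero ((homologyFunctor _ q).obj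
        (R.obj (f.pull.mapDerivedCategory.obj (GenSite.sg.obj M)))) :=
      isZero_of_isGE _ 0 q hq
    exact ⟨0, h1.eq_of_src _ _, h2.eq_of_src _ _⟩
  · -- degree zero
    haveI := hmod
    apply GenSite.isIso_homology_of_local_bijective (ModGen.gen O_D) _ 0 B hB
    · intro W hW z hz
      have h1 : (shiftFunctorZero (DerivedCategory (ModSite.Mod O_D)) ℤ).hom.app (GenSite.sg.obj M) ≫
          adj.unit.app (GenSite.sg.obj M) =
          (shiftFunctor (DerivedCategory (ModSite.Mod O_D)) (0 : ℤ)).map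
            (adj.unit.app (GenSite.sg.obj M)) ≫
            (shiftFunctorZero (DerivedCategory (ModSite.Mod O_D)) ℤ).hom.app
              (R.obj (f.pull.mapDerivedCategory.obj (GenSite.sg.obj M))) :=
        ((shiftFunctorZero (DerivedCategory (ModSite.Mod O_D)) ℤ).hom.naturality
          (adj.unit.app (GenSite.sg.obj M))).symm
      have hz' : z ≫ (shiftFunctor (DerivedCategory (ModSite.Mod O_D)) (0 : ℤ)).map
          (adj.unit.app (GenSite.sg.obj M)) = 0 := hz
      have hy : (z ≫ (shiftFunctorZero (DerivedCategory (ModSite.Mod O_D)) ℤ).hom.app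
          (GenSite.sg.obj M)) ≫ adj.unit.app (GenSite.sg.obj M) = 0 := by
        rw [Category.assoc, h1, ← Category.assoc, hz', zero_comp]
      have hy2 : f.pull.mapDerivedCategory.map
          (z ≫ (shiftFunctorZero _ ℤ).hom.app (GenSite.sg.obj M)) = 0 := by
        apply (adj.homEquiv _ _).injective
        refine (hhe _).trans (hy.trans ?_)
        rw [Adjunction.homEquiv_unit, Functor.map_zero, comp_zero]
      have hy3 : z ≫ (shiftFunctorZero _ ℤ).hom.app (GenSite.sg.obj M) = 0 := by
        apply (mapD_bijective f M ((ModGen.gen O_D).G W)).1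
        change f.pull.mapDerivedCategory.map _ = f.pull.mapDerivedCategory.map 0
        rw [hy2, Functor.map_zero]
      rw [← cancel_mono ((shiftFunctorZero _ ℤ).hom.app (GenSite.sg.obj M)), hy3, zero_comp]
    · intro W hW z'
      let z'' : GenSite.sg.obj ((ModGen.gen O_D).G W) ⟶
          R.obj (f.pull.mapDerivedCategory.obj (GenSite.sg.obj M)) :=
        z' ≫ (shiftFunctorZero (DerivedCategory (ModSite.Mod O_D)) ℤ).hom.app
          (R.obj (f.pull.mapDerivedCategory.obj (GenSite.sg.obj M)))
      obtain ⟨y, hy⟩ := (mapD_bijective f M ((ModGen.gen O_D).G W)).2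
        ((adj.homEquiv _ _).symm z'')
      have hy' : f.pull.mapDerivedCategory.map y = (adj.homEquiv _ _).symm z'' := hy
      have h2 : y ≫ adj.unit.app (GenSite.sg.obj M) = z'' :=
        (hhe y).symm.trans ((congrArg _ hy').trans (Equiv.apply_symm_apply _ _))
      have h1 : adj.unit.app (GenSite.sg.obj M) ≫
          (shiftFunctorZero (DerivedCategory (ModSite.Mod O_D)) ℤ).inv.app
            (R.obj (f.pull.mapDerivedCategory.obj (GenSite.sg.obj M))) =
          (shiftFunctorZero (DerivedCategory (ModSite.Mod O_D)) ℤ).inv.app (GenSite.sg.obj M) ≫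
            (shiftFunctor (DerivedCategory (ModSite.Mod O_D)) (0 : ℤ)).map
              (adj.unit.app (GenSite.sg.obj M)) :=
        (shiftFunctorZero (DerivedCategory (ModSite.Mod O_D)) ℤ).inv.naturality
          (adj.unit.app (GenSite.sg.obj M))
      refine ⟨y ≫ (shiftFunctorZero (DerivedCategory (ModSite.Mod O_D)) ℤ).inv.app
        (GenSite.sg.obj M), ?_⟩
      change (y ≫ (shiftFunctorZero (DerivedCategory (ModSite.Mod O_D)) ℤ).inv.app
        (GenSite.sg.obj M)) ≫ (shiftFunctor (DerivedCategory (ModSite.Mod O_D)) (0 : ℤ)).map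
          (adj.unit.app (GenSite.sg.obj M)) = z'
      rw [Category.assoc, ← h1, ← Category.assoc, h2]
      dsimp only [z'']
      rw [Category.assoc, Iso.hom_inv_id_app]
      exact Category.comp_id _
  · -- positive degrees
    have h1 : IsZero ((homologyFunctor _ q).obj (GenSite.sg.obj M)) :=
      isZero_of_isLE (GenSite.sg.obj M) 0 q hq
    have h2 : IsZero ((homologyFunctor _ q).obj
        (R.obj (f.pull.mapDerivedCategory.obj (GenSite.sg.obj M)))) := by
      apply GenSite.isZero_homology_of_local_vanish (ModGen.gen O_D) _ q B hB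
      intro W hW z'
      haveI := hvan W hW q.toNat (by omega)
      have h3 : z' ≫ (R.commShiftIso q).inv.app _ = 0 := by
        apply hhe0
        have h0 := ModGen.extVanish O_C (f.pull.obj M) (f.fn.obj W) q.toNat q (by omega)
          ((e₁ f W).inv ≫ (adj.homEquiv _ _).symm (z' ≫ (R.commShiftIso q).inv.app _) ≫
            (shiftFunctor _ q).map ((f.pull.mapDerivedCategorySingleFunctor 0).hom.app M))
        rw [← cancel_epi (e₁ f W).inv, ← cancel_mono ((shiftFunctor _ q).map
          ((f.pull.mapDerivedCategorySingleFunctor 0).hom.app M)), Category.assoc, comp_zero,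
          zero_comp]
        exact h0
      rw [← cancel_mono ((R.commShiftIso q).inv.app _), h3, zero_comp]
    exact ⟨0, h1.eq_of_src _ _, h2.eq_of_src _ _⟩

end Groth.Agent.Lib.Helper5.LerayUnit
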