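import Mathlib.CategoryTheory.Sites.LocallyBijective
import Mathlib.CategoryTheory.Sites.Localization
import Mathlib.CategoryTheory.Sites.Sheafification
import Mathlib.CategoryTheory.Sites.Limits
import Mathlib.CategoryTheory.Limits.Types.Pullbacks
import Mathlib.CategoryTheory.Limits.Shapes.Diagonal
import Mathlib.CategoryTheory.Limits.FunctorCategory.Basic
import Mathlib.CategoryTheory.Limits.Preserves.Shapes.Products

/-!
# Sheafified coproduct decompositions of representables
-/

set_option autoImplicit false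
open CategoryTheory Limits Opposite
universe u

namespace Groth.Agent.Lib.Helper5.SheafifyCoprod

variable {C : Type u} [SmallCategory C]

section PshPullback
variable {P P' R : Cᵒᵖ ⥤ Type u} (f : P ⟶ R) (g : P' ⟶ R)

lemma psh_pullback_ext {T : Cᵒᵖ} (x y : (pullback f g).obj T)
    (h₁ : (pullback.fst f g).app T x = (pullback.fst f g).app T y)
    (h₂ : (pullback.snd f g).app T x = (pullback.snd f g).app T y) : x = y :=
  Types.ext_of_isPullback ((IsPullback.of_hasPullback f g).map ((evaluation _ _).obj T)) h₁ h₂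

lemma psh_pullback_exists {T : Cᵒᵖ} (x : P.obj T) (y : P'.obj T) (h : f.app T x = g.app T y) :
    ∃ z : (pullback f g).obj T, (pullback.fst f g).app T z = x ∧
      (pullback.snd f g).app T z = y :=
  Types.exists_of_isPullback ((IsPullback.of_hasPullback f g).map ((evaluation _ _).obj T)) x y h

lemma psh_pullback_condition {T : Cᵒᵖ} (z : (pullback f g).obj T) :
    f.app T ((pullback.fst f g).app T z) = g.app T ((pullback.snd f g).app T z) := by
  have := ConcreteCategory.congr_hom (NatTrans.congr_app (pullback.condition (f := f) (g := g)) T) z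
  exact this

end PshPullback

section Initial
variable (J : GrothendieckTopology C)

/-- The constant empty presheaf. -/
def emptyPsh : Cᵒᵖ ⥤ Type u := (Functor.const Cᵒᵖ).obj PEmpty

def emptyPshTo (P : Cᵒᵖ ⥤ Type u) : emptyPsh (C := C) ⟶ P where
  app T := TypeCat.ofHom (fun x => PEmpty.elim x)
  naturality T T' f := by
    ext x
    exact PEmpty.elim x

def isInitialEmptyPsh : IsInitial (emptyPsh (C := C)) :=
  IsInitial.ofUniqueHom emptyPshTo (fun P m => by
    ext T x
    exact PEmpty.elim x)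

lemma isInitial_sheafify_iff (P : Cᵒᵖ ⥤ Type u) :
    Nonempty (IsInitial ((presheafToSheaf J (Type u)).obj P)) ↔
      ∀ (T : C) (_ : P.obj (op T)), (⊥ : Sieve T) ∈ J T := by
  let a := presheafToSheaf J (Type u)
  have hE : IsInitial (a.obj emptyPsh) := isInitialEmptyPsh.isInitialObj a
  have h1 : Nonempty (IsInitial (a.obj P)) ↔ IsIso (a.map (emptyPshTo P)) := by
    constructor
    · rintro ⟨hP⟩
      have : a.map (emptyPshTo P) = (hE.uniqueUpToIso hP).hom := hE.hom_ext _ _
      rw [this]
      infer_instance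
    · intro h
      exact ⟨hE.ofIso (asIso (a.map (emptyPshTo P)))⟩
  rw [h1, ← J.W_iff, J.W_iff_isLocallyBijective]
  constructor
  · rintro ⟨-, hsurj⟩ T x
    refine J.superset_covering ?_ (hsurj.imageSieve_mem x)
    rintro V g ⟨t, -⟩
    exact PEmpty.elim t
  · intro h
    refine ⟨⟨fun x => PEmpty.elim x⟩, ⟨fun {T} x => ?_⟩⟩
    exact J.superset_covering bot_le (h T x)

end Initial

section Coprod
variable {X : C} {ι : Type u} (Y : ι → C) (s : ∀ i, Y i ⟶ X)

/-- The presheaf coproduct of the representables `h_{Y k}`, made explicit. -/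
def Q : Cᵒᵖ ⥤ Type u where
  obj T := Σ k, (T.unop ⟶ Y k)
  map f := TypeCat.ofHom (fun p => ⟨p.1, f.unop ≫ p.2⟩)
  map_id T := by
    refine ConcreteCategory.hom_ext _ _ (fun p => ?_)
    obtain ⟨k, a⟩ := p
    change (⟨k, (𝟙 T).unop ≫ a⟩ : Σ k, (T.unop ⟶ Y k)) = ⟨k, a⟩
    rw [unop_id, Category.id_comp]
  map_comp {T₁ T₂ T₃} f g := by
    refine ConcreteCategory.hom_ext _ _ (fun p => ?_)
    obtain ⟨k, a⟩ := p
    change (⟨k, (f ≫ g).unop ≫ a⟩ : Σ k, (T₃.unop ⟶ Y k)) = ⟨k, g.unop ≫ f.unop ≫ a⟩
    rw [unop_comp, Category.assoc]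

def inj (k : ι) : yoneda.obj (Y k) ⟶ Q Y where
  app T := TypeCat.ofHom (fun a => (⟨k, a⟩ : Σ k, (T.unop ⟶ Y k)))
  naturality T T' f := by
    ext a
    rfl

def phi : Q Y ⟶ yoneda.obj X where
  app T := TypeCat.ofHom (fun p => p.2 ≫ s p.1)
  naturality T T' f := by
    refine ConcreteCategory.hom_ext _ _ (fun p => ?_)
    obtain ⟨k, a⟩ := p
    change (f.unop ≫ a) ≫ s k = f.unop ≫ a ≫ s k
    rw [Category.assoc]

lemma inj_phi (k : ι) : inj Y k ≫ phi Y s = yoneda.map (s k) := by
  ext T a
  rfl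

def isColimitQ : IsColimit (Cofan.mk (Q Y) (inj Y)) :=
  Cofan.IsColimit.mk _
    (fun t =>
      { app := fun T => TypeCat.ofHom (fun p => (t.inj p.1).app T p.2)
        naturality := fun T T' f => by
          refine ConcreteCategory.hom_ext _ _ (fun p => ?_)
          obtain ⟨k, a⟩ := p
          exact NatTrans.naturality_apply (t.inj k) f a })
    (fun t k => by
      ext T a
      rfl)
    (fun t m hm => by
      ext T : 2
      refine ConcreteCategory.hom_ext _ _ (fun p => ?_)
      obtain ⟨k, a⟩ := p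
      have := congrArg (fun (z : yoneda.obj (Y k) ⟶ t.pt) => z.app T a) (hm k)
      exact this)

variable (J : GrothendieckTopology C)

lemma isIso_sheafify_phi_iff :
    IsIso ((presheafToSheaf J (Type u)).map (phi Y s)) ↔
      Nonempty (IsColimit (Cofan.mk ((presheafToSheaf J (Type u)).obj (yoneda.obj X))
        (fun i => (presheafToSheaf J (Type u)).map (yoneda.map (s i))))) := by
  let a := presheafToSheaf J (Type u)
  have hc1 : IsColimit (Cofan.mk (a.obj (Q Y)) fun j => a.map (inj Y j)) :=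
    isColimitCofanMkObjOfIsColimit a _ _ (isColimitQ Y)
  constructor
  · intro hiso
    refine ⟨IsColimit.ofIsoColimit hc1 (Cocone.ext (asIso (a.map (phi Y s))) ?_)⟩
    rintro ⟨k⟩
    change a.map (inj Y k) ≫ a.map (phi Y s) = a.map (yoneda.map (s k))
    rw [← a.map_comp, inj_phi]
  · rintro ⟨h⟩
    let ψ : a.obj (yoneda.obj X) ⟶ a.obj (Q Y) :=
      Cofan.IsColimit.desc h (fun k => a.map (inj Y k))
    have hψ : ∀ k, a.map (yoneda.map (s k)) ≫ ψ = a.map (inj Y k) :=
      fun k => Cofan.IsColimit.fac h _ k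
    refine ⟨⟨ψ, ?_, ?_⟩⟩
    · apply Cofan.IsColimit.hom_ext hc1
      intro k
      change a.map (inj Y k) ≫ a.map (phi Y s) ≫ ψ = a.map (inj Y k) ≫ 𝟙 _
      rw [← Category.assoc, ← a.map_comp, inj_phi, hψ, Category.comp_id]
    · apply Cofan.IsColimit.hom_ext h
      intro k
      change a.map (yoneda.map (s k)) ≫ ψ ≫ a.map (phi Y s) = a.map (yoneda.map (s k)) ≫ 𝟙 _
      rw [← Category.assoc, hψ, ← a.map_comp, inj_phi, Category.comp_id]

lemma locallySurjective_phi_iff :
    Presheaf.IsLocallySurjective J (phi Y s) ↔ Sieve.ofArrows Y s ∈ J X := by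
  constructor
  · intro hsurj
    have hmem := hsurj.imageSieve_mem (U := X) (𝟙 X : (yoneda.obj X).obj (op X))
    refine J.superset_covering ?_ hmem
    rintro U r ⟨⟨k, a⟩, ht⟩
    have ht' : a ≫ s k = r ≫ 𝟙 X := ht
    rw [Category.comp_id] at ht'
    exact ⟨_, a, _, ⟨k⟩, ht'⟩
  · intro h
    refine ⟨fun {U} x => ?_⟩
    refine J.superset_covering ?_ (J.pullback_stable (x : U ⟶ X) h)
    rintro V g ⟨W, a, _, ⟨k⟩, hab⟩
    exact ⟨⟨k, a⟩, hab⟩

lemma locallyInjective_phi_iff :
    Presheaf.IsLocallyInjective J (phi Y s) ↔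
      (∀ (T : C) (i : ι) (a b : T ⟶ Y i), a ≫ s i = b ≫ s i →
        Presheaf.equalizerSieve (F := yoneda.obj (Y i)) (X := op T) a b ∈ J T) ∧
      (∀ (T : C) (i j : ι), i ≠ j → ∀ (a : T ⟶ Y i) (b : T ⟶ Y j), a ≫ s i = b ≫ s j →
        (⊥ : Sieve T) ∈ J T) := by
  constructor
  · intro hinj
    refine ⟨fun T i a b hab => ?_, fun T i j hij a b hab => ?_⟩
    · have hmem := hinj.equalizerSieve_mem (X := op T) (⟨i, a⟩ : (Q Y).obj (op T)) ⟨i, b⟩ hab
      refine J.superset_covering ?_ hmem
      intro U r hr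
      have hr' : (⟨i, r ≫ a⟩ : Σ k, (U ⟶ Y k)) = ⟨i, r ≫ b⟩ := hr
      exact eq_of_heq (Sigma.mk.inj hr').2
    · have hmem := hinj.equalizerSieve_mem (X := op T) (⟨i, a⟩ : (Q Y).obj (op T)) ⟨j, b⟩ hab
      refine J.superset_covering ?_ hmem
      intro U r hr
      have hr' : (⟨i, r ≫ a⟩ : Σ k, (U ⟶ Y k)) = ⟨j, r ≫ b⟩ := hr
      exact hij (congrArg Sigma.fst hr')
  · rintro ⟨h1, h2⟩
    refine ⟨fun {T} p q hpq => ?_⟩
    obtain ⟨i, a⟩ := p
    obtain ⟨j, b⟩ := q
    have hab : a ≫ s i = b ≫ s j := hpq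
    by_cases hij : i = j
    · subst hij
      refine J.superset_covering ?_ (h1 T.unop i a b hab)
      intro U r hr
      have hr' : r ≫ a = r ≫ b := hr
      show (⟨i, r ≫ a⟩ : Σ k, (U ⟶ Y k)) = ⟨i, r ≫ b⟩
      rw [hr']
    · exact J.superset_covering bot_le (h2 T.unop i j hij a b hab)

end Coprod

section Diagonal
variable (J : GrothendieckTopology C) {P R : Cᵒᵖ ⥤ Type u} (f : P ⟶ R)

lemma isIso_sheafify_diagonal_iff :
    IsIso ((presheafToSheaf J (Type u)).map (pullback.diagonal f)) ↔
      ∀ (T : C) (x y : P.obj (op T)), f.app _ x = f.app _ y →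
        Presheaf.equalizerSieve (F := P) (X := op T) x y ∈ J T := by
  rw [← J.W_iff, J.W_iff_isLocallyBijective]
  have hfst : ∀ (T : Cᵒᵖ) (x : P.obj T),
      (pullback.fst f f).app T ((pullback.diagonal f).app T x) = x := fun T x => by
    have := ConcreteCategory.congr_hom (NatTrans.congr_app (pullback.diagonal_fst f) T) x
    exact this
  have hsnd : ∀ (T : Cᵒᵖ) (x : P.obj T),
      (pullback.snd f f).app T ((pullback.diagonal f).app T x) = x := fun T x => by
    have := ConcreteCategory.congr_hom (NatTrans.congr_app (pullback.diagonal_snd f) T) x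
    exact this
  have hinj : Presheaf.IsLocallyInjective J (pullback.diagonal f) := by
    refine ⟨fun {T} x y hxy => ?_⟩
    have : x = y := by
      rw [← hfst T x, ← hfst T y, hxy]
    subst this
    refine J.superset_covering ?_ (J.top_mem _)
    intro V r _
    exact rfl
  constructor
  · rintro ⟨-, hsurj⟩ T x y hxy
    obtain ⟨z, hz1, hz2⟩ := psh_pullback_exists f f x y hxy
    refine J.superset_covering ?_ (hsurj.imageSieve_mem z)
    rintro V g ⟨t, ht⟩
    show P.map g.op x = P.map g.op y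
    have e1 : (pullback.fst f f).app _ ((pullback f f).map g.op z) = P.map g.op x := by
      rw [← hz1]
      exact NatTrans.naturality_apply (pullback.fst f f) g.op z
    have e2 : (pullback.snd f f).app _ ((pullback f f).map g.op z) = P.map g.op y := by
      rw [← hz2]
      exact NatTrans.naturality_apply (pullback.snd f f) g.op z
    rw [← e1, ← e2, ← ht, hfst, hsnd]
  · intro h
    refine ⟨hinj, ⟨fun {T} z => ?_⟩⟩
    refine J.superset_covering ?_ (h T _ _ (psh_pullback_condition f f z))
    intro V g hg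
    have hg' : P.map g.op ((pullback.fst f f).app _ z) = P.map g.op ((pullback.snd f f).app _ z) :=
      hg
    refine ⟨P.map g.op ((pullback.fst f f).app _ z), ?_⟩
    apply psh_pullback_ext f f
    · rw [hfst]
      exact (NatTrans.naturality_apply (pullback.fst f f) g.op z).symm
    · rw [hsnd, hg']
      exact (NatTrans.naturality_apply (pullback.snd f f) g.op z).symm

end Diagonal

end Groth.Agent.Lib.Helper5.SheafifyCoprod
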