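import Mathlib.CategoryTheory.Sites.Canonical
import Mathlib.CategoryTheory.Sites.LocallyBijective
import Mathlib.CategoryTheory.Localization.Bousfield
import Mathlib.CategoryTheory.Adjunction.Reflective
import Mathlib.CategoryTheory.Limits.Constructions.EpiMono
import Groth.Agent.Lib.Helper5.SheafifyCoprod

/-!
# The topology attached to a left exact reflective subcategory of presheaves
-/

set_option autoImplicit false
open CategoryTheory Limits Opposite
universe u

namespace Groth.Agent.Lib.Helper5.LexReflTopology

open Groth.Agent.Lib.Helper5.SheafifyCoprod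

variable {C : Type u} [SmallCategory C] (P : ObjectProperty (Cᵒᵖ ⥤ Type u))
  [Reflective P.ι]

lemma isIso_map_iff_isLocal {A B : Cᵒᵖ ⥤ Type u} (m : A ⟶ B) :
    IsIso ((reflector P.ι).map m) ↔ P.isLocal m := by
  have h : (fun F : Cᵒᵖ ⥤ Type u => F ∈ Set.range P.ι.obj) = P := by
    ext F
    constructor
    · rintro ⟨Y, rfl⟩
      exact Y.property
    · intro h
      exact ⟨⟨F, h⟩, rfl⟩
  rw [← ObjectProperty.isLocal_iff_isIso_map (reflectorAdjunction P.ι) m, h]

variable [PreservesFiniteLimits (reflector P.ι)]

/-- Key lemma: if `n` is inverted by the reflector, `y` is a section of the target over `X`, and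
`S` is a sieve on `X` containing every arrow along which `y` lifts through `n`, then the reflector
inverts the inclusion of `S`. -/
lemma isIso_map_functorInclusion_of_lifts {A₁ B₁ : Cᵒᵖ ⥤ Type u} (n : A₁ ⟶ B₁)
    (hn : IsIso ((reflector P.ι).map n)) {X : C} (y : B₁.obj (op X)) (S : Sieve X)
    (hS : ∀ (Y : C) (f : Y ⟶ X) (t : A₁.obj (op Y)), n.app _ t = B₁.map f.op y → S f) :
    IsIso ((reflector P.ι).map S.functorInclusion) := by
  let y' : yoneda.obj X ⟶ B₁ := yonedaEquiv.symm y
  have hpb := (IsPullback.of_hasPullback n y').map (reflector P.ι)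
  haveI hsnd : IsIso ((reflector P.ι).map (pullback.snd n y')) := hpb.isIso_snd_of_isIso hn
  have hmem : ∀ (Y : Cᵒᵖ) (w : (pullback n y').obj Y), S ((pullback.snd n y').app Y w) := by
    intro Y w
    refine hS Y.unop _ ((pullback.fst n y').app Y w) ?_
    exact psh_pullback_condition n y' w
  let q : pullback n y' ⟶ S.functor :=
    { app := fun Y => TypeCat.ofHom (fun w => ⟨(pullback.snd n y').app Y w, hmem Y w⟩)
      naturality := fun Y Y' g => by
        ext w
        apply Subtype.ext
        exact NatTrans.naturality_apply (pullback.snd n y') g w }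
  have hq : q ≫ S.functorInclusion = pullback.snd n y' := by
    ext Y w
    rfl
  haveI : Mono ((reflector P.ι).map S.functorInclusion) := inferInstance
  haveI : IsSplitEpi ((reflector P.ι).map S.functorInclusion) :=
    IsSplitEpi.mk' ⟨inv ((reflector P.ι).map (pullback.snd n y')) ≫ (reflector P.ι).map q, by
      rw [Category.assoc, ← Functor.map_comp, hq, IsIso.inv_hom_id]⟩
  exact isIso_of_mono_of_isSplitEpi _

/-- The topology: the finest topology for which all members of `P` are sheaves. -/
def topology : GrothendieckTopology C := Sheaf.finestTopology {F | P F}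

lemma mem_topology_iff {X : C} (S : Sieve X) :
    S ∈ topology P X ↔ IsIso ((reflector P.ι).map S.functorInclusion) := by
  constructor
  · intro hS
    rw [isIso_map_iff_isLocal]
    intro F hF
    have h1 : Presieve.IsSheafFor F (S : Presieve X) :=
      Sheaf.sheaf_for_finestTopology {F | P F} hF S hS
    rw [Presieve.isSheafFor_iff_yonedaSheafCondition] at h1
    rw [Function.bijective_iff_existsUnique]
    exact h1
  · intro hS
    refine Sheaf.mem_finestTopology_of_forall_isSheafFor ?_
    intro F hF Y f
    rw [Presieve.isSheafFor_iff_yonedaSheafCondition]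
    have h2 : IsIso ((reflector P.ι).map (S.pullback f).functorInclusion) :=
      isIso_map_functorInclusion_of_lifts P S.functorInclusion hS
        (f : (yoneda.obj X).obj (op Y)) (S.pullback f) (by
          intro Z g t ht
          have : t.1 = g ≫ f := ht
          show S (g ≫ f)
          rw [← this]
          exact t.2)
    rw [isIso_map_iff_isLocal] at h2
    have := h2 F hF
    rw [Function.bijective_iff_existsUnique] at this
    exact this

lemma isLocallyBijective_of_isIso_map {A B : Cᵒᵖ ⥤ Type u} (m : A ⟶ B)
    (hm : IsIso ((reflector P.ι).map m)) :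
    Presheaf.IsLocallyInjective (topology P) m ∧ Presheaf.IsLocallySurjective (topology P) m := by
  constructor
  · refine ⟨fun {X} x y hxy => ?_⟩
    rw [mem_topology_iff]
    -- the diagonal is inverted
    have hpb := (IsPullback.of_hasPullback m m).map (reflector P.ι)
    haveI hfst : IsIso ((reflector P.ι).map (pullback.fst m m)) := hpb.isIso_fst_of_isIso hm
    have hΔ : IsIso ((reflector P.ι).map (pullback.diagonal m)) := by
      have h1 : (reflector P.ι).map (pullback.diagonal m) ≫
          (reflector P.ι).map (pullback.fst m m) = 𝟙 _ := by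
        rw [← Functor.map_comp, pullback.diagonal_fst, CategoryTheory.Functor.map_id]
      have : (reflector P.ι).map (pullback.diagonal m) =
          inv ((reflector P.ι).map (pullback.fst m m)) := by
        rw [← Category.comp_id ((reflector P.ι).map (pullback.diagonal m)),
          ← IsIso.hom_inv_id ((reflector P.ι).map (pullback.fst m m)), ← Category.assoc, h1,
          Category.id_comp]
      rw [this]
      infer_instance
    obtain ⟨z, hz1, hz2⟩ := psh_pullback_exists m m x y hxy
    refine isIso_map_functorInclusion_of_lifts P (pullback.diagonal m) hΔ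
      (X := X.unop) z _ ?_
    intro Y f t ht
    show A.map f.op x = A.map f.op y
    have e1 : (pullback.fst m m).app _ ((pullback m m).map f.op z) = A.map f.op x := by
      rw [← hz1]
      exact NatTrans.naturality_apply (pullback.fst m m) f.op z
    have e2 : (pullback.snd m m).app _ ((pullback m m).map f.op z) = A.map f.op y := by
      rw [← hz2]
      exact NatTrans.naturality_apply (pullback.snd m m) f.op z
    have d1 : (pullback.fst m m).app _ ((pullback.diagonal m).app _ t) = t := by
      have := ConcreteCategory.congr_hom (NatTrans.congr_app (pullback.diagonal_fst m) (op Y)) t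
      exact this
    have d2 : (pullback.snd m m).app _ ((pullback.diagonal m).app _ t) = t := by
      have := ConcreteCategory.congr_hom (NatTrans.congr_app (pullback.diagonal_snd m) (op Y)) t
      exact this
    rw [← e1, ← e2, ← ht, d1, d2]
  · refine ⟨fun {X} x => ?_⟩
    rw [mem_topology_iff]
    refine isIso_map_functorInclusion_of_lifts P m hm x _ ?_
    intro Y f t ht
    exact ⟨t, ht⟩

variable [P.IsClosedUnderIsomorphisms]

theorem prop_iff_isSheaf (F : Cᵒᵖ ⥤ Type u) : P F ↔ Presieve.IsSheaf (topology P) F := by
  constructor
  · intro hF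
    exact Sheaf.sheaf_for_finestTopology {F | P F} hF
  · intro hF
    let η := (reflectorAdjunction P.ι).unit.app F
    have hη : IsIso ((reflector P.ι).map η) := by
      rw [isIso_map_iff_isLocal]
      have := ObjectProperty.isLocal_adj_unit_app (reflectorAdjunction P.ι) F
      intro Z hZ
      exact this Z ⟨⟨Z, hZ⟩, rfl⟩
    obtain ⟨h1, h2⟩ := isLocallyBijective_of_isIso_map P η hη
    have hW : (topology P).W η := ((topology P).W_iff_isLocallyBijective η).2 ⟨h1, h2⟩
    have hG : P (P.ι.obj ((reflector P.ι).obj F)) := ((reflector P.ι).obj F).property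
    have hG' : Presieve.IsSheaf (topology P) (P.ι.obj ((reflector P.ι).obj F)) :=
      Sheaf.sheaf_for_finestTopology {F | P F} hG
    haveI : IsIso η := (ObjectProperty.isLocal_iff_isIso _ η
      ((isSheaf_iff_isSheaf_of_type _ _).2 hF) ((isSheaf_iff_isSheaf_of_type _ _).2 hG')).1 hW
    exact P.prop_of_iso (asIso η).symm hG

end Groth.Agent.Lib.Helper5.LexReflTopology
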