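import Groth.Agent.Lib.Helper5.LexReflTopology
import Mathlib.CategoryTheory.EssentialImage
import Mathlib.CategoryTheory.Equivalence
import Mathlib.CategoryTheory.Adjunction.Limits

/-!
# A left exact reflective subcategory of a presheaf category is a sheaf category
-/

set_option autoImplicit false
open CategoryTheory Limits Opposite
universe u

namespace Groth.Agent.Lib.Helper5.LexReflTopos

open Groth.Agent.Lib.Helper5.LexReflTopology

theorem exists_sheaf_equivalence {C' : Type u} [SmallCategory C'] {K : Type*} [Category K]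
    (G : K ⥤ (C'ᵒᵖ ⥤ Type u)) [G.Full] [G.Faithful] (L' : (C'ᵒᵖ ⥤ Type u) ⥤ K)
    (adj : L' ⊣ G) [PreservesFiniteLimits L'] :
    ∃ J' : GrothendieckTopology C', Nonempty (K ≌ Sheaf J' (Type u)) := by
  let P : ObjectProperty (C'ᵒᵖ ⥤ Type u) := G.essImage
  let e₀ : K ≌ P.FullSubcategory := G.toEssImage.asEquivalence
  let adj₁ : L' ⋙ e₀.functor ⊣ e₀.inverse ⋙ G := adj.comp e₀.toAdjunction
  let iso : e₀.inverse ⋙ G ≅ P.ι :=
    Functor.isoWhiskerLeft e₀.inverse G.toEssImageCompι.symm ≪≫
      (Functor.associator _ _ _).symm ≪≫ Functor.isoWhiskerRight e₀.counitIso P.ι ≪≫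
      Functor.leftUnitor _
  let adj₂ : L' ⋙ e₀.functor ⊣ P.ι := adj₁.ofNatIsoRight iso
  letI : Reflective P.ι := { L := L' ⋙ e₀.functor, adj := adj₂ }
  haveI h1 : PreservesLimitsOfSize.{0, 0} e₀.functor :=
    e₀.symm.toAdjunction.rightAdjoint_preservesLimits
  haveI h2 : PreservesFiniteLimits e₀.functor :=
    PreservesLimitsOfSize.preservesFiniteLimits.{0, 0} _
  haveI : PreservesFiniteLimits (reflector P.ι) :=
    (show PreservesFiniteLimits (L' ⋙ e₀.functor) from comp_preservesFiniteLimits _ _)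
  have hP : P = Presheaf.IsSheaf (topology P) := by
    funext F
    exact propext ((prop_iff_isSheaf P F).trans (isSheaf_iff_isSheaf_of_type _ _).symm)
  exact ⟨topology P, ⟨e₀.trans (ObjectProperty.fullSubcategoryCongr hP)⟩⟩

end Groth.Agent.Lib.Helper5.LexReflTopos
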