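import Mathlib

/-!
# Lifting an augmented simplicial object to the category over its augmentation (helper5)
-/

set_option autoImplicit false

namespace Groth.Agent.Lib.Helper5.LiftOver

open CategoryTheory CategoryTheory.Limits Opposite Simplicial

universe v u

variable {𝒞 : Type u} [Category.{v} 𝒞] (A : SimplicialObject.Augmented 𝒞)

lemma hom_naturality {n m : SimplexCategoryᵒᵖ} (φ : n ⟶ m) :
    A.left.map φ ≫ A.hom.app m = A.hom.app n := by
  have := A.hom.naturality φ
  dsimp at this
  rw [this, Category.comp_id]

/-- The simplicial object over the augmentation. -/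
def leftOver : SimplicialObject (Over A.right) where
  obj n := Over.mk (A.hom.app n)
  map φ := Over.homMk (A.left.map φ) (hom_naturality A φ)
  map_id n := by
    apply Over.OverMorphism.ext
    exact A.left.map_id n
  map_comp φ ψ := by
    apply Over.OverMorphism.ext
    exact A.left.map_comp φ ψ

/-- The augmented simplicial object over the augmentation. -/
def augOver : SimplicialObject.Augmented (Over A.right) where
  left := leftOver A
  right := Over.mk (𝟙 A.right)
  hom :=
    { app n := Over.homMk (A.hom.app n) (Category.comp_id _)
      naturality n m φ := by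
        apply Over.OverMorphism.ext
        exact (hom_naturality A φ).trans (Category.comp_id _).symm }

variable {A}

/-- The extra degeneracy over the augmentation. -/
def extraDegeneracy (ed : SimplicialObject.Augmented.ExtraDegeneracy A) :
    SimplicialObject.Augmented.ExtraDegeneracy (augOver A) where
  s' := Over.homMk ed.s' ed.s'_comp_ε
  s n := Over.homMk (ed.s n) (by
    have h1 := hom_naturality A (SimplexCategory.δ (0 : Fin (n + 2))).op
    have h2 := ed.s_comp_δ₀ n
    change ed.s n ≫ A.hom.app (op ⦋n + 1⦌) = A.hom.app (op ⦋n⦌)
    rw [← h1]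
    change ed.s n ≫ A.left.δ 0 ≫ _ = _
    rw [reassoc_of% h2])
  s'_comp_ε := by
    apply Over.OverMorphism.ext
    exact ed.s'_comp_ε
  s₀_comp_δ₁ := by
    apply Over.OverMorphism.ext
    exact ed.s₀_comp_δ₁
  s_comp_δ₀ n := by
    apply Over.OverMorphism.ext
    exact ed.s_comp_δ₀ n
  s_comp_δ n i := by
    apply Over.OverMorphism.ext
    exact ed.s_comp_δ n i
  s_comp_σ n i := by
    apply Over.OverMorphism.ext
    exact ed.s_comp_σ n i

lemma augOver_left_obj (n : SimplexCategoryᵒᵖ) :
    (augOver A).left.obj n = Over.mk (A.hom.app n) := rfl

lemma augOver_right : (augOver A).right = Over.mk (𝟙 A.right) := rfl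

end Groth.Agent.Lib.Helper5.LiftOver
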