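import Mathlib
import Groth.Prelude.Def_CohCx
import Groth.Agent.Lib.Helper5.CxLocal

/-!
# Cohomology sheaves of a termwise limit of complexes of abelian sheaves (helper5)

`isLimSys`: sections of the termwise limit of an inverse system of complexes of sheaves form a termwise
limit of the complexes of sections; `main`: S0899.
-/

set_option autoImplicit false
universe u
open CategoryTheory CategoryTheory.Limits Opposite HomologicalComplex

noncomputable section
namespace Groth.Agent.Lib.Helper5.LimCx

variable {C : Type u} [SmallCategory C] (J : GrothendieckTopology C)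
  (F : ℕ → CochainComplex (Sheaf J AddCommGrpCat.{u}) ℤ) (t : ∀ n, F (n + 1) ⟶ F n)

/-- sections over `U` in degree `j`, as a set -/
abbrev Φ (U : C) (j : ℤ) : CochainComplex (Sheaf J AddCommGrpCat.{u}) ℤ ⥤ Type u :=
  HomologicalComplex.eval _ _ j ⋙ sheafToPresheaf J AddCommGrpCat.{u} ⋙
    (evaluation Cᵒᵖ AddCommGrpCat.{u}).obj (op U) ⋙ forget AddCommGrpCat.{u}

def isLimitΦ (U : C) (j : ℤ) :
    IsLimit ((Φ J U j).mapCone (limit.cone (CohCx.opSequence F t))) :=
  isLimitOfPreserves (Φ J U j) (limit.isLimit _)

theorem isLimSys (U : C) :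
    AbCx.IsLimSys (fun n => (CohCx.sectCx J U).obj (F n)) (fun n => (CohCx.sectCx J U).map (t n))
      ((CohCx.sectCx J U).obj (limit (CohCx.opSequence F t)))
      (fun n => (CohCx.sectCx J U).map (limit.π (CohCx.opSequence F t) (op n))) where
  hp n := by
    rw [← Functor.map_comp]
    congr 1
    have hw := limit.w (CohCx.opSequence F t) (homOfLE (Nat.le_add_right n 1)).op
    rw [Functor.ofOpSequence_map_homOfLE_succ] at hw
    exact hw
  hext j x hx := by
    have h := (isLimitΦ J F t U j).hom_ext (W := PUnit.{u + 1})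
      (f := TypeCat.ofHom fun _ => x)
      (f' := TypeCat.ofHom fun _ =>
        (0 : ((CohCx.sectCx J U).obj (limit (CohCx.opSequence F t))).X j)) (by
        rintro ⟨n⟩
        ext ⟨⟩
        exact (hx n).trans (map_zero _).symm)
    exact ConcreteCategory.congr_hom h PUnit.unit
  hex j s hs := by
    let c : Cone (CohCx.opSequence F t ⋙ Φ J U j) :=
      { pt := PUnit.{u + 1}
        π := NatTrans.ofOpSequence (F := (Functor.const _).obj PUnit.{u + 1})
          (fun n => TypeCat.ofHom fun _ => s n) (fun n => by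
            dsimp only [Functor.const_obj_obj, Functor.const_obj_map]
            rw [Category.id_comp]
            ext ⟨⟩
            have : (CohCx.opSequence F t ⋙ Φ J U j).map (homOfLE (Nat.le_add_right n 1)).op =
                (Φ J U j).map (t n) := by
              rw [Functor.comp_map, Functor.ofOpSequence_map_homOfLE_succ]
              rfl
            rw [this]
            exact (hs n).symm) }
    refine ⟨(isLimitΦ J F t U j).lift c PUnit.unit, fun n => ?_⟩
    exact ConcreteCategory.congr_hom ((isLimitΦ J F t U j).fac c (op n)) PUnit.unit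

/-- S0899 in library form -/
theorem main (m : ℤ) (B : Set C)
    (hB : ∀ U : C, ∃ (ι : Type u) (Y : ι → C) (f : ∀ i, Y i ⟶ U),
      Sieve.ofArrows Y f ∈ J U ∧ ∀ i, Y i ∈ B)
    (n₀ : ℕ)
    (ha : ∀ U ∈ B, ∀ j : ℤ, (j = m - 2 ∨ j = m - 1) →
      CohCx.LimOneIsZero (fun n => ((F n).X j).obj.obj (op U))
        (fun n => (((t n).f j).hom.app (op U)).hom))
    (hb : ∀ U ∈ B, CohCx.LimOneIsZero
      (fun n => ((CohCx.sectCx J U).obj (F n)).homology (m - 1))
      (fun n => (HomologicalComplex.homologyMap ((CohCx.sectCx J U).map (t n)) (m - 1)).hom))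
    (hc : ∀ U ∈ B, ∀ k : ℕ, IsIso (HomologicalComplex.homologyMap
      ((CohCx.sectCx J U).map (CohCx.transition F t n₀ k)) m)) :
    IsIso (HomologicalComplex.homologyMap (limit.π (CohCx.opSequence F t) (op n₀)) m) := by
  apply CxLocal.isIso_homologyMap_of_sect (limit.π (CohCx.opSequence F t) (op n₀)) (m - 1) m (m + 1)
    (by omega) rfl B hB
  intro U hU
  refine AbCx.bijective_of_isLimSys n₀ _ _ _ _ (isLimSys J F t U) (m - 2) (m - 1) m (m + 1)
    (by omega) (by omega) rfl (ha U hU (m - 2) (Or.inl rfl)) (ha U hU (m - 1) (Or.inr rfl))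
    (hb U hU) (fun n hn => ?_)
  obtain ⟨k, rfl⟩ := Nat.exists_eq_add_of_le hn
  haveI := hc U hU k
  haveI := hc U hU (k + 1)
  have h1 : homologyMap ((CohCx.sectCx J U).map (CohCx.transition F t n₀ (k + 1))) m =
      homologyMap ((CohCx.sectCx J U).map (t (n₀ + k))) m ≫
        homologyMap ((CohCx.sectCx J U).map (CohCx.transition F t n₀ k)) m := by
    rw [← homologyMap_comp, ← Functor.map_comp]
    rfl
  haveI : IsIso (homologyMap ((CohCx.sectCx J U).map (t (n₀ + k))) m ≫
      homologyMap ((CohCx.sectCx J U).map (CohCx.transition F t n₀ k)) m) := by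
    rw [← h1]
    infer_instance
  haveI : IsIso (homologyMap ((CohCx.sectCx J U).map (t (n₀ + k))) m) :=
    IsIso.of_isIso_comp_right _
      (homologyMap ((CohCx.sectCx J U).map (CohCx.transition F t n₀ k)) m)
  exact ConcreteCategory.bijective_of_isIso _

end Groth.Agent.Lib.Helper5.LimCx
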