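import Groth.Prelude.Def_KLinDR

/-!
# Dévissage of hypercohomology modules along the stupid filtration (helper5)

Module version of `StupidDev`: for a bounded complex `L` with an action `ρ : R →+* End L`,
if the hypercohomology modules of all the terms (with the induced actions) are Noetherian
`R`-modules, so are those of `L`.
-/

set_option autoImplicit false
universe w v u u'
open CategoryTheory CategoryTheory.Limits

namespace Groth.Agent.Lib.Helper5.LinDev

open KLinDR

section Act

variable {R : Type u'} [Ring R]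

/-- transport an action along an additive functor -/
noncomputable def mapAct {C D : Type*} [Category C] [Preadditive C] [Category D] [Preadditive D]
    (F : C ⥤ D) [F.Additive] {L : C} (ρ : R →+* End L) : R →+* End (F.obj L) where
  toFun a := F.map (ρ a)
  map_one' := by
    rw [map_one]
    exact F.map_id L
  map_mul' a b := by
    rw [map_mul]
    exact F.map_comp _ _
  map_zero' := by
    rw [map_zero]
    exact F.map_zero _ _
  map_add' a b := by
    rw [map_add]
    exact F.map_add

lemma mapAct_apply {C D : Type*} [Category C] [Preadditive C] [Category D] [Preadditive D]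
    (F : C ⥤ D) [F.Additive] {L : C} (ρ : R →+* End L) (a : R) :
    (mapAct F ρ a : F.obj L ⟶ F.obj L) = F.map (ρ a : L ⟶ L) := rfl

section Coker

variable {C : Type*} [Category C] [Abelian C] {K L : C} (i : K ⟶ L) (ρ₁ : R →+* End K)
  (ρ : R →+* End L) (h : ∀ a, (ρ₁ a : K ⟶ K) ≫ i = i ≫ (ρ a : L ⟶ L))

/-- the induced endomorphism of the cokernel -/
noncomputable def cokerFun (a : R) : cokernel i ⟶ cokernel i :=
  cokernel.map i i (ρ₁ a) (ρ a) (h a).symm

lemma π_cokerFun (a : R) :
    cokernel.π i ≫ cokerFun i ρ₁ ρ h a = (ρ a : L ⟶ L) ≫ cokernel.π i :=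
  cokernel.π_desc _ _ _

/-- the induced action on the cokernel -/
noncomputable def cokerAct : R →+* End (cokernel i) where
  toFun a := cokerFun i ρ₁ ρ h a
  map_one' := by
    refine (cancel_epi (cokernel.π i)).1 ?_
    rw [π_cokerFun, map_one]
    exact (Category.id_comp _).trans (Category.comp_id _).symm
  map_mul' a b := by
    refine (cancel_epi (cokernel.π i)).1 ?_
    rw [π_cokerFun, map_mul]
    change ((ρ b : L ⟶ L) ≫ (ρ a : L ⟶ L)) ≫ cokernel.π i =
      cokernel.π i ≫ cokerFun i ρ₁ ρ h b ≫ cokerFun i ρ₁ ρ h a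
    rw [← Category.assoc (cokernel.π i), π_cokerFun]
    simp only [Category.assoc, π_cokerFun]
  map_zero' := by
    refine (cancel_epi (cokernel.π i)).1 ?_
    rw [π_cokerFun, map_zero]
    exact zero_comp.trans comp_zero.symm
  map_add' a b := by
    refine (cancel_epi (cokernel.π i)).1 ?_
    rw [π_cokerFun, map_add]
    change ((ρ a : L ⟶ L) + (ρ b : L ⟶ L)) ≫ cokernel.π i =
      cokernel.π i ≫ (cokerFun i ρ₁ ρ h a + cokerFun i ρ₁ ρ h b)
    rw [Preadditive.add_comp, Preadditive.comp_add, π_cokerFun, π_cokerFun]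

lemma π_cokerAct (a : R) :
    cokernel.π i ≫ (cokerAct i ρ₁ ρ h a : cokernel i ⟶ cokernel i) =
      (ρ a : L ⟶ L) ≫ cokernel.π i :=
  π_cokerFun i ρ₁ ρ h a

end Coker

end Act

section Main

variable {A : Type u} [Category.{v} A] [Abelian A] [HasDerivedCategory.{w} A]
  {R : Type u'} [Ring R]

/-- the action on the degree `j` term placed in degree `j` -/
noncomputable def termAct {L : CochainComplex A ℤ} (ρ : R →+* End L) (j : ℤ) :
    R →+* End ((HomologicalComplex.single A (ComplexShape.up ℤ) j).obj (L.X j)) :=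
  mapAct (HomologicalComplex.eval A (ComplexShape.up ℤ) j ⋙
    HomologicalComplex.single A (ComplexShape.up ℤ) j) ρ

omit [HasDerivedCategory.{w} A] in
lemma termAct_apply {L : CochainComplex A ℤ} (ρ : R →+* End L) (j : ℤ) (a : R) :
    (termAct ρ j a : (HomologicalComplex.single A (ComplexShape.up ℤ) j).obj (L.X j) ⟶ _) =
      (HomologicalComplex.single A (ComplexShape.up ℤ) j).map ((ρ a : L ⟶ L).f j) := rfl

lemma surjective_HTρmap_of_isIso (T : A) {K L : CochainComplex A ℤ} {ρ : R →+* End K}
    {ρ' : R →+* End L} (φ : K ⟶ L) [IsIso φ] (h : Commutes ρ ρ' φ) (n : ℤ) :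
    Function.Surjective (HTρmap T φ h n) := by
  intro y
  refine ⟨HTρ.toHT.symm (HTρ.toHT y ≫
    inv ((shiftFunctor (DerivedCategory A) n).map (DerivedCategory.Q.map φ))), ?_⟩
  apply HTρ.toHT.injective
  rw [HTρmap_apply, E1Deg.HTmap_apply, AddEquiv.apply_symm_apply, Category.assoc,
    IsIso.inv_hom_id, Category.comp_id]

lemma subsingleton_HTρ_of_isZero (T : A) {L : CochainComplex A ℤ} (ρ : R →+* End L)
    (hL : IsZero L) (n : ℤ) : Subsingleton (HTρ T L ρ n) := by
  have h2 : IsZero ((shiftFunctor (DerivedCategory A) n).obj (DerivedCategory.Q.obj L)) :=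
    (shiftFunctor _ n).map_isZero (DerivedCategory.Q.map_isZero hL)
  exact ⟨fun x y => HTρ.toHT.injective (h2.eq_of_tgt _ _)⟩

omit [HasDerivedCategory.{w} A] in
lemma isZero_of_terms {L : CochainComplex A ℤ} (h : ∀ j, IsZero (L.X j)) : IsZero L := by
  rw [IsZero.iff_id_eq_zero]
  apply HomologicalComplex.hom_ext
  intro j
  exact (h j).eq_of_src _ _

open Pretriangulated in
lemma range_eq_ker (T : A) {S : ShortComplex (CochainComplex A ℤ)} (hS : S.ShortExact)
    (ρ₁ : R →+* End S.X₁) (ρ₂ : R →+* End S.X₂) (ρ₃ : R →+* End S.X₃)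
    (h₁ : Commutes ρ₁ ρ₂ S.f) (h₂ : Commutes ρ₂ ρ₃ S.g) (q : ℤ) :
    LinearMap.range (HTρmap T S.f h₁ q) = LinearMap.ker (HTρmap T S.g h₂ q) := by
  ext x
  rw [LinearMap.mem_range, LinearMap.mem_ker]
  constructor
  · rintro ⟨y, rfl⟩
    apply HTρ.toHT.injective
    rw [HTρmap_apply, HTρmap_apply, E1Deg.HTmap_apply, E1Deg.HTmap_apply, map_zero,
      Category.assoc, ← Functor.map_comp, ← Functor.map_comp, S.zero, Functor.map_zero,
      Functor.map_zero, comp_zero]
  · intro hx
    have hx2 : HTρ.toHT x ≫ (shiftFunctor _ q).map (DerivedCategory.Q.map S.g) = 0 := by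
      have := congrArg HTρ.toHT hx
      rwa [HTρmap_apply, E1Deg.HTmap_apply, map_zero] at this
    have hT' := Triangle.shift_distinguished _ (DerivedCategory.triangleOfSES_distinguished hS) q
    have hx' : HTρ.toHT x ≫
        ((Triangle.shiftFunctor _ q).obj (DerivedCategory.triangleOfSES hS)).mor₂ = 0 := by
      change HTρ.toHT x ≫
        (q.negOnePow • (shiftFunctor _ q).map (DerivedCategory.Q.map S.g)) = 0
      rw [Units.smul_def, Preadditive.comp_zsmul, hx2, smul_zero]
    obtain ⟨y, hy⟩ : ∃ y : E1Deg.HT T S.X₁ q, HTρ.toHT x =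
        y ≫ (q.negOnePow • (shiftFunctor _ q).map (DerivedCategory.Q.map S.f)) :=
      Triangle.coyoneda_exact₂ _ hT' _ hx'
    rw [Units.smul_def, Preadditive.comp_zsmul, ← Preadditive.zsmul_comp] at hy
    refine ⟨HTρ.toHT.symm ((q.negOnePow : ℤ) • y), ?_⟩
    apply HTρ.toHT.injective
    rw [HTρmap_apply, E1Deg.HTmap_apply, AddEquiv.apply_symm_apply]
    exact hy.symm

theorem isNoetherian_HTρ_of_bounded (T : A) (m : ℕ) :
    ∀ (L : CochainComplex A ℤ) (ρ : R →+* End L),
    (∀ j : ℤ, (m : ℤ) ≤ j → IsZero (L.X j)) → (∀ j : ℤ, j < 0 → IsZero (L.X j)) →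
    (∀ (j q : ℤ), IsNoetherian R
      (HTρ T ((HomologicalComplex.single A (ComplexShape.up ℤ) j).obj (L.X j)) (termAct ρ j) q)) →
    ∀ q : ℤ, IsNoetherian R (HTρ T L ρ q) := by
  induction m with
  | zero =>
    intro L ρ hz hneg _ q
    haveI := subsingleton_HTρ_of_isZero T ρ (isZero_of_terms (fun j => by
      by_cases hj : j < 0
      · exact hneg j hj
      · exact hz j (by push_cast; omega))) q
    exact isNoetherian_of_finite R _
  | succ m ih =>
    intro L ρ hz hneg hfin q
    have hd : ∀ k, (ComplexShape.up ℤ).Rel (m : ℤ) k → 𝟙 (L.X m) ≫ L.d m k = 0 := fun k hk =>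
      (hz k (by
        have : (m : ℤ) + 1 = k := hk
        push_cast
        omega)).eq_of_tgt _ _
    let i : (HomologicalComplex.single A (ComplexShape.up ℤ) (m : ℤ)).obj (L.X m) ⟶ L :=
      HomologicalComplex.mkHomFromSingle (𝟙 _) hd
    have hmono : Mono i := by
      apply HomologicalComplex.mono_of_mono_f
      intro j
      by_cases hj : j = (m : ℤ)
      · subst hj
        rw [HomologicalComplex.mkHomFromSingle_f]
        infer_instance
      · exact (HomologicalComplex.isZero_single_obj_X (ComplexShape.up ℤ) (m : ℤ) (L.X m) j hj).mono _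
    have hcomm : ∀ a : R, (termAct ρ m a : _ ⟶ _) ≫ i = i ≫ (ρ a : L ⟶ L) := by
      intro a
      apply HomologicalComplex.from_single_hom_ext
      rw [HomologicalComplex.comp_f, HomologicalComplex.comp_f, termAct_apply,
        HomologicalComplex.mkHomFromSingle_f, HomologicalComplex.single_map_f_self]
      simp
    let S : ShortComplex (CochainComplex A ℤ) :=
      ShortComplex.mk i (cokernel.π i) (cokernel.condition i)
    have hS : S.ShortExact :=
      { exact := ShortComplex.exact_cokernel i
        mono_f := hmono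
        epi_g := inferInstanceAs (Epi (cokernel.π i)) }
    have hSj : ∀ j : ℤ, (S.map (HomologicalComplex.eval _ _ j)).ShortExact :=
      fun j => hS.map_of_exact _
    have hL'' : ∀ j : ℤ, j ≠ (m : ℤ) → IsIso ((cokernel.π i).f j) := by
      intro j hj
      exact (hSj j).isIso_g_iff.2 (HomologicalComplex.isZero_single_obj_X (ComplexShape.up ℤ) (m : ℤ) (L.X m) j hj)
    have hL''m : IsZero ((cokernel i).X m) := by
      refine (hSj m).isIso_f_iff.1 ?_
      change IsIso (i.f m)
      rw [HomologicalComplex.mkHomFromSingle_f]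
      infer_instance
    let ρ'' : R →+* End (cokernel i) := cokerAct i (termAct ρ m) ρ hcomm
    have h₁ : Commutes (termAct ρ m) ρ i := hcomm
    have h₂ : Commutes ρ ρ'' (cokernel.π i) := fun a => (π_cokerAct i (termAct ρ m) ρ hcomm a).symm
    haveI h3 : IsNoetherian R (HTρ T (cokernel i) ρ'' q) := by
      refine ih (cokernel i) ρ'' ?_ ?_ ?_ q
      · intro j hj
        by_cases hjm : j = (m : ℤ)
        · subst hjm
          exact hL''m
        · haveI := hL'' j hjm
          exact IsZero.of_iso (hz j (by push_cast; omega)) (asIso ((cokernel.π i).f j)).symm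
      · intro j hj
        haveI := hL'' j (by omega)
        exact IsZero.of_iso (hneg j hj) (asIso ((cokernel.π i).f j)).symm
      · intro j q'
        by_cases hjm : j = (m : ℤ)
        · subst hjm
          haveI := subsingleton_HTρ_of_isZero T (termAct ρ'' (m : ℤ))
            ((HomologicalComplex.single A (ComplexShape.up ℤ) (m : ℤ)).map_isZero hL''m) q'
          exact isNoetherian_of_finite R _
        · haveI := hL'' j hjm
          haveI := hfin j q'
          have hc : Commutes (termAct ρ j) (termAct ρ'' j)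
              ((HomologicalComplex.single A (ComplexShape.up ℤ) j).map ((cokernel.π i).f j)) := by
            intro a
            rw [termAct_apply, termAct_apply, ← Functor.map_comp, ← Functor.map_comp,
              ← HomologicalComplex.comp_f, ← HomologicalComplex.comp_f, h₂ a]
          exact isNoetherian_of_surjective _
            (LinearMap.range_eq_top.2 (surjective_HTρmap_of_isIso T _ hc q'))
    haveI h1 := hfin m q
    exact isNoetherian_of_range_eq_ker (HTρmap T S.f h₁ q) (HTρmap T S.g h₂ q)
      (range_eq_ker T hS _ _ _ h₁ h₂ q)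

end Main

end Groth.Agent.Lib.Helper5.LinDev
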