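import Groth.Prelude.Def_KLinDR
import Groth.Prelude.Def_E1Deg2
import Groth.Agent.Lib.Helper5.LinDev

set_option autoImplicit false
universe w'' w' w v u u'
open CategoryTheory CategoryTheory.Limits

namespace Groth.Agent.Lib.Helper5.LinSingle

open KLinDR Groth.Agent.Lib.Helper5.LinDev

variable {𝒜 : Type u} [Category.{v} 𝒜] [Abelian 𝒜] [HasDerivedCategory.{w} 𝒜] [HasExt.{w'} 𝒜]

omit [HasExt.{w'} 𝒜] in
lemma targetIso_naturality {X Y : 𝒜} (s : X ⟶ Y) (i a : ℤ) (m : ℕ) (h : i + m = a) :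
    (shiftFunctor (DerivedCategory 𝒜) a).map (DerivedCategory.Q.map
        ((HomologicalComplex.single 𝒜 (ComplexShape.up ℤ) i).map s)) ≫
      (E1Deg.targetIso Y i a m h).hom =
    (E1Deg.targetIso X i a m h).hom ≫
      (shiftFunctor (DerivedCategory 𝒜) (m : ℤ)).map ((DerivedCategory.singleFunctor 𝒜 0).map s) := by
  have n1 := (DerivedCategory.singleFunctorIsoCompQ 𝒜 i).inv.naturality s
  have n2 := ((DerivedCategory.singleFunctors 𝒜).shiftIso (-i) i 0 (by omega)).inv.naturality s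
  have n3 := (shiftFunctorAdd' (DerivedCategory 𝒜) (-i) a (m : ℤ) (by omega)).inv.naturality
    ((DerivedCategory.singleFunctor 𝒜 0).map s)
  dsimp only [Functor.comp_map] at n1 n2 n3
  have key : DerivedCategory.Q.map ((HomologicalComplex.single 𝒜 (ComplexShape.up ℤ) i).map s) ≫
      (((DerivedCategory.singleFunctorIsoCompQ 𝒜 i).app Y).symm ≪≫
        (((DerivedCategory.singleFunctors 𝒜).shiftIso (-i) i 0 (by omega)).app Y).symm).hom =
      (((DerivedCategory.singleFunctorIsoCompQ 𝒜 i).app X).symm ≪≫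
        (((DerivedCategory.singleFunctors 𝒜).shiftIso (-i) i 0 (by omega)).app X).symm).hom ≫
      (shiftFunctor (DerivedCategory 𝒜) (-i)).map ((DerivedCategory.singleFunctor 𝒜 0).map s) := by
    simp only [Iso.trans_hom, Iso.symm_hom, Iso.app_inv]
    exact (Category.assoc _ _ _).symm.trans ((congrArg (· ≫ _) n1).trans
      ((Category.assoc _ _ _).trans ((congrArg (_ ≫ ·) n2).trans (Category.assoc _ _ _).symm)))
  dsimp only [E1Deg.targetIso, Iso.trans_hom, Functor.mapIso_hom, Iso.symm_hom, Iso.app_inv]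
  rw [Category.assoc, ← n3, ← Functor.map_comp_assoc, ← Functor.map_comp_assoc]
  exact congrArg (fun z => (shiftFunctor (DerivedCategory 𝒜) a).map z ≫ _) key

lemma HTsingleEquiv_comp (T : 𝒜) {X Y : 𝒜} (s : X ⟶ Y) (i a : ℤ) (m : ℕ) (h : i + m = a)
    (y : E1Deg.HT T ((HomologicalComplex.single 𝒜 (ComplexShape.up ℤ) i).obj X) a) :
    E1Deg.HTsingleEquiv T Y i a m h
        (y ≫ (shiftFunctor (DerivedCategory 𝒜) a).map (DerivedCategory.Q.map
          ((HomologicalComplex.single 𝒜 (ComplexShape.up ℤ) i).map s))) =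
      (E1Deg.HTsingleEquiv T X i a m h y).comp (Abelian.Ext.mk₀ s) (add_zero m) := by
  apply Abelian.Ext.homAddEquiv.injective
  rw [Abelian.Ext.homAddEquiv_apply, Abelian.Ext.homAddEquiv_apply, Abelian.Ext.comp_hom,
    Abelian.Ext.mk₀_hom, ShiftedHom.comp_mk₀]
  change Abelian.Ext.homAddEquiv (Abelian.Ext.homAddEquiv.symm
      ((y ≫ _) ≫ (E1Deg.targetIso Y i a m h).hom)) =
    Abelian.Ext.homAddEquiv (Abelian.Ext.homAddEquiv.symm
      (y ≫ (E1Deg.targetIso X i a m h).hom)) ≫ _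
  rw [AddEquiv.apply_symm_apply, AddEquiv.apply_symm_apply, Category.assoc,
    targetIso_naturality, Category.assoc]

omit [HasExt.{w'} 𝒜] in
open DerivedCategory in
lemma subsingleton_HT_single_of_lt (T X : 𝒜) (i a : ℤ) (h : a < i) :
    Subsingleton (E1Deg.HT T ((HomologicalComplex.single 𝒜 (ComplexShape.up ℤ) i).obj X) a) := by
  have h0 : ((DerivedCategory.singleFunctor 𝒜 i).obj X).IsGE i := inferInstance
  have h1 : (DerivedCategory.Q.obj
      ((HomologicalComplex.single 𝒜 (ComplexShape.up ℤ) i).obj X)).IsGE i :=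
    TStructure.t.isGE_of_iso ((DerivedCategory.singleFunctorIsoCompQ 𝒜 i).app X) i
  have h2 : ((shiftFunctor (DerivedCategory 𝒜) a).obj (DerivedCategory.Q.obj
      ((HomologicalComplex.single 𝒜 (ComplexShape.up ℤ) i).obj X))).IsGE (i - a) :=
    TStructure.t.isGE_shift _ i a (i - a) (by omega)
  have h3 : ((DerivedCategory.singleFunctor 𝒜 0).obj T).IsLE 0 := inferInstance
  exact ⟨fun x y => by
    rw [TStructure.t.zero_of_isLE_of_isGE x 0 (i - a) (by omega) h3 h2,
      TStructure.t.zero_of_isLE_of_isGE y 0 (i - a) (by omega) h3 h2]⟩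

variable {R : Type u'} [Ring R]

lemma HTsingle_smul (T F : 𝒜) (σ : R →+* End F) (i a : ℤ) (m : ℕ) (h : i + m = a) (r : R)
    (x : HTρ T ((HomologicalComplex.single 𝒜 (ComplexShape.up ℤ) i).obj F)
      (mapAct (HomologicalComplex.single 𝒜 (ComplexShape.up ℤ) i) σ) a) :
    E1Deg.HTsingleEquiv T F i a m h (HTρ.toHT (r • x)) =
      (E1Deg.HTsingleEquiv T F i a m h (HTρ.toHT x)).comp (Abelian.Ext.mk₀ (σ r : F ⟶ F))
        (add_zero m) := by
  rw [KLinDR.smul_def]
  exact HTsingleEquiv_comp T (σ r : F ⟶ F) i a m h _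

/-- the hypercohomology modules of a single term are Noetherian as soon as its `Ext` groups
are (through additive identifications compatible with the action). -/
theorem isNoetherian_HTρ_single (T F : 𝒜) (σ : R →+* End F) (i : ℤ)
    (hExt : ∀ m : ℕ, ∃ (N : Type w'') (_ : AddCommGroup N) (_ : Module R N)
      (_ : IsNoetherian R N) (e : Abelian.Ext.{w'} T F m ≃+ N),
      ∀ (a : R) (x : Abelian.Ext.{w'} T F m),
        e (x.comp (Abelian.Ext.mk₀ (σ a : F ⟶ F)) (add_zero m)) = a • e x) (q : ℤ) :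
    IsNoetherian R (HTρ T ((HomologicalComplex.single 𝒜 (ComplexShape.up ℤ) i).obj F)
      (mapAct (HomologicalComplex.single 𝒜 (ComplexShape.up ℤ) i) σ) q) := by
  by_cases hq : q < i
  · haveI := subsingleton_HT_single_of_lt T F i q hq
    haveI : Subsingleton (HTρ T ((HomologicalComplex.single 𝒜 (ComplexShape.up ℤ) i).obj F)
      (mapAct (HomologicalComplex.single 𝒜 (ComplexShape.up ℤ) i) σ) q) :=
      HTρ.toHT.toEquiv.subsingleton
    exact isNoetherian_of_finite R _
  · obtain ⟨m, hm⟩ : ∃ m : ℕ, i + m = q := ⟨(q - i).toNat, by omega⟩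
    obtain ⟨N, _, _, _, e, he⟩ := hExt m
    let Φ : HTρ T ((HomologicalComplex.single 𝒜 (ComplexShape.up ℤ) i).obj F)
        (mapAct (HomologicalComplex.single 𝒜 (ComplexShape.up ℤ) i) σ) q ≃+ N :=
      HTρ.toHT.trans ((E1Deg.HTsingleEquiv T F i q m hm).trans e)
    have hΦ : ∀ (a : R) x, Φ (a • x) = a • Φ x := by
      intro a x
      change e (E1Deg.HTsingleEquiv T F i q m hm (HTρ.toHT (a • x))) = a • Φ x
      rw [HTsingle_smul, he]
      rfl
    exact isNoetherian_of_linearEquiv (Φ.toLinearEquiv hΦ).symm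

/-- the hypercohomology modules of a bounded complex with an action are Noetherian as soon as
the `Ext` groups of its terms are. -/
theorem isNoetherian_HTρ_of_terms (T : 𝒜) (m : ℕ) (L : CochainComplex 𝒜 ℤ) (ρ : R →+* End L)
    (hz : ∀ j : ℤ, (m : ℤ) ≤ j → IsZero (L.X j)) (hneg : ∀ j : ℤ, j < 0 → IsZero (L.X j))
    (hterm : ∀ j : ℤ, 0 ≤ j → ∃ (F : 𝒜) (σ : R →+* End F) (e : L.X j ≅ F),
      (∀ a : R, (ρ a : L ⟶ L).f j ≫ e.hom = e.hom ≫ (σ a : F ⟶ F)) ∧
      ∀ n : ℕ, ∃ (N : Type w'') (_ : AddCommGroup N) (_ : Module R N) (_ : IsNoetherian R N)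
        (ε : Abelian.Ext.{w'} T F n ≃+ N), ∀ (a : R) (x : Abelian.Ext.{w'} T F n),
          ε (x.comp (Abelian.Ext.mk₀ (σ a : F ⟶ F)) (add_zero n)) = a • ε x) (q : ℤ) :
    IsNoetherian R (HTρ T L ρ q) := by
  refine isNoetherian_HTρ_of_bounded T m L ρ hz hneg (fun j q' => ?_) q
  by_cases hj : j < 0
  · haveI := subsingleton_HTρ_of_isZero T (termAct ρ j)
      ((HomologicalComplex.single 𝒜 (ComplexShape.up ℤ) j).map_isZero (hneg j hj)) q'
    exact isNoetherian_of_finite R _
  · obtain ⟨F, σ, e, hc, hExt⟩ := hterm j (by omega)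
    haveI := isNoetherian_HTρ_single T F σ j hExt q'
    have hc' : Commutes (mapAct (HomologicalComplex.single 𝒜 (ComplexShape.up ℤ) j) σ)
        (termAct ρ j) ((HomologicalComplex.single 𝒜 (ComplexShape.up ℤ) j).map e.inv) := by
      intro a
      rw [termAct_apply, mapAct_apply, ← Functor.map_comp, ← Functor.map_comp]
      congr 1
      rw [← cancel_mono e.hom, Category.assoc, Category.assoc, hc a]
      simp
    exact isNoetherian_of_surjective _ (LinearMap.range_eq_top.2
      (surjective_HTρmap_of_isIso T _ hc' q'))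

end Groth.Agent.Lib.Helper5.LinSingle
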