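import Groth.Agent.Lib.Helper5.EtaleLocSupp
import Groth.Agent.Lib.Helper5.FilteredUnion
import Groth.Agent.Lib.Helper15.EtGlue

/-!
# Helper5: an abelian étale sheaf which is étale-locally zero is zero
-/

set_option autoImplicit false
universe u

namespace Groth.Agent.Lib.Helper5.LocZero

open CategoryTheory Limits AlgebraicGeometry Opposite Groth.Agent.Lib.Helper13
open Groth.Agent.Lib.Helper13.ExtZeroExact Groth.Agent.Lib.Helper15

set_option backward.isDefEq.respectTransparency.types false

lemma isZero_sections_of_isZero {Y : Scheme.{u}} (G : EtCoh.Ab Y) (h : IsZero G) (W : Y.Etale) :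
    IsZero (G.obj.obj (op W)) :=
  (sheafToPresheaf Y.smallEtaleTopology AddCommGrpCat.{u + 1} ⋙
    (evaluation _ _).obj (op W)).map_isZero h

/-- an abelian étale sheaf which is étale-locally zero is zero. -/
lemma isZero_of_locally {X : Scheme.{u}} (L : EtCoh.Ab X)
    (h : ∀ x : X, ∃ (Y : Scheme.{u}) (g : Y ⟶ X) (_ : Etale g), x ∈ Set.range g.base ∧
      IsZero ((EtShriek.restrAlong g).obj L)) : IsZero L := by
  apply FilteredUnion.isZero_of_sections
  intro V
  haveI : Subsingleton (L.obj.obj (op V)) := by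
    refine ⟨fun s t => EtGlue.eq_of_locally_ab L s t ?_⟩
    intro v
    obtain ⟨Y, g, hg, ⟨y, hy⟩, hz⟩ := h (V.hom.base v)
    obtain ⟨w, hw1, hw2⟩ := Scheme.Pullback.exists_preimage_pullback v y hy.symm
    refine ⟨_, (EtaleRestr.adjSites g).counit.app V, w, hw1, ?_⟩
    haveI := AddCommGrpCat.subsingleton_of_isZero
      (isZero_sections_of_isZero _ hz ((EtCoh.bc g).obj V))
    exact Subsingleton.elim (α := ((EtShriek.restrAlong g).obj L).obj.obj (op ((EtCoh.bc g).obj V))) _ _
  exact AddCommGrpCat.isZero_of_subsingleton _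

end Groth.Agent.Lib.Helper5.LocZero
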