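import Mathlib

/-!
# An additive functor commutes with the extension of complexes along an embedding (helper5)
-/

set_option autoImplicit false
open CategoryTheory CategoryTheory.Limits

namespace Groth.Agent.Lib.Helper5.MapExtend

variable {ι ι' : Type*} {c : ComplexShape ι} {c' : ComplexShape ι'}
  {C D : Type*} [Category C] [Category D] [HasZeroObject C] [HasZeroObject D]
  [Preadditive C] [Preadditive D] (F : C ⥤ D) [F.Additive]
  (K : HomologicalComplex C c) (e : c.Embedding c')

/-- the termwise comparison. -/
noncomputable def xIso : ∀ o : Option ι,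
    F.obj (HomologicalComplex.extend.X K o) ≅
      HomologicalComplex.extend.X ((F.mapHomologicalComplex c).obj K) o
  | some _ => Iso.refl _
  | none => F.mapZeroObject

lemma xIso_d (o o' : Option ι) :
    F.map (HomologicalComplex.extend.d K o o') ≫ (xIso F K o').hom =
      (xIso F K o).hom ≫ HomologicalComplex.extend.d ((F.mapHomologicalComplex c).obj K) o o' :=
  match o, o' with
  | none, _ => by
      rw [HomologicalComplex.extend.d_none_eq_zero _ _ _ rfl,
        HomologicalComplex.extend.d_none_eq_zero _ _ _ rfl, Functor.map_zero, zero_comp, comp_zero]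
  | some i, some j => by
      change F.map (K.d i j) ≫ 𝟙 _ = 𝟙 _ ≫ F.map (K.d i j)
      rw [Category.comp_id, Category.id_comp]
  | some _, none => by
      rw [HomologicalComplex.extend.d_none_eq_zero' _ _ _ rfl,
        HomologicalComplex.extend.d_none_eq_zero' _ _ _ rfl, Functor.map_zero, zero_comp, comp_zero]

/-- `F (K.extend e) ≅ (F K).extend e`. -/
noncomputable def mapExtendIso :
    (F.mapHomologicalComplex c').obj (K.extend e) ≅
      ((F.mapHomologicalComplex c).obj K).extend e :=
  HomologicalComplex.Hom.isoOfComponents (fun i' => xIso F K (e.r i'))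
    (fun i' j' _ => (xIso_d F K (e.r i') (e.r j')).symm)

end Groth.Agent.Lib.Helper5.MapExtend
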