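import Groth.Agent.Lib.Helper5.EtaleLocSupp
import Groth.Prelude.Def_EtDual

/-!
# Helper5: restriction of `G_m` and `μ_n` along étale morphisms
-/

set_option autoImplicit false
universe u

namespace Groth.Agent.Lib.Helper5.MuRestr

open CategoryTheory Limits AlgebraicGeometry Opposite Groth.Agent.Lib.Helper13
open Groth.Agent.Lib.Helper13.ExtZeroExact Groth.Agent.Lib.Helper5.EtaleLocSupp

set_option backward.isDefEq.respectTransparency.types false

variable {X X' : Scheme.{u}} (g : X' ⟶ X) [Etale g]

/-- the restriction of `G_m` is `G_m`. -/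
noncomputable def gmRestrIso : (EtShriek.restrAlong g).obj (EtCoh.Gm X) ≅ EtCoh.Gm X' :=
  (sheafToPresheaf _ _).preimageIso (NatIso.ofComponents (fun V => Iso.refl _) (by intros; rfl))

/-- the restriction of `μ_n` is `μ_n`. -/
noncomputable def muRestrIso (n : ℕ) : (EtShriek.restrAlong g).obj (EtCoh.mu X n) ≅ EtCoh.mu X' n :=
  PreservesKernel.iso (EtShriek.restrAlong g) (EtCoh.powMap X n) ≪≫
    kernel.mapIso _ _ (gmRestrIso g) (gmRestrIso g) (by
      change (EtShriek.restrAlong g).map (n • 𝟙 (EtCoh.Gm X)) ≫ _ = _ ≫ (n • 𝟙 (EtCoh.Gm X'))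
      rw [Functor.map_nsmul, Preadditive.nsmul_comp, Preadditive.comp_nsmul, CategoryTheory.Functor.map_id,
        Category.id_comp, Category.comp_id])

end Groth.Agent.Lib.Helper5.MuRestr
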