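import Groth.Agent.Lib.Helper5.NatPull
import Groth.Prelude.Def_FreeSh

/-!
# Comparison of the naive inverse image presheaf along an open map with `natPre` (helper5)
-/

set_option autoImplicit false
universe u

namespace Groth.Agent.Lib.Helper5.NatPull

open CategoryTheory CategoryTheory.Limits Opposite TopologicalSpace Topology
open Groth.Agent.Lib.Helper5.SecSh

variable {Y S : TopCat.{u}} {a : Y ⟶ S} (ha : IsOpenMap a)

/-- a section with values in `W` is defined on an open contained in `a(W)` -/
def toYoneda (W : Opens Y) : (secSh a W).obj ⟶ yoneda.obj (ha.functor.obj W) where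
  app U := ↾fun s => homOfLE (fun x hx =>
    ⟨s.1 ⟨x, hx⟩, (s.2.2 ⟨x, hx⟩).2, (s.2.2 ⟨x, hx⟩).1⟩)
  naturality U U' _ := by
    ext s
    exact Subsingleton.elim (α := (unop U' ⟶ ha.functor.obj W)) _ _

lemma toYoneda_naturality {W W' : Opens Y} (h : W' ≤ W) :
    (secMap a h).hom ≫ toYoneda ha W =
      toYoneda ha W' ≫ yoneda.map (ha.functor.map (homOfLE h)) := by
  ext U s
  exact Subsingleton.elim (α := (unop U ⟶ ha.functor.obj W)) _ _

/-- the induced map on free abelian sheaves -/
noncomputable def κ (W : Opens Y) :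
    (M a).obj W ⟶ CohCx.freeSheaf (Opens.grothendieckTopology S) (ha.functor.obj W) :=
  (presheafToSheaf _ AddCommGrpCat.{u}).map
    (Functor.whiskerRight (toYoneda ha W) AddCommGrpCat.free.{u})

lemma κ_naturality {W W' : Opens Y} (h : W' ≤ W) :
    (M a).map (homOfLE h) ≫ κ ha W =
      κ ha W' ≫ CohCx.freeSheafMap _ (ha.functor.map (homOfLE h)) := by
  calc (presheafToSheaf _ AddCommGrpCat.{u}).map
        (Functor.whiskerRight (secMap a h).hom AddCommGrpCat.free.{u}) ≫
      (presheafToSheaf _ AddCommGrpCat.{u}).map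
        (Functor.whiskerRight (toYoneda ha W) AddCommGrpCat.free.{u})
      = (presheafToSheaf _ AddCommGrpCat.{u}).map
        (Functor.whiskerRight ((secMap a h).hom ≫ toYoneda ha W) AddCommGrpCat.free.{u}) := by
        rw [Functor.whiskerRight_comp, Functor.map_comp]
    _ = (presheafToSheaf _ AddCommGrpCat.{u}).map
        (Functor.whiskerRight (toYoneda ha W' ≫ yoneda.map (ha.functor.map (homOfLE h)))
          AddCommGrpCat.free.{u}) := by rw [toYoneda_naturality]
    _ = _ := by
        rw [Functor.whiskerRight_comp, Functor.map_comp]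
        rfl

/-- the comparison map -/
noncomputable def cmpApp (G : CohTop.Ab S) (W : Opens Y) :
    G.obj.obj (op (ha.functor.obj W)) →+ ((M a).obj W ⟶ G) :=
  ((preadditiveYoneda.obj G).map (κ ha W).op).hom.comp
    (CohFree.homEquivSect (Opens.grothendieckTopology S) (ha.functor.obj W) G).symm.toAddMonoidHom

lemma cmpApp_apply (G : CohTop.Ab S) (W : Opens Y) (g : G.obj.obj (op (ha.functor.obj W))) :
    cmpApp ha G W g = κ ha W ≫ CohFree.ofSect _ _ G g := rfl

lemma ofSect_map (G : CohTop.Ab S) {V U : Opens S} (f : V ⟶ U) (g : G.obj.obj (op U)) :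
    CohFree.ofSect (Opens.grothendieckTopology S) V G ((G.obj.map f.op).hom g) =
      CohCx.freeSheafMap _ f ≫ CohFree.ofSect _ U G g := by
  apply (CohFree.homEquivSect (Opens.grothendieckTopology S) V G).injective
  rw [CohFree.homEquivSect_apply, CohFree.homEquivSect_apply, CohFree.evalGen_ofSect,
    CohFree.evalGen_freeSheafMap_comp, CohFree.evalGen_ofSect]

/-- the comparison morphism from the naive inverse image presheaf -/
noncomputable def cmp (G : CohTop.Ab S) : ha.functor.op ⋙ G.obj ⟶ natPre a G where
  app W := AddCommGrpCat.ofHom (cmpApp ha G (unop W))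
  naturality W W' g := by
    ext x
    show cmpApp ha G (unop W') ((G.obj.map (ha.functor.map g.unop).op).hom x) =
      (M a).map g.unop ≫ cmpApp ha G (unop W) x
    rw [cmpApp_apply, cmpApp_apply, ofSect_map]
    have := κ_naturality ha (leOfHom g.unop)
    rw [← Category.assoc, ← Category.assoc]
    exact congrArg (· ≫ _) this.symm

end Groth.Agent.Lib.Helper5.NatPull
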