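import Groth.Agent.Lib.Helper5.NatSmall

/-!
# The inverse image along an open locally injective map (helper5)
-/

set_option autoImplicit false
universe u

namespace Groth.Agent.Lib.Helper5.NatPull

open CategoryTheory CategoryTheory.Limits Opposite TopologicalSpace Topology
open Groth.Agent.Lib.Helper5.SecSh

variable {Y S : TopCat.{u}} {a : Y ⟶ S} (ha : IsOpenMap a)
  (hsm : ∀ y : Y, ∃ W : Opens Y, y ∈ W ∧ Set.InjOn a W)

include hsm in
lemma isLocallyInjective_cmp (G : CohTop.Ab S) :
    Presheaf.IsLocallyInjective (Opens.grothendieckTopology Y) (cmp ha G) where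
  equalizerSieve_mem {X} x y h := by
    intro p hp
    obtain ⟨W, hpW, hW⟩ := hsm p
    refine ⟨W ⊓ unop X, homOfLE inf_le_right, ?_, ⟨hpW, hp⟩⟩
    have hinj := (cmpApp_bijective ha G (W ⊓ unop X)
      (hW.mono (fun _ hz => hz.1))).1
    apply hinj
    have e1 := NatTrans.naturality_apply (cmp ha G) (homOfLE inf_le_right : W ⊓ unop X ⟶ unop X).op x
    have e2 := NatTrans.naturality_apply (cmp ha G) (homOfLE inf_le_right : W ⊓ unop X ⟶ unop X).op y
    exact e1.trans ((congrArg _ h).trans e2.symm)

include hsm in
lemma isLocallySurjective_cmp (G : CohTop.Ab S) :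
    Presheaf.IsLocallySurjective (Opens.grothendieckTopology Y) (cmp ha G) where
  imageSieve_mem {U} s := by
    intro p hp
    obtain ⟨W, hpW, hW⟩ := hsm p
    refine ⟨W ⊓ U, homOfLE inf_le_right, ?_, ⟨hpW, hp⟩⟩
    exact (cmpApp_bijective ha G (W ⊓ U) (hW.mono (fun _ hz => hz.1))).2 _

include hsm in
lemma isIso_sheafify_cmp (G : CohTop.Ab S) :
    IsIso ((presheafToSheaf (Opens.grothendieckTopology Y) AddCommGrpCat.{u}).map (cmp ha G)) := by
  haveI := isLocallyInjective_cmp ha hsm G
  haveI := isLocallySurjective_cmp ha hsm G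
  rw [← GrothendieckTopology.W_iff]
  exact GrothendieckTopology.W_of_isLocallyBijective _ _

variable (a) in
/-- the functor `G ↦ a^♮ G` -/
noncomputable def natFunctor : CohTop.Ab S ⥤ CohTop.Ab Y where
  obj G := ⟨natPre a G, natPre_isSheaf a G⟩
  map φ := ObjectProperty.homMk (Functor.whiskerLeft (M a).op (preadditiveYoneda.map φ))
  map_id G := by
    apply Sheaf.hom_ext
    show Functor.whiskerLeft (M a).op (preadditiveYoneda.map (𝟙 G)) = 𝟙 _
    rw [preadditiveYoneda.map_id]
    rfl
  map_comp φ ψ := by
    apply Sheaf.hom_ext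
    show Functor.whiskerLeft (M a).op (preadditiveYoneda.map (φ ≫ ψ)) =
      Functor.whiskerLeft (M a).op (preadditiveYoneda.map φ) ≫
        Functor.whiskerLeft (M a).op (preadditiveYoneda.map ψ)
    rw [preadditiveYoneda.map_comp]
    rfl

lemma ofSect_comp {G G' : CohTop.Ab S} (φ : G ⟶ G') (V : Opens S) (g : G.obj.obj (op V)) :
    CohFree.ofSect (Opens.grothendieckTopology S) V G g ≫ φ =
      CohFree.ofSect _ V G' ((φ.hom.app (op V)).hom g) := by
  apply (CohFree.homEquivSect (Opens.grothendieckTopology S) V G').injective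
  rw [CohFree.homEquivSect_apply, CohFree.homEquivSect_apply, CohFree.evalGen_ofSect]
  show (φ.hom.app (op V)).hom (CohFree.evalGen _ V G (CohFree.ofSect _ V G g)) = _
  rw [CohFree.evalGen_ofSect]

lemma cmp_naturality {G G' : CohTop.Ab S} (φ : G ⟶ G') :
    Functor.whiskerLeft ha.functor.op φ.hom ≫ cmp ha G' =
      cmp ha G ≫ ((natFunctor a).map φ).hom := by
  ext W g
  show cmpApp ha G' (unop W) ((φ.hom.app (op (ha.functor.obj (unop W)))).hom g) =
    cmpApp ha G (unop W) g ≫ φ
  rw [cmpApp_apply, cmpApp_apply, Category.assoc, ofSect_comp]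

/-- the first part of the comparison: the inverse image is the sheafification of the naive
inverse image presheaf -/
noncomputable def pullIso₁ : CohTop.pull a ≅
    sheafToPresheaf _ _ ⋙ (Functor.whiskeringLeft _ _ _).obj ha.functor.op ⋙
      presheafToSheaf (Opens.grothendieckTopology Y) AddCommGrpCat.{u} :=
  TopCat.Sheaf.pullbackIso AddCommGrpCat.{u} a ≪≫
    Functor.isoWhiskerLeft _ (Functor.isoWhiskerRight ha.pullbackIso _)

/-- the second part of the comparison -/
noncomputable def pullIso₂Hom (G : CohTop.Ab S) :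
    (presheafToSheaf (Opens.grothendieckTopology Y) AddCommGrpCat.{u}).obj
      (ha.functor.op ⋙ G.obj) ⟶ (natFunctor a).obj G :=
  (presheafToSheaf (Opens.grothendieckTopology Y) AddCommGrpCat.{u}).map (cmp ha G) ≫
    (sheafificationAdjunction (Opens.grothendieckTopology Y) AddCommGrpCat.{u}).counit.app
      ((natFunctor a).obj G)

include hsm in
lemma isIso_pullIso₂Hom (G : CohTop.Ab S) : IsIso (pullIso₂Hom ha G) := by
  have h1 := isIso_sheafify_cmp ha hsm G
  have h2 : IsIso ((sheafificationAdjunction (Opens.grothendieckTopology Y)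
      AddCommGrpCat.{u}).counit.app ((natFunctor a).obj G)) :=
    isIso_sheafificationAdjunction_counit _
  exact @IsIso.comp_isIso _ _ _ _ _ _ _ h1 h2

lemma pullIso₂Hom_naturality {G G' : CohTop.Ab S} (φ : G ⟶ G') :
    (presheafToSheaf (Opens.grothendieckTopology Y) AddCommGrpCat.{u}).map
      (Functor.whiskerLeft ha.functor.op φ.hom) ≫ pullIso₂Hom ha G' =
    pullIso₂Hom ha G ≫ (natFunctor a).map φ := by
  have h1 : (presheafToSheaf (Opens.grothendieckTopology Y) AddCommGrpCat.{u}).map
      ((natFunctor a).map φ).hom ≫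
      (sheafificationAdjunction (Opens.grothendieckTopology Y) AddCommGrpCat.{u}).counit.app
        ((natFunctor a).obj G') =
      (sheafificationAdjunction (Opens.grothendieckTopology Y) AddCommGrpCat.{u}).counit.app
        ((natFunctor a).obj G) ≫ (natFunctor a).map φ :=
    (sheafificationAdjunction (Opens.grothendieckTopology Y)
      AddCommGrpCat.{u}).counit.naturality ((natFunctor a).map φ)
  calc (presheafToSheaf (Opens.grothendieckTopology Y) AddCommGrpCat.{u}).map
        (Functor.whiskerLeft ha.functor.op φ.hom) ≫ pullIso₂Hom ha G'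
      = (presheafToSheaf (Opens.grothendieckTopology Y) AddCommGrpCat.{u}).map
          (Functor.whiskerLeft ha.functor.op φ.hom ≫ cmp ha G') ≫
        (sheafificationAdjunction (Opens.grothendieckTopology Y) AddCommGrpCat.{u}).counit.app
          ((natFunctor a).obj G') := by
        rw [Functor.map_comp, Category.assoc]
        rfl
    _ = (presheafToSheaf (Opens.grothendieckTopology Y) AddCommGrpCat.{u}).map
          (cmp ha G ≫ ((natFunctor a).map φ).hom) ≫
        (sheafificationAdjunction (Opens.grothendieckTopology Y) AddCommGrpCat.{u}).counit.app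
          ((natFunctor a).obj G') :=
        congrArg (fun t => (presheafToSheaf (Opens.grothendieckTopology Y)
          AddCommGrpCat.{u}).map t ≫ (sheafificationAdjunction (Opens.grothendieckTopology Y)
            AddCommGrpCat.{u}).counit.app ((natFunctor a).obj G')) (cmp_naturality ha φ)
    _ = (presheafToSheaf (Opens.grothendieckTopology Y) AddCommGrpCat.{u}).map (cmp ha G) ≫
        (presheafToSheaf (Opens.grothendieckTopology Y) AddCommGrpCat.{u}).map
          ((natFunctor a).map φ).hom ≫
        (sheafificationAdjunction (Opens.grothendieckTopology Y) AddCommGrpCat.{u}).counit.app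
          ((natFunctor a).obj G') := by rw [Functor.map_comp, Category.assoc]
    _ = (presheafToSheaf (Opens.grothendieckTopology Y) AddCommGrpCat.{u}).map (cmp ha G) ≫
        (sheafificationAdjunction (Opens.grothendieckTopology Y) AddCommGrpCat.{u}).counit.app
          ((natFunctor a).obj G) ≫ (natFunctor a).map φ :=
        congrArg (fun t => (presheafToSheaf (Opens.grothendieckTopology Y)
          AddCommGrpCat.{u}).map (cmp ha G) ≫ t) h1
    _ = pullIso₂Hom ha G ≫ (natFunctor a).map φ := (Category.assoc _ _ _).symm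

/-- the inverse image along an open locally injective map -/
noncomputable def pullNatIso : CohTop.pull a ≅ natFunctor a :=
  pullIso₁ ha ≪≫ NatIso.ofComponents
    (fun G => @asIso _ _ _ _ (pullIso₂Hom ha G) (isIso_pullIso₂Hom ha hsm G))
    (fun φ => pullIso₂Hom_naturality ha φ)

end Groth.Agent.Lib.Helper5.NatPull
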