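import Groth.Agent.Lib.Helper5.SecGlue

/-!
# A model of the inverse image along a local homeomorphism (helper5)

`(a^♮ G)(W) = Hom(ℤ[sections of a with values in W], G)`.
-/

set_option autoImplicit false
universe u

namespace Groth.Agent.Lib.Helper5.NatPull

open CategoryTheory CategoryTheory.Limits Opposite TopologicalSpace Topology
open Groth.Agent.Lib.Helper5.SecSh

variable {Y S : TopCat.{u}} (a : Y ⟶ S)

/-- the free abelian sheaf functor on sheaves of sets -/
noncomputable abbrev freeSh (S : TopCat.{u}) :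
    Sheaf (Opens.grothendieckTopology S) (Type u) ⥤ CohTop.Ab S :=
  Sheaf.composeAndSheafify (Opens.grothendieckTopology S) AddCommGrpCat.free.{u}

/-- the forgetful functor to sheaves of sets -/
noncomputable abbrev forgetSh (S : TopCat.{u}) :
    CohTop.Ab S ⥤ Sheaf (Opens.grothendieckTopology S) (Type u) :=
  sheafCompose (Opens.grothendieckTopology S) (forget AddCommGrpCat.{u})

/-- the free-forgetful adjunction for sheaves -/
noncomputable abbrev adjFS (S : TopCat.{u}) : freeSh S ⊣ forgetSh S :=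
  Sheaf.adjunction (Opens.grothendieckTopology S) AddCommGrpCat.adj.{u}

/-- `W ↦ ℤ[sections of a with values in W]` -/
noncomputable def M : Opens Y ⥤ CohTop.Ab S := secFunctor a ⋙ freeSh S

/-- the presheaf `W ↦ Hom(M W, G)` -/
noncomputable def natPre (G : CohTop.Ab S) : TopCat.Presheaf AddCommGrpCat.{u} Y :=
  (M a).op ⋙ preadditiveYoneda.obj G

lemma natPre_map_apply (G : CohTop.Ab S) {W W' : (Opens Y)ᵒᵖ} (g : W ⟶ W')
    (φ : (M a).obj (unop W) ⟶ G) :
    ((natPre a G).map g).hom φ = (M a).map g.unop ≫ φ := rfl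

lemma natPre_isSheaf (G : CohTop.Ab S) : (natPre a G).IsSheaf := by
  rw [TopCat.Presheaf.isSheaf_iff_isSheafUniqueGluing]
  intro ι Wi sf hsf
  let e := fun W => (adjFS S).homEquiv (secSh a W) G
  have hnat : ∀ {W W' : Opens Y} (h : W ≤ W') (φ : (M a).obj W' ⟶ G),
      e W ((M a).map (homOfLE h) ≫ φ) = secMap a h ≫ e W' φ := fun h φ =>
    (adjFS S).homEquiv_naturality_left (secMap a h) φ
  have hψ : ∀ i j, secMap a (inf_le_left : Wi i ⊓ Wi j ≤ Wi i) ≫ e _ (sf i) =
      secMap a (inf_le_right : Wi i ⊓ Wi j ≤ Wi j) ≫ e _ (sf j) := by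
    intro i j
    rw [← hnat, ← hnat]
    exact congrArg (e _) (hsf i j)
  refine ⟨(e _).symm (glue a Wi (fun i => e _ (sf i)) hψ), ?_, ?_⟩
  · intro i
    apply (e _).injective
    refine (hnat (le_iSup Wi i) _).trans ?_
    rw [Equiv.apply_symm_apply]
    exact secMap_glue a Wi _ hψ i
  · intro s hs
    apply (e _).injective
    rw [Equiv.apply_symm_apply]
    apply glue_ext a Wi
    intro i
    rw [secMap_glue, ← hnat]
    exact congrArg (e _) (hs i)

end Groth.Agent.Lib.Helper5.NatPull
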