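import Groth.Agent.Lib.Helper5.NatCmp

/-!
# The comparison map is bijective on opens where the map is injective (helper5)
-/

set_option autoImplicit false
universe u

namespace Groth.Agent.Lib.Helper5.NatPull

open CategoryTheory CategoryTheory.Limits Opposite TopologicalSpace Topology
open Groth.Agent.Lib.Helper5.SecSh

variable {Y S : TopCat.{u}} {a : Y ⟶ S} (ha : IsOpenMap a)

include ha in
lemma exists_section (W : Opens Y) (hW : Set.InjOn a W) (U : Opens S)
    (hU : U ≤ ha.functor.obj W) :
    ∃ s : U → Y, Continuous s ∧ ∀ x, a (s x) = x.1 ∧ s x ∈ W := by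
  let r : W → S := fun w => a w.1
  have hr : IsOpenEmbedding r :=
    .of_continuous_injective_isOpenMap (a.hom.continuous.comp continuous_subtype_val)
      (fun w w' h => Subtype.ext (hW w.2 w'.2 h)) (ha.comp W.2.isOpenMap_subtype_val)
  let e := hr.toIsEmbedding.toHomeomorph
  have hmem : ∀ x : U, x.1 ∈ Set.range r := fun x => by
    obtain ⟨w, hw, hx⟩ := hU x.2
    exact ⟨⟨w, hw⟩, hx⟩
  refine ⟨fun x => (e.symm ⟨x.1, hmem x⟩).1, ?_, ?_⟩
  · exact continuous_subtype_val.comp
      (e.symm.continuous.comp (Continuous.subtype_mk continuous_subtype_val hmem))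
  · intro x
    have h1 : (e (e.symm ⟨x.1, hmem x⟩)).1 = x.1 := by rw [e.apply_symm_apply]
    exact ⟨h1, (e.symm ⟨x.1, hmem x⟩).2⟩

lemma toYoneda_app_bijective (W : Opens Y) (hW : Set.InjOn a W) (U : (Opens S)ᵒᵖ) :
    Function.Bijective ((toYoneda ha W).app U) := by
  constructor
  · intro s t _
    apply secSh_ext
    intro x
    exact hW (s.2.2 x).2 (t.2.2 x).2 ((s.2.2 x).1.trans (t.2.2 x).1.symm)
  · intro f
    obtain ⟨s, hs, hs'⟩ := exists_section ha W hW (unop U) (leOfHom f)
    exact ⟨⟨s, hs, hs'⟩, Subsingleton.elim (α := (unop U ⟶ ha.functor.obj W)) _ _⟩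

lemma isIso_toYoneda (W : Opens Y) (hW : Set.InjOn a W) : IsIso (toYoneda ha W) := by
  haveI : ∀ U, IsIso ((toYoneda ha W).app U) := fun U =>
    (isIso_iff_bijective _).2 (toYoneda_app_bijective ha W hW U)
  exact NatIso.isIso_of_isIso_app _

lemma isIso_κ (W : Opens Y) (hW : Set.InjOn a W) : IsIso (κ ha W) := by
  haveI := isIso_toYoneda ha W hW
  haveI : IsIso (Functor.whiskerRight (toYoneda ha W) AddCommGrpCat.free.{u}) :=
    Functor.map_isIso ((Functor.whiskeringRight (Opens S)ᵒᵖ _ _).obj AddCommGrpCat.free.{u})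
      (toYoneda ha W)
  exact Functor.map_isIso (presheafToSheaf _ AddCommGrpCat.{u})
    (Functor.whiskerRight (toYoneda ha W) AddCommGrpCat.free.{u})

lemma cmpApp_bijective (G : CohTop.Ab S) (W : Opens Y) (hW : Set.InjOn a W) :
    Function.Bijective (cmpApp ha G W) := by
  haveI := isIso_κ ha W hW
  have h1 : Function.Bijective
      (CohFree.homEquivSect (Opens.grothendieckTopology S) (ha.functor.obj W) G).symm :=
    (CohFree.homEquivSect (Opens.grothendieckTopology S) (ha.functor.obj W) G).symm.bijective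
  have h2 : Function.Bijective (fun φ : CohCx.freeSheaf _ (ha.functor.obj W) ⟶ G =>
      κ ha W ≫ φ) := by
    constructor
    · intro φ φ' h
      exact (cancel_epi (κ ha W)).1 h
    · intro ψ
      exact ⟨inv (κ ha W) ≫ ψ, by simp⟩
  exact h2.comp h1

end Groth.Agent.Lib.Helper5.NatPull
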