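import Groth.Agent.Lib.Helper5.TowerVanish
import Groth.Agent.Lib.Helper5.FreeGen
import Groth.Agent.Lib.Helper5.CoContCoh

/-!
# Negative vanishing of hypercohomology on pulled back sheaves (helper5)

Setting: a continuous functor `v : C ⥤ D` of small sites with exact sheaf pullback `p`,
a class `B` of objects of `C` covering every object, and `K₀ ∈ D(Sh(D))` with
`Hom(ℤ_{vW}[0], K₀[i]) = 0` for `W ∈ B`, `i < 0`.
Then `Hom((p G)[0], K₀[i]) = 0` for every abelian sheaf `G` on `C` and `i < 0`.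
-/

set_option autoImplicit false
universe u
open CategoryTheory CategoryTheory.Limits Opposite

namespace Groth.Agent.Lib.Helper5.NegVanish

open Groth.Agent.Lib.Helper5

variable {C D : Type u} [SmallCategory C] [SmallCategory D]
  (J : GrothendieckTopology C) (K : GrothendieckTopology D) (v : C ⥤ D) [v.IsContinuous J K]
  [PreservesFiniteLimits (v.sheafPullback AddCommGrpCat.{u} J K)]
  [HasDerivedCategory.{u} (Sheaf K AddCommGrpCat.{u})]
  (B : Set C)

/-- the resolution tower: `M 0 = G`, `M (n+1) = ker (cover (M n) → M n)` -/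
noncomputable def M (G : Sheaf J AddCommGrpCat.{u}) : ℕ → Sheaf J AddCommGrpCat.{u}
  | 0 => G
  | n + 1 => kernel (FreeGen.coverπ J B (M G n))

/-- the degree-zero embedding into the derived category -/
noncomputable abbrev sg : Sheaf K AddCommGrpCat.{u} ⥤ DerivedCategory (Sheaf K AddCommGrpCat.{u}) :=
  DerivedCategory.singleFunctor (Sheaf K AddCommGrpCat.{u}) 0

/-- the sheaf pullback -/
noncomputable abbrev pbF : Sheaf J AddCommGrpCat.{u} ⥤ Sheaf K AddCommGrpCat.{u} :=
  v.sheafPullback AddCommGrpCat.{u} J K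

instance : PreservesFiniteColimits (v.sheafPullback AddCommGrpCat.{u} J K) := by
  have : PreservesColimitsOfSize.{u, u} (v.sheafPullback AddCommGrpCat.{u} J K) :=
    (v.sheafAdjunctionContinuous AddCommGrpCat.{u} J K).leftAdjoint_preservesColimits
  exact PreservesColimitsOfSize.preservesFiniteColimits.{u, u} _

variable {J K v B}

omit [PreservesFiniteLimits (v.sheafPullback AddCommGrpCat.{u} J K)] in
/-- vanishing on covers -/
lemma eq_zero_cover (K₀ : DerivedCategory (Sheaf K AddCommGrpCat.{u}))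
    (h : ∀ W ∈ B, ∀ i : ℤ, i < 0 → ∀ t : (sg K).obj (CohCx.freeSheaf K (v.obj W)) ⟶ K₀⟦i⟧, t = 0)
    (G : Sheaf J AddCommGrpCat.{u}) (i : ℤ) (hi : i < 0)
    (t : (sg K).obj ((pbF J K v).obj (FreeGen.cover J B G)) ⟶ K₀⟦i⟧) : t = 0 := by
  have : PreservesColimitsOfSize.{u, u} (v.sheafPullback AddCommGrpCat.{u} J K) :=
    (v.sheafAdjunctionContinuous AddCommGrpCat.{u} J K).leftAdjoint_preservesColimits
  have hc1 := isColimitOfPreserves (pbF J K v) (FreeGen.isColimitCover J B G)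
  have hc2 := isColimitOfPreserves (sg K) hc1
  apply hc2.hom_ext
  rintro ⟨idx⟩
  rw [comp_zero]
  change (sg K).map ((pbF J K v).map (FreeGen.coverι J B G idx)) ≫ t = 0
  have e := (sg K).mapIso (CoContCoh.pullFreeSheafIso J K v idx.1.1)
  rw [← cancel_epi e.inv, comp_zero]
  exact h idx.1.1 idx.1.2 i hi _

/-- **Main claim**: `Hom((p G)[0], K₀[i]) = 0` for `i < 0` and every abelian sheaf `G`. -/
theorem eq_zero_pull
    (hB : ∀ U : C, ∃ (ι : Type u) (Y : ι → C) (f : ∀ i, Y i ⟶ U),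
      Sieve.ofArrows Y f ∈ J U ∧ ∀ i, Y i ∈ B)
    (K₀ : DerivedCategory (Sheaf K AddCommGrpCat.{u}))
    (h : ∀ W ∈ B, ∀ i : ℤ, i < 0 → ∀ t : (sg K).obj (CohCx.freeSheaf K (v.obj W)) ⟶ K₀⟦i⟧, t = 0)
    (G : Sheaf J AddCommGrpCat.{u}) (i : ℤ) (hi : i < 0)
    (x : (sg K).obj ((pbF J K v).obj G) ⟶ K₀⟦i⟧) : x = 0 := by
  haveI : HasColimitsOfShape (Discrete ℕ) (DerivedCategory (Sheaf K AddCommGrpCat.{u})) :=
    hasColimitsOfShape_of_equivalence (Discrete.equivalence (Equiv.ulift.{u, 0} (α := ℕ)))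
  haveI : ∀ j : ℤ, PreservesColimitsOfShape (Discrete ℕ)
      (DerivedCategory.homologyFunctor (Sheaf K AddCommGrpCat.{u}) j) :=
    fun j => DHomCoprod.preservesColimitsOfShape_nat_homologyFunctor j
  have hepi : ∀ n, Epi (FreeGen.coverπ J B (M J B G n)) := fun n => FreeGen.epi_coverπ hB _
  have hS : ∀ n, (ShortComplex.mk (kernel.ι (FreeGen.coverπ J B (M J B G n)))
      (FreeGen.coverπ J B (M J B G n)) (kernel.condition _)).ShortExact := fun n =>
    { exact := ShortComplex.exact_of_f_is_kernel _ (kernelIsKernel _)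
      mono_f := by dsimp; infer_instance
      epi_g := hepi n }
  have hS' := fun n => (hS n).map_of_exact (pbF J K v)
  exact TowerVanish.eq_zero_of_resolution (fun n => (pbF J K v).obj (M J B G n))
    (fun n => (pbF J K v).obj (FreeGen.cover J B (M J B G n)))
    (fun n => (pbF J K v).map (kernel.ι (FreeGen.coverπ J B (M J B G n))))
    (fun n => (pbF J K v).map (FreeGen.coverπ J B (M J B G n))) _ hS' K₀
    (fun n i hi t => eq_zero_cover K₀ h (M J B G n) i hi t) i hi x

/-- vanishing of maps `(p M)[0][1] ⟶ K₀[0]` -/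
lemma eq_zero_pull_shift
    (hB : ∀ U : C, ∃ (ι : Type u) (Y : ι → C) (f : ∀ i, Y i ⟶ U),
      Sieve.ofArrows Y f ∈ J U ∧ ∀ i, Y i ∈ B)
    (K₀ : DerivedCategory (Sheaf K AddCommGrpCat.{u}))
    (h : ∀ W ∈ B, ∀ i : ℤ, i < 0 → ∀ t : (sg K).obj (CohCx.freeSheaf K (v.obj W)) ⟶ K₀⟦i⟧, t = 0)
    (G : Sheaf J AddCommGrpCat.{u})
    (x : ((sg K).obj ((pbF J K v).obj G))⟦(1 : ℤ)⟧ ⟶ K₀⟦(0 : ℤ)⟧) : x = 0 :=
  TowerVanish.eq_zero_of_shift _ K₀ (-1) 1 0 (by omega)
    (fun t => eq_zero_pull hB K₀ h G (-1) (by omega) t) x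

/-- **Left exactness**: for a right exact sequence `Q₁ → Q₀ → G → 0` of abelian sheaves on `C`,
the sequence `0 → Hom(pG, K₀[0]) → Hom(pQ₀, K₀[0]) → Hom(pQ₁, K₀[0])` is exact. -/
theorem leftExact
    (hB : ∀ U : C, ∃ (ι : Type u) (Y : ι → C) (f : ∀ i, Y i ⟶ U),
      Sieve.ofArrows Y f ∈ J U ∧ ∀ i, Y i ∈ B)
    (K₀ : DerivedCategory (Sheaf K AddCommGrpCat.{u}))
    (h : ∀ W ∈ B, ∀ i : ℤ, i < 0 → ∀ t : (sg K).obj (CohCx.freeSheaf K (v.obj W)) ⟶ K₀⟦i⟧, t = 0)
    {Q₁ Q₀ G : Sheaf J AddCommGrpCat.{u}} (d : Q₁ ⟶ Q₀) (e : Q₀ ⟶ G) (w : d ≫ e = 0)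
    (hex : (ShortComplex.mk d e w).Exact) [Epi e] :
    (∀ s : (sg K).obj ((pbF J K v).obj G) ⟶ K₀⟦(0 : ℤ)⟧,
      (sg K).map ((pbF J K v).map e) ≫ s = 0 → s = 0) ∧
    (∀ S : (sg K).obj ((pbF J K v).obj Q₀) ⟶ K₀⟦(0 : ℤ)⟧,
      (sg K).map ((pbF J K v).map d) ≫ S = 0 →
        ∃ s : (sg K).obj ((pbF J K v).obj G) ⟶ K₀⟦(0 : ℤ)⟧,
          (sg K).map ((pbF J K v).map e) ≫ s = S) := by
  -- first short exact sequence `0 → N → Q₀ → G → 0`
  have hS₁ : (ShortComplex.mk (kernel.ι e) e (kernel.condition e)).ShortExact :=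
    { exact := ShortComplex.exact_of_f_is_kernel _ (kernelIsKernel _)
      mono_f := by dsimp; infer_instance
      epi_g := by dsimp; infer_instance }
  have hS₁' := hS₁.map_of_exact (pbF J K v)
  have hT₁ := hS₁'.singleTriangle_distinguished
  -- second: `0 → N' → Q₁ → N → 0`
  let d' : Q₁ ⟶ kernel e := kernel.lift e d w
  have hd' : d' ≫ kernel.ι e = d := kernel.lift_ι _ _ _
  haveI : Epi d' := by
    have := hex.epi_kernelLift
    exact this
  have hS₂ : (ShortComplex.mk (kernel.ι d') d' (kernel.condition d')).ShortExact :=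
    { exact := ShortComplex.exact_of_f_is_kernel _ (kernelIsKernel _)
      mono_f := by dsimp; infer_instance
      epi_g := by dsimp; infer_instance }
  have hS₂' := hS₂.map_of_exact (pbF J K v)
  have hT₂ := hS₂'.singleTriangle_distinguished
  refine ⟨fun s hs => ?_, fun S hS => ?_⟩
  · obtain ⟨g, hg⟩ := Pretriangulated.Triangle.yoneda_exact₃ _ hT₁ s hs
    rw [hg, eq_zero_pull_shift hB K₀ h _ g]
    exact comp_zero
  · have hr : (sg K).map ((pbF J K v).map (kernel.ι e)) ≫ S = 0 := by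
      have h1 : (sg K).map ((pbF J K v).map d') ≫
          (sg K).map ((pbF J K v).map (kernel.ι e)) ≫ S = 0 := by
        rw [← Category.assoc, ← Functor.map_comp, ← Functor.map_comp, hd']
        exact hS
      obtain ⟨g, hg⟩ := Pretriangulated.Triangle.yoneda_exact₃ _ hT₂ _ h1
      rw [hg, eq_zero_pull_shift hB K₀ h _ g]
      exact comp_zero
    obtain ⟨s, hs⟩ := Pretriangulated.Triangle.yoneda_exact₂ _ hT₁ S hr
    exact ⟨s, hs.symm⟩

omit [PreservesFiniteLimits (v.sheafPullback AddCommGrpCat.{u} J K)]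
  [HasDerivedCategory.{u} (Sheaf K AddCommGrpCat.{u})] in
/-- naturality of the comparison `ℤ_{vV} ⟶ p ℤ_V` -/
lemma pullFreeMap_naturality {V' V : C} (g : V' ⟶ V) :
    CoContCoh.pullFreeMap J K v V' ≫ (pbF J K v).map (CohCx.freeSheafMap J g) =
      CohCx.freeSheafMap K (v.map g) ≫ CoContCoh.pullFreeMap J K v V := by
  apply (CohFree.homEquivSect K (v.obj V') _).injective
  rw [CohFree.homEquivSect_apply, CohFree.homEquivSect_apply, CohFree.evalGen_freeSheafMap_comp]
  have h1 : CohFree.evalGen K (v.obj V') _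
      (CoContCoh.pullFreeMap J K v V' ≫ (pbF J K v).map (CohCx.freeSheafMap J g)) =
      (((pbF J K v).map (CohCx.freeSheafMap J g)).hom.app (op (v.obj V'))).hom
        (CohFree.evalGen K (v.obj V') _ (CoContCoh.pullFreeMap J K v V')) := rfl
  rw [h1]
  dsimp only [CoContCoh.pullFreeMap]
  rw [CohFree.evalGen_ofSect, CohFree.evalGen_ofSect]
  dsimp only [CoContCoh.pullSect]
  -- naturality of the unit in the sheaf variable
  have hnat := (v.sheafAdjunctionContinuous AddCommGrpCat.{u} J K).unit.naturality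
    (CohCx.freeSheafMap J g)
  have h2 := ConcreteCategory.congr_hom
    (NatTrans.congr_app (congrArg (fun m => m.hom) hnat) (op V')) (CohFree.gen J V')
  -- naturality of the unit component in the object variable
  have h3 := ConcreteCategory.congr_hom
    (((v.sheafAdjunctionContinuous AddCommGrpCat.{u} J K).unit.app
      (CohCx.freeSheaf J V)).hom.naturality g.op) (CohFree.gen J V)
  have h4 := CohFree.freeSheafMap_gen J g
  refine Eq.trans ?_ h3
  refine h2.symm.trans ?_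
  exact congrArg (fun z => (((v.sheafAdjunctionContinuous AddCommGrpCat.{u} J K).unit.app
    (CohCx.freeSheaf J V)).hom.app (op V')).hom z) h4

end Groth.Agent.Lib.Helper5.NegVanish
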