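import Groth.Agent.Lib.Helper5.AffCartan

/-!
# Helper5: finite products in slices of the small étale site are wide pullbacks of schemes
-/

set_option autoImplicit false
universe u

namespace Groth.Agent.Lib.Helper5.ProdWP

open CategoryTheory Limits AlgebraicGeometry Opposite
open Groth.Agent.Lib.Helper5.AffCartan

set_option backward.isDefEq.respectTransparency.types false

variable {X : Scheme.{u}} {U : X.Etale} {m : ℕ} (Z : Fin m → Over U)

/-- the underlying scheme of the product. -/
noncomputable abbrev prodSch : Scheme.{u} := (∏ᶜ Z).left.left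

/-- the projections. -/
noncomputable abbrev prj (k : Fin m) : prodSch Z ⟶ (Z k).left.left := (Pi.π Z k).left.left

/-- the structure morphism. -/
noncomputable abbrev str : prodSch Z ⟶ U.left := (∏ᶜ Z).hom.left

lemma prj_str (k : Fin m) : prj Z k ≫ (Z k).hom.left = str Z := by
  have h := Over.w (Pi.π Z k)
  exact congrArg (fun f => f.left) h

/-- the wide pullback cone in the small étale site. -/
noncomputable def wpCone :
    Cone (Over.ConstructProducts.widePullbackDiagramOfDiagramOver U (Discrete.functor Z)) :=
  (Over.ConstructProducts.conesEquiv U (Discrete.functor Z)).symm.functor.obj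
    (limit.cone (Discrete.functor Z))

noncomputable def wpConeIsLimit : IsLimit (wpCone Z) :=
  (IsLimit.ofConeEquiv (Over.ConstructProducts.conesEquiv U (Discrete.functor Z)).symm).symm
    (limit.isLimit (Discrete.functor Z))

noncomputable def schConeIsLimit : IsLimit ((toSch X).mapCone (wpCone Z)) :=
  isLimitOfPreserves (toSch X) (wpConeIsLimit Z)

theorem exists_lift {T : Scheme.{u}} (t₀ : T ⟶ U.left) (t : ∀ k, T ⟶ (Z k).left.left)
    (ht : ∀ k, t k ≫ (Z k).hom.left = t₀) :
    ∃ s : T ⟶ prodSch Z, s ≫ str Z = t₀ ∧ ∀ k, s ≫ prj Z k = t k := by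
  let c : Cone (Over.ConstructProducts.widePullbackDiagramOfDiagramOver U (Discrete.functor Z) ⋙
      toSch X) := WidePullbackShape.mkCone t₀ t ht
  refine ⟨(schConeIsLimit Z).lift c, (schConeIsLimit Z).fac c none, fun k => ?_⟩
  exact (schConeIsLimit Z).fac c (some k)

theorem hom_ext {T : Scheme.{u}} (s s' : T ⟶ prodSch Z) (h₀ : s ≫ str Z = s' ≫ str Z)
    (h : ∀ k, s ≫ prj Z k = s' ≫ prj Z k) : s = s' := by
  apply (schConeIsLimit Z).hom_ext
  rintro (_ | k)
  · exact h₀
  · exact h k

end Groth.Agent.Lib.Helper5.ProdWP
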