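import Groth.Agent.Lib.Helper5.ModGen
import Groth.Prelude.Def_ModSite
import Groth.Prelude.Def_SiteCmp
import Groth.Agent.Lib.Helper2.TExact.BoundedBelowIso

/-!
# `f^*` of a generator of `Mod(O_D)` is a generator of `Mod(O_C)` (helper5)
-/

set_option autoImplicit false
universe w u
open CategoryTheory CategoryTheory.Limits Opposite

noncomputable section
namespace Groth.Agent.Lib.Helper5.PullGen

open Groth.Agent.Lib.Helper2.ModHomAcyclic

section Yoneda

variable {𝒞 : Type*} [Category 𝒞]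

/-- objects corepresenting the same functor are isomorphic -/
def isoOfHomEquiv {X X' : 𝒞} (E : ∀ M : 𝒞, (X ⟶ M) ≃ (X' ⟶ M))
    (hE : ∀ {M M' : 𝒞} (φ : X ⟶ M) (ψ : M ⟶ M'), E M' (φ ≫ ψ) = E M φ ≫ ψ) : X' ≅ X where
  hom := E X (𝟙 X)
  inv := (E X').symm (𝟙 X')
  hom_inv_id := by
    rw [← hE, Category.id_comp, Equiv.apply_symm_apply]
  inv_hom_id := by
    apply (E X).injective
    rw [hE, Equiv.apply_symm_apply, Category.id_comp]

end Yoneda

variable {C : Type u} [SmallCategory C] {J : GrothendieckTopology C} {O_C : Sheaf J CommRingCat.{u}}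
  {D : Type u} [SmallCategory D] {K : GrothendieckTopology D} {O_D : Sheaf K CommRingCat.{u}}
  (f : ModSite.RMor O_C O_D)

/-- maps out of `f^* G_D(V)` are sections over `u V` -/
def homEquivGen (V : D) (M : ModSite.Mod O_C) :
    (f.pull.obj ((ModGen.gen O_D).G V) ⟶ M) ≃ ((ModGen.gen O_C).G (f.fn.obj V) ⟶ M) :=
  (f.adj.homEquiv _ M).trans (((ModGen.gen O_D).ev V (f.push.obj M)).toEquiv.trans
    ((ModGen.gen O_C).ev (f.fn.obj V) M).symm.toEquiv)

lemma homEquivGen_comp (V : D) {M M' : ModSite.Mod O_C}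
    (φ : f.pull.obj ((ModGen.gen O_D).G V) ⟶ M) (ψ : M ⟶ M') :
    homEquivGen f V M' (φ ≫ ψ) = homEquivGen f V M φ ≫ ψ := by
  apply ((ModGen.gen O_C).ev (f.fn.obj V) M').injective
  rw [(ModGen.gen O_C).ev_comp]
  change (ModGen.gen O_C).ev (f.fn.obj V) M' (((ModGen.gen O_C).ev (f.fn.obj V) M').symm
    ((ModGen.gen O_D).ev V (f.push.obj M') (f.adj.homEquiv _ M' (φ ≫ ψ)))) =
    (((toAbF O_C).map ψ).hom.app (op (f.fn.obj V))).hom
      ((ModGen.gen O_C).ev (f.fn.obj V) M (((ModGen.gen O_C).ev (f.fn.obj V) M).symm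
        ((ModGen.gen O_D).ev V (f.push.obj M) (f.adj.homEquiv _ M φ))))
  rw [AddEquiv.apply_symm_apply, AddEquiv.apply_symm_apply, Adjunction.homEquiv_naturality_right,
    (ModGen.gen O_D).ev_comp]
  rfl

/-- `f^* G_D(V) ≅ G_C(u V)` -/
def pullGenIso (V : D) : (ModGen.gen O_C).G (f.fn.obj V) ≅ f.pull.obj ((ModGen.gen O_D).G V) :=
  isoOfHomEquiv (homEquivGen f V) (homEquivGen_comp f V)

section Converse

variable {C : Type u} [SmallCategory C] {J : GrothendieckTopology C} (O : Sheaf J CommRingCat.{u})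
  [HasDerivedCategory.{w} (ModSite.Mod O)]

/-- `H^k(U, F) = 0` if `Hom(σ G U, (σ F)[k]) = 0` (converse of `ModGen.extVanish`) -/
theorem subsingleton_HU_of_vanish (F : ModSite.Mod O) (U : C) (k : ℕ)
    (h : ∀ y : GenSite.sg.obj ((ModGen.gen O).G U) ⟶
      (shiftFunctor _ (k : ℤ)).obj (GenSite.sg.obj F), y = 0) :
    Subsingleton (ModSite.HU O F k U) := by
  haveI : EnoughInjectives (ModSite.Mod O) :=
    Groth.Agent.Lib.Helper13.ModGrothendieck.enoughInjectives (ModSite.ringSh O)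
  have hR : ∀ I : ModSite.Mod O, Injective I → ∀ (n : ℕ)
      (x : Abelian.Ext (CohCx.freeSheaf J U) ((toAbF O).obj I) (n + 1)), x = 0 := by
    intro I hI n x
    exact PushAcyclic.cAcyc_of_isTotallyAcyclic J _
      (Groth.Agent.Lib.Helper2.ExtUnitH.isTotallyAcyclic_of_injective O I) U n x
  let e1 := ExtAdjAcyclic.extAdjEquivAcyclic (adjLO O) (CohCx.freeSheaf J U) hR F k
  haveI : Subsingleton (Abelian.Ext ((LO O).obj (CohCx.freeSheaf J U)) F k) := by
    constructor
    intro a b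
    apply (Abelian.Ext.homEquiv (X := (LO O).obj (CohCx.freeSheaf J U)) (Y := F)
      (n := k)).injective
    exact (h _).trans (h _).symm
  exact e1.symm.toEquiv.subsingleton

end Converse

section Leray

open CategoryTheory.Pretriangulated Groth.Agent.Lib.Helper2.TExactIso

variable {C : Type u} [SmallCategory C] {J : GrothendieckTopology C} {O_C : Sheaf J CommRingCat.{u}}
  {D : Type u} [SmallCategory D] {K : GrothendieckTopology D} {O_D : Sheaf K CommRingCat.{u}}
  (f : ModSite.RMor O_C O_D) [PreservesFiniteLimits f.pull]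
  [HasDerivedCategory.{w} (ModSite.Mod O_C)] [HasDerivedCategory.{w} (ModSite.Mod O_D)]
  {R : DerivedCategory (ModSite.Mod O_C) ⥤ DerivedCategory (ModSite.Mod O_D)}
  (adj : f.pull.mapDerivedCategory ⊣ R)

include adj in
/-- Leray: if `F' ⟶ Rf_* f^* F'` is invertible, then `H^k(u V, f^* F') = 0` implies
`H^k(V, F') = 0` -/
theorem subsingleton_HU_of_pull (F' : ModSite.Mod O_D)
    (hunit : IsIso (adj.unit.app ((DerivedCategory.singleFunctor _ 0).obj F'))) (V : D) (k : ℕ)
    [Subsingleton (ModSite.HU O_C (f.pull.obj F') k (f.fn.obj V))] :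
    Subsingleton (ModSite.HU O_D F' k V) := by
  apply subsingleton_HU_of_vanish
  intro y
  letI := adj.rightAdjointCommShift ℤ
  haveI := adj.commShift_of_leftAdjoint ℤ
  haveI := adj.right_adjoint_additive
  have hη : IsIso (adj.unit.app ((shiftFunctor _ (k : ℤ)).obj (GenSite.sg.obj F'))) :=
    isIso_app_shift adj.unit _ (k : ℤ) hunit
  let e₁ : f.pull.mapDerivedCategory.obj (GenSite.sg.obj ((ModGen.gen O_D).G V)) ≅
      GenSite.sg.obj ((ModGen.gen O_C).G (f.fn.obj V)) :=
    (f.pull.mapDerivedCategorySingleFunctor 0).app ((ModGen.gen O_D).G V) ≪≫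
      GenSite.sg.mapIso (pullGenIso f V).symm
  let e₂ : f.pull.mapDerivedCategory.obj ((shiftFunctor _ (k : ℤ)).obj (GenSite.sg.obj F')) ≅
      (shiftFunctor _ (k : ℤ)).obj (GenSite.sg.obj (f.pull.obj F')) :=
    (f.pull.mapDerivedCategory.commShiftIso (k : ℤ)).app (GenSite.sg.obj F') ≪≫
      (shiftFunctor _ (k : ℤ)).mapIso ((f.pull.mapDerivedCategorySingleFunctor 0).app F')
  have hz : e₁.inv ≫ f.pull.mapDerivedCategory.map y ≫ e₂.hom = 0 :=
    ModGen.extVanish O_C (f.pull.obj F') (f.fn.obj V) k k rfl _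
  have hΦy : f.pull.mapDerivedCategory.map y = 0 := by
    have h1 : f.pull.mapDerivedCategory.map y =
        e₁.hom ≫ (e₁.inv ≫ f.pull.mapDerivedCategory.map y ≫ e₂.hom) ≫ e₂.inv := by
      rw [Category.assoc, Category.assoc, Iso.hom_inv_id, Category.comp_id, Iso.hom_inv_id_assoc]
    rw [h1, hz, zero_comp, comp_zero]
  have hnat := adj.unit.naturality y
  have h2 : y ≫ adj.unit.app ((shiftFunctor _ (k : ℤ)).obj (GenSite.sg.obj F')) = 0 := by
    refine hnat.trans ?_
    change _ ≫ R.map (f.pull.mapDerivedCategory.map y) = 0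
    rw [hΦy, Functor.map_zero, comp_zero]
  have h3 : y = (y ≫ adj.unit.app ((shiftFunctor _ (k : ℤ)).obj (GenSite.sg.obj F'))) ≫
      inv (adj.unit.app ((shiftFunctor _ (k : ℤ)).obj (GenSite.sg.obj F'))) := by
    rw [Category.assoc, IsIso.hom_inv_id, Category.comp_id]
  rw [h3, h2, zero_comp]

end Leray

end Groth.Agent.Lib.Helper5.PullGen
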