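import Mathlib
import Groth.Prelude
import Groth.Agent.Lib.Helper13.PushEdge

/-!
# The edge map `H^1(Y, f_* G) → H^1(X, G)` is injective (helper5)

Dimension shifting along an injective hull of `G`, with the short exact sequence
`0 → f_* G → f_* I → Q' → 0` where `Q' ↪ f_*(I/G)`.
-/

set_option autoImplicit false
universe u
open CategoryTheory CategoryTheory.Limits AlgebraicGeometry TopologicalSpace Opposite
open CategoryTheory.Abelian

noncomputable section

namespace Groth.Agent.Lib.Helper5.PushEdgeInj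

open Groth.Agent.Lib.Helper13.PushEdge Groth.Agent.Lib.Helper13.SerreCrit1

variable {X Y : Scheme.{u}} (f : X ⟶ Y)

lemma comp_mk₀_injective {A B B' : Sheaf (Opens.grothendieckTopology Y) AddCommGrpCat.{u}}
    (m : B ⟶ B') [Mono m] (x x' : Ext A B 0)
    (h : x.comp (Ext.mk₀ m) (add_zero 0) = x'.comp (Ext.mk₀ m) (add_zero 0)) : x = x' := by
  obtain ⟨x₀, rfl⟩ := (Ext.mk₀_bijective _ _).2 x
  obtain ⟨x₀', rfl⟩ := (Ext.mk₀_bijective _ _).2 x'
  rw [Ext.mk₀_comp_mk₀, Ext.mk₀_comp_mk₀] at h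
  have h' := (Ext.mk₀_bijective _ _).1 h
  rw [cancel_mono] at h'
  rw [h']

section SC

variable (S : ShortComplex X.Modules)

/-- `0 → f_* S₁ → f_* S₂ → Q' → 0`. -/
def S' : ShortComplex Y.Modules :=
  ShortComplex.mk ((Scheme.Modules.pushforward f).map S.f)
    (cokernel.π ((Scheme.Modules.pushforward f).map S.f)) (cokernel.condition _)

/-- `Q' ⟶ f_* S₃`. -/
def jj : (S' f S).X₃ ⟶ (Scheme.Modules.pushforward f).obj S.X₃ :=
  cokernel.desc ((Scheme.Modules.pushforward f).map S.f) ((Scheme.Modules.pushforward f).map S.g)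
    (by rw [← Functor.map_comp, S.zero, Functor.map_zero])

lemma π_jj : (S' f S).g ≫ jj f S = (Scheme.Modules.pushforward f).map S.g :=
  cokernel.π_desc _ _ _

variable {S} (hS : S.ShortExact)
include hS

lemma S'_shortExact : (S' f S).ShortExact := by
  have := hS.mono_f
  exact
    { exact := ShortComplex.exact_cokernel _
      mono_f := inferInstanceAs (Mono ((Scheme.Modules.pushforward f).map S.f))
      epi_g := inferInstanceAs (Epi (cokernel.π ((Scheme.Modules.pushforward f).map S.f))) }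

lemma mono_jj : Mono (jj f S) := by
  have := hS.mono_f
  have hex : (S.map (Scheme.Modules.pushforward f)).Exact :=
    hS.exact.map_of_mono_of_preservesKernel (Scheme.Modules.pushforward f) hS.mono_f
      inferInstance
  exact (ShortComplex.exact_iff_mono_cokernel_desc (S.map (Scheme.Modules.pushforward f))).1 hex

end SC

/-- `κ₃ : f⁻¹ Q' ⟶ S₃`. -/
def κ₃ (S : ShortComplex X.Modules) :
    (CohPull.inv f.base).obj ((TT Y).obj (S' f S).X₃) ⟶ (TT X).obj S.X₃ :=
  (CohPull.inv f.base).map ((TT Y).map (jj f S)) ≫ kap f S.X₃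

lemma comm₂₃ (S : ShortComplex X.Modules) :
    (CohPull.inv f.base).map ((TT Y).map (S' f S).g) ≫ κ₃ f S =
      kap f S.X₂ ≫ (TT X).map S.g := by
  unfold κ₃
  rw [← Category.assoc, ← Functor.map_comp, ← Functor.map_comp, π_jj]
  exact kap_nat f S.g

/-- the morphism of short complexes `f⁻¹(0 → f_* S₁ → f_* S₂ → Q' → 0) ⟶ S`. -/
def φ (S : ShortComplex X.Modules) :
    ((S' f S).map (TT Y)).map (CohPull.inv f.base) ⟶ S.map (TT X) where
  τ₁ := kap f S.X₁
  τ₂ := kap f S.X₂
  τ₃ := κ₃ f S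
  comm₁₂ := (kap_nat f S.f).symm
  comm₂₃ := (comm₂₃ f S).symm

set_option maxHeartbeats 1600000 in
theorem injective_pushEdge_one_of_shortExact {S : ShortComplex X.Modules} (hS : S.ShortExact)
    (hInj : Injective S.X₂) : Function.Injective (CohPull.pushEdge f S.X₁ 1) := by
  have hS' := S'_shortExact f hS
  have hT := shortExact_map_toSheaf S hS
  have hT' := shortExact_map_toSheaf (S' f S) hS'
  have bI := bijective_zero f S.X₂
  have bQ := bijective_zero f S.X₃
  have hδ : ∀ x : Sheaf.H (Coh.toAb (S' f S).X₃) 0,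
      CohPull.pushEdge f S.X₁ 1 (x.comp hT'.extClass rfl) =
        (EE f.base (κ₃ f S) 0 x).comp hT.extClass rfl := by
    intro x
    refine (pushEdge_eq f S.X₁ 1 _).trans ?_
    exact EE_delta f.base hT' hT (φ f S) 0 x
  have hnat : ∀ x : Sheaf.H (Coh.toAb ((Scheme.Modules.pushforward f).obj S.X₂)) 0,
      EE f.base (κ₃ f S) 0 (x.comp (Ext.mk₀ ((TT Y).map (S' f S).g)) (add_zero 0)) =
        (CohPull.pushEdge f S.X₂ 0 x).comp (Ext.mk₀ ((TT X).map S.g)) (add_zero 0) := by
    intro x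
    rw [pushEdge_eq]
    exact EE_nat f.base (kap f S.X₂) (κ₃ f S) _ _ (comm₂₃ f S) 0 x
  have hκ₃ : ∀ x : Sheaf.H (Coh.toAb (S' f S).X₃) 0,
      CohPull.pushEdge f S.X₃ 0 (x.comp (Ext.mk₀ ((TT Y).map (jj f S))) (add_zero 0)) =
        EE f.base (κ₃ f S) 0 x := by
    intro x
    rw [pushEdge_eq]
    have h := EE_nat f.base (κ₃ f S) (kap f S.X₃) ((TT Y).map (jj f S)) (𝟙 _)
      (by rw [Category.comp_id]; rfl) 0 x
    rw [h, Ext.comp_mk₀_id]
  have hmj0 := mono_jj f hS
  have hmj : Mono ((TT Y).map (jj f S)) := inferInstance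
  have injEE : ∀ x x' : Sheaf.H (Coh.toAb (S' f S).X₃) 0,
      EE f.base (κ₃ f S) 0 x = EE f.base (κ₃ f S) 0 x' → x = x' := by
    intro x x' h
    rw [← hκ₃, ← hκ₃] at h
    exact comp_mk₀_injective ((TT Y).map (jj f S)) x x' (bQ.1 h)
  have hIY := subsingleton_H_push_of_injective f S.X₂ hInj 0
  rw [injective_iff_map_eq_zero]
  intro x hx
  have hx0 : x.comp (Ext.mk₀ ((S' f S).map (TT Y)).f) (add_zero 1) = 0 :=
    @Subsingleton.elim _ hIY _ _
  obtain ⟨q', rfl⟩ := Ext.covariant_sequence_exact₁ _ hT' x hx0 rfl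
  have h1 : (EE f.base (κ₃ f S) 0 q').comp hT.extClass rfl = 0 := (hδ q').symm.trans hx
  obtain ⟨i, hi⟩ := Ext.covariant_sequence_exact₃ _ hT (EE f.base (κ₃ f S) 0 q') rfl h1
  obtain ⟨i', rfl⟩ := bI.2 i
  have h2 := (hnat i').trans hi
  have h3 := injEE _ _ h2
  have hz : (Ext.mk₀ ((TT Y).map (S' f S).g)).comp hT'.extClass (zero_add 1) = 0 :=
    hT'.comp_extClass
  rw [← h3]
  exact (Ext.comp_assoc_of_second_deg_zero _ _ _ _).trans
    ((congrArg (fun z => i'.comp z rfl) hz).trans (Ext.comp_zero _ _ _ _ _))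

theorem injective_pushEdge_one' {G I : X.Modules} (ι : G ⟶ I) [Mono ι] (hI : Injective I) :
    Function.Injective (CohPull.pushEdge f G 1) :=
  injective_pushEdge_one_of_shortExact f
    (S := ShortComplex.mk ι (cokernel.π ι) (cokernel.condition ι))
    { exact := ShortComplex.exact_cokernel ι
      mono_f := inferInstanceAs (Mono ι)
      epi_g := inferInstanceAs (Epi (cokernel.π ι)) } hI

theorem injective_pushEdge_one (G : X.Modules) :
    Function.Injective (CohPull.pushEdge f G 1) := by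
  have : EnoughInjectives X.Modules :=
    Groth.Agent.Lib.Helper13.ModGrothendieck.enoughInjectives X.ringCatSheaf
  exact injective_pushEdge_one' f (Injective.ι G) inferInstance

end Groth.Agent.Lib.Helper5.PushEdgeInj
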