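import Mathlib

/-!
# Helper5: a functor preserving binary pullbacks preserves finite wide pullbacks of copies of a map
-/

set_option autoImplicit false
open CategoryTheory CategoryTheory.Limits Opposite

namespace Groth.Agent.Lib.Helper5.WidePB

universe v u

variable {𝒟 : Type u} [Category.{v} 𝒟]

section Succ

variable {A B : 𝒟} (h : A ⟶ B) {n : ℕ}
  (s : WidePullbackCone (fun _ : Fin n => h)) (hs : IsLimit s)
  (t : PullbackCone s.base h) (ht : IsLimit t)

/-- the family of projections of the successor cone -/
def succπ (i : Fin (n + 1)) : t.pt ⟶ A :=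
  Fin.lastCases (motive := fun _ => t.pt ⟶ A) t.snd (fun i => t.fst ≫ s.π i) i

@[simp] lemma succπ_last : succπ h s t (Fin.last n) = t.snd := by simp [succπ]
@[simp] lemma succπ_castSucc (i : Fin n) : succπ h s t i.castSucc = t.fst ≫ s.π i := by
  simp [succπ]

lemma succπ_comp (i : Fin (n + 1)) : succπ h s t i ≫ h = t.fst ≫ s.base := by
  induction i using Fin.lastCases with
  | last => rw [succπ_last]; exact t.condition.symm
  | cast i => rw [succπ_castSucc, Category.assoc, WidePullbackCone.condition]

/-- the successor cone -/
def succCone : WidePullbackCone (fun _ : Fin (n + 1) => h) :=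
  WidePullbackCone.mk (t.fst ≫ s.base) (succπ h s t) (succπ_comp h s t)

/-- restriction of a cone over `n+1` copies to the first `n` copies -/
def restrCone (c : WidePullbackCone (fun _ : Fin (n + 1) => h)) :
    WidePullbackCone (fun _ : Fin n => h) :=
  WidePullbackCone.mk c.base (fun i => c.π i.castSucc) (fun _ => c.condition _)

/-- the successor cone is a limit -/
def isLimitSuccCone : IsLimit (succCone h s t) :=
  WidePullbackCone.IsLimit.mk _
    (fun c => PullbackCone.IsLimit.lift ht (hs.lift (restrCone h c)) (c.π (Fin.last n)) (by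
      rw [c.condition]
      exact hs.fac (restrCone h c) none))
    (fun c => by
      show _ ≫ t.fst ≫ s.base = _
      rw [PullbackCone.IsLimit.lift_fst_assoc]
      exact hs.fac (restrCone h c) none)
    (fun c i => by
      show _ ≫ succπ h s t i = _
      induction i using Fin.lastCases with
      | last => rw [succπ_last, PullbackCone.IsLimit.lift_snd]
      | cast i =>
        rw [succπ_castSucc, PullbackCone.IsLimit.lift_fst_assoc]
        exact hs.fac (restrCone h c) (some i))
    (fun c m hb hπ => by
      apply PullbackCone.IsLimit.hom_ext ht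
      · rw [PullbackCone.IsLimit.lift_fst]
        apply WidePullbackCone.IsLimit.hom_ext hs
        · rw [Category.assoc]
          exact hb.trans (hs.fac (restrCone h c) none).symm
        · intro i
          have := hπ i.castSucc
          change m ≫ succπ h s t i.castSucc = _ at this
          rw [succπ_castSucc] at this
          rw [Category.assoc]
          exact this.trans (hs.fac (restrCone h c) (some i)).symm
      · rw [PullbackCone.IsLimit.lift_snd]
        have := hπ (Fin.last n)
        change m ≫ succπ h s t (Fin.last n) = _ at this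
        rwa [succπ_last] at this)

end Succ

end Groth.Agent.Lib.Helper5.WidePB

namespace Groth.Agent.Lib.Helper5.WidePB

universe v u v' u'

variable {𝒟 : Type u} [Category.{v} 𝒟]

section Zero

variable {A B : 𝒟} (h : A ⟶ B)

/-- a cone over the empty family of copies of `h` with invertible base is a limit -/
noncomputable def isLimitOfIsIsoBase (s : WidePullbackCone (fun _ : Fin 0 => h)) [IsIso s.base] : IsLimit s :=
  WidePullbackCone.IsLimit.mk _ (fun c => c.base ≫ inv s.base)
    (fun c => by simp) (fun c i => i.elim0)
    (fun c m hb _ => by rw [← hb]; simp)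

lemma isIso_base_of_isLimit (s : WidePullbackCone (fun _ : Fin 0 => h)) (hs : IsLimit s) :
    IsIso s.base := by
  let c₀ : WidePullbackCone (fun _ : Fin 0 => h) :=
    WidePullbackCone.mk (𝟙 B) (fun i => i.elim0) (fun i => i.elim0)
  haveI : IsIso c₀.base := by rw [WidePullbackCone.mk_base]; exact IsIso.id B
  have hc₀ : IsLimit c₀ := isLimitOfIsIsoBase h c₀
  let e := hs.conePointUniqueUpToIso hc₀
  have : e.hom ≫ c₀.base = s.base := IsLimit.conePointUniqueUpToIso_hom_comp hs hc₀ none
  rw [← this]
  infer_instance

end Zero

section Map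

variable {ℰ : Type u'} [Category.{v'} ℰ] (G : 𝒟 ⥤ ℰ) {A B : 𝒟} (h : A ⟶ B)

/-- image of a wide pullback cone under `G` -/
def mapWCone {n : ℕ} (s : WidePullbackCone (fun _ : Fin n => h)) :
    WidePullbackCone (fun _ : Fin n => G.map h) :=
  WidePullbackCone.mk (G.map s.base) (fun i => G.map (s.π i))
    (fun i => by rw [← G.map_comp, s.condition])

/-- `mapWCone` respects isomorphisms of cones -/
def mapWConeIso {n : ℕ} {s c : WidePullbackCone (fun _ : Fin n => h)} (e : s ≅ c) :
    mapWCone G h s ≅ mapWCone G h c :=
  WidePullbackCone.ext (G.mapIso ((Cone.forget _).mapIso e))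
    (by
      show G.map e.hom.hom ≫ G.map c.base = G.map s.base
      rw [← G.map_comp]
      congr 1
      exact e.hom.w none)
    (fun i => by
      show G.map e.hom.hom ≫ G.map (c.π i) = G.map (s.π i)
      rw [← G.map_comp]
      congr 1
      exact e.hom.w (some i))

variable [HasPullbacks 𝒟] [PreservesLimitsOfShape WalkingCospan G]
  [∀ n : ℕ, HasLimit (WidePullbackShape.wideCospan B (fun _ : Fin n => A) (fun _ => h))]

theorem isLimit_mapWCone : ∀ (n : ℕ) (s : WidePullbackCone (fun _ : Fin n => h)),
    IsLimit s → Nonempty (IsLimit (mapWCone G h s)) := by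
  intro n
  induction n with
  | zero =>
    intro s hs
    haveI := isIso_base_of_isLimit h s hs
    haveI : IsIso (mapWCone G h s).base := by
      show IsIso (G.map s.base)
      infer_instance
    exact ⟨isLimitOfIsIsoBase (G.map h) _⟩
  | succ n ih =>
    intro s hs
    let s₀ : WidePullbackCone (fun _ : Fin n => h) :=
      limit.cone (WidePullbackShape.wideCospan B (fun _ : Fin n => A) (fun _ => h))
    have hs₀ : IsLimit s₀ := limit.isLimit _
    let t : PullbackCone s₀.base h := PullbackCone.mk (pullback.fst s₀.base h)
      (pullback.snd s₀.base h) pullback.condition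
    have ht : IsLimit t := pullbackIsPullback _ _
    have hc : IsLimit (succCone h s₀ t) := isLimitSuccCone h s₀ hs₀ t ht
    obtain ⟨hs₀'⟩ := ih s₀ hs₀
    let t' : PullbackCone (mapWCone G h s₀).base (G.map h) :=
      PullbackCone.mk (G.map t.fst) (G.map t.snd) (by
        show G.map t.fst ≫ G.map s₀.base = G.map t.snd ≫ G.map h
        rw [← G.map_comp, ← G.map_comp, t.condition])
    have ht' : IsLimit t' := isLimitPullbackConeMapOfIsLimit G _ ht
    have hc' : IsLimit (succCone (G.map h) (mapWCone G h s₀) t') :=
      isLimitSuccCone (G.map h) _ hs₀' t' ht'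
    have e1 : mapWCone G h (succCone h s₀ t) ≅ succCone (G.map h) (mapWCone G h s₀) t' :=
      WidePullbackCone.ext (Iso.refl _)
        (by
          show 𝟙 _ ≫ (G.map t.fst ≫ G.map s₀.base) = G.map (t.fst ≫ s₀.base)
          rw [Category.id_comp, G.map_comp])
        (fun i => by
          show 𝟙 _ ≫ succπ (G.map h) (mapWCone G h s₀) t' i = G.map (succπ h s₀ t i)
          rw [Category.id_comp]
          induction i using Fin.lastCases with
          | last => rw [succπ_last, succπ_last]; rfl
          | cast i => rw [succπ_castSucc, succπ_castSucc, G.map_comp]; rfl)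
    have h2 : IsLimit (mapWCone G h (succCone h s₀ t)) := hc'.ofIsoLimit e1.symm
    exact ⟨h2.ofIsoLimit (mapWConeIso G h (hs.uniqueUpToIso hc)).symm⟩

end Map

end Groth.Agent.Lib.Helper5.WidePB

namespace Groth.Agent.Lib.Helper5.WidePB

universe v u v' u'

variable {𝒟 : Type u} [Category.{v} 𝒟] {ℰ : Type u'} [Category.{v'} ℰ] (G : 𝒟 ⥤ ℰ)
  {A B : 𝒟} (h : A ⟶ B)
  [HasPullbacks 𝒟] [PreservesLimitsOfShape WalkingCospan G]
  [∀ n : ℕ, HasLimit (WidePullbackShape.wideCospan B (fun _ : Fin n => A) (fun _ => h))]

/-- **A functor preserving pullbacks preserves the finite wide pullbacks of copies of a map.** -/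
theorem preservesLimit_wideCospan (n : ℕ) :
    PreservesLimit (WidePullbackShape.wideCospan B (fun _ : Fin n => A) (fun _ => h)) G := by
  apply preservesLimit_of_preserves_limit_cone (limit.isLimit _)
  have hl := (isLimit_mapWCone G h n
    (limit.cone (WidePullbackShape.wideCospan B (fun _ : Fin n => A) (fun _ => h)))
    (limit.isLimit _)).some
  let iso := WidePullbackShape.diagramIsoWideCospan
    (WidePullbackShape.wideCospan B (fun _ : Fin n => A) (fun _ => h) ⋙ G)
  refine (IsLimit.postcomposeHomEquiv iso _).1 ?_
  refine hl.ofIsoLimit (Cone.ext (Iso.refl _) ?_)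
  rintro (_ | i)
  · simp [mapWCone, iso, WidePullbackCone.mk, WidePullbackShape.mkCone,
      WidePullbackShape.diagramIsoWideCospan]
    erw [eqToHom_refl, Category.comp_id]
    rfl
  · simp [mapWCone, iso, WidePullbackCone.mk, WidePullbackShape.mkCone,
      WidePullbackShape.diagramIsoWideCospan]
    erw [eqToHom_refl, Category.comp_id]
    rfl

end Groth.Agent.Lib.Helper5.WidePB
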