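import Groth.Agent.Lib.Helper5.CechFlasque
import Groth.Agent.Lib.Helper5.WidePB

/-!
# Helper5: pushforward of Čech-acyclic sheaves when the pullback of sheaves of sets only preserves
fibre products
-/

set_option autoImplicit false
universe u
open CategoryTheory CategoryTheory.Limits Opposite AlgebraicTopology

namespace Groth.Agent.Lib.Helper5.PushWide

open CechFlasque

variable {C D : Type u} [SmallCategory C] [SmallCategory D]
  (J : GrothendieckTopology C) (K : GrothendieckTopology D) (u : D ⥤ C) [u.IsContinuous K J]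
  [PreservesLimitsOfShape WalkingCospan (u.sheafPullback (Type u) K J)]

instance (f : Arrow (Sheaf K (Type u))) (n : ℕ) :
    PreservesLimit (WidePullbackShape.wideCospan f.right (fun _ : Fin (n + 1) => f.left)
      fun _ => f.hom) (pullSet J K u) :=
  WidePB.preservesLimit_wideCospan (pullSet J K u) f.hom (n + 1)

/-- the simplicial comparison -/
noncomputable def pullCechIso {K' K₀ : Sheaf K (Type u)} (f : K' ⟶ K₀) :
    ((Arrow.mk f).cechNerve ⋙ Φ K) ⋙ pullAb J K u ≅
      (Arrow.mk ((pullSet J K u).map f)).cechNerve ⋙ Φ J :=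
  Functor.isoWhiskerLeft (Arrow.mk f).cechNerve (pullFreeIso J K u) ≪≫
    Functor.isoWhiskerRight (CechRes.cechNerveMapIso (Arrow.mk f) (pullSet J K u)) (Φ J)

/-- the comparison of chain complexes -/
noncomputable def pullCechPIso {K' K₀ : Sheaf K (Type u)} (f : K' ⟶ K₀) :
    ((pullAb J K u).mapHomologicalComplex _).obj (cechP K f) ≅
      cechP J ((pullSet J K u).map f) :=
  (CechRes.altIso (pullAb J K u) _).symm ≪≫
    (alternatingFaceMapComplex _).mapIso (pullCechIso J K u f)

theorem cechAcyclic_push (F : Sheaf J AddCommGrpCat.{u}) (hF : CechAcyclic J F) :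
    CechAcyclic K ((CohSite.push J K u).obj F) := by
  intro K' K₀ f _ q
  apply acyclicAt_of_adj (adjAb J K u)
  apply acyclicAt_of_iso (pullCechPIso J K u f).symm
  have : (pullSet J K u).IsLeftAdjoint := (adjSet J K u).isLeftAdjoint
  exact hF ((pullSet J K u).map f) q

theorem isTotallyAcyclic_push (F : Sheaf J AddCommGrpCat.{u}) (hF : CohCx.IsTotallyAcyclic F) :
    CohCx.IsTotallyAcyclic ((CohSite.push J K u).obj F) :=
  isTotallyAcyclic_of_cechAcyclic K _
    (cechAcyclic_push J K u F (cechAcyclic_of_isTotallyAcyclic J F hF))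

end Groth.Agent.Lib.Helper5.PushWide
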