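import Mathlib

set_option autoImplicit false
universe u
open CategoryTheory CategoryTheory.Limits AlgebraicGeometry

namespace Groth.Agent.Lib.Helper5.QfFiltL3p

/-- (L3') the point is in the range -/
theorem mem_range_of_factor {X Xi : Scheme.{u}} (xi : Xi ⟶ X) (p : X) (n : ℕ)
    (μ : Spec (CommRingCat.of (X.presheaf.stalk p ⧸
        IsLocalRing.maximalIdeal (X.presheaf.stalk p) ^ (n + 1))) ⟶ Xi)
    (hμ : μ ≫ xi = Spec.map (CommRingCat.ofHom (Ideal.Quotient.mk
        (IsLocalRing.maximalIdeal (X.presheaf.stalk p) ^ (n + 1)))) ≫ X.fromSpecStalk p) :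
    p ∈ Set.range xi := by
  have hne : IsLocalRing.maximalIdeal (X.presheaf.stalk p) ^ (n + 1) ≠ ⊤ := by
    intro h
    have h2 : IsLocalRing.maximalIdeal (X.presheaf.stalk p) = ⊤ :=
      top_le_iff.mp (h ▸ Ideal.pow_le_self (Nat.succ_ne_zero n))
    exact (IsLocalRing.maximalIdeal.isMaximal (X.presheaf.stalk p)).ne_top h2
  haveI : Nontrivial (X.presheaf.stalk p ⧸
      IsLocalRing.maximalIdeal (X.presheaf.stalk p) ^ (n + 1)) :=
    Ideal.Quotient.nontrivial_iff.mpr hne
  obtain ⟨z⟩ : Nonempty (PrimeSpectrum (X.presheaf.stalk p ⧸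
      IsLocalRing.maximalIdeal (X.presheaf.stalk p) ^ (n + 1))) := inferInstance
  let z' : Spec (CommRingCat.of (X.presheaf.stalk p ⧸
      IsLocalRing.maximalIdeal (X.presheaf.stalk p) ^ (n + 1))) := z
  have hz : Spec.map (CommRingCat.ofHom (Ideal.Quotient.mk
      (IsLocalRing.maximalIdeal (X.presheaf.stalk p) ^ (n + 1)))) z' =
      IsLocalRing.closedPoint (X.presheaf.stalk p) := by
    apply PrimeSpectrum.ext
    change Ideal.comap (Ideal.Quotient.mk
      (IsLocalRing.maximalIdeal (X.presheaf.stalk p) ^ (n + 1))) z.asIdeal =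
      IsLocalRing.maximalIdeal (X.presheaf.stalk p)
    apply le_antisymm
    · exact IsLocalRing.le_maximalIdeal (Ideal.IsPrime.ne_top inferInstance)
    · have h1 : IsLocalRing.maximalIdeal (X.presheaf.stalk p) ^ (n + 1) ≤
          Ideal.comap (Ideal.Quotient.mk
            (IsLocalRing.maximalIdeal (X.presheaf.stalk p) ^ (n + 1))) z.asIdeal := by
        intro a ha
        rw [Ideal.mem_comap, Ideal.Quotient.eq_zero_iff_mem.mpr ha]
        exact zero_mem _
      exact Ideal.IsPrime.le_of_pow_le h1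
  refine ⟨μ z', ?_⟩
  rw [← Scheme.Hom.comp_apply, hμ, Scheme.Hom.comp_apply, hz, Scheme.fromSpecStalk_closedPoint]

end Groth.Agent.Lib.Helper5.QfFiltL3p
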