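import Mathlib

set_option autoImplicit false
universe u
open CategoryTheory CategoryTheory.Limits AlgebraicGeometry

namespace Groth.Agent.Lib.Helper5.QfFiltL5

/-- (L5) closed immersion injective on sections of an affine cover is iso -/
theorem isIso_of_isClosedImmersion_of_app_injective {X Y : Scheme.{u}} (f : X ⟶ Y)
    [IsClosedImmersion f] {κ : Type u} (W : κ → Y.Opens) (hW : ∀ k, IsAffineOpen (W k))
    (hcov : ⨆ k, W k = ⊤) (hinj : ∀ k, Function.Injective (f.app (W k))) : IsIso f := by
  change MorphismProperty.isomorphisms Scheme f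
  refine IsZariskiLocalAtTarget.of_iSup_eq_top (P := MorphismProperty.isomorphisms Scheme) W hcov
    (fun k => ?_)
  change IsIso (f ∣_ W k)
  haveI : IsAffine (W k : Scheme) := hW k
  haveI : IsClosedImmersion (f ∣_ W k) :=
    IsZariskiLocalAtTarget.restrict (P := @IsClosedImmersion) ‹_› (W k)
  apply IsClosedImmersion.isIso_of_injective_of_isAffine
  have h1 : ∀ (U' : Y.Opens), U' = W k → Function.Injective (f.app U') := by
    rintro _ rfl
    exact hinj k
  have h2 := h1 _ (Scheme.Opens.ι_image_top (W k))
  have h3 : Function.Injective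
      (X.presheaf.map (eqToHom (image_morphismRestrict_preimage f (W k) ⊤)).op) :=
    (ConcreteCategory.bijective_of_isIso _).injective
  rw [morphismRestrict_appTop]
  exact h3.comp h2

end Groth.Agent.Lib.Helper5.QfFiltL5
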