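import Groth.Agent.Lib.Helper5.CechFlasque
import Groth.Agent.Lib.Helper5.ExtColim

/-!
# Relative Cartan criterion, abstractly (helper5)

`𝒯` is a class of test objects of an abelian category with enough injectives, `ℛ` a class of
resolutions `P → M` whose terms inherit `Ext`-vanishing from `𝒯`.  Then `Ext^{>0}(T, F) = 0` for all
`T ∈ 𝒯` iff `Hom(P, F)` is acyclic in positive degrees for all resolutions in `ℛ` (given a local
lifting property).  Also: acyclicity of `Hom(P, -)` passes to filtered colimits.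
-/

set_option autoImplicit false
universe w v u

open CategoryTheory CategoryTheory.Limits CategoryTheory.Abelian

namespace Groth.Agent.Lib.Helper5.RelCartan

open Groth.Agent.Lib.Helper5.CechFlasque

variable {A : Type u} [Category.{v} A] [Abelian A] [EnoughInjectives A] [HasExt.{w} A]
  (𝒯 : A → Prop) (ℛ : ∀ (P : ChainComplex A ℕ) (M : A), (P.X 0 ⟶ M) → Prop)

/-- `F` is `𝒯`-acyclic -/
def TAcyclic (F : A) : Prop := ∀ T, 𝒯 T → ∀ (q : ℕ) (x : Ext.{w} T F (q + 1)), x = 0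

/-- `F` is Čech-acyclic for the resolutions in `ℛ` -/
def RAcyclic (F : A) : Prop := ∀ P M p, ℛ P M p → ∀ q : ℕ, AcyclicAt P F q

/-- the hypotheses on the class of resolutions -/
structure Hyp : Prop where
  isRes : ∀ P M p, ℛ P M p → IsRes P p
  base : ∀ P M p, ℛ P M p → 𝒯 M
  terms : ∀ P M p, ℛ P M p → ∀ (n : ℕ) {X Y : A} (g : X ⟶ Y),
    (∀ T, 𝒯 T → ∀ s : T ⟶ Y, ∃ t : T ⟶ X, t ≫ g = s) →
      ∀ s : P.X n ⟶ Y, ∃ t : P.X n ⟶ X, t ≫ g = s
  lift : ∀ M, 𝒯 M → ∀ {X Y : A} (g : X ⟶ Y) [Epi g] (s : M ⟶ Y),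
    ∃ P p, ℛ P M p ∧ ∃ y : P.X 0 ⟶ X, y ≫ g = p ≫ s

variable {𝒯 ℛ}

lemma tAcyclic_quotient {F : A} (hF : TAcyclic.{w} 𝒯 F) : TAcyclic.{w} 𝒯 (injSC F).X₃ := by
  intro T hT q x
  exact ext_quotient_eq_zero_of_succ T (injSC_shortExact F) q (fun y => hF T hT (q + 1) y) x

/-- **Theorem A**: `𝒯`-acyclic objects are `ℛ`-Čech-acyclic. -/
theorem acyclicAt_of_tAcyclic (h : Hyp 𝒯 ℛ) (q : ℕ) :
    ∀ (F : A), TAcyclic.{w} 𝒯 F → ∀ P M p, ℛ P M p → AcyclicAt P F q := by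
  induction q with
  | zero =>
    intro F hF P M p hR
    exact acyclicAt_zero_of_surj (h.isRes P M p hR) (injSC F) (injSC_shortExact F)
      (surj_of_ext_one_eq_zero M (injSC_shortExact F) (fun x => hF M (h.base P M p hR) 0 x))
      (acyclicAt_of_injective (h.isRes P M p hR) _ 0)
  | succ q ih =>
    intro F hF P M p hR
    exact acyclicAt_succ_of_quotient (injSC F) (injSC_shortExact F) q
      (h.terms P M p hR q (injSC F).g (fun T hT s =>
        surj_of_ext_one_eq_zero T (injSC_shortExact F) (fun x => hF T hT 0 x) s))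
      (acyclicAt_of_injective (h.isRes P M p hR) _ (q + 1))
      (ih _ (tAcyclic_quotient hF) P M p hR)

theorem rAcyclic_of_tAcyclic (h : Hyp 𝒯 ℛ) {F : A} (hF : TAcyclic.{w} 𝒯 F) :
    RAcyclic ℛ F :=
  fun P M p hR q => acyclicAt_of_tAcyclic h q F hF P M p hR

lemma hsurj_of_rAcyclic (h : Hyp 𝒯 ℛ) {F : A} (hF : RAcyclic ℛ F) (T : A) (hT : 𝒯 T)
    (s : T ⟶ (injSC F).X₃) : ∃ t : T ⟶ (injSC F).X₂, t ≫ (injSC F).g = s := by
  have := (injSC_shortExact F).epi_g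
  obtain ⟨P, p, hR, y, hy⟩ := h.lift T hT (injSC F).g s
  exact exists_lift_of_acyclicAt_zero (h.isRes P T p hR) (injSC F) (injSC_shortExact F)
    (hF P T p hR 0) s y hy

lemma ext_one_eq_zero_of_rAcyclic (h : Hyp 𝒯 ℛ) {F : A} (hF : RAcyclic ℛ F) (T : A)
    (hT : 𝒯 T) (x : Ext.{w} T F 1) : x = 0 :=
  ext_one_eq_zero_of_surj T (injSC_shortExact F) (hsurj_of_rAcyclic h hF T hT) x

lemma rAcyclic_quotient (h : Hyp 𝒯 ℛ) {F : A} (hF : RAcyclic ℛ F) :
    RAcyclic ℛ (injSC F).X₃ := by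
  intro P M p hR q
  exact acyclicAt_quotient_of_succ (injSC F) (injSC_shortExact F) q
    (h.terms P M p hR (q + 1) (injSC F).g (fun T hT s => hsurj_of_rAcyclic h hF T hT s))
    (acyclicAt_of_injective (h.isRes P M p hR) _ q) (hF P M p hR (q + 1))

/-- **Theorem B**: `ℛ`-Čech-acyclic objects are `𝒯`-acyclic. -/
theorem ext_eq_zero_of_rAcyclic (h : Hyp 𝒯 ℛ) (q : ℕ) :
    ∀ (F : A), RAcyclic ℛ F → ∀ T, 𝒯 T → ∀ x : Ext.{w} T F (q + 1), x = 0 := by
  induction q with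
  | zero => exact fun F hF T hT x => ext_one_eq_zero_of_rAcyclic h hF T hT x
  | succ q ih =>
    intro F hF T hT x
    exact ext_succ_eq_zero_of_quotient T (injSC_shortExact F) q
      (ih _ (rAcyclic_quotient h hF) T hT) x

theorem tAcyclic_of_rAcyclic (h : Hyp 𝒯 ℛ) {F : A} (hF : RAcyclic ℛ F) :
    TAcyclic.{w} 𝒯 F :=
  fun T hT q x => ext_eq_zero_of_rAcyclic h q F hF T hT x


section Colim

variable {I : Type v} [SmallCategory I] [HasColimitsOfShape I A]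

/-- **Theorem C**: acyclicity of `Hom(P, -)` passes to a colimit with which `Hom(P_n, -)`
commutes. -/
theorem acyclicAt_colimit (P : ChainComplex A ℕ) (F : I ⥤ A) (q : ℕ)
    (hsurj : ∀ x : P.X (q + 1) ⟶ colimit F, ∃ (i : I) (y : P.X (q + 1) ⟶ F.obj i),
      y ≫ colimit.ι F i = x)
    (hinj : ∀ (i : I) (y : P.X (q + 2) ⟶ F.obj i), y ≫ colimit.ι F i = 0 →
      ∃ (j : I) (f : i ⟶ j), y ≫ F.map f = 0)
    (hF : ∀ i, AcyclicAt P (F.obj i) q) : AcyclicAt P (colimit F) q := by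
  intro φ hφ
  obtain ⟨i, y, rfl⟩ := hsurj φ
  obtain ⟨j, f, hf⟩ := hinj i (P.d (q + 2) (q + 1) ≫ y) (by rw [Category.assoc, hφ])
  obtain ⟨ψ, hψ⟩ := hF j (y ≫ F.map f) (by rw [← Category.assoc, hf])
  refine ⟨ψ ≫ colimit.ι F j, ?_⟩
  rw [← Category.assoc, hψ, Category.assoc, colimit.w]

end Colim

end Groth.Agent.Lib.Helper5.RelCartan
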