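import Groth.Agent.Lib.Helper5.CohBasis

/-!
# Cohomology sheaves of a derived limit (helper5)
-/

set_option autoImplicit false
universe u
open CategoryTheory CategoryTheory.Limits CategoryTheory.Pretriangulated Opposite

noncomputable section
namespace Groth.Agent.Lib.Helper5.RlimCoh

open HDULocal DerivedCategory CohCx

variable {C : Type u} [SmallCategory C] {J : GrothendieckTopology C}
  [HasDerivedCategory.{u} (Sheaf J AddCommGrpCat.{u})]

/-- the map from `H^q(U, X)` to sections of `H^q(X)` over `U` -/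
def Θ (q : ℤ) (X : DerivedCategory (Sheaf J AddCommGrpCat.{u})) (U : C) :
    (sg.obj (CohCx.freeSheaf J U) ⟶ (shiftFunctor _ q).obj X) →+ (CohCx.HD X q).obj.obj (op U) :=
  (((RlimInj.shIso q X).hom.hom.app (op U)).hom).comp (toSect ((shiftFunctor _ q).obj X) U)

lemma Θ_apply (q : ℤ) (X : DerivedCategory (Sheaf J AddCommGrpCat.{u})) (U : C)
    (z : sg.obj (CohCx.freeSheaf J U) ⟶ (shiftFunctor _ q).obj X) :
    Θ q X U z = ((RlimInj.shIso q X).hom.hom.app (op U)).hom (toSect _ U z) := rfl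

lemma Θ_comp (q : ℤ) {X Y : DerivedCategory (Sheaf J AddCommGrpCat.{u})} (f : X ⟶ Y) (U : C)
    (z : sg.obj (CohCx.freeSheaf J U) ⟶ (shiftFunctor _ q).obj X) :
    Θ q Y U (z ≫ (shiftFunctor _ q).map f) =
      (((homologyFunctor _ q).map f).hom.app (op U)).hom (Θ q X U z) := by
  rw [Θ_apply, Θ_apply, toSect_comp]
  have h := congrArg (fun φ => (φ.hom.app (op U)).hom (toSect _ U z))
    (RlimInj.shIso_hom_naturality q f)
  exact h

lemma Θ_res (q : ℤ) (X : DerivedCategory (Sheaf J AddCommGrpCat.{u})) {U V : C} (g : V ⟶ U)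
    (z : sg.obj (CohCx.freeSheaf J U) ⟶ (shiftFunctor _ q).obj X) :
    Θ q X V (sg.map (CohCx.freeSheafMap J g) ≫ z) =
      ((CohCx.HD X q).obj.map g.op).hom (Θ q X U z) := by
  rw [Θ_apply, Θ_apply, toSect_res]
  exact ConcreteCategory.congr_hom ((RlimInj.shIso q X).hom.hom.naturality g.op)
    (toSect _ U z)

lemma Θ_bijective (q : ℤ) (X : DerivedCategory (Sheaf J AddCommGrpCat.{u})) (U : C)
    (hb : Function.Bijective (toSect ((shiftFunctor _ q).obj X) U)) :
    Function.Bijective (Θ q X U) :=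
  (CohBasis.sect_bijective_of_isIso U (RlimInj.shIso q X).hom).comp hb

lemma Θ_cover_lift (q : ℤ) (X : DerivedCategory (Sheaf J AddCommGrpCat.{u})) (V : C)
    (s : (CohCx.HD X q).obj.obj (op V)) :
    ∃ R ∈ J V, ∀ ⦃W : C⦄ (f : W ⟶ V), R f →
      ∃ x : sg.obj (CohCx.freeSheaf J W) ⟶ (shiftFunctor _ q).obj X,
        Θ q X W x = ((CohCx.HD X q).obj.map f.op).hom s := by
  obtain ⟨R, hR, hRf⟩ := exists_cover_lift ((shiftFunctor _ q).obj X) V
    (((RlimInj.shIso q X).inv.hom.app (op V)).hom s)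
  refine ⟨R, hR, fun W f hf => ?_⟩
  obtain ⟨x, hx⟩ := hRf f hf
  refine ⟨x, ?_⟩
  rw [Θ_apply, hx]
  have h1 := ConcreteCategory.congr_hom ((RlimInj.shIso q X).hom.hom.naturality f.op)
    (((RlimInj.shIso q X).inv.hom.app (op V)).hom s)
  refine h1.trans ?_
  change ((CohCx.HD X q).obj.map f.op).hom (((RlimInj.shIso q X).hom.hom.app (op V)).hom
    (((RlimInj.shIso q X).inv.hom.app (op V)).hom s)) = _
  congr 1
  exact congrArg (fun φ => (φ.hom.app (op V)).hom s) (RlimInj.shIso q X).inv_hom_id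

section Main

variable (K : ℕ → DerivedCategory (Sheaf J AddCommGrpCat.{u})) (t : ∀ n, K (n + 1) ⟶ K n)
  [HasProduct K] (L : DerivedCategory (Sheaf J AddCommGrpCat.{u})) (a : ∀ n, L ⟶ K n)
  (c : ∏ᶜ K ⟶ (shiftFunctor _ (1 : ℤ)).obj L)
  (hΔ : Triangle.mk (Pi.lift a) (Pi.lift fun n => Pi.π K n - Pi.π K (n + 1) ≫ t n) c ∈
    distTriang _)
  (B : Set C)
  (hB : ∀ U : C, ∃ (ι : Type u) (Y : ι → C) (f : ∀ i, Y i ⟶ U),
      Sieve.ofArrows Y f ∈ J U ∧ ∀ i, Y i ∈ B)
  (q : ℤ)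
  (Hbij : ∀ U ∈ B, ∀ n, Function.Bijective (Θ q (K n) U))
  (Hlim : ∀ U ∈ B, Function.Surjective (fun (b : ∀ n, sg.obj (CohCx.freeSheaf J U) ⟶
      (shiftFunctor _ (q - 1)).obj (K n)) (n : ℕ) =>
    b n - b (n + 1) ≫ (shiftFunctor _ (q - 1)).map (t n)))

/-- the maps `H^q(L) ⟶ H^q(K n)` -/
abbrev ψ (n : ℕ) : CohCx.HD L q ⟶ CohCx.HD (K n) q := (homologyFunctor _ q).map (a n)

include hΔ in
lemma ψ_comp_t (n : ℕ) : ψ K L a q (n + 1) ≫ (homologyFunctor _ q).map (t n) = ψ K L a q n := by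
  dsimp only [ψ]
  rw [← Functor.map_comp, MilnorSeq.a_comp_t K t L a c hΔ n]

/-- the cone on the system `H^q(K n)` with vertex `H^q(L)` -/
def coneG : Cone (CohCx.opSequence (fun n => CohCx.HD (K n) q)
    (fun n => (homologyFunctor _ q).map (t n))) where
  pt := CohCx.HD L q
  π := NatTrans.ofOpSequence (F := (Functor.const _).obj _) (fun n => ψ K L a q n) (fun n => by
    dsimp only [Functor.const_obj_obj, Functor.const_obj_map]
    rw [Category.id_comp, Functor.ofOpSequence_map_homOfLE_succ]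
    exact (ψ_comp_t K t L a c hΔ q n).symm)

/-- the comparison map `H^q(L) ⟶ lim H^q(K n)` -/
def φ : CohCx.HD L q ⟶ limit (CohCx.opSequence (fun n => CohCx.HD (K n) q)
    (fun n => (homologyFunctor _ q).map (t n))) :=
  limit.lift _ (coneG K t L a c hΔ q)

lemma φ_π (n : ℕ) : φ K t L a c hΔ q ≫ limit.π _ (op n) = ψ K L a q n :=
  limit.lift_π _ _

include hB Hbij Hlim in
lemma φ_injective (V : C) (s : (CohCx.HD L q).obj.obj (op V))
    (hs : ((φ K t L a c hΔ q).hom.app (op V)).hom s = 0) : s = 0 := by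
  have hψ : ∀ n, ((ψ K L a q n).hom.app (op V)).hom s = 0 := by
    intro n
    rw [← φ_π K t L a c hΔ q n]
    change ((limit.π (CohCx.opSequence (fun n => CohCx.HD (K n) q)
      (fun n => (homologyFunctor _ q).map (t n))) (op n)).hom.app (op V)).hom
      (((φ K t L a c hΔ q).hom.app (op V)).hom s) = 0
    rw [hs, map_zero]
  obtain ⟨R, hR, hRf⟩ := Θ_cover_lift q L V s
  apply FreeGen.sect_ext J _ R hR
  intro W f hf
  obtain ⟨x, hx⟩ := hRf f hf
  rw [map_zero, ← hx]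
  apply RlimAcyclic.sect_eq_zero_of_B B hB
  intro W' hW' g
  rw [← Θ_res]
  have hz : sg.map (CohCx.freeSheafMap J g) ≫ x = 0 := by
    apply MilnorSeq.eq_zero_of_limOne K t L a c hΔ q (q - 1) (by omega) (Hlim W' hW')
    intro n
    apply (Hbij W' hW' n).1
    rw [Θ_comp, map_zero, Θ_res, hx]
    have e1 := ConcreteCategory.congr_hom ((ψ K L a q n).hom.naturality f.op) s
    have e2 := ConcreteCategory.congr_hom ((ψ K L a q n).hom.naturality g.op)
      (((CohCx.HD L q).obj.map f.op).hom s)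
    refine e2.trans ?_
    change ((CohCx.HD (K n) q).obj.map g.op).hom (((ψ K L a q n).hom.app (op W)).hom
      (((CohCx.HD L q).obj.map f.op).hom s)) = 0
    have e1' : ((ψ K L a q n).hom.app (op W)).hom (((CohCx.HD L q).obj.map f.op).hom s) =
        ((CohCx.HD (K n) q).obj.map f.op).hom (((ψ K L a q n).hom.app (op V)).hom s) := e1
    rw [e1', hψ n, map_zero, map_zero]
  rw [hz, map_zero]

include hB Hbij in
lemma φ_locallySurjective (V : C)
    (s : (limit (CohCx.opSequence (fun n => CohCx.HD (K n) q)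
      (fun n => (homologyFunctor _ q).map (t n)))).obj.obj (op V)) :
    Presheaf.imageSieve (φ K t L a c hΔ q).hom s ∈ J V := by
  obtain ⟨ι, Yc, f, hcov, hYB⟩ := hB V
  refine J.superset_covering ?_ hcov
  intro W g hg
  obtain ⟨W', g', k, ⟨i⟩, rfl⟩ := hg
  apply Sieve.downward_closed
  let G : ℕ → Sheaf J AddCommGrpCat.{u} := fun n => CohCx.HD (K n) q
  let τ : ∀ n, G (n + 1) ⟶ G n := fun n => (homologyFunctor _ q).map (t n)
  let sY : (limit (CohCx.opSequence G τ)).obj.obj (op (Yc i)) :=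
    ((limit (CohCx.opSequence G τ)).obj.map (f i).op).hom s
  let sn : ∀ n, (G n).obj.obj (op (Yc i)) := fun n =>
    ((limit.π (CohCx.opSequence G τ) (op n)).hom.app (op (Yc i))).hom sY
  have hsn : ∀ n, ((τ n).hom.app (op (Yc i))).hom (sn (n + 1)) = sn n := by
    intro n
    have hw := limit.w (CohCx.opSequence G τ) (homOfLE (Nat.le_add_right n 1)).op
    rw [Functor.ofOpSequence_map_homOfLE_succ] at hw
    have := congrArg (fun κ => (κ.hom.app (op (Yc i))).hom sY) hw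
    exact this
  choose x hx using fun n => (Hbij (Yc i) (hYB i) n).2 (sn n)
  have hxc : ∀ n, x (n + 1) ≫ (shiftFunctor _ q).map (t n) = x n := by
    intro n
    apply (Hbij (Yc i) (hYB i) n).1
    rw [Θ_comp, hx, hx]
    exact hsn n
  obtain ⟨y, hy⟩ := MilnorSeq.exists_lift K t L a c hΔ q x hxc
  refine ⟨Θ q L (Yc i) y, ?_⟩
  apply RlimAcyclic.limit_sect_ext G τ
  intro n
  have e1 : ((limit.π (CohCx.opSequence G τ) (op n)).hom.app (op (Yc i))).hom
      (((φ K t L a c hΔ q).hom.app (op (Yc i))).hom (Θ q L (Yc i) y)) =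
      ((ψ K L a q n).hom.app (op (Yc i))).hom (Θ q L (Yc i) y) := by
    rw [← φ_π K t L a c hΔ q n]
    rfl
  refine e1.trans ?_
  rw [← Θ_comp, hy, hx]

include hB Hbij Hlim in
theorem isIso_φ : IsIso (φ K t L a c hΔ q) := by
  haveI : Mono (φ K t L a c hΔ q).hom := by
    haveI : ∀ X, Mono ((φ K t L a c hΔ q).hom.app X) := by
      intro X
      rw [AddCommGrpCat.mono_iff_injective, injective_iff_map_eq_zero]
      intro s hs
      exact φ_injective K t L a c hΔ B hB q Hbij Hlim X.unop s hs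
    exact NatTrans.mono_of_mono_app _
  haveI : Mono (φ K t L a c hΔ q) := Sheaf.Hom.mono_of_presheaf_mono J _ _
  haveI : Epi (φ K t L a c hΔ q) :=
    (Sheaf.isLocallySurjective_iff_epi' AddCommGrpCat.{u} _).1
      ⟨fun s => φ_locallySurjective K t L a c hΔ B hB q Hbij _ s⟩
  exact isIso_of_mono_of_epi _

end Main

/-- S0878 in library form -/
theorem main (K : ℕ → DerivedCategory (Sheaf J AddCommGrpCat.{u})) (t : ∀ n, K (n + 1) ⟶ K n)
    [HasProduct K] (L : DerivedCategory (Sheaf J AddCommGrpCat.{u})) (hL : DCoh.IsRlim K t L)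
    (B : Set C)
    (hB : ∀ U : C, ∃ (ι : Type u) (Y : ι → C) (f : ∀ i, Y i ⟶ U),
      Sieve.ofArrows Y f ∈ J U ∧ ∀ i, Y i ∈ B)
    (h1 : ∀ U ∈ B, ∀ (p : ℕ) (q : ℤ) (n : ℕ),
      Subsingleton (CohSite.HU (CohCx.HD (K n) q) (p + 1) U))
    (h2 : ∀ U ∈ B, ∀ (q : ℤ), CohCx.LimOneIsZero (fun n => (CohCx.HD (K n) q).obj.obj (op U))
      (fun n => (((DerivedCategory.homologyFunctor _ q).map (t n)).hom.app (op U)).hom))
    (q : ℤ) :
    Nonempty (CohCx.HD L q ≅ limit (CohCx.opSequence (fun n => CohCx.HD (K n) q)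
      (fun n => (DerivedCategory.homologyFunctor _ q).map (t n)))) := by
  obtain ⟨a', c, hΔ'⟩ := hL
  let a : ∀ n, L ⟶ K n := fun n => a' ≫ Pi.π _ n
  have ha' : a' = Pi.lift a := by
    apply Pi.hom_ext
    intro n
    rw [Pi.lift_π]
  have hΔ : Triangle.mk (Pi.lift a) (Pi.lift fun n => Pi.π K n - Pi.π K (n + 1) ≫ t n) c ∈
      distTriang _ := by
    rw [← ha']
    exact hΔ'
  have hacy : ∀ (n : ℕ) (m : ℤ), ∀ W ∈ B, ∀ (p : ℕ) (j : ℤ),
      Subsingleton (CohSite.HU (CohCx.HD ((shiftFunctor _ m).obj (K n)) j) (p + 1) W) := by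
    intro n m W hW p j
    haveI := h1 W hW p (m + j) n
    let i : CohCx.HD (K n) (m + j) ≅ CohCx.HD ((shiftFunctor _ m).obj (K n)) j :=
      (((homologyFunctor (Sheaf J AddCommGrpCat.{u}) 0).shiftIso m j (m + j) rfl).app (K n)).symm
    exact CohBasis.subsingleton_HU_of_iso i (p + 1) W
  have Hb : ∀ (m : ℤ), ∀ U ∈ B, ∀ n, Function.Bijective (Θ m (K n) U) := fun m U hU n =>
    Θ_bijective m (K n) U
      (CohBasis.toSect_bijective ((shiftFunctor _ m).obj (K n)) B hB (hacy n m) U hU)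
  have Hlim : ∀ U ∈ B, Function.Surjective (fun (b : ∀ n, sg.obj (CohCx.freeSheaf J U) ⟶
      (shiftFunctor _ (q - 1)).obj (K n)) (n : ℕ) =>
      b n - b (n + 1) ≫ (shiftFunctor _ (q - 1)).map (t n)) := by
    intro U hU g
    obtain ⟨s, hs⟩ := h2 U hU (q - 1) (fun n => Θ (q - 1) (K n) U (g n))
    choose b hb using fun n => (Hb (q - 1) U hU n).2 (s n)
    refine ⟨b, ?_⟩
    funext n
    apply (Hb (q - 1) U hU n).1
    have := congrFun hs n
    dsimp only at this
    rw [map_sub, Θ_comp, hb, hb]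
    exact this
  haveI := isIso_φ K t L a c hΔ B hB q (Hb q) Hlim
  exact ⟨asIso (φ K t L a c hΔ q)⟩

end Groth.Agent.Lib.Helper5.RlimCoh
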