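import Groth.Agent.Lib.Helper5.RlimInj
import Groth.Prelude.Def_CohTop

set_option autoImplicit false
universe u
open CategoryTheory CategoryTheory.Limits Opposite TopologicalSpace

noncomputable section
namespace Groth.Agent.Lib.Helper5.RlimInjTop

open HDULocal

variable {X : TopCat.{u}} [HasDerivedCategory.{u} (CohTop.Ab X)]

theorem stalk_injective (Lm Km : DerivedCategory (CohTop.Ab X)) (am : Lm ⟶ Km) (x : X)
    (h : ∀ V : Opens X, x ∈ V → ∃ U : Opens X, x ∈ U ∧ U ≤ V ∧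
      ∀ z : sg.obj (CohCx.freeSheaf (Opens.grothendieckTopology X) U) ⟶ Lm, z ≫ am = 0 → z = 0) :
    Function.Injective ((TopCat.Presheaf.stalkFunctor AddCommGrpCat.{u} x).map (H0.map am).hom) := by
  rw [injective_iff_map_eq_zero]
  intro ξ hξ
  obtain ⟨V, hxV, y, rfl⟩ := TopCat.Presheaf.exists_germ_eq (H0.obj Lm).obj ξ
  rw [TopCat.Presheaf.stalkFunctor_map_germ_apply] at hξ
  have h1 : TopCat.Presheaf.germ (H0.obj Km).obj V x hxV ((H0.map am).hom.app (op V) y) =
      TopCat.Presheaf.germ (H0.obj Km).obj V x hxV 0 := hξ.trans (map_zero _).symm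
  obtain ⟨W, hxW, iU, iV, heq⟩ := TopCat.Presheaf.germ_eq _ x hxV hxV _ _ h1
  let y₁ : (H0.obj Lm).obj.obj (op W) := ((H0.obj Lm).obj.map iU.op).hom y
  have hy₁ : ((H0.map am).hom.app (op W)).hom y₁ = 0 := by
    have := ConcreteCategory.congr_hom ((H0.map am).hom.naturality iU.op) y
    refine this.trans ?_
    refine heq.trans ?_
    exact map_zero _
  obtain ⟨R, hR, hRf⟩ := exists_cover_lift Lm W y₁
  obtain ⟨W₁, f₁, hf₁, hxW₁⟩ := hR x hxW
  obtain ⟨z₁, hz₁⟩ := hRf f₁ hf₁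
  have h2 : H0.map (z₁ ≫ am) = 0 := by
    rw [← toSect_eq_zero_iff, toSect_comp, hz₁]
    have := ConcreteCategory.congr_hom ((H0.map am).hom.naturality f₁.op) y₁
    refine this.trans ?_
    change ((H0.obj Km).obj.map f₁.op).hom (((H0.map am).hom.app (op W)).hom y₁) = 0
    rw [hy₁, map_zero]
  obtain ⟨R', hR', hR'f⟩ := exists_cover_comp_eq_zero Km W₁ (z₁ ≫ am) h2
  obtain ⟨W₂, f₂, hf₂, hxW₂⟩ := hR' x hxW₁
  obtain ⟨U, hxU, hUW₂, hprop⟩ := h W₂ hxW₂
  let g : U ⟶ W₂ := homOfLE hUW₂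
  let z : sg.obj (CohCx.freeSheaf (Opens.grothendieckTopology X) U) ⟶ Lm :=
    sg.map (CohCx.freeSheafMap _ (g ≫ f₂)) ≫ z₁
  have hz : z = 0 := by
    apply hprop
    dsimp only [z]
    rw [CohFree.freeSheafMap_comp, Functor.map_comp, Category.assoc, Category.assoc,
      hR'f f₂ hf₂, comp_zero]
  have h3 : toSect Lm U z = ((H0.obj Lm).obj.map (g ≫ f₂).op).hom (toSect Lm W₁ z₁) := by
    dsimp only [z]
    rw [toSect_res]
  rw [hz, map_zero, hz₁] at h3
  have h4 : TopCat.Presheaf.germ (H0.obj Lm).obj V x hxV y = TopCat.Presheaf.germ (H0.obj Lm).obj W x hxW y₁ :=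
    (TopCat.Presheaf.germ_res_apply _ iU x hxW y).symm
  have h5 : TopCat.Presheaf.germ (H0.obj Lm).obj W x hxW y₁ = TopCat.Presheaf.germ (H0.obj Lm).obj W₁ x hxW₁
      (((H0.obj Lm).obj.map f₁.op).hom y₁) :=
    (TopCat.Presheaf.germ_res_apply _ f₁ x hxW₁ y₁).symm
  have h6 : TopCat.Presheaf.germ (H0.obj Lm).obj W₁ x hxW₁ (((H0.obj Lm).obj.map f₁.op).hom y₁) =
      TopCat.Presheaf.germ (H0.obj Lm).obj U x hxU
        (((H0.obj Lm).obj.map (g ≫ f₂).op).hom (((H0.obj Lm).obj.map f₁.op).hom y₁)) :=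
    (TopCat.Presheaf.germ_res_apply _ (g ≫ f₂) x hxU _).symm
  rw [h4, h5, h6, ← h3, map_zero]
  rfl

open RlimInj in
/-- S0874 in library form -/
theorem stalk_injective_rlim
    (K : ℕ → DerivedCategory (CohTop.Ab X)) (t : ∀ n, K (n + 1) ⟶ K n) [HasProduct K]
    (L : DerivedCategory (CohTop.Ab X)) (a : ∀ n, L ⟶ K n) (hL : CohCx.IsRlimVia K t L a)
    (x : X) (m : ℤ) (nx : ℕ)
    (h : ∀ V : Opens X, x ∈ V → ∃ U : Opens X, x ∈ U ∧ U ≤ V ∧
      CohCx.LimOneIsZero (fun n => CohCx.HDU (K n) (m - 1) U)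
        (fun n => Preadditive.rightComp _ ((shiftFunctor _ (m - 1)).map (t n))) ∧
      ∀ k : ℕ, Function.Injective
        (Preadditive.rightComp _ ((shiftFunctor _ m).map (CohCx.transition K t nx k)) :
          CohCx.HDU (K (nx + k)) m U → CohCx.HDU (K nx) m U)) :
    Function.Injective ((TopCat.Presheaf.stalkFunctor AddCommGrpCat.{u} x).map
      ((DerivedCategory.homologyFunctor (CohTop.Ab X) m).map (a nx)).hom) := by
  obtain ⟨c, hΔ⟩ := hL
  have ha := MilnorSeq.a_comp_t K t L a c hΔ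
  have key : Function.Injective ((TopCat.Presheaf.stalkFunctor AddCommGrpCat.{u} x).map
      (H0.map ((shiftFunctor _ m).map (a nx))).hom) := by
    apply stalk_injective
    intro V hxV
    obtain ⟨U, hxU, hUV, hlim, hinj⟩ := h V hxV
    refine ⟨U, hxU, hUV, fun z hz => ?_⟩
    have hz' : ∀ n, z ≫ (shiftFunctor _ m).map (a n) = 0 := by
      apply MilnorSeq.comp_a_eq_zero K t L a ha m nx z hz
      intro k
      rw [trans_eq]
      exact hinj k
    exact MilnorSeq.eq_zero_of_limOne K t L a c hΔ m (m - 1) (by omega) hlim z hz'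
  have hnat : (DerivedCategory.homologyFunctor _ m).map (a nx) =
      (shIso m L).inv ≫ H0.map ((shiftFunctor _ m).map (a nx)) ≫ (shIso m (K nx)).hom := by
    rw [shIso_hom_naturality, Iso.inv_hom_id_assoc]
  have hnat' : (TopCat.Presheaf.stalkFunctor AddCommGrpCat.{u} x).map
      ((DerivedCategory.homologyFunctor (CohTop.Ab X) m).map (a nx)).hom =
      (TopCat.Presheaf.stalkFunctor AddCommGrpCat.{u} x).map (shIso m L).inv.hom ≫
        (TopCat.Presheaf.stalkFunctor AddCommGrpCat.{u} x).map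
          (H0.map ((shiftFunctor _ m).map (a nx))).hom ≫
        (TopCat.Presheaf.stalkFunctor AddCommGrpCat.{u} x).map (shIso m (K nx)).hom.hom := by
    rw [hnat, ← Functor.map_comp, ← Functor.map_comp]
    rfl
  rw [hnat']
  have i1 : IsIso ((TopCat.Presheaf.stalkFunctor AddCommGrpCat.{u} x).map (shIso m L).inv.hom) :=
    inferInstanceAs (IsIso ((sheafToPresheaf _ _ ⋙ TopCat.Presheaf.stalkFunctor AddCommGrpCat.{u} x).map
      (shIso m L).inv))
  have i2 : IsIso ((TopCat.Presheaf.stalkFunctor AddCommGrpCat.{u} x).map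
      (shIso m (K nx)).hom.hom) :=
    inferInstanceAs (IsIso ((sheafToPresheaf _ _ ⋙ TopCat.Presheaf.stalkFunctor AddCommGrpCat.{u} x).map
      (shIso m (K nx)).hom))
  have j1 := (ConcreteCategory.bijective_of_isIso
    ((TopCat.Presheaf.stalkFunctor AddCommGrpCat.{u} x).map (shIso m L).inv.hom)).1
  have j2 := (ConcreteCategory.bijective_of_isIso
    ((TopCat.Presheaf.stalkFunctor AddCommGrpCat.{u} x).map (shIso m (K nx)).hom.hom)).1
  exact (j2.comp (key.comp j1))

end Groth.Agent.Lib.Helper5.RlimInjTop
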