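import Groth.Agent.Lib.Helper5.TowerLimAcyc
import Groth.Agent.Lib.Helper13.AffineVanish
import Groth.Agent.Lib.Helper3.QCProps
import Groth.Prelude.Def_Coh

/-!
# Helper5: limits of towers of quasi-coherent modules with surjective transition maps
-/

set_option autoImplicit false
universe u

namespace Groth.Agent.Lib.Helper5.SchemeTowerLim

open CategoryTheory CategoryTheory.Limits Opposite AlgebraicGeometry TopologicalSpace
open Groth.Agent.Lib.Helper5.TowerLimML Groth.Agent.Lib.Helper5.MLLimOne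

noncomputable section

section Groups

lemma surjective_r_of_succ (A : ℕᵒᵖ ⥤ AddCommGrpCat.{u})
    (h : ∀ n, 1 ≤ n → Function.Surjective (r A (Nat.le_succ n))) {n k : ℕ} (hn : 1 ≤ n)
    (hk : n ≤ k) : Function.Surjective (r A hk) := by
  induction k, hk using Nat.le_induction with
  | base =>
    intro x
    exact ⟨x, r_refl A n x⟩
  | succ k hnk ih =>
    intro x
    obtain ⟨y, hy⟩ := ih x
    obtain ⟨z, hz⟩ := h k (hn.trans hnk) y
    refine ⟨z, ?_⟩
    rw [← r_comp A hnk (Nat.le_succ k), hz, hy]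

lemma isMittagLeffler_of_surjective_succ (A : ℕᵒᵖ ⥤ AddCommGrpCat.{u})
    (h : ∀ n, 1 ≤ n → Function.Surjective (r A (Nat.le_succ n))) :
    (A ⋙ forget AddCommGrpCat.{u}).IsMittagLeffler := by
  rintro ⟨n⟩
  by_cases hn : 1 ≤ n
  · refine ⟨op n, 𝟙 _, ?_⟩
    rintro ⟨k⟩ g x -
    have hk : n ≤ k := leOfHom g.unop
    have e : g = (homOfLE hk).op := Subsingleton.elim _ _
    obtain ⟨y, hy⟩ := surjective_r_of_succ A h hn hk x
    refine ⟨y, ?_⟩
    rw [e]
    exact hy
  · have hn0 : n = 0 := by omega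
    subst hn0
    refine ⟨op 1, (homOfLE (Nat.zero_le 1)).op, ?_⟩
    rintro ⟨k⟩ g x ⟨y, rfl⟩
    by_cases hk : 1 ≤ k
    · obtain ⟨z, hz⟩ := surjective_r_of_succ A h (le_refl 1) hk y
      refine ⟨z, ?_⟩
      have e : g = (homOfLE hk).op ≫ (homOfLE (Nat.zero_le 1)).op := Subsingleton.elim _ _
      rw [e, ← hz]
      change (A.map ((homOfLE hk).op ≫ (homOfLE (Nat.zero_le 1)).op)).hom z = _
      rw [A.map_comp]
      rfl
    · have hk0 : k = 0 := by omega
      subst hk0
      have e : g = 𝟙 _ := Subsingleton.elim _ _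
      refine ⟨(A ⋙ forget AddCommGrpCat.{u}).map (homOfLE (Nat.zero_le 1)).op y, ?_⟩
      rw [e, FunctorToTypes.map_id_apply]

end Groups

section Sch

variable {X : Scheme.{u}}

lemma acycOn_of_qcoh (M : X.Modules) [M.IsQuasicoherent] {W : X.Opens} (hW : IsAffineOpen W) :
    AcycOn (J := Opens.grothendieckTopology X) W
      ((SheafOfModules.toSheaf X.ringCatSheaf).obj M) :=
  acycOn_of_subsingleton W _ (fun i hi => by
    obtain ⟨p, rfl⟩ : ∃ p, i = p + 1 := ⟨i - 1, by omega⟩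
    exact Groth.Agent.Lib.Helper13.AffineVanish.subsingleton_HU_of_isAffineOpen M hW p)

lemma surjective_sections_of_epi {M N : X.Modules} (φ : M ⟶ N) [Epi φ] [M.IsQuasicoherent]
    [N.IsQuasicoherent] {W : X.Opens} (hW : IsAffineOpen W) :
    Function.Surjective ((Γ X.ringCatSheaf W).map φ).hom := by
  haveI : (kernel φ).IsQuasicoherent := Groth.Agent.Lib.Helper3.QCProps.isQuasicoherent_kernel φ
  have hS : (ShortComplex.mk (kernel.ι φ) φ (kernel.condition φ)).ShortExact :=
    { exact := ShortComplex.exact_kernel φ }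
  exact surjective_Γ_g W (ShortComplex.mk (kernel.ι φ) φ (kernel.condition φ)) hS
    (acycOn_of_qcoh (kernel φ) hW)

theorem PB_of_qcoh (G : ℕᵒᵖ ⥤ X.Modules) (hq : ∀ n, (G.obj (op n)).IsQuasicoherent)
    (hepi : ∀ n, 1 ≤ n → Epi (G.map (homOfLE (Nat.le_succ n)).op)) :
    PB X.ringCatSheaf {W : X.Opens | IsAffineOpen W} G := by
  refine ⟨fun W hW n => (haveI := hq n; acycOn_of_qcoh (G.obj (op n)) hW), fun W hW => ?_⟩
  apply isMittagLeffler_of_surjective_succ
  intro n hn
  haveI := hepi n hn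
  haveI := hq n
  haveI := hq (n + 1)
  exact surjective_sections_of_epi (G.map (homOfLE (Nat.le_succ n)).op) hW

lemma affine_cover (X : Scheme.{u}) : ∀ U : X.Opens, ∃ (ι : Type u) (Y : ι → X.Opens)
    (g : ∀ i, Y i ⟶ U), Sieve.ofArrows Y g ∈ Opens.grothendieckTopology X U ∧
      ∀ i, Y i ∈ {W : X.Opens | IsAffineOpen W} := by
  intro U
  refine ⟨{W : X.Opens // IsAffineOpen W ∧ W ≤ U}, fun W => W.1, fun W => homOfLE W.2.2, ?_,
    fun W => W.2.1⟩
  intro x hx
  obtain ⟨W, hWB, hxW, hWU⟩ := Opens.isBasis_iff_nbhd.1 X.isBasis_affineOpens hx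
  exact ⟨W, homOfLE hWU,
    Sieve.ofArrows_mk _ _ (⟨W, hWB, hWU⟩ : {W : X.Opens // IsAffineOpen W ∧ W ≤ U}), hxW⟩

/-- the limit of a tower of quasi-coherent modules with surjective transition maps (from index
one on) has no higher cohomology on affine opens. -/
theorem subsingleton_HHon_limit (G : ℕᵒᵖ ⥤ X.Modules)
    (hq : ∀ n, (G.obj (op n)).IsQuasicoherent)
    (hepi : ∀ n, 1 ≤ n → Epi (G.map (homOfLE (Nat.le_succ n)).op))
    (U : X.Opens) (hU : IsAffineOpen U) (p : ℕ) :
    Subsingleton (Coh.HHon X (limit G) U (p + 1)) := by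
  have h := subsingleton_HU_lim _ (affine_cover X) G (PB_of_qcoh G hq hepi) U hU p
  exact (Groth.Agent.Lib.Helper13.AffineVanish.HUEquivHHon (limit G) U
    (p + 1)).toEquiv.subsingleton_congr.1 h

end Sch

end

end Groth.Agent.Lib.Helper5.SchemeTowerLim
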