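import Groth.Agent.Lib.Helper5.GenRlimAcyclic
import Groth.Agent.Lib.Helper5.ModGen
import Groth.Agent.Lib.Helper5.SchemeTowerLim
import Groth.Agent.Lib.Helper2.RpushCompare
import Groth.Prelude.Def_DCoh2

/-!
# Helper5: `R lim = lim` for towers of quasi-coherent modules with surjective transition maps
-/

set_option autoImplicit false
universe w u

namespace Groth.Agent.Lib.Helper5.SchemeRlim

open CategoryTheory CategoryTheory.Limits Opposite AlgebraicGeometry TopologicalSpace
open Groth.Agent.Lib.Helper5.TowerLimML Groth.Agent.Lib.Helper5.MLLimOne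
open Groth.Agent.Lib.Helper5.SchemeTowerLim Groth.Agent.Lib.Helper2.RpushCompare
open Groth.Agent.Lib.Helper5.GenSite

noncomputable section

variable {X : Scheme.{u}}

/-- generators of `X.Modules` representing sections. -/
def genX (X : Scheme.{u}) : GenSite.Gen (TT X) := ModGen.gen X.sheaf

theorem extVanishX [HasDerivedCategory.{w} X.Modules] (F : X.Modules) (U : X.Opens) (k : ℕ)
    [Subsingleton (CohTop.HU (Coh.toAb F) k U)] (m : ℤ) (hm : m = (k : ℤ))
    (y : sg.obj ((genX X).G U) ⟶ (shiftFunctor _ m).obj (sg.obj F)) : y = 0 := by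
  letI : HasDerivedCategory.{w} (ModSite.Mod X.sheaf) :=
    (inferInstance : HasDerivedCategory.{w} X.Modules)
  exact ModGen.extVanish X.sheaf F U k m hm y

section Tower

variable (F : ℕ → X.Modules) (t : ∀ n, F (n + 1) ⟶ F n)

lemma hq_ofOpSequence (hF : ∀ n, (F n).IsQuasicoherent) (n : ℕ) :
    ((Functor.ofOpSequence t).obj (op n)).IsQuasicoherent := hF n

lemma hepi_ofOpSequence (ht : ∀ n, 1 ≤ n → Epi (t n)) (n : ℕ) (hn : 1 ≤ n) :
    Epi ((Functor.ofOpSequence t).map (homOfLE (Nat.le_succ n)).op) := by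
  rw [Functor.ofOpSequence_map_homOfLE_succ]
  exact ht n hn

lemma limOne_sections (hF : ∀ n, (F n).IsQuasicoherent) (ht : ∀ n, 1 ≤ n → Epi (t n))
    (U : X.Opens) (hU : IsAffineOpen U) :
    CohCx.LimOneIsZero (fun n => ((TT X).obj (F n)).obj.obj (op U))
      (fun n => (((TT X).map (t n)).hom.app (op U)).hom) := by
  intro g
  have hML := (PB_of_qcoh (Functor.ofOpSequence t) (hq_ofOpSequence F t hF)
    (hepi_ofOpSequence F t ht)).2 U hU
  obtain ⟨x, hx⟩ := towerDiff_surjective (Functor.ofOpSequence t ⋙ Γ X.ringCatSheaf U) hML g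
  refine ⟨x, ?_⟩
  funext n
  have h1 := congrFun hx n
  have e : (Functor.ofOpSequence t).map (homOfLE (Nat.le_succ n)).op = t n :=
    Functor.ofOpSequence_map_homOfLE_succ t n
  have h2 : r (Functor.ofOpSequence t ⋙ Γ X.ringCatSheaf U) (Nat.le_succ n) (x (n + 1)) =
      (((TT X).map (t n)).hom.app (op U)).hom (x (n + 1)) := by
    change ((Γ X.ringCatSheaf U).map
      ((Functor.ofOpSequence t).map (homOfLE (Nat.le_succ n)).op)).hom (x (n + 1)) = _
    rw [e]
    rfl
  change x n - r (Functor.ofOpSequence t ⋙ Γ X.ringCatSheaf U) (Nat.le_succ n) (x (n + 1)) =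
    g n at h1
  rw [h2] at h1
  exact h1

variable [HasDerivedCategory.{w} X.Modules]

/-- **`R lim = lim`** for a tower of quasi-coherent modules with surjective transition maps. -/
theorem isRlim_qcoh (hF : ∀ n, (F n).IsQuasicoherent) (ht : ∀ n, 1 ≤ n → Epi (t n))
    [HasProduct fun n => (DerivedCategory.singleFunctor X.Modules 0).obj (F n)] :
    DCoh.IsRlim (fun n => (DerivedCategory.singleFunctor X.Modules 0).obj (F n))
      (fun n => (DerivedCategory.singleFunctor X.Modules 0).map (t n))
      ((DerivedCategory.singleFunctor X.Modules 0).obj (limit (Functor.ofOpSequence t))) := by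
  refine GenRlimAcyclic.isRlim (genX X) F t {W : X.Opens | IsAffineOpen W} (affine_cover X)
    ?_ ?_ ?_
  · intro U hU n m hm y
    obtain ⟨k, rfl⟩ : ∃ k : ℕ, m = ((k + 1 : ℕ) : ℤ) := ⟨(m - 1).toNat, by omega⟩
    haveI := hF n
    haveI := Groth.Agent.Lib.Helper13.AffineVanish.subsingleton_HU_of_isAffineOpen (F n) hU k
    exact extVanishX (F n) U (k + 1) _ rfl y
  · intro U hU m hm y
    obtain ⟨k, rfl⟩ : ∃ k : ℕ, m = ((k + 1 : ℕ) : ℤ) := ⟨(m - 1).toNat, by omega⟩
    haveI : Subsingleton (CohTop.HU (Coh.toAb (limit (Functor.ofOpSequence t))) (k + 1) U) :=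
      subsingleton_HU_lim _ (affine_cover X) (Functor.ofOpSequence t)
        (PB_of_qcoh (Functor.ofOpSequence t) (hq_ofOpSequence F t hF)
          (hepi_ofOpSequence F t ht)) U hU k
    exact extVanishX (limit (Functor.ofOpSequence t)) U (k + 1) _ rfl y
  · intro U hU
    exact limOne_sections F t hF ht U hU

end Tower

end

end Groth.Agent.Lib.Helper5.SchemeRlim
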