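import Groth.Agent.Lib.Helper5.SecSh
import Groth.Agent.Lib.Helper5.DenseSub

/-!
# Gluing morphisms out of the sheaves of local sections (helper5)
-/

set_option autoImplicit false
universe u

namespace Groth.Agent.Lib.Helper5.SecSh

open CategoryTheory CategoryTheory.Limits Opposite TopologicalSpace Topology

variable {Y S : TopCat.{u}} (a : Y ⟶ S) {ι : Type*} (Wi : ι → Opens Y)

/-- sections with values in one of the `Wi` -/
def sub : Subfunctor (secSh a (iSup Wi)).obj where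
  obj U := {s | ∃ i, ∀ x, s.1 x ∈ Wi i}
  map _ _ hs := by
    obtain ⟨j, hj⟩ := hs
    exact ⟨j, fun x => hj _⟩

/-- the open subset of `U` where a section takes values in `W'` -/
def preOpen {W : Opens Y} {U : (Opens S)ᵒᵖ} (s : (secSh a W).obj.obj U) (W' : Opens Y) : Opens S :=
  ⟨Subtype.val '' (s.1 ⁻¹' (W' : Set Y)),
    (unop U).2.isOpenMap_subtype_val _ (W'.2.preimage s.2.1)⟩

lemma preOpen_le {W : Opens Y} {U : (Opens S)ᵒᵖ} (s : (secSh a W).obj.obj U) (W' : Opens Y) :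
    preOpen a s W' ≤ unop U := by
  rintro _ ⟨y, _, rfl⟩
  exact y.2

lemma mem_of_mem_preOpen {W : Opens Y} {U : (Opens S)ᵒᵖ} (s : (secSh a W).obj.obj U)
    (W' : Opens Y) (x : S) (hx : x ∈ preOpen a s W') :
    s.1 ⟨x, preOpen_le a s W' hx⟩ ∈ W' := by
  obtain ⟨y, hy, rfl⟩ := hx
  exact hy

lemma sub_cov (U : (Opens S)ᵒᵖ) (s : (secSh a (iSup Wi)).obj.obj U) :
    (sub a Wi).sieveOfSection s ∈ Opens.grothendieckTopology S (unop U) := by
  intro x hx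
  have h1 : s.1 ⟨x, hx⟩ ∈ iSup Wi := (s.2.2 ⟨x, hx⟩).2
  obtain ⟨i, hi⟩ := Opens.mem_iSup.1 h1
  refine ⟨preOpen a s (Wi i), homOfLE (preOpen_le a s (Wi i)), ?_, ⟨⟨x, hx⟩, hi, rfl⟩⟩
  exact ⟨i, fun x' => mem_of_mem_preOpen a s (Wi i) x'.1 x'.2⟩

/-- a section with values in `W'`, as a section of `secSh a W'` -/
def toW {W : Opens Y} {U : (Opens S)ᵒᵖ} (s : (secSh a W).obj.obj U) (W' : Opens Y)
    (h : ∀ x, s.1 x ∈ W') : (secSh a W').obj.obj U :=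
  ⟨s.1, s.2.1, fun x => ⟨(s.2.2 x).1, h x⟩⟩

variable {𝒢 : Sheaf (Opens.grothendieckTopology S) (Type u)}
  (ψ : ∀ i, secSh a (Wi i) ⟶ 𝒢)
  (hψ : ∀ i j, secMap a (inf_le_left : Wi i ⊓ Wi j ≤ Wi i) ≫ ψ i =
    secMap a (inf_le_right : Wi i ⊓ Wi j ≤ Wi j) ≫ ψ j)

include hψ in
lemma ψ_indep {W : Opens Y} {U : (Opens S)ᵒᵖ} (s : (secSh a W).obj.obj U) (i j : ι)
    (hi : ∀ x, s.1 x ∈ Wi i) (hj : ∀ x, s.1 x ∈ Wi j) :
    (ψ i).hom.app U (toW a s (Wi i) hi) = (ψ j).hom.app U (toW a s (Wi j) hj) := by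
  have h := ConcreteCategory.congr_hom (NatTrans.congr_app
    (congrArg (fun t => t.hom) (hψ i j)) U) (toW a s (Wi i ⊓ Wi j) (fun x => ⟨hi x, hj x⟩))
  exact h

/-- the morphism on the subpresheaf -/
noncomputable def subHom : (sub a Wi).toFunctor ⟶ 𝒢.obj where
  app U := ↾fun s => (ψ s.2.choose).hom.app U (toW a s.1 (Wi s.2.choose) s.2.choose_spec)
  naturality U V g := by
    ext s
    have h1 := NatTrans.naturality_apply (ψ s.2.choose).hom g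
      (toW a s.1 (Wi s.2.choose) s.2.choose_spec)
    refine Eq.trans ?_ h1
    exact ψ_indep a Wi ψ hψ ((secSh a (iSup Wi)).obj.map g s.1) _ _ _
      (fun x => s.2.choose_spec _)

lemma isSheaf𝒢 : Presieve.IsSheaf (Opens.grothendieckTopology S) 𝒢.obj :=
  (isSheaf_iff_isSheaf_of_type _ _).1 𝒢.property

/-- the glued morphism -/
noncomputable def glue : secSh a (iSup Wi) ⟶ 𝒢 :=
  ObjectProperty.homMk (DenseSub.extend (sub a Wi) (sub_cov a Wi) isSheaf𝒢 (subHom a Wi ψ hψ))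

lemma secMap_glue (i : ι) : secMap a (le_iSup Wi i) ≫ glue a Wi ψ hψ = ψ i := by
  apply Sheaf.hom_ext
  ext U s
  have h1 := ConcreteCategory.congr_hom (NatTrans.congr_app
    (DenseSub.ι_extend (sub a Wi) (sub_cov a Wi) isSheaf𝒢 (subHom a Wi ψ hψ)) U)
    ⟨(secMap a (le_iSup Wi i)).hom.app U s, ⟨i, fun x => (s.2.2 x).2⟩⟩
  refine h1.trans ?_
  have hs : ∃ j, ∀ x, ((secMap a (le_iSup Wi i)).hom.app U s).1 x ∈ Wi j :=
    ⟨i, fun x => (s.2.2 x).2⟩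
  exact ψ_indep a Wi ψ hψ ((secMap a (le_iSup Wi i)).hom.app U s) hs.choose i hs.choose_spec
    (fun x => (s.2.2 x).2)

include Wi in
lemma glue_ext {Ψ₁ Ψ₂ : secSh a (iSup Wi) ⟶ 𝒢}
    (h : ∀ i, secMap a (le_iSup Wi i) ≫ Ψ₁ = secMap a (le_iSup Wi i) ≫ Ψ₂) : Ψ₁ = Ψ₂ := by
  apply Sheaf.hom_ext
  apply DenseSub.hom_ext (sub a Wi) (sub_cov a Wi) isSheaf𝒢
  ext U s
  obtain ⟨i, hi⟩ := s.2
  have h1 := ConcreteCategory.congr_hom (NatTrans.congr_app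
    (congrArg (fun t => t.hom) (h i)) U) (toW a s.1 (Wi i) hi)
  exact h1

end Groth.Agent.Lib.Helper5.SecSh
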