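import Mathlib
import Groth.Prelude.Def_CohTop

/-!
# The sheaf of local sections of a continuous map (helper5)
-/

set_option autoImplicit false
universe u

namespace Groth.Agent.Lib.Helper5.SecSh

open CategoryTheory CategoryTheory.Limits Opposite TopologicalSpace Topology

variable {Y S : TopCat.{u}} (a : Y ⟶ S)

/-- the pointwise part of the predicate: sections of `a` with values in `W` -/
def ptPred (W : Opens Y) : TopCat.LocalPredicate (fun _ : S => (Y : Type u)) where
  pred {U} f := ∀ x : U, a (f x) = x.1 ∧ f x ∈ W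
  res {U V} i f h := fun x => h (i x)
  locality {U} f h := fun x => by
    obtain ⟨V, m, i, hV⟩ := h x
    exact hV ⟨x.1, m⟩

/-- continuous sections of `a` with values in `W` -/
def secPred (W : Opens Y) : TopCat.LocalPredicate (fun _ : S => (Y : Type u)) :=
  (TopCat.continuousLocal S Y).and (ptPred a W)

/-- the sheaf of continuous sections of `a` with values in the open `W` -/
def secSh (W : Opens Y) : Sheaf (Opens.grothendieckTopology S) (Type u) :=
  TopCat.subsheafToTypes (secPred a W)

lemma secSh_ext {W : Opens Y} {U : (Opens S)ᵒᵖ} {s t : (secSh a W).obj.obj U}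
    (h : ∀ x, s.1 x = t.1 x) : s = t :=
  Subtype.ext (funext h)

/-- functoriality in `W` -/
def secMap {W W' : Opens Y} (h : W ≤ W') : secSh a W ⟶ secSh a W' :=
  ObjectProperty.homMk
    { app := fun _ => ↾fun s => ⟨s.1, s.2.1, fun x => ⟨(s.2.2 x).1, h (s.2.2 x).2⟩⟩
      naturality := fun _ _ _ => rfl }

@[simp] lemma secMap_app_val {W W' : Opens Y} (h : W ≤ W') (U : (Opens S)ᵒᵖ)
    (s : (secSh a W).obj.obj U) : ((secMap a h).hom.app U s).1 = s.1 := rfl

lemma secMap_id (W : Opens Y) : secMap a (le_refl W) = 𝟙 _ := rfl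

lemma secMap_comp {W W' W'' : Opens Y} (h : W ≤ W') (h' : W' ≤ W'') :
    secMap a h ≫ secMap a h' = secMap a (h.trans h') := rfl

/-- the functor `W ↦ secSh a W` -/
def secFunctor : Opens Y ⥤ Sheaf (Opens.grothendieckTopology S) (Type u) where
  obj W := secSh a W
  map f := secMap a f.le
  map_id _ := rfl
  map_comp _ _ := rfl

end Groth.Agent.Lib.Helper5.SecSh
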