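import Mathlib

/-!
# Fibre powers of a local homeomorphism (helper5)
-/

set_option autoImplicit false
universe u

namespace Groth.Agent.Lib.Helper5.WPTop

open CategoryTheory CategoryTheory.Limits Opposite TopologicalSpace Topology

variable {X S : TopCat.{u}} (f : X ⟶ S) (n : ℕ)

/-- the `(n+1)`-fold fibre power -/
noncomputable abbrev Xp : TopCat.{u} := widePullback S (fun _ : Fin (n + 1) => X) (fun _ => f)

/-- the structure map of the fibre power -/
noncomputable abbrev ap : Xp f n ⟶ S := WidePullback.base (fun _ : Fin (n + 1) => f)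

/-- the projections of the fibre power -/
noncomputable abbrev pr (i : Fin (n + 1)) : Xp f n ⟶ X :=
  WidePullback.π (fun _ : Fin (n + 1) => f) i

lemma pt_ext (y y' : Xp f n) (h : ∀ i, pr f n i y = pr f n i y') : y = y' :=
  Concrete.widePullback_ext' (fun _ : Fin (n + 1) => f) y y' h

lemma f_pr (i : Fin (n + 1)) (y : Xp f n) : f (pr f n i y) = ap f n y :=
  congrArg (fun g : Xp f n ⟶ S => g y) (WidePullback.π_arrow (fun _ : Fin (n + 1) => f) i)

lemma pr_lift {T : TopCat.{u}} (g : T ⟶ S) (fs : Fin (n + 1) → (T ⟶ X))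
    (w : ∀ i, fs i ≫ f = g) (i : Fin (n + 1)) (t : T) :
    pr f n i (WidePullback.lift g fs w t) = fs i t :=
  congrArg (fun g : T ⟶ X => g t) (WidePullback.lift_π (fun _ : Fin (n + 1) => f) g fs w i)

lemma ap_lift {T : TopCat.{u}} (g : T ⟶ S) (fs : Fin (n + 1) → (T ⟶ X))
    (w : ∀ i, fs i ≫ f = g) (t : T) :
    ap f n (WidePullback.lift g fs w t) = g t :=
  congrArg (fun g : T ⟶ S => g t) (WidePullback.lift_base (fun _ : Fin (n + 1) => f) g fs w)

variable {f} (hf : IsLocalHomeomorph f)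

include hf in
lemma exists_injOn (y : Xp f n) :
    ∃ W : Opens (Xp f n), y ∈ W ∧ Set.InjOn (ap f n) W := by
  choose e he1 he2 using fun i : Fin (n + 1) => hf (pr f n i y)
  refine ⟨⟨⋂ i, (pr f n i) ⁻¹' (e i).source, isOpen_iInter_of_finite
    (fun i => (e i).open_source.preimage (pr f n i).hom.continuous)⟩, ?_, ?_⟩
  · exact Set.mem_iInter.2 he1
  · intro y' hy' y'' hy'' h
    apply pt_ext
    intro i
    have h1 : pr f n i y' ∈ (e i).source := Set.mem_iInter.1 hy' i
    have h2 : pr f n i y'' ∈ (e i).source := Set.mem_iInter.1 hy'' i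
    apply (e i).injOn h1 h2
    have h3 : f (pr f n i y') = f (pr f n i y'') := by rw [f_pr, f_pr]; exact h
    have h4 := he2 i
    rw [← show (f : X → S) = e i from h4]
    exact h3

include hf in
lemma isOpenMap_ap : IsOpenMap (ap f n) := by
  intro O hO
  rw [isOpen_iff_mem_nhds]
  rintro s ⟨y, hy, rfl⟩
  choose e he1 he2 using fun i : Fin (n + 1) => hf (pr f n i y)
  have hfe : ∀ i x, f x = e i x := fun i x => congrFun (he2 i) x
  let V : Opens S := ⟨⋂ i, (e i).target, isOpen_iInter_of_finite (fun i => (e i).open_target)⟩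
  have hV : ∀ (v : V) i, v.1 ∈ (e i).target := fun v i => Set.mem_iInter.1 v.2 i
  let g : TopCat.of V ⟶ S := TopCat.ofHom ⟨Subtype.val, continuous_subtype_val⟩
  let fs : Fin (n + 1) → (TopCat.of V ⟶ X) := fun i =>
    TopCat.ofHom ⟨fun v => (e i).symm v.1,
      (e i).continuousOn_symm.comp_continuous continuous_subtype_val (fun v => hV v i)⟩
  have w : ∀ i, fs i ≫ f = g := by
    intro i
    ext v
    show f ((e i).symm v.1) = v.1
    rw [hfe i]
    exact (e i).right_inv (hV v i)
  let σ : TopCat.of V ⟶ Xp f n := WidePullback.lift g fs w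
  have hsV : ap f n y ∈ V := by
    apply Set.mem_iInter.2
    intro i
    rw [← f_pr f n i y, hfe i]
    exact (e i).map_source (he1 i)
  have hσy : σ ⟨ap f n y, hsV⟩ = y := by
    apply pt_ext
    intro i
    rw [pr_lift]
    show (e i).symm (ap f n y) = _
    rw [← f_pr f n i y, hfe i]
    exact (e i).left_inv (he1 i)
  have hT : IsOpen (Subtype.val '' (σ ⁻¹' O) : Set S) :=
    V.2.isOpenMap_subtype_val _ (hO.preimage σ.hom.continuous)
  refine Filter.mem_of_superset (hT.mem_nhds ⟨⟨ap f n y, hsV⟩, ?_, rfl⟩) ?_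
  · show σ ⟨ap f n y, hsV⟩ ∈ O
    rw [hσy]
    exact hy
  · rintro _ ⟨v, hv, rfl⟩
    exact ⟨σ v, hv, ap_lift f n g fs w v⟩

end Groth.Agent.Lib.Helper5.WPTop
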