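import Groth.Agent.Lib.Helper5.SecSh
import Groth.Agent.Lib.Helper5.WPTop

/-!
# The sheaf of sections of a fibre power is the fibre power of the sheaf of sections (helper5)
-/

set_option autoImplicit false
universe u

namespace Groth.Agent.Lib.Helper5.SecWP

open CategoryTheory CategoryTheory.Limits Opposite TopologicalSpace Topology
open Groth.Agent.Lib.Helper5.SecSh Groth.Agent.Lib.Helper5.WPTop

section Push

variable {Y Y' S : TopCat.{u}} {a : Y ⟶ S} {b : Y' ⟶ S}

/-- composition of sections with a map over `S` -/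
def secPush (h : Y ⟶ Y') (hw : h ≫ b = a) : secSh a ⊤ ⟶ secSh b ⊤ :=
  ObjectProperty.homMk
    { app := fun _ => ↾fun s => ⟨fun x => h (s.1 x), h.hom.continuous.comp s.2.1,
        fun x => ⟨by
          have h1 : b (h (s.1 x)) = a (s.1 x) :=
            congrArg (fun g : Y ⟶ S => g (s.1 x)) hw
          exact h1.trans (s.2.2 x).1, trivial⟩⟩
      naturality := fun _ _ _ => rfl }

@[simp] lemma secPush_app_val (h : Y ⟶ Y') (hw : h ≫ b = a) (U : (Opens S)ᵒᵖ)
    (s : (secSh a ⊤).obj.obj U) (x : ↥(unop U)) :
    ((secPush h hw).hom.app U s).1 x = h (s.1 x) := rfl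

end Push

variable {X S : TopCat.{u}} (f : X ⟶ S) (n : ℕ)

/-- the sheaf of sections of the identity: a terminal sheaf -/
abbrev K (S : TopCat.{u}) : Sheaf (Opens.grothendieckTopology S) (Type u) := secSh (𝟙 S) ⊤

/-- the structure map of the sheaf of sections -/
def fSh : secSh f ⊤ ⟶ K S := secPush f (Category.comp_id f)

lemma K_ext {U : (Opens S)ᵒᵖ} (s t : (K S).obj.obj U) : s = t := by
  apply secSh_ext
  intro x
  exact ((s.2.2 x).1).trans ((t.2.2 x).1).symm

/-- the cone exhibiting `secSh (ap f n) ⊤` as a fibre power -/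
noncomputable def secCone : WidePullbackCone (fun _ : Fin (n + 1) => fSh f) :=
  WidePullbackCone.mk (fSh (ap f n))
    (fun i => secPush (pr f n i) (WidePullback.π_arrow (fun _ : Fin (n + 1) => f) i))
    (fun i => by
      apply Sheaf.hom_ext
      ext U s
      exact K_ext _ _)

section Lift

variable {f n} (t : WidePullbackCone (fun _ : Fin (n + 1) => fSh f))

/-- the inclusion of an open subset -/
def incl (U : Opens S) : TopCat.of U ⟶ S := TopCat.ofHom ⟨Subtype.val, continuous_subtype_val⟩

/-- the components of a section of the cone point -/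
def comp (U : (Opens S)ᵒᵖ) (z : t.pt.obj.obj U) (i : Fin (n + 1)) :
    TopCat.of ↥(unop U) ⟶ X :=
  TopCat.ofHom ⟨((t.π i).hom.app U z).1, ((t.π i).hom.app U z).2.1⟩

lemma comp_w (U : (Opens S)ᵒᵖ) (z : t.pt.obj.obj U) (i : Fin (n + 1)) :
    comp t U z i ≫ f = incl (unop U) := by
  ext x
  exact (((t.π i).hom.app U z).2.2 x).1

/-- the lift of a section -/
noncomputable def liftSec (U : (Opens S)ᵒᵖ) (z : t.pt.obj.obj U) :
    TopCat.of ↥(unop U) ⟶ Xp f n :=
  WidePullback.lift (incl (unop U)) (comp t U z) (comp_w t U z)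

lemma pr_liftSec (U : (Opens S)ᵒᵖ) (z : t.pt.obj.obj U) (i : Fin (n + 1)) (x : ↥(unop U)) :
    pr f n i (liftSec t U z x) = ((t.π i).hom.app U z).1 x :=
  pr_lift f n (incl (unop U)) (comp t U z) (comp_w t U z) i x

/-- the lift -/
noncomputable def liftHom : t.pt ⟶ secSh (ap f n) ⊤ :=
  ObjectProperty.homMk
    { app := fun U => ↾fun z => ⟨fun x => liftSec t U z x, (liftSec t U z).hom.continuous,
        fun x => ⟨ap_lift f n (incl (unop U)) (comp t U z) (comp_w t U z) x, trivial⟩⟩
      naturality := fun U U' i => by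
        ext z
        apply secSh_ext
        intro x
        apply pt_ext
        intro j
        show pr f n j (liftSec t U' (t.pt.obj.map i z) x) = pr f n j (liftSec t U z _)
        rw [pr_liftSec, pr_liftSec]
        have h1 := NatTrans.naturality_apply (t.π j).hom i z
        exact congrFun (congrArg Subtype.val h1) x }

end Lift

/-- the cone is a limit -/
noncomputable def secConeIsLimit : IsLimit (secCone f n) :=
  WidePullbackCone.IsLimit.mk _ (fun t => liftHom t)
    (fun t => by
      apply Sheaf.hom_ext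
      ext U s
      exact K_ext _ _)
    (fun t i => by
      apply Sheaf.hom_ext
      ext U z
      apply secSh_ext
      intro x
      exact pr_liftSec t U z i x)
    (fun t m _ hm => by
      apply Sheaf.hom_ext
      ext U z
      apply secSh_ext
      intro x
      apply pt_ext
      intro i
      refine Eq.trans ?_ (pr_liftSec t U z i x).symm
      have h1 := congrArg (fun g => g.hom.app U z) (hm i)
      exact congrFun (congrArg Subtype.val h1) x)

/-- the Čech nerve of the sheaf of sections -/
noncomputable def cechIso :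
    (Arrow.mk (fSh f)).cechNerve.obj (op (SimplexCategory.mk n)) ≅ secSh (ap f n) ⊤ :=
  IsLimit.conePointUniqueUpToIso (limit.isLimit _) (secConeIsLimit f n)


variable {f} in
lemma epi_fSh (hf : IsLocalHomeomorph f) (hsurj : Function.Surjective f) : Epi (fSh f) := by
  rw [← Sheaf.isLocallySurjective_iff_epi]
  refine ⟨fun {U} s => ?_⟩
  intro x hx
  obtain ⟨y, hy⟩ := hsurj x
  obtain ⟨e, he1, he2⟩ := hf y
  have hfe : ∀ x, f x = e x := fun x => congrFun he2 x
  have hxe : x ∈ e.target := by
    rw [← hy, hfe]
    exact e.map_source he1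
  refine ⟨U ⊓ ⟨e.target, e.open_target⟩, homOfLE inf_le_left, ?_, ⟨hx, hxe⟩⟩
  refine ⟨⟨fun v => e.symm v.1, ?_, fun v => ⟨?_, trivial⟩⟩, K_ext _ _⟩
  · exact e.continuousOn_symm.comp_continuous continuous_subtype_val (fun v => v.2.2)
  · show f (e.symm v.1) = v.1
    rw [hfe]
    exact e.right_inv v.2.2

end Groth.Agent.Lib.Helper5.SecWP
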