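import Mathlib
import Groth.Prelude
set_option autoImplicit false
universe u
open CategoryTheory CategoryTheory.Limits AlgebraicGeometry TopologicalSpace
open scoped TensorProduct

namespace Groth.Agent.Lib.Helper5.SemiNormH3

theorem eq_of_comp_eq_of_universallyInjective {Y X' X : Scheme.{u}} [IsReduced Y] (f : X' ⟶ X)
    [UniversallyInjective f] [IsSeparated f] (u v : Y ⟶ X') (h : u ≫ f = v ≫ f) : u = v := by
  let l : Y ⟶ pullback f f := pullback.lift u v h
  haveI hΔ : Surjective (pullback.diagonal f) :=
    (UniversallyInjective.iff_diagonal f).mp inferInstance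
  haveI : Surjective (pullback.snd (pullback.diagonal f) l) := inferInstance
  haveI : IsClosedImmersion (pullback.snd (pullback.diagonal f) l) := inferInstance
  haveI : IsIso (pullback.snd (pullback.diagonal f) l) :=
    isIso_of_isClosedImmersion_of_surjective _
  rw [← cancel_epi (pullback.snd (pullback.diagonal f) l)]
  have e : pullback.snd (pullback.diagonal f) l ≫ l =
      pullback.fst (pullback.diagonal f) l ≫ pullback.diagonal f := pullback.condition.symm
  have h1 := congr($e ≫ pullback.fst f f)
  have h2 := congr($e ≫ pullback.snd f f)
  simp only [Category.assoc, l, pullback.lift_fst, pullback.lift_snd, pullback.diagonal_fst,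
    pullback.diagonal_snd, Category.comp_id] at h1 h2
  rw [h1, h2]

end Groth.Agent.Lib.Helper5.SemiNormH3
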