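import Mathlib
import Groth.Prelude
set_option autoImplicit false
universe u
open CategoryTheory CategoryTheory.Limits AlgebraicGeometry TopologicalSpace
open scoped TensorProduct

namespace Groth.Agent.Lib.Helper5.SemiNormH5

theorem universallyInjective_of_fst_comp_eq_snd_comp {Y X' X : Scheme.{u}} (π : Y ⟶ X)
    (f : X' ⟶ X) (q : Y ⟶ X') [Surjective q] (hq : q ≫ f = π)
    (hr : pullback.fst π π ≫ q = pullback.snd π π ≫ q) : UniversallyInjective f := by
  rw [UniversallyInjective.iff_diagonal]
  haveI : MorphismProperty.IsStableUnderComposition @Surjective.{u} :=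
    ⟨fun f g hf hg => by haveI := hf; haveI := hg; infer_instance⟩
  have hQ : Surjective (pullback.map π π f f q q (𝟙 X)
      ((Category.comp_id _).trans hq.symm) ((Category.comp_id _).trans hq.symm)) :=
    MorphismProperty.pullbackMap (P := @Surjective.{u}) (inferInstance : Surjective q)
      (inferInstance : Surjective q) hq.symm hq.symm
  have hfac : pullback.map π π f f q q (𝟙 X)
      ((Category.comp_id _).trans hq.symm) ((Category.comp_id _).trans hq.symm) =
      (pullback.fst π π ≫ q) ≫ pullback.diagonal f := by
    apply pullback.hom_ext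
    · refine (pullback.lift_fst _ _ _).trans ?_
      simp
    · refine (pullback.lift_snd _ _ _).trans ?_
      simp [hr]
  rw [hfac] at hQ
  exact Surjective.of_comp (pullback.fst π π ≫ q) (pullback.diagonal f)

end Groth.Agent.Lib.Helper5.SemiNormH5
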