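import Mathlib

/-!
# Helper5: `D(A) ⥤ D(A/P)` is essentially surjective (lifting complexes along a Serre quotient)
-/

set_option autoImplicit false
universe w w' v v' u u'
open CategoryTheory CategoryTheory.Limits

namespace Groth.Agent.Lib.Helper5.SerreEss

section Seq

variable {S : ℤ → Type*} (R : ∀ i j : ℤ, i + 1 = j → S i → S j → Prop)
    (s0 : S 0)
    (fwd : ∀ (i j : ℤ) (h : i + 1 = j) (s : S i), ∃ t : S j, R i j h s t)
    (bwd : ∀ (i j : ℤ) (h : i + 1 = j) (t : S j), ∃ s : S i, R i j h s t)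

noncomputable def up : ∀ n : ℕ, S (Int.ofNat n)
  | 0 => s0
  | n+1 => (fwd (Int.ofNat n) (Int.ofNat (n+1)) rfl (up n)).choose

noncomputable def dn : ∀ n : ℕ, S (Int.negSucc n)
  | 0 => (bwd (Int.negSucc 0) (Int.ofNat 0) rfl (up R s0 fwd 0)).choose
  | n+1 => (bwd (Int.negSucc (n+1)) (Int.negSucc n) rfl (dn n)).choose

noncomputable def sq : ∀ i : ℤ, S i
  | Int.ofNat n => up R s0 fwd n
  | Int.negSucc n => dn R s0 fwd bwd n

include s0 fwd bwd in
theorem exists_int_seq :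
    ∃ σ : ∀ i, S i, ∀ (i j : ℤ) (h : i + 1 = j), R i j h (σ i) (σ j) := by
  refine ⟨sq R s0 fwd bwd, ?_⟩
  intro i j h
  subst h
  rcases i with n | n
  · exact (fwd (Int.ofNat n) (Int.ofNat (n+1)) rfl (up R s0 fwd n)).choose_spec
  · rcases n with _ | n
    · exact (bwd (Int.negSucc 0) (Int.ofNat 0) rfl (up R s0 fwd 0)).choose_spec
    · exact (bwd (Int.negSucc (n+1)) (Int.negSucc n) rfl (dn R s0 fwd bwd n)).choose_spec

end Seq

section Lift

variable {A : Type u} [Category.{v} A] [Abelian A] (P : ObjectProperty A) [P.IsSerreClass]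
    {B : Type u'} [Category.{v'} B] [Abelian B]
    (L : A ⥤ B) [L.IsLocalization P.isoModSerre] [L.Additive]
    (K : CochainComplex B ℤ)

/-- lifts of the term `K^i` -/
abbrev St (i : ℤ) : Type _ := Σ Z : A, (L.obj Z ≅ K.X i)

/-- a lift of the differential -/
def StepRel (i j : ℤ) (_h : i + 1 = j) (s : St L K i) (t : St L K j) : Prop :=
  ∃ δ : s.1 ⟶ t.1, L.map δ ≫ t.2.hom = s.2.hom ≫ K.d i j

include P in
lemma fwd (i j : ℤ) (h : i + 1 = j) (s : St L K i) : ∃ t : St L K j, StepRel L K i j h s t := by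
  haveI : L.EssSurj := Localization.essSurj L P.isoModSerre
  let ι : L.obj (L.objPreimage (K.X j)) ≅ K.X j := L.objObjPreimageIso (K.X j)
  obtain ⟨ψ, hψ⟩ := Localization.exists_leftFraction L P.isoModSerre
    (s.2.hom ≫ K.d i j ≫ ι.inv)
  haveI : IsIso (L.map ψ.s) := Localization.inverts L P.isoModSerre _ ψ.hs
  refine ⟨⟨ψ.Y', (asIso (L.map ψ.s)).symm ≪≫ ι⟩, ψ.f, ?_⟩
  have h1 : (s.2.hom ≫ K.d i j ≫ ι.inv) ≫ L.map ψ.s = L.map ψ.f := by
    rw [hψ, MorphismProperty.LeftFraction.map_comp_map_s]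
  change L.map ψ.f ≫ ((asIso (L.map ψ.s)).symm ≪≫ ι).hom = s.2.hom ≫ K.d i j
  rw [← h1]
  simp

include P in
lemma bwd (i j : ℤ) (h : i + 1 = j) (t : St L K j) : ∃ s : St L K i, StepRel L K i j h s t := by
  haveI : L.EssSurj := Localization.essSurj L P.isoModSerre
  let ι : L.obj (L.objPreimage (K.X i)) ≅ K.X i := L.objObjPreimageIso (K.X i)
  obtain ⟨ψ, hψ⟩ := Localization.exists_rightFraction L P.isoModSerre
    (ι.hom ≫ K.d i j ≫ t.2.inv)
  haveI : IsIso (L.map ψ.s) := Localization.inverts L P.isoModSerre _ ψ.hs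
  refine ⟨⟨ψ.X', asIso (L.map ψ.s) ≪≫ ι⟩, ψ.f, ?_⟩
  have h1 : L.map ψ.s ≫ (ι.hom ≫ K.d i j ≫ t.2.inv) = L.map ψ.f := by
    rw [hψ, MorphismProperty.RightFraction.map_s_comp_map]
  change L.map ψ.f ≫ t.2.hom = (asIso (L.map ψ.s) ≪≫ ι).hom ≫ K.d i j
  rw [← h1]
  simp

/-- termwise lifts of a complex, with lifted differentials (not yet squaring to zero) -/
structure PreLift where
  Z : ℤ → A
  θ : ∀ i, L.obj (Z i) ≅ K.X i
  δ : ∀ i j : ℤ, i + 1 = j → (Z i ⟶ Z j)
  hδ : ∀ (i j : ℤ) (h : i + 1 = j), L.map (δ i j h) ≫ (θ j).hom = (θ i).hom ≫ K.d i j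

include P in
lemma nonempty_preLift : Nonempty (PreLift L K) := by
  haveI : L.EssSurj := Localization.essSurj L P.isoModSerre
  obtain ⟨σ, hσ⟩ := exists_int_seq (S := St L K) (StepRel L K)
    ⟨L.objPreimage (K.X 0), L.objObjPreimageIso (K.X 0)⟩ (fwd P L K) (bwd P L K)
  exact ⟨{ Z := fun i => (σ i).1
           θ := fun i => (σ i).2
           δ := fun i j h => (hσ i j h).choose
           hδ := fun i j h => (hσ i j h).choose_spec }⟩

namespace PreLift

variable {L K} (D : PreLift L K)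

lemma map_δδ (i j k : ℤ) (hij : i + 1 = j) (hjk : j + 1 = k) :
    L.map (D.δ i j hij) ≫ L.map (D.δ j k hjk) = 0 := by
  rw [← cancel_mono (D.θ k).hom, zero_comp, Category.assoc, D.hδ j k hjk, ← Category.assoc,
    D.hδ i j hij, Category.assoc, K.d_comp_d, comp_zero]

/-- the map whose image must be killed -/
noncomputable def γ (a b c i : ℤ) (hab : a + 1 = b) (hbc : b + 1 = c) (hci : c + 1 = i) :
    D.Z b ⊞ D.Z a ⟶ D.Z i :=
  biprod.desc (D.δ b c hbc ≫ D.δ c i hci) (D.δ a b hab ≫ D.δ b c hbc ≫ D.δ c i hci)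

@[reassoc]
lemma inl_γ (a b c i : ℤ) (hab : a + 1 = b) (hbc : b + 1 = c) (hci : c + 1 = i) :
    biprod.inl ≫ D.γ a b c i hab hbc hci = D.δ b c hbc ≫ D.δ c i hci := by
  simp [γ]

@[reassoc]
lemma inr_γ (a b c i : ℤ) (hab : a + 1 = b) (hbc : b + 1 = c) (hci : c + 1 = i) :
    biprod.inr ≫ D.γ a b c i hab hbc hci = D.δ a b hab ≫ D.δ b c hbc ≫ D.δ c i hci := by
  simp [γ]

lemma map_γ (a b c i : ℤ) (hab : a + 1 = b) (hbc : b + 1 = c) (hci : c + 1 = i) :
    L.map (D.γ a b c i hab hbc hci) = 0 := by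
  have h1 := D.map_δδ b c i hbc hci
  simp only [γ, biprod.desc_eq, Functor.map_add, Functor.map_comp]
  rw [h1]
  simp

lemma δδ_π (i j k : ℤ) (hij : i + 1 = j) (hjk : j + 1 = k) (a b c : ℤ) (hab : a + 1 = b)
    (hbc : b + 1 = c) (hck : c + 1 = k) :
    D.δ i j hij ≫ D.δ j k hjk ≫ cokernel.π (D.γ a b c k hab hbc hck) = 0 := by
  obtain rfl : j = c := by omega
  obtain rfl : i = b := by omega
  have h2 := D.inl_γ_assoc a i j k hab hbc hck (cokernel.π (D.γ a i j k hab hbc hck))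
  rw [cokernel.condition, comp_zero] at h2
  exact h2.symm

lemma δδδ_π (b c i j : ℤ) (hbc : b + 1 = c) (hci : c + 1 = i) (hij : i + 1 = j)
    (hbc' : b + 1 = c) (hci' : c + 1 = i) (hij' : i + 1 = j) :
    D.δ b c hbc ≫ D.δ c i hci ≫ D.δ i j hij ≫ cokernel.π (D.γ b c i j hbc' hci' hij') = 0 := by
  have h2 := D.inr_γ_assoc b c i j hbc' hci' hij' (cokernel.π (D.γ b c i j hbc' hci' hij'))
  rw [cokernel.condition, comp_zero] at h2
  exact h2.symm

lemma γ_comp (a b c i j : ℤ) (hab : a + 1 = b) (hbc : b + 1 = c) (hci : c + 1 = i)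
    (hij : i + 1 = j) (a' b' c' : ℤ) (hab' : a' + 1 = b') (hbc' : b' + 1 = c')
    (hcj : c' + 1 = j) :
    D.γ a b c i hab hbc hci ≫ D.δ i j hij ≫ cokernel.π (D.γ a' b' c' j hab' hbc' hcj) = 0 := by
  obtain rfl : i = c' := by omega
  obtain rfl : c = b' := by omega
  obtain rfl : b = a' := by omega
  have e1 := D.δδδ_π b c i j hbc hci hij hab' hbc' hcj
  apply biprod.hom_ext'
  · rw [D.inl_γ_assoc, comp_zero]
    exact e1
  · rw [D.inr_γ_assoc, comp_zero, e1, comp_zero]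

/-- the canonical map to be killed in degree `i` -/
noncomputable abbrev γ' (i : ℤ) : D.Z (i - 2) ⊞ D.Z (i - 3) ⟶ D.Z i :=
  D.γ (i - 3) (i - 2) (i - 1) i (by omega) (by omega) (by omega)

include P in
lemma isIso_map_π (i : ℤ) : IsIso (L.map (cokernel.π (D.γ' i))) := by
  rw [ObjectProperty.SerreClassLocalization.isIso_map_iff L P]
  exact P.isoModSerre_of_epi _
    ((ObjectProperty.SerreClassLocalization.map_eq_zero_iff L P _).1 (D.map_γ _ _ _ _ _ _ _))

/-- the corrected differential -/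
noncomputable def d' (i j : ℤ) (h : i + 1 = j) : cokernel (D.γ' i) ⟶ cokernel (D.γ' j) :=
  cokernel.desc (D.γ' i) (D.δ i j h ≫ cokernel.π (D.γ' j))
    (D.γ_comp (i - 3) (i - 2) (i - 1) i j (by omega) (by omega) (by omega) h
      (j - 3) (j - 2) (j - 1) (by omega) (by omega) (by omega))

@[reassoc]
lemma π_d' (i j : ℤ) (h : i + 1 = j) :
    cokernel.π (D.γ' i) ≫ D.d' i j h = D.δ i j h ≫ cokernel.π (D.γ' j) :=
  cokernel.π_desc _ _ _

lemma d'_comp_d' (i j k : ℤ) (hij : i + 1 = j) (hjk : j + 1 = k) :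
    D.d' i j hij ≫ D.d' j k hjk = 0 := by
  rw [← cancel_epi (cokernel.π (D.γ' i)), comp_zero, D.π_d'_assoc, D.π_d']
  exact D.δδ_π i j k hij hjk (k - 3) (k - 2) (k - 1) (by omega) (by omega) (by omega)

/-- the lifted complex -/
noncomputable def cx : CochainComplex A ℤ where
  X i := cokernel (D.γ' i)
  d i j := if h : i + 1 = j then D.d' i j h else 0
  shape i j hij := dif_neg hij
  d_comp_d' i j k hij hjk := by
    have hij' : i + 1 = j := hij
    have hjk' : j + 1 = k := hjk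
    rw [dif_pos hij', dif_pos hjk']
    exact D.d'_comp_d' i j k hij' hjk'

end PreLift

lemma comm_aux (D : PreLift L K) [∀ i, IsIso (L.map (cokernel.π (D.γ' i)))] (i j : ℤ)
    (h : i + 1 = j) :
    (inv (L.map (cokernel.π (D.γ' i))) ≫ (D.θ i).hom) ≫ K.d i j =
      L.map (D.d' i j h) ≫ inv (L.map (cokernel.π (D.γ' j))) ≫ (D.θ j).hom := by
  refine (cancel_epi (L.map (cokernel.π (D.γ' i)))).1 ?_
  rw [Category.assoc, IsIso.hom_inv_id_assoc, ← L.map_comp_assoc, D.π_d', L.map_comp,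
    Category.assoc, IsIso.hom_inv_id_assoc, D.hδ]

include P in
lemma exists_lift : ∃ X : CochainComplex A ℤ,
    Nonempty ((L.mapHomologicalComplex (ComplexShape.up ℤ)).obj X ≅ K) := by
  obtain ⟨D⟩ := nonempty_preLift P L K
  haveI : ∀ i, IsIso (L.map (cokernel.π (D.γ' i))) := fun i => D.isIso_map_π P i
  refine ⟨D.cx, ⟨HomologicalComplex.Hom.isoOfComponents
    (fun i => (asIso (L.map (cokernel.π (D.γ' i)))).symm ≪≫ D.θ i) ?_⟩⟩
  intro i j hij
  have hij' : i + 1 = j := hij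
  have hd : D.cx.d i j = D.d' i j hij' := dif_pos hij'
  have h3 := comm_aux L K D i j hij'
  rw [← hd] at h3
  exact h3

include P in
theorem essSurj [HasDerivedCategory.{w} A] [HasDerivedCategory.{w'} B]
    [PreservesFiniteLimits L] [PreservesFiniteColimits L] :
    L.mapDerivedCategory.EssSurj where
  mem_essImage Y := by
    obtain ⟨X, ⟨e⟩⟩ := exists_lift P L (DerivedCategory.Q.objPreimage Y)
    exact ⟨DerivedCategory.Q.obj X, ⟨L.mapDerivedCategoryFactors.app X ≪≫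
      DerivedCategory.Q.mapIso e ≪≫ DerivedCategory.Q.objObjPreimageIso Y⟩⟩

end Lift

end Groth.Agent.Lib.Helper5.SerreEss
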