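import Mathlib
import Groth.Prelude.Def_WeakSerre

/-!
# The essential image of a weak Serre subcategory under a fully faithful right adjoint (helper5)

`L ⊣ Ψ` with `L` exact and `Ψ` fully faithful.  If `Ψ` carries short exact sequences whose first
term is in the weak Serre subcategory `P` to short exact sequences, then `P.map Ψ` is weak Serre.
-/

set_option autoImplicit false
universe v₁ v₂ u₁ u₂
open CategoryTheory CategoryTheory.Limits

noncomputable section
namespace Groth.Agent.Lib.Helper5.SerreImage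

variable {𝒜 : Type u₁} [Category.{v₁} 𝒜] [Abelian 𝒜] {ℬ : Type u₂} [Category.{v₂} ℬ] [Abelian ℬ]
  {L : ℬ ⥤ 𝒜} {Ψ : 𝒜 ⥤ ℬ} (adj : L ⊣ Ψ) [Ψ.Full] [Ψ.Faithful] [L.Additive] [Ψ.Additive]
  [PreservesFiniteLimits L] [PreservesFiniteColimits L]
  (P : ObjectProperty 𝒜) [WSerre.IsWeakSerre P]
  (hstar : ∀ S : ShortComplex 𝒜, S.ShortExact → P S.X₁ → Epi (Ψ.map S.g))

omit [Ψ.Full] [Ψ.Faithful] [L.Additive] [PreservesFiniteLimits L] [PreservesFiniteColimits L]
  [WSerre.IsWeakSerre P] in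
include adj hstar in
lemma shortExact_map (S : ShortComplex 𝒜) (hS : S.ShortExact) (h₁ : P S.X₁) :
    (S.map Ψ).ShortExact := by
  haveI := hS.mono_f
  haveI : PreservesLimitsOfSize.{0, 0} Ψ := adj.rightAdjoint_preservesLimits
  haveI : Mono (Ψ.map S.f) := inferInstance
  haveI : Epi (Ψ.map S.g) := hstar S hS h₁
  exact ShortComplex.ShortExact.mk'
    (hS.exact.map_of_mono_of_preservesKernel Ψ hS.mono_f inferInstance)
    (inferInstanceAs (Mono (Ψ.map S.f))) (inferInstanceAs (Epi (Ψ.map S.g)))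

include adj hstar in
theorem isWeakSerre_map : WSerre.IsWeakSerre (P.map Ψ) := by
  haveI : PreservesLimitsOfSize.{0, 0} Ψ := adj.rightAdjoint_preservesLimits
  haveI : IsIso adj.counit := inferInstance
  have hcounit : ∀ F : 𝒜, IsIso (adj.counit.app F) := fun F => inferInstance
  have hLP : ∀ Y : ℬ, P.map Ψ Y → P (L.obj Y) := by
    intro Y hY
    obtain ⟨F, hF, ⟨e⟩⟩ := hY
    haveI := hcounit F
    exact P.prop_of_iso (L.mapIso e.symm ≪≫ asIso (adj.counit.app F)).symm hF
  have hunit : ∀ Y : ℬ, P.map Ψ Y → IsIso (adj.unit.app Y) := by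
    intro Y hY
    obtain ⟨F, hF, ⟨e⟩⟩ := hY
    exact adj.isIso_unit_app_of_iso e.symm
  refine { toContainsZero := ⟨?_⟩, toIsClosedUnderKernels := ⟨?_⟩,
           toIsClosedUnderCokernels := ⟨?_⟩, toIsClosedUnderExtensions := ⟨?_⟩ }
  · obtain ⟨Z, hZ, hPZ⟩ := P.exists_prop_of_containsZero
    exact ⟨Ψ.obj Z, Ψ.map_isZero hZ, P.prop_map_obj Ψ hPZ⟩
  · rintro _ ⟨f', k, hk, ⟨hX, hY⟩⟩
    obtain ⟨F, hF, ⟨e₁⟩⟩ := hX
    obtain ⟨G, hG, ⟨e₂⟩⟩ := hY
    obtain ⟨g, hg⟩ := Ψ.map_surjective (e₁.hom ≫ f' ≫ e₂.inv)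
    have w : Ψ.map g ≫ e₂.hom = e₁.hom ≫ f' := by
      rw [hg, Category.assoc, Category.assoc, Iso.inv_hom_id, Category.comp_id]
    let i : Ψ.obj (kernel g) ≅ k.pt :=
      PreservesKernel.iso Ψ g ≪≫ kernel.mapIso (Ψ.map g) f' e₁ e₂ w ≪≫
        (IsLimit.conePointUniqueUpToIso hk (kernelIsKernel f')).symm
    exact (P.map Ψ).prop_of_iso i (P.prop_map_obj Ψ (P.prop_kernel g hF hG))
  · rintro _ ⟨f', k, hk, ⟨hX, hY⟩⟩
    obtain ⟨F, hF, ⟨e₁⟩⟩ := hX
    obtain ⟨G, hG, ⟨e₂⟩⟩ := hY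
    obtain ⟨g, hg⟩ := Ψ.map_surjective (e₁.hom ≫ f' ≫ e₂.inv)
    have w : Ψ.map g ≫ e₂.hom = e₁.hom ≫ f' := by
      rw [hg, Category.assoc, Category.assoc, Iso.inv_hom_id, Category.comp_id]
    -- the two short exact sequences attached to `g`
    have hK : P (kernel g) := P.prop_kernel g hF hG
    have hQ : P (cokernel g) := P.prop_cokernel g hF hG
    have hI : P (Abelian.image g) := P.prop_kernel (cokernel.π g) hG hQ
    have ex₁ : (ShortComplex.mk (kernel.ι g) (Abelian.factorThruImage g)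
        (by rw [← cancel_mono (Abelian.image.ι g), Category.assoc, Abelian.image.fac,
          kernel.condition, zero_comp])).Exact := by
      let φ : ShortComplex.mk (kernel.ι g) (Abelian.factorThruImage g)
          (by rw [← cancel_mono (Abelian.image.ι g), Category.assoc, Abelian.image.fac,
            kernel.condition, zero_comp]) ⟶
          ShortComplex.mk (kernel.ι g) g (kernel.condition g) :=
        { τ₁ := 𝟙 _
          τ₂ := 𝟙 _
          τ₃ := Abelian.image.ι g
          comm₁₂ := by simp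
          comm₂₃ := by simp }
      haveI : Epi φ.τ₁ := by dsimp [φ]; infer_instance
      haveI : IsIso φ.τ₂ := by dsimp [φ]; infer_instance
      haveI : Mono φ.τ₃ := by dsimp [φ]; infer_instance
      exact (ShortComplex.exact_iff_of_epi_of_isIso_of_mono φ).2 (ShortComplex.exact_kernel g)
    have hS₁ : (ShortComplex.mk (kernel.ι g) (Abelian.factorThruImage g)
        (by rw [← cancel_mono (Abelian.image.ι g), Category.assoc, Abelian.image.fac,
          kernel.condition, zero_comp])).ShortExact :=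
      ShortComplex.ShortExact.mk' ex₁ (inferInstanceAs (Mono (kernel.ι g)))
        (inferInstanceAs (Epi (Abelian.factorThruImage g)))
    have hS₂ : (ShortComplex.mk (Abelian.image.ι g) (cokernel.π g)
        (kernel.condition (cokernel.π g))).ShortExact :=
      ShortComplex.ShortExact.mk' (ShortComplex.exact_kernel (cokernel.π g))
        (inferInstanceAs (Mono (kernel.ι (cokernel.π g))))
        (inferInstanceAs (Epi (cokernel.π g)))
    haveI : Epi (Ψ.map (Abelian.factorThruImage g)) := hstar _ hS₁ hK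
    have hΨS₂ := shortExact_map adj P hstar _ hS₂ hI
    haveI : Epi (Ψ.map (cokernel.π g)) := hΨS₂.epi_g
    haveI : Epi ((ShortComplex.mk (Abelian.image.ι g) (cokernel.π g)
        (kernel.condition (cokernel.π g))).map Ψ).g := hΨS₂.epi_g
    have hfac : Ψ.map g = Ψ.map (Abelian.factorThruImage g) ≫ Ψ.map (Abelian.image.ι g) := by
      rw [← Ψ.map_comp, Abelian.image.fac]
    let i : Ψ.obj (cokernel g) ≅ k.pt :=
      (IsColimit.coconePointUniqueUpToIso
        (cokernelIsCokernel (Ψ.map (Abelian.image.ι g))) hΨS₂.exact.gIsCokernel).symm ≪≫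
      (cokernelEpiComp (Ψ.map (Abelian.factorThruImage g)) (Ψ.map (Abelian.image.ι g))).symm ≪≫
      cokernelIsoOfEq hfac.symm ≪≫ cokernel.mapIso (Ψ.map g) f' e₁ e₂ w ≪≫
      (IsColimit.coconePointUniqueUpToIso hk (cokernelIsCokernel f')).symm
    exact (P.map Ψ).prop_of_iso i (P.prop_map_obj Ψ hQ)
  · intro S' hS' h₁ h₃
    have hLS' : (S'.map L).ShortExact := hS'.map_of_exact L
    have hP₂ : P (L.obj S'.X₂) := P.prop_X₂_of_shortExact hLS' (hLP _ h₁) (hLP _ h₃)
    have hΨLS' := shortExact_map adj P hstar _ hLS' (hLP _ h₁)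
    let φ : S' ⟶ (S'.map L).map Ψ :=
      { τ₁ := adj.unit.app S'.X₁
        τ₂ := adj.unit.app S'.X₂
        τ₃ := adj.unit.app S'.X₃
        comm₁₂ := (adj.unit.naturality S'.f).symm
        comm₂₃ := (adj.unit.naturality S'.g).symm }
    haveI : IsIso φ.τ₁ := hunit _ h₁
    haveI : IsIso φ.τ₃ := hunit _ h₃
    haveI : IsIso (adj.unit.app S'.X₂) := ShortComplex.isIso₂_of_shortExact_of_isIso₁₃ φ hS' hΨLS'
    exact ⟨L.obj S'.X₂, hP₂, ⟨(asIso (adj.unit.app S'.X₂)).symm⟩⟩

end Groth.Agent.Lib.Helper5.SerreImage
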