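import Mathlib

/-!
# Helper5: `D(A) ⥤ D(A/P)` is a Verdier localization when the quotient functor has a fully
faithful left adjoint
-/

set_option autoImplicit false
universe w w' v v' u u'
open CategoryTheory CategoryTheory.Limits

namespace Groth.Agent.Lib.Helper5.SerreLocD

section Gen

variable {C : Type u} [Category.{v} C] {D : Type u'} [Category.{v'} D]
  {G : C ⥤ D} {F : D ⥤ C} (adj : G ⊣ F) [IsIso adj.unit]

/-- if the unit is an isomorphism, `F (G g)` is isomorphic to `g` as an arrow -/
noncomputable def arrowIsoOfUnit {K L : C} (g : K ⟶ L) :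
    Arrow.mk (F.map (G.map g)) ≅ Arrow.mk g :=
  Arrow.isoMk (asIso (adj.unit.app K)).symm (asIso (adj.unit.app L)).symm (by
    have hn := adj.unit.naturality g
    dsimp at hn ⊢
    rw [IsIso.inv_comp_eq, ← Category.assoc, ← hn, Category.assoc, IsIso.hom_inv_id,
      Category.comp_id])

end Gen

section Adj

variable {A : Type u} [Category.{v} A] [Preadditive A] {B : Type u'} [Category.{v'} B]
  [Preadditive B] {ι : Type*} (c : ComplexShape ι)
  {G : B ⥤ A} {F : A ⥤ B} [G.Additive] [F.Additive] (adj : G ⊣ F)

/-- termwise adjunction on complexes -/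
def adjC : G.mapHomologicalComplex c ⊣ F.mapHomologicalComplex c where
  unit :=
    { app := fun K =>
        { f := fun n => adj.unit.app (K.X n)
          comm' := fun i j _ => (adj.unit.naturality (K.d i j)).symm }
      naturality := fun K L f => by
        ext n
        exact adj.unit.naturality (f.f n) }
  counit :=
    { app := fun K =>
        { f := fun n => adj.counit.app (K.X n)
          comm' := fun i j _ => (adj.counit.naturality (K.d i j)).symm }
      naturality := fun K L f => by
        ext n
        exact adj.counit.naturality (f.f n) }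
  left_triangle_components K := by
    ext n
    exact adj.left_triangle_components (K.X n)
  right_triangle_components K := by
    ext n
    exact adj.right_triangle_components (K.X n)

lemma isIso_adjC_unit [IsIso adj.unit] : IsIso (adjC c adj).unit := by
  haveI : ∀ K, IsIso ((adjC c adj).unit.app K) := fun K => by
    haveI : ∀ n, IsIso (((adjC c adj).unit.app K).f n) := fun n => by
      change IsIso (adj.unit.app (K.X n))
      infer_instance
    exact HomologicalComplex.Hom.isIso_of_components _
  exact NatIso.isIso_of_isIso_app _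

end Adj

section Main

open DerivedCategory Pretriangulated ZeroObject

variable {A : Type u} [Category.{v} A] [Abelian A] [HasDerivedCategory.{w} A]
  {B : Type u'} [Category.{v'} B] [Abelian B] [HasDerivedCategory.{w'} B]

lemma isZero_iff_homology (X : DerivedCategory A) :
    IsZero X ↔ ∀ n : ℤ, IsZero ((homologyFunctor A n).obj X) := by
  constructor
  · intro h n
    exact (homologyFunctor A n).map_isZero h
  · intro h
    haveI : IsIso (0 : X ⟶ 0) := by
      rw [DerivedCategory.isIso_iff]
      intro n
      exact ⟨⟨0, (h n).eq_of_src _ _,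
        ((homologyFunctor A n).map_isZero (isZero_zero _)).eq_of_src _ _⟩⟩
    exact (isZero_zero _).of_iso (asIso (0 : X ⟶ 0))

variable (v : A ⥤ B) [v.Additive] [PreservesFiniteLimits v] [PreservesFiniteColimits v]

/-- `H^q(v Y) ≅ v (H^q Y)` -/
noncomputable def mapDHomologyIso (Y : DerivedCategory A) (q : ℤ) :
    (homologyFunctor B q).obj (v.mapDerivedCategory.obj Y) ≅
      v.obj ((homologyFunctor A q).obj Y) :=
  (homologyFunctor B q).mapIso
      (v.mapDerivedCategory.mapIso (DerivedCategory.Q.objObjPreimageIso Y).symm ≪≫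
      v.mapDerivedCategoryFactors.app (DerivedCategory.Q.objPreimage Y)) ≪≫
    (homologyFunctorFactors B q).app _ ≪≫
    ((DerivedCategory.Q.objPreimage Y).sc q).mapHomologyIso v ≪≫
    v.mapIso ((homologyFunctorFactors A q).app (DerivedCategory.Q.objPreimage Y)).symm ≪≫
    v.mapIso ((homologyFunctor A q).mapIso (DerivedCategory.Q.objObjPreimageIso Y))

variable (P : ObjectProperty A) [P.IsSerreClass]

/-- the objects of `D(A)` all of whose cohomology objects lie in `P` -/
abbrev cohIn : ObjectProperty (DerivedCategory A) :=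
  fun X => ∀ n : ℤ, P ((homologyFunctor A n).obj X)

instance : (cohIn P).IsClosedUnderIsomorphisms where
  of_iso e h n := P.prop_of_iso ((homologyFunctor A n).mapIso e) (h n)

variable [v.IsLocalization P.isoModSerre]

lemma cohIn_iff_isZero (X : DerivedCategory A) :
    cohIn P X ↔ IsZero (v.mapDerivedCategory.obj X) := by
  rw [isZero_iff_homology]
  refine forall_congr' (fun n => ?_)
  rw [(mapDHomologyIso v X n).isZero_iff,
    ObjectProperty.SerreClassLocalization.isZero_obj_iff v P]

lemma trW_iff_isIso {X Y : DerivedCategory A} (f : X ⟶ Y) :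
    (cohIn P).trW f ↔ IsIso (v.mapDerivedCategory.map f) := by
  obtain ⟨Z, g, h, hT⟩ := distinguished_cocone_triangle f
  refine ((cohIn P).trW_iff_of_distinguished _ hT).trans ?_
  refine (cohIn_iff_isZero v P Z).trans ?_
  exact Triangle.isZero₃_iff_isIso₁ _ (v.mapDerivedCategory.map_distinguished _ hT)

theorem main (u : B ⥤ A) (adj : u ⊣ v) [IsIso adj.unit] :
    v.mapDerivedCategory.IsLocalization (cohIn P).trW := by
  haveI : u.Additive := adj.left_adjoint_additive
  haveI : IsIso (adjC (ComplexShape.up ℤ) adj).unit := isIso_adjC_unit (ComplexShape.up ℤ) adj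
  haveI : (u.mapHomologicalComplex (ComplexShape.up ℤ)).Full :=
    (adjC (ComplexShape.up ℤ) adj).fullyFaithfulLOfIsIsoUnit.full
  haveI : (u.mapHomologicalComplex (ComplexShape.up ℤ)).Faithful :=
    (adjC (ComplexShape.up ℤ) adj).fullyFaithfulLOfIsIsoUnit.faithful
  haveI : (v.mapHomologicalComplex (ComplexShape.up ℤ)).IsLocalization
      ((MorphismProperty.isomorphisms (CochainComplex B ℤ)).inverseImage
        (v.mapHomologicalComplex (ComplexShape.up ℤ))) :=
    (adjC (ComplexShape.up ℤ) adj).isLocalization'
  haveI : (v.mapHomologicalComplex (ComplexShape.up ℤ) ⋙ DerivedCategory.Q).IsLocalization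
      ((HomologicalComplex.quasiIso B (ComplexShape.up ℤ)).inverseImage
        (v.mapHomologicalComplex (ComplexShape.up ℤ))) := by
    refine Functor.IsLocalization.comp (v.mapHomologicalComplex (ComplexShape.up ℤ))
      DerivedCategory.Q
      ((MorphismProperty.isomorphisms (CochainComplex B ℤ)).inverseImage
        (v.mapHomologicalComplex (ComplexShape.up ℤ)))
      (HomologicalComplex.quasiIso B (ComplexShape.up ℤ)) _ ?_ ?_ ?_
    · intro K L f hf
      exact Localization.inverts DerivedCategory.Q
        (HomologicalComplex.quasiIso B (ComplexShape.up ℤ)) _ hf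
    · intro K L f hf
      haveI : IsIso ((v.mapHomologicalComplex (ComplexShape.up ℤ)).map f) := hf
      exact (HomologicalComplex.mem_quasiIso_iff _).2 inferInstance
    · intro K L g hg
      have e := arrowIsoOfUnit (adjC (ComplexShape.up ℤ) adj) g
      exact ⟨_, _, (u.mapHomologicalComplex (ComplexShape.up ℤ)).map g,
        ((HomologicalComplex.quasiIso B (ComplexShape.up ℤ)).arrow_mk_iso_iff e).2 hg, ⟨e⟩⟩
  haveI : (DerivedCategory.Q ⋙ v.mapDerivedCategory).IsLocalization
      ((HomologicalComplex.quasiIso B (ComplexShape.up ℤ)).inverseImage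
        (v.mapHomologicalComplex (ComplexShape.up ℤ))) :=
    Functor.IsLocalization.of_iso _ v.mapDerivedCategoryFactors.symm
  have key : ∀ {K L : CochainComplex A ℤ} (φ : K ⟶ L),
      (cohIn P).trW (DerivedCategory.Q.map φ) ↔
        (HomologicalComplex.quasiIso B (ComplexShape.up ℤ)).inverseImage
          (v.mapHomologicalComplex (ComplexShape.up ℤ)) φ := by
    intro K L φ
    rw [trW_iff_isIso v P]
    have h1 : IsIso (v.mapDerivedCategory.map (DerivedCategory.Q.map φ)) ↔
        IsIso (DerivedCategory.Q.map ((v.mapHomologicalComplex (ComplexShape.up ℤ)).map φ)) :=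
      NatIso.isIso_map_iff v.mapDerivedCategoryFactors φ
    rw [h1, DerivedCategory.isIso_Q_map_iff_quasiIso]
    exact (HomologicalComplex.mem_quasiIso_iff _).symm
  refine Functor.IsLocalization.of_comp DerivedCategory.Q v.mapDerivedCategory
    (HomologicalComplex.quasiIso A (ComplexShape.up ℤ)) (cohIn P).trW
    ((HomologicalComplex.quasiIso B (ComplexShape.up ℤ)).inverseImage
        (v.mapHomologicalComplex (ComplexShape.up ℤ))) ?_ ?_
  · exact (v.mapHomologicalComplexUpToQuasiIsoLocalizerMorphism (ComplexShape.up ℤ)).map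
  · apply le_antisymm
    · intro X Y f hf
      obtain ⟨Z, g, h, hT, hZ⟩ := hf
      obtain ⟨K, L, φ, ⟨e⟩⟩ := (DerivedCategory.mem_distTriang_iff _).1 hT
      have ea : Arrow.mk (DerivedCategory.Q.map φ) ≅ Arrow.mk f :=
        Arrow.isoMk (Triangle.π₁.mapIso e).symm (Triangle.π₂.mapIso e).symm e.inv.comm₁.symm
      have hf' : (cohIn P).trW f := ⟨Z, g, h, hT, hZ⟩
      exact ⟨K, L, φ, (key φ).1 (((cohIn P).trW.arrow_mk_iso_iff ea).2 hf'), ⟨ea⟩⟩
    · rw [MorphismProperty.map_le_iff]
      intro K L φ hφ
      exact (key φ).2 hφ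

end Main

end Groth.Agent.Lib.Helper5.SerreLocD
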