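import Mathlib
import Groth.Agent.Lib.Helper2.RDBridge
import Groth.Agent.Lib.Helper2.GSS.DimShift

set_option autoImplicit false
universe u
open CategoryTheory CategoryTheory.Limits

namespace Groth.Agent.Lib.Helper5.SerreShift

open Groth.Agent.Lib.Helper2.RDBridge Groth.Agent.Lib.Helper2.GSS

/-- torsion abelian groups. -/
def Tor (M : AddCommGrpCat.{u}) : Prop := ∀ m : M, ∃ n : ℕ, 0 < n ∧ n • m = 0

lemma Tor.of_epi {M N : AddCommGrpCat.{u}} (f : M ⟶ N) [Epi f] (h : Tor M) : Tor N := by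
  intro y
  obtain ⟨x, rfl⟩ := (AddCommGrpCat.epi_iff_surjective f).1 inferInstance y
  obtain ⟨n, hn, hx⟩ := h x
  exact ⟨n, hn, by rw [← map_nsmul, hx, map_zero]⟩

lemma Tor.of_mono {M N : AddCommGrpCat.{u}} (f : M ⟶ N) [Mono f] (h : Tor N) : Tor M := by
  intro x
  obtain ⟨n, hn, hx⟩ := h (f.hom x)
  refine ⟨n, hn, (AddCommGrpCat.mono_iff_injective f).1 inferInstance ?_⟩
  rw [map_nsmul, hx, map_zero]

lemma Tor.of_iso {M N : AddCommGrpCat.{u}} (e : M ≅ N) (h : Tor M) : Tor N :=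
  Tor.of_epi e.hom h

lemma Tor.of_exact (S : ShortComplex AddCommGrpCat.{u}) (hS : S.Exact)
    (h1 : Tor S.X₁) (h3 : Tor S.X₃) : Tor S.X₂ := by
  intro y
  obtain ⟨n, hn, hy⟩ := h3 (S.g.hom y)
  rw [← map_nsmul] at hy
  obtain ⟨x, hx⟩ := (ShortComplex.ab_exact_iff S).1 hS (n • y) hy
  obtain ⟨m, hm, hmx⟩ := h1 x
  refine ⟨m * n, Nat.mul_pos hm hn, ?_⟩
  rw [mul_smul, ← hx, ← map_nsmul, hmx, map_zero]

variable {𝒜 : Type*} [Category 𝒜] [Abelian 𝒜] [EnoughInjectives 𝒜]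
  {ℬ : Type*} [Category ℬ] [Abelian ℬ] [EnoughInjectives ℬ]
  (Φ : 𝒜 ⥤ ℬ) [Φ.Additive] [PreservesFiniteLimits Φ] [Φ.PreservesInjectiveObjects]
  (Ψ : ℬ ⥤ AddCommGrpCat.{u}) [Ψ.Additive] [PreservesFiniteLimits Ψ]
  (TS : ℬ → Prop)

section Setup

variable (F : 𝒜)

/-- `B = Φ I / Φ F`. -/
noncomputable abbrev Bq : ℬ := cokernel (Φ.map (injSC F).f)

noncomputable abbrev pq : Φ.obj (injSC F).X₂ ⟶ Bq Φ F := cokernel.π _

noncomputable def jq : Bq Φ F ⟶ Φ.obj (injSC F).X₃ :=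
  cokernel.desc (Φ.map (injSC F).f) (Φ.map (injSC F).g)
    (by rw [← Φ.map_comp, (injSC F).zero, Φ.map_zero])

lemma pq_jq : pq Φ F ≫ jq Φ F = Φ.map (injSC F).g := cokernel.π_desc _ _ _

instance mono_map_f : Mono (Φ.map (injSC F).f) := by
  have := (injSC_shortExact F).mono_f
  infer_instance

lemma map_exact : ((injSC F).map Φ).Exact :=
  ((Functor.preservesFiniteLimits_iff_forall_exact_map_and_mono Φ).1 inferInstance
    (injSC F) (injSC_shortExact F)).1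

instance mono_jq : Mono (jq Φ F) := (map_exact Φ F).mono_cokernelDesc

/-- `0 → Φ F → Φ I → B → 0`. -/
noncomputable def Sa : ShortComplex ℬ :=
  ShortComplex.mk (Φ.map (injSC F).f) (pq Φ F) (cokernel.condition _)

lemma Sa_shortExact : (Sa Φ F).ShortExact :=
  ShortComplex.ShortExact.mk' (ShortComplex.exact_cokernel _) (mono_map_f Φ F)
    (coequalizer.π_epi)

/-- `0 → B → Φ Q → T → 0`. -/
noncomputable def Sb : ShortComplex ℬ :=
  ShortComplex.mk (jq Φ F) (cokernel.π (jq Φ F)) (cokernel.condition _)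

lemma Sb_shortExact : (Sb Φ F).ShortExact :=
  ShortComplex.ShortExact.mk' (ShortComplex.exact_cokernel _) (mono_jq Φ F)
    (coequalizer.π_epi)

/-- `T = Φ Q / B` embeds into `R¹Φ F`. -/
lemma exists_mono_T : ∃ t : cokernel (jq Φ F) ⟶ (Φ.rightDerived 1).obj F, Mono t := by
  obtain ⟨δ, z1, z2, z3, e1, e2, e3⟩ := rightDerived_les' Φ (injSC F) (injSC_shortExact F) 0
  let a := Φ.rightDerivedZeroIsoSelf
  let d : Φ.obj (injSC F).X₃ ⟶ (Φ.rightDerived (0 + 1)).obj (injSC F).X₁ := a.inv.app _ ≫ δ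
  have hgd : Φ.map (injSC F).g ≫ d = 0 := by
    have h := a.inv.naturality (injSC F).g
    dsimp only [d]
    rw [← Category.assoc, h, Category.assoc, z2, comp_zero]
  have hex : (ShortComplex.mk (Φ.map (injSC F).g) d hgd).Exact := by
    let φ : ShortComplex.mk _ _ z2 ⟶ ShortComplex.mk (Φ.map (injSC F).g) d hgd :=
      { τ₁ := a.hom.app _
        τ₂ := a.hom.app _
        τ₃ := 𝟙 _
        comm₁₂ := (a.hom.naturality (injSC F).g).symm
        comm₂₃ := by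
          dsimp only [d]
          rw [Category.comp_id, ← Category.assoc, Iso.hom_inv_id_app, Category.id_comp] }
    haveI : IsIso φ.τ₁ := inferInstanceAs (IsIso (a.hom.app _))
    haveI : IsIso φ.τ₂ := inferInstanceAs (IsIso (a.hom.app _))
    haveI : IsIso φ.τ₃ := inferInstanceAs (IsIso (𝟙 _))
    exact (ShortComplex.exact_iff_of_epi_of_isIso_of_mono φ).1 e2
  have hjd : jq Φ F ≫ d = 0 := by
    rw [← cancel_epi (pq Φ F), ← Category.assoc, pq_jq, hgd, comp_zero]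
  have hex' : (ShortComplex.mk (jq Φ F) d hjd).Exact := by
    let φ : ShortComplex.mk (Φ.map (injSC F).g) d hgd ⟶ ShortComplex.mk (jq Φ F) d hjd :=
      { τ₁ := pq Φ F
        τ₂ := 𝟙 _
        τ₃ := 𝟙 _
        comm₁₂ := by
          change pq Φ F ≫ jq Φ F = Φ.map (injSC F).g ≫ 𝟙 _
          rw [pq_jq, Category.comp_id]
        comm₂₃ := by simp }
    haveI : Epi φ.τ₁ := inferInstanceAs (Epi (cokernel.π _))
    haveI : IsIso φ.τ₂ := inferInstanceAs (IsIso (𝟙 _))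
    haveI : Mono φ.τ₃ := inferInstanceAs (Mono (𝟙 _))
    exact (ShortComplex.exact_iff_of_epi_of_isIso_of_mono φ).1 hex
  exact ⟨cokernel.desc (jq Φ F) d hjd, hex'.mono_cokernelDesc⟩

end Setup

section Main

variable (F : 𝒜)

lemma les_a (k : ℕ) : ∃ (δ : (Ψ.rightDerived k).obj (Bq Φ F) ⟶
      (Ψ.rightDerived (k + 1)).obj (Φ.obj F)),
    Epi δ ∧ (Ψ.rightDerived k).map (pq Φ F) ≫ δ = 0 := by
  haveI : Injective (Φ.obj (injSC F).X₂) := Φ.injective_obj_of_injective inferInstance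
  obtain ⟨δa, za1, za2, za3, ea1, ea2, ea3⟩ := rightDerived_les' Ψ (Sa Φ F) (Sa_shortExact Φ F) k
  exact ⟨δa, ea3.epi_f
    ((Ψ.isZero_rightDerived_obj_injective_succ k (Φ.obj (injSC F).X₂)).eq_of_tgt _ _), za2⟩

lemma les_b (k : ℕ) : ∃ (δ : (Ψ.rightDerived k).obj (cokernel (jq Φ F)) ⟶
      (Ψ.rightDerived (k + 1)).obj (Bq Φ F))
    (h : δ ≫ (Ψ.rightDerived (k + 1)).map (jq Φ F) = 0), (ShortComplex.mk _ _ h).Exact := by
  obtain ⟨δb, zb1, zb2, zb3, eb1, eb2, eb3⟩ := rightDerived_les' Ψ (Sb Φ F) (Sb_shortExact Φ F) k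
  exact ⟨δb, zb3, eb3⟩

lemma les_c : ∃ (δ : ((Φ ⋙ Ψ).rightDerived 0).obj (injSC F).X₃ ⟶
      ((Φ ⋙ Ψ).rightDerived 1).obj F),
    ∀ z, δ.hom z = 0 → ∃ w, (((Φ ⋙ Ψ).rightDerived 0).map (injSC F).g).hom w = z := by
  obtain ⟨δc, zc1, zc2, zc3, ec1, ec2, ec3⟩ :=
    rightDerived_les' (Φ ⋙ Ψ) (injSC F) (injSC_shortExact F) 0
  exact ⟨δc, fun z hz => (ShortComplex.ab_exact_iff _).1 ec2 z hz⟩

instance mono_R0_jq : Mono ((Ψ.rightDerived 0).map (jq Φ F)) :=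
  rightDerived_zero_map_mono' Ψ (Sb Φ F) (Sb_shortExact Φ F)

/-- the comparison `R⁰Ψ(Φ A) ≅ R⁰(ΦΨ)(A)`. -/
noncomputable def θ (A : 𝒜) :
    (Ψ.rightDerived 0).obj (Φ.obj A) ≅ ((Φ ⋙ Ψ).rightDerived 0).obj A :=
  Ψ.rightDerivedZeroIsoSelf.app (Φ.obj A) ≪≫ ((Φ ⋙ Ψ).rightDerivedZeroIsoSelf.app A).symm

lemma θ_naturality {A A' : 𝒜} (g : A ⟶ A') :
    (Ψ.rightDerived 0).map (Φ.map g) ≫ (θ Φ Ψ A').hom =
      (θ Φ Ψ A).hom ≫ ((Φ ⋙ Ψ).rightDerived 0).map g := by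
  dsimp only [θ, Iso.trans_hom, Iso.app_hom, Iso.symm_hom, Iso.app_inv]
  have h1 := Ψ.rightDerivedZeroIsoSelf.hom.naturality (Φ.map g)
  have h2 := (Φ ⋙ Ψ).rightDerivedZeroIsoSelf.inv.naturality g
  rw [← Category.assoc, h1, Category.assoc, Category.assoc, ← h2]
  rfl

variable (hF3 : ∀ F : 𝒜, Tor (((Φ ⋙ Ψ).rightDerived 1).obj F))

include hF3 in
lemma tor_shift_zero : Tor ((Ψ.rightDerived (0 + 1)).obj (Φ.obj F)) := by
  obtain ⟨δa, hδa, za2⟩ := les_a Φ Ψ F 0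
  obtain ⟨δc, hδc⟩ := les_c Φ Ψ F
  intro y
  obtain ⟨b, rfl⟩ := (AddCommGrpCat.epi_iff_surjective δa).1 inferInstance y
  -- the image of `b` in `R⁰(ΦΨ)(Q)`
  let z := (θ Φ Ψ _).hom.hom (((Ψ.rightDerived 0).map (jq Φ F)).hom b)
  obtain ⟨n, hn, hz⟩ := hF3 F (δc.hom z)
  have hz' : δc.hom (n • z) = 0 := (map_nsmul δc.hom n z).trans hz
  obtain ⟨w, hw⟩ := hδc (n • z) hz'
  refine ⟨n, hn, ?_⟩
  have key : ((Ψ.rightDerived 0).map (pq Φ F)).hom ((θ Φ Ψ _).inv.hom w) = n • b := by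
    apply (AddCommGrpCat.mono_iff_injective ((Ψ.rightDerived 0).map (jq Φ F))).1 inferInstance
    have h1 : ((Ψ.rightDerived 0).map (jq Φ F)).hom
        (((Ψ.rightDerived 0).map (pq Φ F)).hom ((θ Φ Ψ _).inv.hom w)) =
        ((Ψ.rightDerived 0).map (Φ.map (injSC F).g)).hom ((θ Φ Ψ _).inv.hom w) := by
      rw [← pq_jq, Functor.map_comp]
      rfl
    refine h1.trans ?_
    apply (AddCommGrpCat.mono_iff_injective (θ Φ Ψ (injSC F).X₃).hom).1 inferInstance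
    have h2 := ConcreteCategory.congr_hom (θ_naturality Φ Ψ (injSC F).g) ((θ Φ Ψ _).inv.hom w)
    have h3 : (θ Φ Ψ (injSC F).X₂).hom.hom ((θ Φ Ψ (injSC F).X₂).inv.hom w) = w := by
      have := ConcreteCategory.congr_hom (θ Φ Ψ (injSC F).X₂).inv_hom_id w
      simpa using this
    refine h2.trans ?_
    change (((Φ ⋙ Ψ).rightDerived 0).map (injSC F).g).hom
      ((θ Φ Ψ (injSC F).X₂).hom.hom ((θ Φ Ψ (injSC F).X₂).inv.hom w)) = _
    rw [h3, hw, map_nsmul, map_nsmul]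
  rw [← map_nsmul, ← key]
  exact ConcreteCategory.congr_hom za2 _

end Main

section Final

variable (hTS : ∀ {A B : ℬ} (f : A ⟶ B) [Mono f], TS B → TS A)
  (hF1 : ∀ F : 𝒜, TS ((Φ.rightDerived 1).obj F))
  (hF2 : ∀ T : ℬ, TS T → ∀ n : ℕ, Tor ((Ψ.rightDerived n).obj T))
  (hF3 : ∀ F : 𝒜, Tor (((Φ ⋙ Ψ).rightDerived 1).obj F))

include hTS hF1 hF2 hF3 in
/-- Serre-class dimension shifting: `R^{q+1}Ψ(Φ F)` is torsion. -/
theorem tor_shift (q : ℕ) : ∀ F : 𝒜, Tor ((Ψ.rightDerived (q + 1)).obj (Φ.obj F)) := by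
  induction q with
  | zero => exact fun F => tor_shift_zero Φ Ψ F hF3
  | succ q ih =>
    intro F
    obtain ⟨δa, hδa, -⟩ := les_a Φ Ψ F (q + 1)
    refine Tor.of_epi δa ?_
    obtain ⟨δb, hb, eb⟩ := les_b Φ Ψ F q
    obtain ⟨t, ht⟩ := exists_mono_T Φ F
    exact Tor.of_exact _ eb (hF2 _ (hTS t (hF1 F)) q) (ih _)

end Final

end Groth.Agent.Lib.Helper5.SerreShift
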