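import Mathlib
import Groth.Agent.Lib.Helper5.SerreLocD

/-!
# Helper5: `D⁻(P) ≃ D⁻_P(A)` for a Serre subcategory with the lifting property
-/

set_option autoImplicit false
universe w w' v v' u u'
open CategoryTheory CategoryTheory.Limits ZeroObject

namespace Groth.Agent.Lib.Helper5.SerreSubD

section Seq

variable {S : ℤ → Type*} (R : ∀ i j : ℤ, i + 1 = j → S i → S j → Prop)
    (s0 : S 0)
    (fwd : ∀ (i j : ℤ) (h : i + 1 = j), 0 ≤ i → ∀ (s : S i), ∃ t : S j, R i j h s t)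
    (bwd : ∀ (i j : ℤ) (h : i + 1 = j), j ≤ 0 → ∀ (t : S j), ∃ s : S i, R i j h s t)

noncomputable def up : ∀ n : ℕ, S (Int.ofNat n)
  | 0 => s0
  | n+1 => (fwd (Int.ofNat n) (Int.ofNat (n+1)) rfl (Int.natCast_nonneg n) (up n)).choose

noncomputable def dn : ∀ n : ℕ, S (Int.negSucc n)
  | 0 => (bwd (Int.negSucc 0) (Int.ofNat 0) rfl (Int.le_refl 0) (up R s0 fwd 0)).choose
  | n+1 => (bwd (Int.negSucc (n+1)) (Int.negSucc n) rfl (Int.negSucc_le_zero n) (dn n)).choose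

noncomputable def sq : ∀ i : ℤ, S i
  | Int.ofNat n => up R s0 fwd n
  | Int.negSucc n => dn R s0 fwd bwd n

include s0 fwd bwd in
theorem exists_int_seq' :
    ∃ σ : ∀ i, S i, ∀ (i j : ℤ) (h : i + 1 = j), R i j h (σ i) (σ j) := by
  refine ⟨sq R s0 fwd bwd, ?_⟩
  intro i j h
  subst h
  rcases i with n | n
  · exact (fwd (Int.ofNat n) (Int.ofNat (n+1)) rfl (Int.natCast_nonneg n)
      (up R s0 fwd n)).choose_spec
  · rcases n with _ | n
    · exact (bwd (Int.negSucc 0) (Int.ofNat 0) rfl (Int.le_refl 0) (up R s0 fwd 0)).choose_spec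
    · exact (bwd (Int.negSucc (n+1)) (Int.negSucc n) rfl (Int.negSucc_le_zero n)
        (dn R s0 fwd bwd n)).choose_spec

end Seq

theorem exists_int_seq_from {S : ℤ → Type*} (R : ∀ i j : ℤ, i + 1 = j → S i → S j → Prop)
    (c : ℤ) (sc : S c)
    (fwd : ∀ (i j : ℤ) (h : i + 1 = j), c ≤ i → ∀ (s : S i), ∃ t : S j, R i j h s t)
    (bwd : ∀ (i j : ℤ) (h : i + 1 = j), j ≤ c → ∀ (t : S j), ∃ s : S i, R i j h s t) :
    ∃ σ : ∀ i, S i, ∀ (i j : ℤ) (h : i + 1 = j), R i j h (σ i) (σ j) := by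
  obtain ⟨σ', hσ'⟩ := exists_int_seq' (S := fun i => S (c + i))
    (fun i j h s t => R (c + i) (c + j) (by omega) s t)
    ((show c = c + 0 by omega) ▸ sc)
    (fun i j h hi s => fwd (c + i) (c + j) (by omega) (by omega) s)
    (fun i j h hj t => bwd (c + i) (c + j) (by omega) (by omega) t)
  have key : ∀ (i j : ℤ) (h : i + 1 = j) (i' j' : ℤ) (hi : c + i' = i) (hj : c + j' = j),
      R i j h (hi ▸ σ' i') (hj ▸ σ' j') := by
    intro i j h i' j' hi hj
    subst hi hj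
    exact hσ' i' j' (by omega)
  exact ⟨fun i => (show c + (i - c) = i by omega) ▸ σ' (i - c),
    fun i j h => key i j h _ _ _ _⟩

section KL

variable {A : Type u} [Category.{v} A] [Abelian A] (P : ObjectProperty A) [P.IsSerreClass]
  (X : CochainComplex A ℤ)

lemma quasiIsoAt_of_chases {K L : CochainComplex A ℤ} (φ : K ⟶ L) (i j k : ℤ)
    (hi : (ComplexShape.up ℤ).prev j = i) (hk : (ComplexShape.up ℤ).next j = k)
    (hm : ∀ ⦃T : A⦄ (x₂ : T ⟶ K.X j) (_ : x₂ ≫ K.d j k = 0) (y₁ : T ⟶ L.X i)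
      (_ : x₂ ≫ φ.f j = y₁ ≫ L.d i j),
      ∃ (T' : A) (π : T' ⟶ T) (_ : Epi π) (x₁ : T' ⟶ K.X i), π ≫ x₂ = x₁ ≫ K.d i j)
    (he : ∀ ⦃T : A⦄ (y₂ : T ⟶ L.X j) (_ : y₂ ≫ L.d j k = 0),
      ∃ (T' : A) (π : T' ⟶ T) (_ : Epi π) (x₂ : T' ⟶ K.X j) (_ : x₂ ≫ K.d j k = 0)
        (y₁ : T' ⟶ L.X i), π ≫ y₂ = x₂ ≫ φ.f j + y₁ ≫ L.d i j) : QuasiIsoAt φ j := by
  rw [quasiIsoAt_iff_isIso_homologyMap]
  haveI : Mono (HomologicalComplex.homologyMap φ j) :=
    (HomologicalComplex.mono_homologyMap_iff_up_to_refinements φ i j k hi hk).2 hm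
  haveI : Epi (HomologicalComplex.homologyMap φ j) :=
    (HomologicalComplex.epi_homologyMap_iff_up_to_refinements φ i j k hi hk).2 he
  exact isIso_of_mono_of_epi _

/-- a subobject of `X^i` lying in `P` and containing representatives of all cohomology classes -/
structure Sub (i : ℤ) where
  Y : A
  m : Y ⟶ X.X i
  mono : Mono m
  hP : P Y
  surj : ∀ (j : ℤ) (_ : i + 1 = j) (k : ℤ) (_ : k + 1 = i) ⦃T : A⦄ (z : T ⟶ X.X i),
    z ≫ X.d i j = 0 → ∃ (T' : A) (π : T' ⟶ T) (_ : Epi π) (y : T' ⟶ Y) (x : T' ⟶ X.X k),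
      π ≫ z = y ≫ m + x ≫ X.d k i

/-- compatibility of consecutive subobjects -/
def SubRel (i j : ℤ) (_h : i + 1 = j) (s : Sub P X i) (t : Sub P X j) : Prop :=
  ∃ δ : s.Y ⟶ t.Y, δ ≫ t.m = s.m ≫ X.d i j ∧
    ∀ ⦃T : A⦄ (y : T ⟶ t.Y) (x : T ⟶ X.X i), y ≫ t.m = x ≫ X.d i j →
      ∃ (T' : A) (π : T' ⟶ T) (_ : Epi π) (y' : T' ⟶ s.Y), π ≫ y = y' ≫ δ

noncomputable def zeroSub (j : ℤ) (hz : IsZero (X.X j)) : Sub P X j where
  Y := 0
  m := 0
  mono := inferInstance
  hP := P.prop_zero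
  surj := fun j' _ k _ T z _ => ⟨T, 𝟙 T, inferInstance, 0, 0, by
    rw [hz.eq_of_tgt z 0]; simp⟩

lemma fwd_zero (i j : ℤ) (h : i + 1 = j) (hz : IsZero (X.X j)) (s : Sub P X i) :
    ∃ t : Sub P X j, SubRel P X i j h s t := by
  refine ⟨zeroSub P X j hz, 0, hz.eq_of_tgt _ _, ?_⟩
  intro T y x _
  exact ⟨T, 𝟙 T, inferInstance, 0, (isZero_zero A).eq_of_tgt _ _⟩

variable (hlift : ∀ (X Y : A) (π : X ⟶ Y), Epi π → P Y →
    ∃ (X' : A) (i : X' ⟶ X), Mono i ∧ P X' ∧ Epi (i ≫ π))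
  (hX : ∀ n, P (X.homology n))

include hlift hX in
lemma bwd_step (i j : ℤ) (h : i + 1 = j) (t : Sub P X j) :
    ∃ s : Sub P X i, SubRel P X i j h s t := by
  haveI := t.mono
  have hp : pullback.fst (X.d i j) t.m ≫ X.d i j = pullback.snd (X.d i j) t.m ≫ t.m :=
    pullback.condition
  have hI : P (Abelian.image (pullback.snd (X.d i j) t.m)) :=
    P.prop_of_mono (Abelian.image.ι (pullback.snd (X.d i j) t.m)) t.hP
  obtain ⟨F', a, ha, hF', hae⟩ := hlift _ _
    (Abelian.factorThruImage (pullback.snd (X.d i j) t.m)) inferInstance hI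
  obtain ⟨Z', c, hc, hZ', hce⟩ := hlift _ _ (X.homologyπ i) inferInstance (hX i)
  obtain ⟨Y, e, m, he, hm, hem⟩ : ∃ (Y : A) (e : F' ⊞ Z' ⟶ Y) (m : Y ⟶ X.X i),
      Epi e ∧ Mono m ∧ e ≫ m = biprod.desc (a ≫ pullback.fst (X.d i j) t.m)
        (c ≫ X.iCycles i) :=
    ⟨_, Abelian.factorThruImage _, Abelian.image.ι _, inferInstance, inferInstance,
      Abelian.image.fac _⟩
  haveI : StrongEpi e := strongEpi_of_epi e
  have sq : CommSq (biprod.desc (a ≫ pullback.snd (X.d i j) t.m) 0) e t.m (m ≫ X.d i j) := ⟨by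
    rw [← Category.assoc e, hem]
    apply biprod.hom_ext'
    · simp [hp]
    · simp⟩
  have hδ1 : e ≫ sq.lift = biprod.desc (a ≫ pullback.snd (X.d i j) t.m) 0 := sq.fac_left
  have hδ2 : sq.lift ≫ t.m = m ≫ X.d i j := sq.fac_right
  have hPY : P Y := P.prop_of_epi e (P.prop_biprod hF' hZ')
  have h2 : biprod.inr ≫ e ≫ m = c ≫ X.iCycles i := by rw [hem]; simp
  refine ⟨⟨Y, m, hm, hPY, ?_⟩, sq.lift, hδ2, ?_⟩
  · intro j' hj' k hk T z hz
    obtain rfl : j = j' := by omega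
    have hnext : (ComplexShape.up ℤ).next i = j := (ComplexShape.up ℤ).next_eq' h
    have hprev : (ComplexShape.up ℤ).prev i = k := (ComplexShape.up ℤ).prev_eq' hk
    obtain ⟨T₁, π₁, hπ₁, w, hw⟩ := (epi_iff_surjective_up_to_refinements (c ≫ X.homologyπ i)).1
      hce (X.liftCycles z j hnext hz ≫ X.homologyπ i)
    have h0 : (π₁ ≫ X.liftCycles z j hnext hz - w ≫ c) ≫ X.homologyπ i = 0 := by
      simp only [Preadditive.sub_comp, Category.assoc]
      rw [hw, sub_self]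
    obtain ⟨T₂, π₂, hπ₂, x, hx⟩ :=
      (X.comp_homologyπ_eq_zero_iff_up_to_refinements k i hprev _).1 h0
    refine ⟨T₂, π₂ ≫ π₁, epi_comp _ _, π₂ ≫ w ≫ biprod.inr ≫ e, x, ?_⟩
    have h1 := hx =≫ X.iCycles i
    simp only [Preadditive.comp_sub, Preadditive.sub_comp, Category.assoc,
      HomologicalComplex.liftCycles_i, HomologicalComplex.toCycles_i] at h1
    have h5 : (π₂ ≫ w ≫ biprod.inr ≫ e) ≫ m = π₂ ≫ w ≫ c ≫ X.iCycles i := by
      simp only [Category.assoc, h2]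
    rw [h5, ← h1, Category.assoc]
    abel
  · intro T y x hxy
    obtain ⟨T', π, hπ, f', hf'⟩ := (epi_iff_surjective_up_to_refinements
      (a ≫ Abelian.factorThruImage (pullback.snd (X.d i j) t.m))).1 hae
      (pullback.lift x y hxy.symm ≫ Abelian.factorThruImage (pullback.snd (X.d i j) t.m))
    refine ⟨T', π, hπ, f' ≫ biprod.inl ≫ e, ?_⟩
    have h3 := hf' =≫ Abelian.image.ι (pullback.snd (X.d i j) t.m)
    simp only [Category.assoc, Abelian.image.fac, pullback.lift_snd] at h3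
    simp only [Category.assoc, hδ1]
    rw [h3]
    simp

/-- a coherent family of subobjects -/
structure SubSeq where
  σ : ∀ i, Sub P X i
  δ : ∀ i j : ℤ, i + 1 = j → ((σ i).Y ⟶ (σ j).Y)
  hδ1 : ∀ (i j : ℤ) (h : i + 1 = j), δ i j h ≫ (σ j).m = (σ i).m ≫ X.d i j
  hδ2 : ∀ (i j : ℤ) (h : i + 1 = j) ⦃T : A⦄ (y : T ⟶ (σ j).Y) (x : T ⟶ X.X i),
      y ≫ (σ j).m = x ≫ X.d i j →
      ∃ (T' : A) (π : T' ⟶ T) (_ : Epi π) (y' : T' ⟶ (σ i).Y), π ≫ y = y' ≫ δ i j h

namespace SubSeq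

variable {P X} (D : SubSeq P X)

lemma δ_comp (i j k : ℤ) (hij : i + 1 = j) (hjk : j + 1 = k) :
    D.δ i j hij ≫ D.δ j k hjk = 0 := by
  haveI := (D.σ k).mono
  rw [← cancel_mono (D.σ k).m, Category.assoc, D.hδ1 j k hjk, ← Category.assoc,
    D.hδ1 i j hij, Category.assoc, X.d_comp_d, comp_zero, zero_comp]

/-- the subcomplex -/
noncomputable def cx : CochainComplex A ℤ where
  X i := (D.σ i).Y
  d i j := if h : i + 1 = j then D.δ i j h else 0
  shape i j hij := dif_neg hij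
  d_comp_d' i j k hij hjk := by
    have hij' : i + 1 = j := hij
    have hjk' : j + 1 = k := hjk
    rw [dif_pos hij', dif_pos hjk']
    exact D.δ_comp i j k hij' hjk'

lemma cx_d (i j : ℤ) (h : i + 1 = j) : D.cx.d i j = D.δ i j h := dif_pos h

/-- the inclusion of the subcomplex -/
noncomputable def φ : D.cx ⟶ X where
  f i := (D.σ i).m
  comm' i j hij := by
    have hij' : i + 1 = j := hij
    have h1 := D.hδ1 i j hij'
    rw [← D.cx_d i j hij'] at h1
    exact h1.symm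

lemma quasiIso_φ : QuasiIso D.φ := by
  rw [quasiIso_iff]
  intro j
  apply quasiIsoAt_of_chases D.φ (j - 1) j (j + 1) (by simp) (by simp)
  · intro T x₂ hx₂ y₁ hxy
    obtain ⟨T', π, hπ, y', hy'⟩ := D.hδ2 (j - 1) j (by omega) x₂ y₁ hxy
    refine ⟨T', π, hπ, y', ?_⟩
    rw [← D.cx_d (j - 1) j (by omega)] at hy'
    exact hy'
  · intro T y₂ hy₂
    obtain ⟨T', π, hπ, y, x, hyx⟩ := (D.σ j).surj (j + 1) rfl (j - 1) (by omega) y₂ hy₂
    have hy0 : y ≫ D.δ j (j + 1) rfl = 0 := by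
      haveI := (D.σ (j + 1)).mono
      have h3 : y ≫ (D.σ j).m = π ≫ y₂ - x ≫ X.d (j - 1) j := by rw [hyx]; abel
      rw [← cancel_mono (D.σ (j + 1)).m, Category.assoc, D.hδ1 j (j + 1) rfl, zero_comp,
        ← Category.assoc, h3, Preadditive.sub_comp, Category.assoc, hy₂, comp_zero,
        Category.assoc, X.d_comp_d, comp_zero, sub_zero]
    rw [← D.cx_d j (j + 1) rfl] at hy0
    exact ⟨T', π, hπ, y, hy0, x, hyx⟩

end SubSeq

include hlift hX in
lemma exists_subcomplex (b : ℤ) [X.IsStrictlyLE b] :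
    ∃ (YA : CochainComplex A ℤ) (φ : YA ⟶ X), (∀ i, P (YA.X i)) ∧
      (∀ i, b < i → IsZero (YA.X i)) ∧ QuasiIso φ := by
  have hz : ∀ j, b < j → IsZero (X.X j) := fun j hj => X.isZero_of_isStrictlyLE b j hj
  obtain ⟨σ, hσ⟩ := exists_int_seq_from (S := Sub P X) (SubRel P X) (b + 1)
    (zeroSub P X (b + 1) (hz _ (by omega)))
    (fun i j h hi s => fwd_zero P X i j h (hz j (by omega)) s)
    (fun i j h _ t => bwd_step P X hlift hX i j h t)
  let D : SubSeq P X :=
    { σ := σ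
      δ := fun i j h => (hσ i j h).choose
      hδ1 := fun i j h => (hσ i j h).choose_spec.1
      hδ2 := fun i j h => (hσ i j h).choose_spec.2 }
  exact ⟨D.cx, D.φ, fun i => (σ i).hP, fun i hi => by
    haveI := (σ i).mono
    have h0 : IsZero (σ i).Y := IsZero.of_mono (σ i).m (hz i hi)
    exact h0, D.quasiIso_φ⟩

end KL

section Main

open DerivedCategory Pretriangulated

variable {A : Type u} [Category.{v} A] [Abelian A] [HasDerivedCategory.{w} A]
    (P : ObjectProperty A) [P.IsSerreClass] [P.IsClosedUnderKernels] [P.IsClosedUnderCokernels]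
    [P.IsClosedUnderFiniteProducts] [HasDerivedCategory.{w'} P.FullSubcategory]
    [PreservesFiniteLimits P.ι] [PreservesFiniteColimits P.ι]

omit [HasDerivedCategory.{w} A] [P.IsSerreClass] [P.IsClosedUnderKernels] [P.IsClosedUnderCokernels]
    [P.IsClosedUnderFiniteProducts] [HasDerivedCategory.{w'} P.FullSubcategory]
    [PreservesFiniteLimits P.ι] [PreservesFiniteColimits P.ι] in
lemma exists_lift_full (YA : CochainComplex A ℤ) (hY : ∀ i, P (YA.X i)) :
    ∃ Y : CochainComplex P.FullSubcategory ℤ,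
      Nonempty ((P.ι.mapHomologicalComplex (ComplexShape.up ℤ)).obj Y ≅ YA) := by
  let Y : CochainComplex P.FullSubcategory ℤ :=
    { X := fun i => ⟨YA.X i, hY i⟩
      d := fun i j => ObjectProperty.homMk (YA.d i j)
      shape := fun i j hij => by
        apply ObjectProperty.hom_ext
        exact YA.shape i j hij
      d_comp_d' := fun i j k _ _ => by
        apply ObjectProperty.hom_ext
        exact YA.d_comp_d i j k }
  refine ⟨Y, ⟨HomologicalComplex.Hom.isoOfComponents (fun i => Iso.refl _) ?_⟩⟩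
  intro i j _
  change 𝟙 _ ≫ YA.d i j = YA.d i j ≫ 𝟙 _
  simp

variable (hlift : ∀ (X Y : A) (π : X ⟶ Y), Epi π → P Y →
    ∃ (X' : A) (i : X' ⟶ X), Mono i ∧ P X' ∧ Epi (i ≫ π))

include hlift in
omit [HasDerivedCategory.{w} A] [HasDerivedCategory.{w'} P.FullSubcategory]
    [PreservesFiniteLimits P.ι] [PreservesFiniteColimits P.ι] in
lemma exists_resolution (X : CochainComplex A ℤ) (b : ℤ) [X.IsStrictlyLE b]
    (hX : ∀ n, P (X.homology n)) :
    ∃ (Y : CochainComplex P.FullSubcategory ℤ) (_ : Y.IsStrictlyLE b)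
      (ψ : (P.ι.mapHomologicalComplex (ComplexShape.up ℤ)).obj Y ⟶ X), QuasiIso ψ := by
  obtain ⟨YA, φ, hP, hz, hφ⟩ := exists_subcomplex P X hlift hX b
  obtain ⟨Y, ⟨e⟩⟩ := exists_lift_full P YA hP
  refine ⟨Y, ?_, e.hom ≫ φ, ?_⟩
  · rw [CochainComplex.isStrictlyLE_iff]
    intro i hi
    apply IsZero.of_full_of_faithful_of_isZero P.ι
    exact (hz i hi).of_iso ((HomologicalComplex.eval _ _ i).mapIso e)
  · haveI := hφ
    infer_instance

include hlift in
theorem essImage_part (K : DerivedCategory A) (b : ℤ) (hK : K.IsLE b)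
    (hP : ∀ n : ℤ, P ((DerivedCategory.homologyFunctor A n).obj K)) :
    ∃ M : DerivedCategory P.FullSubcategory,
      M.IsLE b ∧ Nonempty (P.ι.mapDerivedCategory.obj M ≅ K) := by
  haveI := hK
  obtain ⟨X, hX, ⟨e⟩⟩ := DerivedCategory.exists_iso_Q_obj_of_isLE K b
  have hXP : ∀ n, P (X.homology n) := fun n =>
    P.prop_of_iso (((DerivedCategory.homologyFunctor A n).mapIso e) ≪≫
      (DerivedCategory.homologyFunctorFactors A n).app X) (hP n)
  obtain ⟨Y, hY, ψ, hψ⟩ := exists_resolution P hlift X b hXP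
  haveI : IsIso (DerivedCategory.Q.map ψ) := by
    rw [DerivedCategory.isIso_Q_map_iff_quasiIso]; exact hψ
  exact ⟨DerivedCategory.Q.obj Y, inferInstance,
    ⟨P.ι.mapDerivedCategoryFactors.app Y ≪≫ asIso (DerivedCategory.Q.map ψ) ≪≫ e.symm⟩⟩

include hlift in
lemma full_aux (M' N' : CochainComplex P.FullSubcategory ℤ) (b : ℤ) [M'.IsStrictlyLE b]
    (f : P.ι.mapDerivedCategory.obj (Q.obj M') ⟶ P.ι.mapDerivedCategory.obj (Q.obj N')) :
    ∃ g : Q.obj M' ⟶ Q.obj N', P.ι.mapDerivedCategory.map g = f := by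
  obtain ⟨X', hX', s, hs, g, hf⟩ := right_fac_of_isStrictlyLE
    (P.ι.mapDerivedCategoryFactors.inv.app M' ≫ f ≫ P.ι.mapDerivedCategoryFactors.hom.app N') b
  haveI : QuasiIso s := (DerivedCategory.isIso_Q_map_iff_quasiIso _ s).1 hs
  have hX'P : ∀ n, P (X'.homology n) := fun n => by
    have e1 : ((P.ι.mapHomologicalComplex (ComplexShape.up ℤ)).obj M').homology n ≅
        P.ι.obj (M'.homology n) := (M'.sc n).mapHomologyIso P.ι
    exact P.prop_of_iso (e1.symm ≪≫ (asIso (HomologicalComplex.homologyMap s n)).symm)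
      (M'.homology n).property
  obtain ⟨Y, hY, t, ht⟩ := exists_resolution P hlift X' b hX'P
  obtain ⟨s', hs'⟩ := (P.ι.mapHomologicalComplex (ComplexShape.up ℤ)).map_surjective (t ≫ s)
  obtain ⟨g', hg'⟩ := (P.ι.mapHomologicalComplex (ComplexShape.up ℤ)).map_surjective (t ≫ g)
  haveI : QuasiIso s' := (HomologicalComplex.quasiIso_map_iff_of_preservesHomology s' P.ι).1
    (by rw [hs']; infer_instance)
  haveI : IsIso (Q.map s') := (DerivedCategory.isIso_Q_map_iff_quasiIso _ s').2 inferInstance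
  haveI : IsIso (Q.map t) := (DerivedCategory.isIso_Q_map_iff_quasiIso _ t).2 ht
  have h1 : P.ι.mapDerivedCategory.map (Q.map s') ≫ P.ι.mapDerivedCategoryFactors.hom.app M' =
      P.ι.mapDerivedCategoryFactors.hom.app Y ≫ Q.map t ≫ Q.map s := by
    rw [P.ι.mapDerivedCategoryFactors_hom_naturality s', hs', Functor.map_comp]
  have h2 : P.ι.mapDerivedCategory.map (Q.map g') ≫ P.ι.mapDerivedCategoryFactors.hom.app N' =
      P.ι.mapDerivedCategoryFactors.hom.app Y ≫ Q.map t ≫ Q.map g := by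
    rw [P.ι.mapDerivedCategoryFactors_hom_naturality g', hg', Functor.map_comp]
  have hf' : f ≫ P.ι.mapDerivedCategoryFactors.hom.app N' =
      P.ι.mapDerivedCategoryFactors.hom.app M' ≫ inv (Q.map s) ≫ Q.map g := by
    rw [← hf]; simp
  refine ⟨inv (Q.map s') ≫ Q.map g', ?_⟩
  rw [Functor.map_comp, Functor.map_inv, IsIso.inv_comp_eq,
    ← cancel_mono (P.ι.mapDerivedCategoryFactors.hom.app N'), h2, Category.assoc, hf',
    reassoc_of% h1, IsIso.hom_inv_id_assoc]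

include hlift in
lemma full_of_isLE (M N : DerivedCategory P.FullSubcategory) (b : ℤ) [M.IsLE b]
    (f : P.ι.mapDerivedCategory.obj M ⟶ P.ι.mapDerivedCategory.obj N) :
    ∃ g : M ⟶ N, P.ι.mapDerivedCategory.map g = f := by
  obtain ⟨M', hM', ⟨eM⟩⟩ := DerivedCategory.exists_iso_Q_obj_of_isLE M b
  obtain ⟨g, hg⟩ := full_aux P hlift M' (Q.objPreimage N) b
    (P.ι.mapDerivedCategory.map eM.inv ≫ f ≫
      P.ι.mapDerivedCategory.map (Q.objObjPreimageIso N).inv)
  refine ⟨eM.hom ≫ g ≫ (Q.objObjPreimageIso N).hom, ?_⟩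
  rw [Functor.map_comp, Functor.map_comp, hg]
  simp

lemma isZero_of_map_isZero (C : DerivedCategory P.FullSubcategory)
    (h : IsZero (P.ι.mapDerivedCategory.obj C)) : IsZero C := by
  rw [SerreLocD.isZero_iff_homology]
  intro n
  apply IsZero.of_full_of_faithful_of_isZero P.ι
  exact (SerreLocD.mapDHomologyIso P.ι C n).isZero_iff.1
    ((DerivedCategory.homologyFunctor A n).map_isZero h)

lemma isIso_of_map_isIso {M N : DerivedCategory P.FullSubcategory} (e : M ⟶ N)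
    [IsIso (P.ι.mapDerivedCategory.map e)] : IsIso e := by
  obtain ⟨Z, g, h, hT⟩ := distinguished_cocone_triangle e
  refine (Triangle.isZero₃_iff_isIso₁ _ hT).1 ?_
  apply isZero_of_map_isZero P
  exact (Triangle.isZero₃_iff_isIso₁ _ (P.ι.mapDerivedCategory.map_distinguished _ hT)).2
    (inferInstanceAs (IsIso (P.ι.mapDerivedCategory.map e)))

include hlift in
lemma faithful_of_isLE (M N : DerivedCategory P.FullSubcategory) (b : ℤ) [M.IsLE b]
    (g : M ⟶ N) (hg : P.ι.mapDerivedCategory.map g = 0) : g = 0 := by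
  obtain ⟨Z, u, h, hT⟩ := distinguished_cocone_triangle₁ g
  have hFT := P.ι.mapDerivedCategory.map_distinguished _ hT
  obtain ⟨s, hs⟩ := Triangle.coyoneda_exact₂ _ hFT (𝟙 (P.ι.mapDerivedCategory.obj M))
    ((Category.id_comp _).trans hg)
  obtain ⟨s', hs'⟩ := full_of_isLE P hlift M Z b s
  have he : P.ι.mapDerivedCategory.map (s' ≫ u) = 𝟙 _ := by
    rw [Functor.map_comp, hs']; exact hs.symm
  haveI : IsIso (P.ι.mapDerivedCategory.map (s' ≫ u)) := by rw [he]; infer_instance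
  haveI : IsIso (s' ≫ u) := isIso_of_map_isIso P (s' ≫ u)
  have h0 : u ≫ g = 0 := comp_distTriang_mor_zero₁₂ _ hT
  rw [← cancel_epi (s' ≫ u), Category.assoc, h0, comp_zero, comp_zero]

include hlift in
theorem main :
    (∀ (M N : DerivedCategory P.FullSubcategory) (b : ℤ), M.IsLE b → N.IsLE b →
      Function.Bijective (fun φ : M ⟶ N => P.ι.mapDerivedCategory.map φ)) ∧
    ∀ (K : DerivedCategory A) (b : ℤ), K.IsLE b →
      (∀ n : ℤ, P ((DerivedCategory.homologyFunctor A n).obj K)) →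
      ∃ M : DerivedCategory P.FullSubcategory,
        M.IsLE b ∧ Nonempty (P.ι.mapDerivedCategory.obj M ≅ K) := by
  refine ⟨fun M N b hM _ => ?_, fun K b hK hP => essImage_part P hlift K b hK hP⟩
  haveI := hM
  constructor
  · intro g₁ g₂ h
    have h' : P.ι.mapDerivedCategory.map (g₁ - g₂) = 0 := by
      rw [Functor.map_sub]; exact sub_eq_zero.2 h
    exact sub_eq_zero.1 (faithful_of_isLE P hlift M N b _ h')
  · intro f
    exact full_of_isLE P hlift M N b f

end Main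

end Groth.Agent.Lib.Helper5.SerreSubD
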