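import Mathlib.CategoryTheory.EquivalenceRelation
import Mathlib.CategoryTheory.Sites.Sheafification
import Mathlib.CategoryTheory.Sites.Limits
import Mathlib.CategoryTheory.Sites.LeftExact
import Mathlib.CategoryTheory.Limits.Types.Pullbacks
import Mathlib.CategoryTheory.Limits.Shapes.KernelPair
import Mathlib.CategoryTheory.Limits.FunctorCategory.Basic
import Mathlib.CategoryTheory.Functor.RegularEpi
import Mathlib.CategoryTheory.Sites.RegularEpi

/-!
# Equivalence relations in presheaves and sheaves of types are effective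
-/

set_option autoImplicit false
open CategoryTheory Limits
universe w v₁ u₁

namespace Groth.Agent.Lib.Helper5.SheafEqRel

section General
variable {D : Type*} [Category D]

/-- coequalizer + common section ⇒ pushout square. -/
lemma isPushout_of_isColimit_of_section {R X B : D} {p₁ p₂ : R ⟶ X} {π : X ⟶ B}
    (w : p₁ ≫ π = p₂ ≫ π) (h : IsColimit (Cofork.ofπ π w)) (r : X ⟶ R)
    (h₁ : r ≫ p₁ = 𝟙 X) (h₂ : r ≫ p₂ = 𝟙 X) :
    IsPushout p₁ p₂ π π := by
  have key : ∀ s : PushoutCocone p₁ p₂, s.inl = s.inr := fun s => by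
    have := s.condition
    calc s.inl = (r ≫ p₁) ≫ s.inl := by rw [h₁, Category.id_comp]
      _ = r ≫ p₂ ≫ s.inr := by rw [Category.assoc, this]
      _ = s.inr := by rw [← Category.assoc, h₂, Category.id_comp]
  refine ⟨⟨w⟩, ⟨PushoutCocone.IsColimit.mk _
    (fun s => Cofork.IsColimit.desc h s.inl (by rw [s.condition, key s])) ?_ ?_ ?_⟩⟩
  · intro s
    exact Cofork.IsColimit.π_desc' h _ _
  · intro s
    exact (Cofork.IsColimit.π_desc' h _ _).trans (key s)
  · intro s m hm _
    refine Cofork.IsColimit.hom_ext h ?_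
    rw [Cofork.IsColimit.π_desc' h]
    exact hm

variable {E : Type*} [Category E]

lemma jointlyMono₂_map_of_adjunction {L : E ⥤ D} {F : D ⥤ E} (adj : L ⊣ F) {R X : D}
    (p₁ p₂ : R ⟶ X) [JointlyMono₂ p₁ p₂] : JointlyMono₂ (F.map p₁) (F.map p₂) where
  right_cancellation Y f g h₁ h₂ := by
    apply (adj.homEquiv Y R).symm.injective
    apply JointlyMono₂.right_cancellation (p₁ := p₁) (p₂ := p₂)
    · rw [← adj.homEquiv_naturality_right_symm, ← adj.homEquiv_naturality_right_symm, h₁]
    · rw [← adj.homEquiv_naturality_right_symm, ← adj.homEquiv_naturality_right_symm, h₂]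

/-- Map an equivalence relation by a pullback-preserving functor. -/
noncomputable def equivalenceRelationMap {R X : D} {p₁ p₂ : R ⟶ X} (e : EquivalenceRelation p₁ p₂)
    (F : D ⥤ E) [JointlyMono₂ (F.map p₁) (F.map p₂)] [PreservesLimitsOfShape WalkingCospan F] :
    EquivalenceRelation (F.map p₁) (F.map p₂) where
  __ := e.toReflexiveRelation.map F
  __ := e.toSymmetricRelation.map F
  __ := e.toTransitiveRelation.map F

end General

section Types

lemma types_isPullback {R X B : Type w} {p₁ p₂ : R ⟶ X} (e : EquivalenceRelation p₁ p₂)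
    {π : X ⟶ B} (hw : p₁ ≫ π = p₂ ≫ π) (h : IsColimit (Cofork.ofπ π hw)) :
    IsPullback p₁ p₂ π π := by
  rw [Types.isPullback_iff]
  refine ⟨hw, ?_, ?_⟩
  · rintro x y ⟨h1, h2⟩
    have := e.right_cancellation (Y := PUnit.{w+1}) (TypeCat.ofHom fun _ => x)
      (TypeCat.ofHom fun _ => y) (by ext; exact h1) (by ext; exact h2)
    exact ConcreteCategory.congr_hom this PUnit.unit
  · intro x y hxy
    have heq := TypeCat.equivalence_of_equivalenceRelation e
    let s : Setoid X := ⟨_, heq⟩
    let q : X ⟶ Quotient s := TypeCat.ofHom (Quotient.mk s)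
    have hq : p₁ ≫ q = p₂ ≫ q := by
      ext r
      exact Quotient.sound ⟨r, rfl, rfl⟩
    have hd : π ≫ Cofork.IsColimit.desc h q hq = q := Cofork.IsColimit.π_desc' h q hq
    have h3 : q x = q y := by
      rw [← hd]
      simp [hxy]
    exact Quotient.exact h3

end Types

section Presheaf
variable {C : Type u₁} [Category.{v₁} C]

/-- The "joint kernel pair" presheaf of a pair of maps. -/
def jointKer {R X : C ⥤ Type w} (p₁ p₂ : R ⟶ X) : C ⥤ Type w where
  obj V := {ab : R.obj V × R.obj V //
    p₁.app V ab.1 = p₁.app V ab.2 ∧ p₂.app V ab.1 = p₂.app V ab.2}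
  map {V V'} φ := TypeCat.ofHom fun ab => ⟨(R.map φ ab.1.1, R.map φ ab.1.2), by
    refine ⟨?_, ?_⟩
    · have h1 := ConcreteCategory.congr_hom (p₁.naturality φ) ab.1.1
      have h2 := ConcreteCategory.congr_hom (p₁.naturality φ) ab.1.2
      simp only [ConcreteCategory.comp_apply] at h1 h2
      rw [h1, h2, ab.2.1]
    · have h1 := ConcreteCategory.congr_hom (p₂.naturality φ) ab.1.1
      have h2 := ConcreteCategory.congr_hom (p₂.naturality φ) ab.1.2
      simp only [ConcreteCategory.comp_apply] at h1 h2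
      rw [h1, h2, ab.2.2]⟩
  map_id V := by
    ext ab <;> simp
  map_comp φ ψ := by
    ext ab <;> simp

lemma jointlyMono₂_app {R X : C ⥤ Type w} (p₁ p₂ : R ⟶ X) [JointlyMono₂ p₁ p₂] (U : C) :
    JointlyMono₂ (p₁.app U) (p₂.app U) where
  right_cancellation Y f g h₁ h₂ := by
    let a : jointKer p₁ p₂ ⟶ R :=
      { app := fun V => TypeCat.ofHom fun ab => ab.1.1
        naturality := fun V V' φ => by ext ab; rfl }
    let b : jointKer p₁ p₂ ⟶ R :=
      { app := fun V => TypeCat.ofHom fun ab => ab.1.2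
        naturality := fun V V' φ => by ext ab; rfl }
    have hab : a = b := by
      apply JointlyMono₂.right_cancellation (p₁ := p₁) (p₂ := p₂)
      · ext V ab
        exact ab.2.1
      · ext V ab
        exact ab.2.2
    ext y
    have h1 := ConcreteCategory.congr_hom h₁ y
    have h2 := ConcreteCategory.congr_hom h₂ y
    simp only [ConcreteCategory.comp_apply] at h1 h2
    have := ConcreteCategory.congr_hom (congrArg (fun t => t.app U) hab)
      (⟨(f y, g y), h1, h2⟩ : (jointKer p₁ p₂).obj U)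
    exact this

lemma psh_isPullback {R X : C ⥤ Type w} {p₁ p₂ : R ⟶ X} (e : EquivalenceRelation p₁ p₂) :
    IsPullback p₁ p₂ (coequalizer.π p₁ p₂) (coequalizer.π p₁ p₂) := by
  refine IsPullback.of_forall_isPullback_app fun U => ?_
  haveI := e.toJointlyMono₂
  haveI : JointlyMono₂ (((evaluation C (Type w)).obj U).map p₁)
      (((evaluation C (Type w)).obj U).map p₂) := jointlyMono₂_app p₁ p₂ U
  have e' : EquivalenceRelation (p₁.app U) (p₂.app U) :=
    equivalenceRelationMap e ((evaluation C (Type w)).obj U)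
  exact types_isPullback e' _
    (isColimitCoforkMapOfIsColimit ((evaluation C (Type w)).obj U) (coequalizer.condition p₁ p₂)
      (coequalizerIsCoequalizer p₁ p₂))

lemma psh_isPushout {R X : C ⥤ Type w} {p₁ p₂ : R ⟶ X} (e : EquivalenceRelation p₁ p₂) :
    IsPushout p₁ p₂ (coequalizer.π p₁ p₂) (coequalizer.π p₁ p₂) :=
  isPushout_of_isColimit_of_section (coequalizer.condition p₁ p₂)
    (coequalizerIsCoequalizer p₁ p₂) e.r e.reflexivity₁ e.reflexivity₂

lemma psh_universally_effectiveEpi {X B : C ⥤ Type w} (π : X ⟶ B) [Epi π] :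
    MorphismProperty.universally (fun (_ _ : C ⥤ Type w) f => EffectiveEpi f) π := by
  intro X' Y' i₁ i₂ f' H
  haveI : Epi f' := by
    rw [NatTrans.epi_iff_epi_app]
    intro U
    rw [epi_iff_surjective]
    intro y
    have hπ : Function.Surjective (π.app U) := (epi_iff_surjective _).1 inferInstance
    obtain ⟨x, hx⟩ := hπ (i₂.app U y)
    obtain ⟨x', hx1, hx2⟩ := Types.exists_of_isPullback (H.app U) y x hx.symm
    exact ⟨x', hx1⟩
  have := IsRegularEpiCategory.regularEpiOfEpi f'
  exact (isRegularEpi_iff_effectiveEpi f').1 this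

end Presheaf

section Sheaf
variable {C : Type u₁} [Category.{v₁} C] (J : GrothendieckTopology C) [HasSheafify J (Type w)]

theorem sheaf_exists_effective {R X : Sheaf J (Type w)} {p₁ p₂ : R ⟶ X}
    (e : EquivalenceRelation p₁ p₂) :
    ∃ (B : Sheaf J (Type w)) (π : X ⟶ B), IsKernelPair π p₁ p₂ ∧ IsPushout p₁ p₂ π π := by
  obtain ⟨i, hi⟩ : ∃ i, i = sheafToPresheaf J (Type w) := ⟨_, rfl⟩
  obtain ⟨L, hL⟩ : ∃ L, L = presheafToSheaf J (Type w) := ⟨_, rfl⟩
  obtain ⟨adj, hadj⟩ : ∃ adj : L ⊣ i, IsIso adj.counit := by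
    subst hi hL
    exact ⟨sheafificationAdjunction J (Type w), inferInstance⟩
  haveI : PreservesLimitsOfShape WalkingCospan i := by rw [hi]; infer_instance
  haveI : PreservesLimitsOfShape WalkingCospan L := by rw [hL]; infer_instance
  haveI : PreservesColimitsOfShape WalkingSpan L := adj.leftAdjoint_preservesColimits.1
  haveI := e.toJointlyMono₂
  haveI : JointlyMono₂ (i.map p₁) (i.map p₂) := jointlyMono₂_map_of_adjunction adj p₁ p₂
  have e' : EquivalenceRelation (i.map p₁) (i.map p₂) := equivalenceRelationMap e i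
  have hpb := (psh_isPullback e').map L
  have hpo := (psh_isPushout e').map L
  let εR : L.obj (i.obj R) ≅ R := asIso (adj.counit.app R)
  let εX : L.obj (i.obj X) ≅ X := asIso (adj.counit.app X)
  have n₁ : L.map (i.map p₁) ≫ εX.hom = εR.hom ≫ p₁ := adj.counit.naturality p₁
  have n₂ : L.map (i.map p₂) ≫ εX.hom = εR.hom ≫ p₂ := adj.counit.naturality p₂
  refine ⟨L.obj (coequalizer (i.map p₁) (i.map p₂)), εX.inv ≫ L.map (coequalizer.π _ _), ?_, ?_⟩
  · exact hpb.of_iso εR εX εX (Iso.refl _) n₁ n₂ (by simp) (by simp)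
  · exact hpo.of_iso εR εX εX (Iso.refl _) n₁ n₂ (by simp) (by simp)

theorem isKernelPair_coequalizer_π {R X : Sheaf J (Type w)} {p₁ p₂ : R ⟶ X}
    (e : EquivalenceRelation p₁ p₂) : IsKernelPair (coequalizer.π p₁ p₂) p₁ p₂ := by
  obtain ⟨B, π, hk, hp⟩ := sheaf_exists_effective J e
  have hc : IsColimit (Cofork.ofπ π hp.w) := hp.isLimitFork
  let φ := hc.coconePointUniqueUpToIso (coequalizerIsCoequalizer p₁ p₂)
  have h1 : π ≫ φ.hom = coequalizer.π p₁ p₂ :=
    hc.comp_coconePointUniqueUpToIso_hom (coequalizerIsCoequalizer p₁ p₂) WalkingParallelPair.one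
  rw [← h1]
  exact hk.comp_of_mono

end Sheaf

end Groth.Agent.Lib.Helper5.SheafEqRel
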