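import Groth.Prelude.Def_SGA4a
import Groth.Agent.Lib.Helper5.GiraudCoprod
import Groth.Agent.Lib.Helper5.SheafGrpQuot
import Groth.Agent.Lib.Helper5.GiraudRepr

/-!
# A sheaf topos satisfies Giraud's axioms; canonical sheaves on it are representable
-/

set_option autoImplicit false
open CategoryTheory Limits Opposite
universe u

namespace Groth.Agent.Lib.Helper5.SheafToposGiraud

lemma equivalenceRelation_of_isEquivRel {E : Type*} [Category E] [HasPullbacks E] {R A : E}
    {p₁ p₂ : R ⟶ A} (h : SGA4.IsEquivRel p₁ p₂) : Nonempty (EquivalenceRelation p₁ p₂) := by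
  have hm : JointlyMono₂ p₁ p₂ := ⟨fun Y f g h₁ h₂ => (h Y).1 (Prod.ext h₁ h₂)⟩
  obtain ⟨r, hr₁, hr₂⟩ := (h A).2.refl (𝟙 A)
  obtain ⟨s, hs₁, hs₂⟩ := (h R).2.symm ⟨𝟙 R, Category.id_comp p₁, Category.id_comp p₂⟩
  obtain ⟨t, ht₁, ht₂⟩ := (h (pullback p₂ p₁)).2.trans
    (x := pullback.fst p₂ p₁ ≫ p₁) (y := pullback.fst p₂ p₁ ≫ p₂) (z := pullback.snd p₂ p₁ ≫ p₂)
    ⟨pullback.fst p₂ p₁, rfl, rfl⟩ ⟨pullback.snd p₂ p₁, pullback.condition.symm, rfl⟩
  exact ⟨{ toJointlyMono₂ := hm
           r := r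
           reflexivity₁ := hr₁
           reflexivity₂ := hr₂
           s := s
           symmetry₁ := hs₁
           symmetry₂ := hs₂
           c := pullback.cone p₂ p₁
           isLimit := pullback.isLimit p₂ p₁
           t := t
           transitivity₁ := ht₁
           transitivity₂ := ht₂ }⟩

variable {C : Type u} [SmallCategory C] (J : GrothendieckTopology C)

theorem hb : SGA4.HasDisjointUniversalCoproducts.{u + 1, u} (Sheaf J (Type u)) :=
  fun _ X => Groth.Agent.Lib.Helper5.GiraudCoprod.sheaf_coproducts.{u} J X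

theorem hc : ∀ (R A : Sheaf J (Type u)) (p₁ p₂ : R ⟶ A), SGA4.IsEquivRel p₁ p₂ →
    SGA4.IsEffectiveUniversalEquivRel p₁ p₂ := by
  intro R A p₁ p₂ h
  obtain ⟨e⟩ := equivalenceRelation_of_isEquivRel h
  obtain ⟨B, π, hk, hp⟩ := Groth.Agent.Lib.Helper5.SheafEqRel.sheaf_exists_effective.{u} J e
  refine ⟨B, π, hk, hp, fun B' g => ?_⟩
  haveI : Epi π := by
    have hc : Limits.IsColimit (Limits.Cofork.ofπ π hp.w) := hp.isLimitFork
    exact Limits.Cofork.IsColimit.epi hc
  haveI : Epi (Limits.pullback.snd π g) :=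
    Groth.Agent.Lib.Helper5.SheafGrpQuot.epi_of_isPullback.{u} J
      (IsPullback.of_hasPullback π g).flip
  exact Groth.Agent.Lib.Helper5.SheafGrpQuot.effectiveEpi_of_epi.{u} J _

/-- The sheafified representables. -/
noncomputable abbrev gen : C ⥤ Sheaf J (Type u) := yoneda ⋙ presheafToSheaf J (Type u)

/-- Morphisms from a sheafified representable are sections. -/
noncomputable def genEquiv (c : C) (W : Sheaf J (Type u)) :
    ((gen J).obj c ⟶ W) ≃ W.obj.obj (op c) :=
  ((sheafificationAdjunction J (Type u)).homEquiv (yoneda.obj c) W).trans yonedaEquiv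

lemma genEquiv_comp (c : C) {X Y : Sheaf J (Type u)} (h' : (gen J).obj c ⟶ X) (f : X ⟶ Y) :
    genEquiv J c Y (h' ≫ f) = f.hom.app (op c) (genEquiv J c X h') := by
  simp only [genEquiv, Equiv.trans_apply, Adjunction.homEquiv_naturality_right]
  exact yonedaEquiv_comp _ _

theorem gen_detecting : ∀ ⦃X Y : Sheaf J (Type u)⦄ (f : X ⟶ Y),
    (∀ (c : C) (h : (gen J).obj c ⟶ Y), ∃! h' : (gen J).obj c ⟶ X, h' ≫ f = h) → IsIso f := by
  intro X Y f hf
  have key : ∀ Z : C, Function.Bijective (f.hom.app (op Z)) := by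
    intro Z
    constructor
    · intro a b hab
      obtain ⟨h', -, huniq⟩ := hf Z ((genEquiv J Z X).symm a ≫ f)
      have h1 := huniq ((genEquiv J Z X).symm a) rfl
      have h2 := huniq ((genEquiv J Z X).symm b) (by
        apply (genEquiv J Z Y).injective
        rw [genEquiv_comp, genEquiv_comp, Equiv.apply_symm_apply, Equiv.apply_symm_apply]
        exact hab.symm)
      have h3 := congrArg (genEquiv J Z X) (h1.trans h2.symm)
      simpa using h3
    · intro y
      obtain ⟨h', hh', -⟩ := hf Z ((genEquiv J Z Y).symm y)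
      refine ⟨genEquiv J Z X h', ?_⟩
      rw [← genEquiv_comp, hh', Equiv.apply_symm_apply]
  rw [← isIso_iff_of_reflects_iso _ (sheafToPresheaf _ _), NatTrans.isIso_iff_isIso_app]
  intro Z
  rw [isIso_iff_bijective]
  exact key Z.unop

/-- Sheaves of `u`-small sets for the canonical topology of a sheaf topos are representable. -/
theorem exists_representing
    (F : Sheaf (Sheaf.canonicalTopology (Sheaf J (Type u))) (Type u)) :
    ∃ X : Sheaf J (Type u),
      Nonempty ((Sheaf.canonicalTopology (Sheaf J (Type u))).yoneda.obj X ≅ F) :=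
  Giraud.exists_representing (hb J) (hc J) (gen J) (gen_detecting J) F

end Groth.Agent.Lib.Helper5.SheafToposGiraud
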