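import Groth.Agent.Lib.Helper5.EtCechFlasque
import Groth.Agent.S0728

/-!
# Helper5: finite coproducts in the small étale site and gluing of sections over them
-/

set_option autoImplicit false
universe u

namespace Groth.Agent.Lib.Helper5.SigmaGlue

open CategoryTheory Limits AlgebraicGeometry Opposite

set_option backward.isDefEq.respectTransparency.types false

variable {X : Scheme.{u}} {n : ℕ} (W : Fin n → X.Etale)

instance etale_hom (k : Fin n) : Etale (W k).hom := (W k).prop

instance etale_sigmaDesc : Etale (Sigma.desc (fun k => (W k).hom)) := by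
  haveI : IsZariskiLocalAtSource @Etale.{u} := HasRingHomProperty.instIsZariskiLocalAtSource
  exact IsZariskiLocalAtSource.sigmaDesc (fun k => inferInstance)

/-- the coproduct of finitely many étale `X`-schemes. -/
noncomputable def sig : X.Etale := Scheme.Etale.mk (Sigma.desc (fun k => (W k).hom))

/-- the inclusions. -/
noncomputable def inc (k : Fin n) : W k ⟶ sig W :=
  MorphismProperty.Over.homMk (Sigma.ι (fun k => (W k).left) k) (Sigma.ι_desc _ _) trivial

/-- morphisms out of the coproduct. -/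
noncomputable def dsc {V₀ : X.Etale} (f : ∀ k, W k ⟶ V₀) : sig W ⟶ V₀ :=
  MorphismProperty.Over.homMk (Sigma.desc (fun k => (f k).left)) (by
    refine Sigma.hom_ext (f := fun k => (W k).left) _ _ (fun k => ?_)
    change Sigma.ι (fun k => (W k).left) k ≫ Sigma.desc (fun k => (f k).left) ≫ V₀.hom =
      Sigma.ι (fun k => (W k).left) k ≫ Sigma.desc (fun k => (W k).hom)
    rw [Sigma.ι_desc_assoc, Sigma.ι_desc]
    exact MorphismProperty.Over.w (f k)) trivial

lemma inc_dsc {V₀ : X.Etale} (f : ∀ k, W k ⟶ V₀) (k : Fin n) : inc W k ≫ dsc W f = f k := by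
  apply MorphismProperty.Over.Hom.ext
  exact Sigma.ι_desc _ _

instance isAffine_sig [∀ k, IsAffine (W k).left] : IsAffine (sig W).left :=
  inferInstanceAs (IsAffine (∐ fun k => (W k).left))

lemma jointly_surj (x : (sig W).left) : ∃ (k : Fin n) (y : (W k).left), (inc W k).left.base y = x := by
  obtain ⟨y, hy⟩ := (sigmaOpenCover (fun k => (W k).left)).covers x
  exact ⟨_, y, hy⟩

lemma cover_mem : Sieve.ofArrows (fun k => W k) (inc W) ∈ X.smallEtaleTopology (sig W) := by
  rw [Scheme.ofArrows_mem_smallEtaleTopology_iff]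
  ext x
  simp only [Set.mem_iUnion, Set.mem_range, Set.mem_univ, iff_true]
  obtain ⟨k, y, hy⟩ := jointly_surj W x
  exact ⟨k, y, hy⟩

lemma mono_inc (k : Fin n) {Z : X.Etale} (a a' : Z ⟶ W k) (h : a ≫ inc W k = a' ≫ inc W k) :
    a = a' := by
  apply MorphismProperty.Over.Hom.ext
  have h' : a.left ≫ Sigma.ι (fun k => (W k).left) k = a'.left ≫ Sigma.ι (fun k => (W k).left) k :=
    congrArg (fun m => m.left) h
  exact (cancel_mono _).1 h'

lemma isEmpty_of_ne {i j : Fin n} (hij : i ≠ j) {Z : X.Etale} (a : Z ⟶ W i) (b : Z ⟶ W j)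
    (h : a ≫ inc W i = b ≫ inc W j) : IsEmpty Z.left := by
  have h' : a.left ≫ Sigma.ι (fun k => (W k).left) i = b.left ≫ Sigma.ι (fun k => (W k).left) j :=
    congrArg (fun m => m.left) h
  exact isEmpty_of_commSq_sigmaι_of_ne ⟨h'⟩ hij

/-- sections of a sheaf over the empty scheme are unique. -/
lemma eq_of_isEmpty (Q : EtCoh.Ab X) {Z : X.Etale} [IsEmpty Z.left] (a b : Q.obj.obj (op Z)) :
    a = b := by
  have hP := EtCechFlasque.isSheaf_type Q
  have hc : Sieve.ofArrows (fun i : PEmpty.{1} => i.elim) (fun i => i.elim) ∈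
      X.smallEtaleTopology Z := by
    rw [Scheme.ofArrows_mem_smallEtaleTopology_iff]
    ext x
    exact (IsEmpty.false x).elim
  have h1 := (hP _ hc).isSeparatedFor
  apply h1 (fun Y f _ => (Q.obj ⋙ forget AddCommGrpCat.{u + 1}).map f.op a) a b
  · rintro Y f ⟨Z', g, f', ⟨i⟩, _⟩
    exact i.elim
  · rintro Y f ⟨Z', g, f', ⟨i⟩, _⟩
    exact i.elim

/-- gluing of sections over the coproduct. -/
lemma exists_glue (Q : EtCoh.Ab X) (t : ∀ k, Q.obj.obj (op (W k))) :
    ∃ c : Q.obj.obj (op (sig W)), ∀ k, Q.obj.map (inc W k).op c = t k := by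
  have hP := EtCechFlasque.isSheaf_type Q
  have h1 := hP _ (cover_mem W)
  have h2 : Presieve.IsSheafFor (Q.obj ⋙ forget AddCommGrpCat.{u + 1})
      (Presieve.ofArrows (fun k => W k) (inc W)) :=
    (Presieve.isSheafFor_iff_generate _).2 h1
  rw [Presieve.isSheafFor_arrows_iff] at h2
  have hx : Presieve.Arrows.Compatible (Q.obj ⋙ forget AddCommGrpCat.{u + 1}) (inc W) t := by
    intro i j Z gi gj hij
    by_cases h : i = j
    · subst h
      have := mono_inc W i gi gj hij
      subst this
      rfl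
    · have := isEmpty_of_ne W h gi gj hij
      exact eq_of_isEmpty Q _ _
  obtain ⟨c, hc, -⟩ := h2 t hx
  exact ⟨c, hc⟩

/-- sections over the coproduct are determined by their restrictions. -/
lemma ext_sections (Q : EtCoh.Ab X) (a b : Q.obj.obj (op (sig W)))
    (h : ∀ k, Q.obj.map (inc W k).op a = Q.obj.map (inc W k).op b) : a = b := by
  have hP := EtCechFlasque.isSheaf_type Q
  have h1 := (hP _ (cover_mem W)).isSeparatedFor
  apply h1 (fun Y f _ => (Q.obj ⋙ forget AddCommGrpCat.{u + 1}).map f.op a) a b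
  · intro Y f hf
    rfl
  · rintro Y f ⟨Z, g, _, ⟨k⟩, rfl⟩
    change (Q.obj.map (g ≫ inc W k).op).hom b = (Q.obj.map (g ≫ inc W k).op).hom a
    rw [Groth.Agent.S0728.map_comp_apply, Groth.Agent.S0728.map_comp_apply, h k]

end Groth.Agent.Lib.Helper5.SigmaGlue
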