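import Groth.Agent.Lib.Helper5.SiteColimSections

/-!
# Sections of a filtered colimit of abelian sheaves come locally from the stages (helper5)
-/

set_option autoImplicit false
universe u

open CategoryTheory CategoryTheory.Limits Opposite

noncomputable section

namespace Groth.Agent.Lib.Helper5.SiteColimLocal

open Groth.Agent.Lib.Helper5.SiteColimSections

variable {C : Type u} [SmallCategory C] {J : GrothendieckTopology C}
  {I : Type u} [SmallCategory I] [IsFiltered I] (F : I ⥤ Sheaf J AddCommGrpCat.{u})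

/-- every section of the colimit comes locally from some stage -/
theorem local_surj (d : Cocone F) (hd : IsColimit d) (U : C) (s : d.pt.obj.obj (op U)) :
    ∃ T ∈ J U, ∀ ⦃V : C⦄ (v : V ⟶ U), T v → ∃ (i : I) (t : (F.obj i).obj.obj (op V)),
      ((d.ι.app i).hom.app (op V)).hom t = (d.pt.obj.map v.op).hom s := by
  let e := (stdIsColimit F).coconePointUniqueUpToIso hd
  have he : ∀ i, (stdCocone F).ι.app i ≫ e.hom = d.ι.app i :=
    fun i => IsColimit.comp_coconePointUniqueUpToIso_hom _ _ _
  let s' : (sheafify J (P F)).obj (op U) := (e.inv.hom.app (op U)).hom s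
  refine ⟨_, Presheaf.imageSieve_mem J (toSheafify J (P F)) (U := op U) s', ?_⟩
  rintro V v ⟨x, hx⟩
  have hx' : ((toSheafify J (P F)).app (op V)).hom x = ((sheafify J (P F)).map v.op).hom s' := hx
  obtain ⟨i, t, rfl⟩ := inP_surj F V x
  refine ⟨i, t, ?_⟩
  rw [← he i]
  change (e.hom.hom.app (op V)).hom ((((stdCocone F).ι.app i).hom.app (op V)).hom t) = _
  rw [std_ι_apply, hx']
  have h1 : (e.hom.hom.app (op V)).hom (((sheafify J (P F)).map v.op).hom s') =
      (d.pt.obj.map v.op).hom ((e.hom.hom.app (op U)).hom s') :=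
    ConcreteCategory.congr_hom (e.hom.hom.naturality v.op) s'
  rw [h1]
  congr 1
  exact congrArg (fun φ : d.pt ⟶ d.pt => (φ.hom.app (op U)).hom s) e.inv_hom_id

/-- a section at some stage dying in the colimit dies locally at later stages -/
theorem local_inj (d : Cocone F) (hd : IsColimit d) (U : C) (i : I)
    (t : (F.obj i).obj.obj (op U)) (h : ((d.ι.app i).hom.app (op U)).hom t = 0) :
    ∃ T ∈ J U, ∀ ⦃V : C⦄ (v : V ⟶ U), T v → ∃ (j : I) (f : i ⟶ j),
      ((F.map f).hom.app (op V)).hom (((F.obj i).obj.map v.op).hom t) = 0 := by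
  let e := (stdIsColimit F).coconePointUniqueUpToIso hd
  have he : (stdCocone F).ι.app i ≫ e.hom = d.ι.app i :=
    IsColimit.comp_coconePointUniqueUpToIso_hom _ _ _
  have h' : (e.hom.hom.app (op U)).hom ((((stdCocone F).ι.app i).hom.app (op U)).hom t) = 0 := by
    rw [← he] at h; exact h
  have h'' := congrArg (e.inv.hom.app (op U)).hom h'
  rw [map_zero] at h''
  have h3 : (((stdCocone F).ι.app i).hom.app (op U)).hom t = 0 :=
    (congrArg (fun φ : (stdCocone F).pt ⟶ (stdCocone F).pt =>
      (φ.hom.app (op U)).hom ((((stdCocone F).ι.app i).hom.app (op U)).hom t))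
        e.hom_inv_id).symm.trans h''
  rw [std_ι_apply] at h3
  have hmem := Presheaf.equalizerSieve_mem J (toSheafify J (P F)) (X := op U) (inP F i U t) 0
    (h3.trans (map_zero ((toSheafify J (P F)).app (op U)).hom).symm)
  refine ⟨_, hmem, ?_⟩
  intro V v hv
  have hv' : ((P F).map v.op).hom (inP F i U t) = ((P F).map v.op).hom 0 := hv
  rw [map_zero, inP_res] at hv'
  exact inP_eq_zero F i V _ hv'

end Groth.Agent.Lib.Helper5.SiteColimLocal
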