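import Mathlib
import Groth.Agent.Lib.Helper5.ExtMilnor
import Groth.Agent.Lib.Helper5.SchemeTowerLim

/-!
# Helper5: the Milnor sequence for the cohomology of the limit of a tower of modules on a site

For a tower `E` of modules on a site which is acyclic and Mittag-Leffler on a basis `B`:
`0 → lim¹ H^p(E_n) → H^{p+1}(lim E) → lim H^{p+1}(E_n) → 0`.
-/

set_option autoImplicit false
universe w v v' u u'

namespace Groth.Agent.Lib.Helper5.SiteMilnor

open CategoryTheory CategoryTheory.Limits Opposite Abelian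
open Groth.Agent.Lib.Helper5.TowerLimML Groth.Agent.Lib.Helper5.MLLimOne
open Groth.Agent.Lib.Helper5.ExtProd Groth.Agent.Lib.Helper5.ExtMilnor
open Groth.Agent.Lib.Helper5.TowerInj
open Groth.Agent.Lib.Helper2.ExtUnitH Groth.Agent.Lib.Helper5.ModKFRing

noncomputable section

section Abstract

variable {𝒜 : Type u} [Category.{v} 𝒜] [Abelian 𝒜] [EnoughInjectives 𝒜] [HasProductsOfShape ℕ 𝒜]
  {ℬ : Type u'} [Category.{v'} ℬ] [Abelian ℬ] [HasExt.{w} ℬ]
  (T : 𝒜 ⥤ ℬ) [T.Additive] [PreservesFiniteLimits T] [PreservesFiniteColimits T] (Z : ℬ)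
  [PreservesLimitsOfShape (Discrete ℕ) T]

lemma θ_zero_bijective (M : ℕ → 𝒜) : Function.Bijective (θ T Z M 0) := by
  have hl : IsLimit (T.mapCone (Fan.mk (∏ᶜ M) (Pi.π M))) :=
    isLimitOfPreserves T (productIsProduct M)
  constructor
  · intro x y hxy
    obtain ⟨f, rfl⟩ := (Ext.mk₀_bijective Z _).2 x
    obtain ⟨g, rfl⟩ := (Ext.mk₀_bijective Z _).2 y
    congr 1
    refine hl.hom_ext ?_
    rintro ⟨n⟩
    have h := congrFun hxy n
    rw [θ_apply, θ_apply, Ext.mk₀_comp_mk₀, Ext.mk₀_comp_mk₀] at h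
    exact (Ext.mk₀_bijective Z _).1 h
  · intro y
    choose f hf using fun n => (Ext.mk₀_bijective Z _).2 (y n)
    let c : Cone (Discrete.functor M ⋙ T) :=
      ⟨Z, Discrete.natTrans (F := (Functor.const _).obj Z) (G := Discrete.functor M ⋙ T)
        (fun j => f j.as)⟩
    refine ⟨Ext.mk₀ (hl.lift c), ?_⟩
    funext n
    rw [θ_apply, Ext.mk₀_comp_mk₀, ← hf n]
    congr 1
    exact hl.fac c ⟨n⟩

end Abstract

section Groups

lemma exists_of_family (D : Discrete ℕ ⥤ AddCommGrpCat.{u}) (c : Cone D) (hc : IsLimit c)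
    (x : ∀ n, D.obj ⟨n⟩) : ∃ y : c.pt, ∀ n, (c.π.app ⟨n⟩).hom y = x n := by
  let hc' := isLimitOfPreserves (forget AddCommGrpCat.{u}) hc
  let sx : (D ⋙ forget AddCommGrpCat.{u}).sections :=
    ⟨fun j => x j.as, by
      rintro ⟨j⟩ ⟨j'⟩ φ
      have e : j = j' := Discrete.eq_of_hom φ
      subst e
      have e' : φ = 𝟙 _ := Subsingleton.elim _ _
      rw [e', CategoryTheory.Functor.map_id]
      rfl⟩
  refine ⟨(Types.isLimitEquivSections hc').symm sx, fun n => ?_⟩
  exact Types.isLimitEquivSections_symm_apply hc' sx ⟨n⟩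

lemma ext_of_product (D : Discrete ℕ ⥤ AddCommGrpCat.{u}) (c : Cone D) (hc : IsLimit c)
    (y y' : c.pt) (h : ∀ n, (c.π.app ⟨n⟩).hom y = (c.π.app ⟨n⟩).hom y') : y = y' := by
  refine Concrete.isLimit_ext D hc y y' ?_
  rintro ⟨n⟩
  exact h n

end Groups

section Site

variable {C : Type u} [SmallCategory C] {J : GrothendieckTopology C} (R : Sheaf J RingCat.{u})

instance preservesProducts_toAbF :
    PreservesLimitsOfShape (Discrete ℕ) (SheafOfModules.toSheaf.{u} R) := by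
  have : PreservesLimitsOfSize.{0, 0} (SheafOfModules.toSheaf.{u} R) :=
    preservesSmallestLimits_of_preservesLimits _
  infer_instance

instance preservesProducts_Γ (U : C) : PreservesLimitsOfShape (Discrete ℕ) (Γ R U) := by
  have : PreservesLimitsOfShape (Discrete ℕ) ((sheafSections J AddCommGrpCat.{u}).obj (op U)) :=
    preservesLimitsOfShape_of_natIso
      (sheafSectionsNatIsoEvaluation (J := J) (A := AddCommGrpCat.{u}) (X := U)).symm
  infer_instance

variable {R}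

/-- a morphism of modules which is surjective on sections over a basis is an epimorphism -/
lemma epi_of_surjective_on_basis (B : Set C)
    (hB : ∀ U : C, ∃ (ι : Type u) (Y : ι → C) (g : ∀ i, Y i ⟶ U),
      Sieve.ofArrows Y g ∈ J U ∧ ∀ i, Y i ∈ B)
    {F G : SheafOfModules.{u} R} (φ : F ⟶ G)
    (h : ∀ U ∈ B, Function.Surjective ((Γ R U).map φ).hom) : Epi φ := by
  haveI : (SheafOfModules.toSheaf.{u} R).ReflectsEpimorphisms :=
    Functor.reflectsEpimorphisms_of_faithful _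
  apply (SheafOfModules.toSheaf.{u} R).epi_of_epi_map
  refine (Sheaf.isLocallySurjective_iff_epi' AddCommGrpCat.{u} _).1 ⟨fun {V} s => ?_⟩
  obtain ⟨ι, Yc, g, hcov, hYB⟩ := hB V
  refine J.superset_covering ?_ hcov
  intro W k hk
  obtain ⟨W', k', m, ⟨i⟩, rfl⟩ := hk
  apply Sieve.downward_closed
  obtain ⟨t, ht⟩ := h (Yc i) (hYB i)
    ((((SheafOfModules.toSheaf R).obj G).obj.map (g i).op).hom s)
  exact ⟨t, ht⟩

/-- sections of a product with prescribed components -/
lemma exists_section_pi (U : C) (M : ℕ → SheafOfModules.{u} R)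
    (x : ∀ n, (Γ R U).obj (M n)) :
    ∃ y : (Γ R U).obj (∏ᶜ M), ∀ n, ((Γ R U).map (Pi.π M n)).hom y = x n :=
  exists_of_family _ ((Γ R U).mapCone (Fan.mk (∏ᶜ M) (Pi.π M)))
    (isLimitOfPreserves (Γ R U) (productIsProduct M)) x

lemma ext_section_pi (U : C) (M : ℕ → SheafOfModules.{u} R)
    (y y' : (Γ R U).obj (∏ᶜ M))
    (h : ∀ n, ((Γ R U).map (Pi.π M n)).hom y = ((Γ R U).map (Pi.π M n)).hom y') : y = y' :=
  ext_of_product _ ((Γ R U).mapCone (Fan.mk (∏ᶜ M) (Pi.π M)))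
    (isLimitOfPreserves (Γ R U) (productIsProduct M)) y y' h

variable (R) in
/-- families which are acyclic on `B` -/
def PA (B : Set C) (M : ℕ → SheafOfModules.{u} R) : Prop :=
  ∀ U ∈ B, ∀ n, AcycOn U ((SheafOfModules.toSheaf R).obj (M n))

lemma PA_Qf (B : Set C) (M : ℕ → SheafOfModules.{u} R) (hM : PA R B M) : PA R B (Qf M) :=
  fun U hU n => acycOn_X₃ U (Sn M n) (Sn_shortExact M n) (hM U hU n)
    (acycOn_of_injective U (If M n))

lemma epi_pi_gf (B : Set C)
    (hB : ∀ U : C, ∃ (ι : Type u) (Y : ι → C) (g : ∀ i, Y i ⟶ U),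
      Sieve.ofArrows Y g ∈ J U ∧ ∀ i, Y i ∈ B)
    (M : ℕ → SheafOfModules.{u} R) (hM : PA R B M) : Epi (Limits.Pi.map (gf M)) := by
  refine epi_of_surjective_on_basis B hB _ (fun U hU s => ?_)
  choose t ht using fun n => surjective_Γ_g U (Sn M n) (Sn_shortExact M n) (hM U hU n)
    (((Γ R U).map (Pi.π (Qf M) n)).hom s)
  obtain ⟨y, hy⟩ := exists_section_pi U (If M) t
  refine ⟨y, ext_section_pi U (Qf M) _ _ (fun n => ?_)⟩
  rw [← ht n, ← hy n]
  have h0 : Limits.Pi.map (gf M) ≫ Pi.π (Qf M) n = Pi.π (If M) n ≫ gf M n := Limits.Pi.map_π _ _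
  have h1 := congrArg (fun k => ((Γ R U).map k).hom y) h0
  simp only [Functor.map_comp] at h1
  exact h1

lemma epi_dP (B : Set C)
    (hB : ∀ U : C, ∃ (ι : Type u) (Y : ι → C) (g : ∀ i, Y i ⟶ U),
      Sieve.ofArrows Y g ∈ J U ∧ ∀ i, Y i ∈ B)
    (E : ℕᵒᵖ ⥤ SheafOfModules.{u} R)
    (hML : ∀ U ∈ B, ((E ⋙ Γ R U) ⋙ forget AddCommGrpCat.{u}).IsMittagLeffler) :
    Epi (dP E) := by
  refine epi_of_surjective_on_basis B hB _ (fun U hU s => ?_)
  obtain ⟨e, he⟩ := towerDiff_surjective (E ⋙ Γ R U) (hML U hU)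
    (fun n => ((Γ R U).map (Pi.π (Eo E) n)).hom s)
  have he2 : ∀ n, e n - r (E ⋙ Γ R U) (Nat.le_succ n) (e (n + 1)) =
      ((Γ R U).map (Pi.π (Eo E) n)).hom s := fun n => congrFun he n
  obtain ⟨y, hy⟩ := exists_section_pi U (Eo E) e
  refine ⟨y, ext_section_pi U (Eo E) _ _ (fun n => ?_)⟩
  rw [← he2 n, ← hy n, ← hy (n + 1)]
  have h0 : dP E ≫ Pi.π (Eo E) n = Pi.π (Eo E) n - Pi.π (Eo E) (n + 1) ≫ trE E n := dP_π E n
  have h1 := congrArg (fun k => ((Γ R U).map k).hom y) h0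
  simp only [Functor.map_comp, Functor.map_sub] at h1
  exact h1

variable (R) in
lemma hinj_site (I : SheafOfModules.{u} R) [Injective I] (q : ℕ)
    (x : Ext (constZ J) ((SheafOfModules.toSheaf.{u} R).obj I) (q + 1)) : x = 0 := by
  haveI : Subsingleton (Sheaf.H ((SheafOfModules.toSheaf.{u} R).obj I) (q + 1)) :=
    subsingleton_H_of_isTotallyAcyclic J _ (isTotallyAcyclic_of_injective R I) q
  exact Subsingleton.elim (α := Sheaf.H ((SheafOfModules.toSheaf.{u} R).obj I) (q + 1)) _ _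

/-- cohomology commutes with countable products of families acyclic on a basis -/
theorem θ_bijective_site (B : Set C)
    (hB : ∀ U : C, ∃ (ι : Type u) (Y : ι → C) (g : ∀ i, Y i ⟶ U),
      Sieve.ofArrows Y g ∈ J U ∧ ∀ i, Y i ∈ B)
    (M : ℕ → SheafOfModules.{u} R) (hM : PA R B M) (q : ℕ) :
    Function.Bijective (θ (SheafOfModules.toSheaf.{u} R) (constZ J) M q) :=
  θ_bijective (SheafOfModules.toSheaf.{u} R) (constZ J) (hinj_site R)
    (θ_zero_bijective (SheafOfModules.toSheaf.{u} R) (constZ J)) (PA R B)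
    (fun M hM => PA_Qf B M hM) (fun M hM => epi_pi_gf B hB M hM) q M hM

/-- the Milnor sequence for a tower which is acyclic and Mittag-Leffler on a basis -/
theorem milnor_site (B : Set C)
    (hB : ∀ U : C, ∃ (ι : Type u) (Y : ι → C) (g : ∀ i, Y i ⟶ U),
      Sieve.ofArrows Y g ∈ J U ∧ ∀ i, Y i ∈ B)
    (E : ℕᵒᵖ ⥤ SheafOfModules.{u} R) (hE : PB R B E) (p : ℕ) :
    ∃ (α : Formal2.limOne (A E (SheafOfModules.toSheaf.{u} R) (constZ J) p)
          (τ E (SheafOfModules.toSheaf.{u} R) (constZ J) p) →+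
        Ext (constZ J) ((SheafOfModules.toSheaf.{u} R).obj (limit E)) (p + 1))
      (β : Ext (constZ J) ((SheafOfModules.toSheaf.{u} R).obj (limit E)) (p + 1) →+
        Formal2.limZero (A E (SheafOfModules.toSheaf.{u} R) (constZ J) (p + 1))
          (τ E (SheafOfModules.toSheaf.{u} R) (constZ J) (p + 1))),
      Function.Injective α ∧ Function.Surjective β ∧ α.range = β.ker ∧
      ∀ (x : Ext (constZ J) ((SheafOfModules.toSheaf.{u} R).obj (limit E)) (p + 1)) (n : ℕ),
        (β x : ∀ n, A E (SheafOfModules.toSheaf.{u} R) (constZ J) (p + 1) n) n =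
          x.comp (Ext.mk₀ ((SheafOfModules.toSheaf.{u} R).map (limit.π E (op n))))
            (add_zero (p + 1)) :=
  milnor E (SheafOfModules.toSheaf.{u} R) (constZ J) (epi_dP B hB E hE.2) p
    (θ_bijective_site B hB (Eo E) (fun U hU n => hE.1 U hU n) p)
    (θ_bijective_site B hB (Eo E) (fun U hU n => hE.1 U hU n) (p + 1))

end Site

end

end Groth.Agent.Lib.Helper5.SiteMilnor
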