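import Mathlib
import Groth.Prelude.Def_CohTop
import Groth.Agent.Lib.Helper5.FibreStalk
import Groth.Agent.Lib.Helper5.SpecGen

/-!
# Stalks of higher direct images as cohomology of a subspace: abstract form and the spectral case
(helper5)
-/

set_option autoImplicit false
universe u
open CategoryTheory CategoryTheory.Limits Opposite TopologicalSpace Topology Abelian

noncomputable section
namespace Groth.Agent.Lib.Helper5.StalkGen

open Groth.Agent.Lib.Helper5 Groth.Agent.Lib.Helper5.SoftK Groth.Agent.Lib.Helper5.TopLocal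
  Groth.Agent.Lib.Helper5.CompactColim Groth.Agent.Lib.Helper5.CompactColimGen
  Groth.Agent.Lib.Helper5.FibreStalk Groth.Agent.Lib.Helper5.SpecInter
  Groth.Agent.Lib.Helper5.ProQcSheaf

variable {X Y : TopCat.{u}} (f : X ⟶ Y) (y : Y) (K : Set X)
  (hKV : ∀ V : Opens Y, y ∈ V → K ⊆ ((Opens.map f).obj V : Set X))
  (hcof : ∀ U : Opens X, K ⊆ (U : Set X) → ∃ V : Opens Y, y ∈ V ∧ (Opens.map f).obj V ≤ U)
  (F : CohTop.Ab X) (p : ℕ)

include hKV in
/-- the comparison cocone on the stalk. -/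
def stalkCocone : Cocone ((OpenNhds.inclusion y).op ⋙ Pp f F p) where
  pt := AddCommGrpCat.of (CohTop.H ((pl K).obj F) p)
  ι :=
    { app := fun V => AddCommGrpCat.ofHom (θ F (hKV V.unop.1 V.unop.2) p)
      naturality := by
        intro V V' g
        apply AddCommGrpCat.hom_ext
        ext x
        exact θ_rs F (hKV V.unop.1 V.unop.2)
          (hKV V'.unop.1 V'.unop.2) ((Opens.map f).map g.unop).le p x }

/-- the comparison map from the stalk. -/
def stalkMap : TopCat.Presheaf.stalk (Pp f F p) y ⟶ AddCommGrpCat.of (CohTop.H ((pl K).obj F) p) :=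
  colimit.desc _ (stalkCocone f y K hKV F p)

lemma stalkMap_germ (V : Opens Y) (hV : y ∈ V) (s : Ext (free ((Opens.map f).obj V)) F p) :
    stalkMap f y K hKV F p (TopCat.Presheaf.germ (Pp f F p) V y hV s) = θ F (hKV V hV) p s :=
  ConcreteCategory.congr_hom (colimit.ι_desc (stalkCocone f y K hKV F p) (op ⟨V, hV⟩)) s

include hcof in
theorem bijective_stalkMap (h : Hyp K) : Function.Bijective (stalkMap f y K hKV F p) := by
  obtain ⟨hsurj, hinj⟩ := CompactColimGen.surj_inj h p F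
  constructor
  · rw [injective_iff_map_eq_zero]
    intro x hx
    obtain ⟨V, hV, s, rfl⟩ := TopCat.Presheaf.exists_germ_eq (Pp f F p) x
    obtain ⟨s', rfl⟩ : ∃ s' : Ext (free ((Opens.map f).obj V)) F p, s' = s := ⟨s, rfl⟩
    have hx' : θ F (hKV V hV) p s' = 0 := (stalkMap_germ f y K hKV F p V hV s').symm.trans hx
    obtain ⟨U', hU', h', e⟩ := hinj _ (hKV V hV) s' hx'
    obtain ⟨V₁, hyV₁, hV₁⟩ := hcof U' hU'
    have hle : V ⊓ V₁ ≤ V := inf_le_left
    have h1 : (Opens.map f).obj (V ⊓ V₁) ≤ U' := fun x hx => hV₁ hx.2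
    have h2 : (Pp f F p).map (homOfLE hle).op s' = 0 := by
      rw [Pp_map, ← rs_rs F h' h1, e, map_zero]
      rfl
    have h3 := TopCat.Presheaf.germ_res_apply (Pp f F p) (homOfLE hle) y ⟨hV, hyV₁⟩ s'
    rw [h2, map_zero] at h3
    exact h3.symm
  · intro z
    obtain ⟨U, hU, ξ, rfl⟩ := hsurj z
    obtain ⟨V₁, hyV₁, hV₁⟩ := hcof U hU
    refine ⟨TopCat.Presheaf.germ (Pp f F p) V₁ y hyV₁ (rs F hV₁ p ξ), ?_⟩
    rw [stalkMap_germ, θ_rs F hU]

include hKV hcof in
theorem main (h : Hyp K) :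
    Nonempty (CohTop.stalk ((CohTop.Rpush f p).obj F) y ≃+ CohTop.H ((pl K).obj F) p) :=
  ⟨(stalkRpushIso f y F p).addCommGroupIsoToAddEquiv.trans
    (AddEquiv.ofBijective (stalkMap f y K hKV F p).hom (bijective_stalkMap f y K hKV hcof F p h))⟩

/-! ### the spectral case -/

section Spectral

variable [SpectralSpace X] [SpectralSpace Y] (hf : IsSpectralMap f)

/-- the preimage of the set of generalizations of `y`. -/
abbrev Ky : Set X := {x : X | y ∈ closure {f x}}

/-- the preimages of the quasi-compact open neighbourhoods of `y`. -/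
def Uy : Set (Opens X) :=
  {U | ∃ V : Opens Y, IsCompact (V : Set Y) ∧ y ∈ V ∧ U = (Opens.map f).obj V}

include hf in
lemma proQc_Uy : ProQc (Uy f y) where
  nonempty := ⟨(Opens.map f).obj ⊤, ⊤, isCompact_univ, trivial, rfl⟩
  isCompact := by
    rintro U ⟨V, hVc, -, rfl⟩
    exact hf.isCompact_preimage_of_isOpen V.isOpen hVc
  directed := by
    rintro U ⟨V, hVc, hyV, rfl⟩ U' ⟨V', hV'c, hyV', rfl⟩
    exact ⟨(Opens.map f).obj (V ⊓ V'), ⟨V ⊓ V', isCompact_inf hVc hV'c, ⟨hyV, hyV'⟩, rfl⟩, le_rfl⟩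

omit [SpectralSpace X] [SpectralSpace Y] in
lemma Ky_subset (V : Opens Y) (hV : y ∈ V) : Ky f y ⊆ ((Opens.map f).obj V : Set X) := by
  intro x hx
  obtain ⟨z, hzV, hz⟩ := mem_closure_iff.1 hx V V.isOpen hV
  rw [Set.mem_singleton_iff] at hz
  change f x ∈ V
  rw [← hz]
  exact hzV

omit [SpectralSpace X] in
lemma Ky_eq : Ky f y = inter (Uy f y) := by
  apply Set.Subset.antisymm
  · intro x hx
    rw [mem_inter]
    rintro U ⟨V, -, hyV, rfl⟩
    exact Ky_subset f y V hyV hx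
  · intro x hx
    change y ∈ closure {f x}
    rw [mem_closure_iff]
    intro o ho hyo
    obtain ⟨V, hVc, hyV, hVo⟩ := exists_qc_nhd y ⟨o, ho⟩ hyo
    have : x ∈ (Opens.map f).obj V := mem_inter.1 hx _ ⟨V, hVc, hyV, rfl⟩
    exact ⟨f x, hVo this, rfl⟩

include hf in
theorem main_spectral :
    Nonempty (CohTop.stalk ((CohTop.Rpush f p).obj F) y ≃+ CohTop.H ((pl (Ky f y)).obj F) p) := by
  refine main f y (Ky f y) (Ky_subset f y) ?_ F p
    (SpecGen.hyp_of_proQc (proQc_Uy f y hf) (Ky_eq f y))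
  intro U hU
  obtain ⟨U', ⟨V, -, hyV, rfl⟩, hle⟩ := exists_le_of_inter_subset (proQc_Uy f y hf) U (Ky_eq f y ▸ hU)
  exact ⟨V, hyV, hle⟩

end Spectral

end Groth.Agent.Lib.Helper5.StalkGen
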