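import Groth.Agent.S3536

/-!
# Dévissage of hypercohomology along the stupid filtration (helper5)

For a bounded complex `L` of abelian sheaves (terms zero outside `[0, m)`) whose terms have no
cohomology over `V` in degrees `≥ r`, the hypercohomology `H^q(V, L)` vanishes for `q ≥ m + r - 1`.
-/

set_option autoImplicit false
universe u
open CategoryTheory CategoryTheory.Limits Opposite TopologicalSpace

namespace Groth.Agent.Lib.Helper5.StupidDev

section Tri
open Pretriangulated

variable {D : Type*} [Category D] [Preadditive D] [HasZeroObject D] [HasShift D ℤ]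
  [∀ n : ℤ, (shiftFunctor D n).Additive] [Pretriangulated D]

lemma subsingleton_hom_of_distTriang (T : Triangle D) (hT : T ∈ distTriang D) (A : D) (q : ℤ)
    (h1 : Subsingleton (A ⟶ (T.obj₁)⟦q⟧)) (h3 : Subsingleton (A ⟶ (T.obj₃)⟦q⟧)) :
    Subsingleton (A ⟶ (T.obj₂)⟦q⟧) := by
  have hT' := Triangle.shift_distinguished T hT q
  have key : ∀ x : A ⟶ (T.obj₂)⟦q⟧, x = 0 := by
    intro x
    obtain ⟨y, hy⟩ := Triangle.coyoneda_exact₂ _ hT' x (@Subsingleton.elim _ h3 _ _)
    have hy0 : y = 0 := @Subsingleton.elim _ h1 _ _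
    rw [hy, hy0]
    exact zero_comp
  exact ⟨fun x y => by rw [key x, key y]⟩

end Tri

section Ext

lemma subsingleton_ext_of_iso {C : Type*} [Category C] [Abelian C] [HasExt C] {T F G : C}
    (e : F ≅ G) (n : ℕ) (h : Subsingleton (Abelian.Ext T G n)) :
    Subsingleton (Abelian.Ext T F n) :=
  ⟨fun x y => by
    have hx : ∀ z : Abelian.Ext T F n,
        z = (z.comp (Abelian.Ext.mk₀ e.hom) (add_zero n)).comp (Abelian.Ext.mk₀ e.inv)
          (add_zero n) := by
      intro z
      rw [Abelian.Ext.comp_assoc_of_third_deg_zero, Abelian.Ext.mk₀_comp_mk₀, e.hom_inv_id,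
        Abelian.Ext.comp_mk₀_id]
    rw [hx x, hx y, Subsingleton.elim (x.comp (Abelian.Ext.mk₀ e.hom) (add_zero n))
      (y.comp (Abelian.Ext.mk₀ e.hom) (add_zero n))]⟩

lemma subsingleton_ext_of_isZero {C : Type*} [Category C] [Abelian C] [HasExt C] {T F : C}
    (hF : IsZero F) (n : ℕ) : Subsingleton (Abelian.Ext T F n) :=
  ⟨fun x y => by
    have hx : ∀ z : Abelian.Ext T F n, z = 0 := by
      intro z
      rw [← Abelian.Ext.comp_mk₀_id z, hF.eq_of_src (𝟙 F) 0, Abelian.Ext.mk₀_zero,
        Abelian.Ext.comp_zero]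
    rw [hx x, hx y]⟩

end Ext

variable {X : TopCat.{u}} [HasDerivedCategory.{u} (CohTop.Ab X)]

lemma subsingleton_HDU_single (F : CohTop.Ab X) (m : ℤ) (V : Opens X) (j : ℕ) (q : ℤ)
    (hq : q = m + j) (h : Subsingleton (CohTop.HU F j V)) :
    Subsingleton (CohCx.HDU (DerivedCategory.Q.obj
      ((HomologicalComplex.single (CohTop.Ab X) (ComplexShape.up ℤ) m).obj F)) q V) := by
  let SF := DerivedCategory.singleFunctors (CohTop.Ab X)
  let e : ((SF.functor m).obj F)⟦q⟧ ≅ ((SF.functor 0).obj F)⟦(j : ℤ)⟧ :=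
    (SF.shiftIso q (-(j : ℤ)) m (by omega)).app F ≪≫
      ((SF.shiftIso (j : ℤ) (-(j : ℤ)) 0 (by omega)).app F).symm
  haveI : Subsingleton (Abelian.Ext (CohCx.freeSheaf (Opens.grothendieckTopology X) V) F j) := h
  exact ((Groth.Agent.S3536.postEquiv e).trans
    (Abelian.Ext.homAddEquiv (X := CohCx.freeSheaf (Opens.grothendieckTopology X) V) (Y := F)
      (n := j)).symm).toEquiv.subsingleton

lemma subsingleton_HDU_of_isZero (L : CochainComplex (CohTop.Ab X) ℤ) (h : ∀ j, IsZero (L.X j))
    (q : ℤ) (V : Opens X) : Subsingleton (CohCx.HDU (DerivedCategory.Q.obj L) q V) := by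
  have hL : IsZero L := by
    rw [IsZero.iff_id_eq_zero]
    apply HomologicalComplex.hom_ext
    intro j
    exact (h j).eq_of_src _ _
  have h2 : IsZero ((DerivedCategory.Q.obj L)⟦q⟧) :=
    (shiftFunctor _ q).map_isZero (DerivedCategory.Q.map_isZero hL)
  exact ⟨fun x y => h2.eq_of_tgt x y⟩

theorem subsingleton_HDU_of_bounded (V : Opens X) (r : ℕ) (m : ℕ) :
    ∀ (L : CochainComplex (CohTop.Ab X) ℤ),
    (∀ j : ℤ, (m : ℤ) ≤ j → IsZero (L.X j)) → (∀ j : ℤ, j < 0 → IsZero (L.X j)) →
    (∀ (j : ℤ) (q : ℕ), r ≤ q → Subsingleton (CohTop.HU (L.X j) q V)) →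
    ∀ q : ℤ, (m : ℤ) + r ≤ q + 1 →
      Subsingleton (CohCx.HDU (DerivedCategory.Q.obj L) q V) := by
  induction m with
  | zero =>
    intro L hz hneg _ q _
    apply subsingleton_HDU_of_isZero
    intro j
    by_cases hj : j < 0
    · exact hneg j hj
    · exact hz j (by push_cast; omega)
  | succ m ih =>
    intro L hz hneg hac q hq
    have hd : ∀ k, (ComplexShape.up ℤ).Rel (m : ℤ) k → 𝟙 (L.X m) ≫ L.d m k = 0 := fun k hk =>
      (hz k (by
        have : (m : ℤ) + 1 = k := hk
        push_cast
        omega)).eq_of_tgt _ _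
    let i : (HomologicalComplex.single (CohTop.Ab X) (ComplexShape.up ℤ) (m : ℤ)).obj (L.X m) ⟶ L :=
      HomologicalComplex.mkHomFromSingle (𝟙 _) hd
    have hmono : Mono i := by
      apply HomologicalComplex.mono_of_mono_f
      intro j
      by_cases hj : j = (m : ℤ)
      · subst hj
        rw [HomologicalComplex.mkHomFromSingle_f]
        infer_instance
      · exact (HomologicalComplex.isZero_single_obj_X (ComplexShape.up ℤ) (m : ℤ) (L.X m) j hj).mono _
    let S : ShortComplex (CochainComplex (CohTop.Ab X) ℤ) :=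
      ShortComplex.mk i (cokernel.π i) (cokernel.condition i)
    have hS : S.ShortExact :=
      { exact := ShortComplex.exact_cokernel i
        mono_f := hmono
        epi_g := inferInstanceAs (Epi (cokernel.π i)) }
    have hSj : ∀ j : ℤ, (S.map (HomologicalComplex.eval _ _ j)).ShortExact :=
      fun j => hS.map_of_exact _
    have hL'' : ∀ j : ℤ, j ≠ (m : ℤ) → IsIso ((cokernel.π i).f j) := by
      intro j hj
      exact (hSj j).isIso_g_iff.2 (HomologicalComplex.isZero_single_obj_X (ComplexShape.up ℤ) (m : ℤ) (L.X m) j hj)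
    have hL''m : IsZero ((cokernel i).X m) := by
      refine (hSj m).isIso_f_iff.1 ?_
      change IsIso (i.f m)
      rw [HomologicalComplex.mkHomFromSingle_f]
      infer_instance
    have hterm : ∀ j : ℤ, j ≠ (m : ℤ) → Nonempty ((cokernel i).X j ≅ L.X j) := fun j hj => by
      haveI := hL'' j hj
      exact ⟨(asIso ((cokernel.π i).f j)).symm⟩
    have h3 : Subsingleton (CohCx.HDU (DerivedCategory.Q.obj (cokernel i)) q V) := by
      refine ih (cokernel i) ?_ ?_ ?_ q (by push_cast at hq ⊢; omega)
      · intro j hj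
        by_cases hjm : j = (m : ℤ)
        · subst hjm
          exact hL''m
        · obtain ⟨e⟩ := hterm j hjm
          exact IsZero.of_iso (hz j (by push_cast; omega)) e
      · intro j hj
        obtain ⟨e⟩ := hterm j (by omega)
        exact IsZero.of_iso (hneg j hj) e
      · intro j q' hq'
        by_cases hjm : j = (m : ℤ)
        · subst hjm
          exact subsingleton_ext_of_isZero hL''m q'
        · obtain ⟨e⟩ := hterm j hjm
          exact subsingleton_ext_of_iso e q' (hac j q' hq')
    have h1 : Subsingleton (CohCx.HDU (DerivedCategory.Q.obj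
        ((HomologicalComplex.single (CohTop.Ab X) (ComplexShape.up ℤ) (m : ℤ)).obj (L.X m))) q V) := by
      apply subsingleton_HDU_single (L.X m) m V (q - m).toNat q (by push_cast at hq; omega)
      exact hac m _ (by push_cast at hq; omega)
    exact subsingleton_hom_of_distTriang (DerivedCategory.triangleOfSES hS)
      (DerivedCategory.triangleOfSES_distinguished hS) _ q h1 h3

end Groth.Agent.Lib.Helper5.StupidDev
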