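import Groth.Agent.Lib.Helper5.RestrictCx
import Groth.Agent.Lib.Helper5.E1Abut
import Groth.Agent.Lib.Helper2.GSS.Identify

/-!
# The spectral object of the stupid filtration of a bounded below complex (helper5)
-/

set_option autoImplicit false
universe w v u

namespace Groth.Agent.Lib.Helper5.StupidSO

open CategoryTheory CategoryTheory.Limits ComposableArrows
open Groth.Agent.Lib.Helper5.RestrictCx

/-- the degrees `n` with `i < -n ≤ j` -/
def Pint (i j : EInt) (n : ℤ) : Prop := i < ((-n : ℤ) : EInt) ∧ ((-n : ℤ) : EInt) ≤ j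

noncomputable instance (i j : EInt) : DecidablePred (Pint i j) := fun _ => Classical.propDecidable _

lemma Pint_cond {i j i' j' : EInt} (hi : i ≤ i') (hj : j ≤ j') (n : ℤ)
    (h : Pint i j n) (h' : Pint i' j' (n + 1)) : Pint i j (n + 1) ↔ Pint i' j' n := by
  have hlt : ((-(n + 1) : ℤ) : EInt) < ((-n : ℤ) : EInt) := WithBotTop.coe_lt_coe.2 (by omega)
  constructor
  · intro _
    exact ⟨h'.1.trans hlt, h.2.trans hj⟩
  · intro _
    exact ⟨lt_of_le_of_lt hi h'.1, hlt.le.trans h.2⟩

lemma Pint_mid {i j i' j' i'' j'' : EInt} (hi : i' ≤ i'') (hj : j ≤ j') (n : ℤ)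
    (h : Pint i j n) (h'' : Pint i'' j'' n) : Pint i' j' n :=
  ⟨lt_of_le_of_lt hi h''.1, h.2.trans hj⟩

lemma Pint_or {i j k : EInt} (hij : i ≤ j) (hjk : j ≤ k) (n : ℤ) :
    Pint i k n ↔ (Pint i j n ∨ Pint j k n) := by
  constructor
  · intro h
    rcases le_or_gt ((-n : ℤ) : EInt) j with h' | h'
    · exact Or.inl ⟨h.1, h'⟩
    · exact Or.inr ⟨h', h.2⟩
  · rintro (h | h)
    · exact ⟨h.1, h.2.trans hjk⟩
    · exact ⟨lt_of_le_of_lt hij h.1, h.2⟩

lemma Pint_disj {i j k : EInt} (n : ℤ) : ¬ (Pint i j n ∧ Pint j k n) := fun h =>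
  absurd h.1.2 (not_le.2 h.2.1)

variable {C : Type u} [Category.{v} C] [Abelian C] (A : CochainComplex C ℤ)

/-- the tower of subquotients of the stupid filtration -/
noncomputable def tower : ComposableArrows EInt 1 ⥤ CochainComplex C ℤ where
  obj D := restr A (Pint (D.obj 0) (D.obj 1))
  map φ := rmap A _ _ (Pint_cond (leOfHom (φ.app 0)) (leOfHom (φ.app 1)))
  map_id _ := rmap_self _ _ _
  map_comp φ ψ := (rmap_comp A _ _ _ _ _ _ (fun n h1 h3 =>
    Pint_mid (leOfHom (ψ.app 0)) (leOfHom (φ.app 1)) n h1 h3)).symm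

lemma tower_map_comp_zero (D : ComposableArrows EInt 2) :
    (tower A).map ((mapFunctorArrows EInt 0 1 0 2 2).app D) ≫
      (tower A).map ((mapFunctorArrows EInt 0 2 1 2 2).app D) = 0 :=
  rmap_comp_zero A (Pint (D.obj' 0) (D.obj' 1)) (Pint (D.obj' 0) (D.obj' 2))
    (Pint (D.obj' 1) (D.obj' 2)) (Pint_cond le_rfl (leOfHom (D.map' 1 2)))
    (Pint_cond (leOfHom (D.map' 0 1)) le_rfl) (fun n => Pint_disj n)

/-- the short exact sequence of the tower -/
noncomputable def towerSc (D : ComposableArrows EInt 2) : ShortComplex (CochainComplex C ℤ) :=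
  ShortComplex.mk ((tower A).map ((mapFunctorArrows EInt 0 1 0 2 2).app D))
    ((tower A).map ((mapFunctorArrows EInt 0 2 1 2 2).app D)) (tower_map_comp_zero A D)

lemma towerSc_shortExact (D : ComposableArrows EInt 2) : (towerSc A D).ShortExact :=
  sc_shortExact A (Pint (D.obj' 0) (D.obj' 1)) (Pint (D.obj' 0) (D.obj' 2))
    (Pint (D.obj' 1) (D.obj' 2)) (Pint_cond le_rfl (leOfHom (D.map' 1 2)))
    (Pint_cond (leOfHom (D.map' 0 1)) le_rfl)
    (Pint_or (leOfHom (D.map' 0 1)) (leOfHom (D.map' 1 2))) (fun n => Pint_disj n)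

/-- functoriality of the short exact sequence -/
noncomputable def towerScMap {D D' : ComposableArrows EInt 2} (ψ : D ⟶ D') :
    towerSc A D ⟶ towerSc A D' where
  τ₁ := (tower A).map ((functorArrows EInt 0 1 2).map ψ)
  τ₂ := (tower A).map ((functorArrows EInt 0 2 2).map ψ)
  τ₃ := (tower A).map ((functorArrows EInt 1 2 2).map ψ)
  comm₁₂ := by
    dsimp [towerSc]
    rw [← Functor.map_comp, ← Functor.map_comp]
    congr 1
  comm₂₃ := by
    dsimp [towerSc]
    rw [← Functor.map_comp, ← Functor.map_comp]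
    congr 1

section Derived

open Pretriangulated

variable [HasDerivedCategory.{w} C] (a : ℤ) [A.IsStrictlyGE a]

/-- the tower in bounded below complexes -/
noncomputable def towerPlus : ComposableArrows EInt 1 ⥤ CochainComplex.Plus C :=
  (CochainComplex.plus C).lift (tower A) (fun _ => ⟨a, isStrictlyGE_restr A _ a⟩)

/-- the tower in the bounded below derived category -/
noncomputable def ω₁ : ComposableArrows EInt 1 ⥤ DerivedCategory.Plus C :=
  towerPlus A a ⋙ DerivedCategory.Plus.Q

lemma ι_ω₁_map {D D' : ComposableArrows EInt 1} (φ : D ⟶ D') :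
    DerivedCategory.Plus.ι.map ((ω₁ A a).map φ) = DerivedCategory.Q.map ((tower A).map φ) := rfl

/-- the connecting morphism -/
noncomputable def δ (D : ComposableArrows EInt 2) :
    (ω₁ A a).obj ((functorArrows EInt 1 2 2).obj D) ⟶
      ((ω₁ A a).obj ((functorArrows EInt 0 1 2).obj D))⟦(1 : ℤ)⟧ :=
  DerivedCategory.Plus.ι.preimage
    (DerivedCategory.triangleOfSESδ (towerSc_shortExact A D) ≫
      ((DerivedCategory.Plus.ι (C := C)).commShiftIso (1 : ℤ)).inv.app
        ((ω₁ A a).obj ((functorArrows EInt 0 1 2).obj D)))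

lemma ι_map_δ (D : ComposableArrows EInt 2) :
    DerivedCategory.Plus.ι.map (δ A a D) =
      DerivedCategory.triangleOfSESδ (towerSc_shortExact A D) ≫
        ((DerivedCategory.Plus.ι (C := C)).commShiftIso (1 : ℤ)).inv.app
          ((ω₁ A a).obj ((functorArrows EInt 0 1 2).obj D)) :=
  Functor.map_preimage _ _

lemma δ_naturality {D D' : ComposableArrows EInt 2} (ψ : D ⟶ D') :
    (ω₁ A a).map ((functorArrows EInt 1 2 2).map ψ) ≫ δ A a D' =
      δ A a D ≫ ((ω₁ A a).map ((functorArrows EInt 0 1 2).map ψ))⟦(1 : ℤ)⟧' := by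
  apply DerivedCategory.Plus.ι.map_injective
  have h1 := ι_map_δ A a D
  have h2 := ι_map_δ A a D'
  have h3 := (DerivedCategory.Plus.ι (C := C)).commShiftIso_inv_naturality
    ((ω₁ A a).map ((functorArrows EInt 0 1 2).map ψ)) (1 : ℤ)
  have h4 := DerivedCategory.triangleOfSESδ_naturality (towerSc_shortExact A D)
    (towerSc_shortExact A D') (towerScMap A ψ)
  have e1 := (DerivedCategory.Plus.ι (C := C)).map_comp
    ((ω₁ A a).map ((functorArrows EInt 1 2 2).map ψ)) (δ A a D')
  have e2 := (DerivedCategory.Plus.ι (C := C)).map_comp (δ A a D)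
    (((ω₁ A a).map ((functorArrows EInt 0 1 2).map ψ))⟦(1 : ℤ)⟧')
  refine e1.trans (Eq.trans ?_ e2.symm)
  rw [h1, h2]
  refine Eq.trans ?_ (Category.assoc _ _ _).symm
  refine Eq.trans ?_ (congrArg (fun t => DerivedCategory.triangleOfSESδ
    (towerSc_shortExact A D) ≫ t) h3)
  refine Eq.trans ?_ (Category.assoc _ _ _)
  refine Eq.trans (Category.assoc _ _ _).symm ?_
  exact congrArg (fun t => t ≫ ((DerivedCategory.Plus.ι (C := C)).commShiftIso (1 : ℤ)).inv.app
    ((ω₁ A a).obj ((functorArrows EInt 0 1 2).obj D'))) h4.symm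

/-- the spectral object of the stupid filtration -/
noncomputable def so : Triangulated.SpectralObject (DerivedCategory.Plus C) EInt where
  ω₁ := ω₁ A a
  δ' :=
    { app := fun D => δ A a D
      naturality := fun _ _ ψ => δ_naturality A a ψ }
  distinguished' D := by
    change DerivedCategory.Plus.ι.mapTriangle.obj _ ∈ distTriang _
    refine isomorphic_distinguished _
      (DerivedCategory.triangleOfSES_distinguished (towerSc_shortExact A D)) _ ?_
    refine Triangle.isoMk _ _ (Iso.refl _) (Iso.refl _) (Iso.refl _) ?_ ?_ ?_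
    · exact (Category.comp_id _).trans (Category.id_comp _).symm
    · exact (Category.comp_id _).trans (Category.id_comp _).symm
    · refine Eq.trans ?_ (Category.id_comp _).symm
      refine (congrArg (fun t => _ ≫ t) (CategoryTheory.Functor.map_id _ _)).trans ?_
      refine (Category.comp_id _).trans ?_
      have h1 := ι_map_δ A a D
      have h5 := ((DerivedCategory.Plus.ι (C := C)).commShiftIso (1 : ℤ)).inv_hom_id_app
        ((ω₁ A a).obj ((functorArrows EInt 0 1 2).obj D))
      refine (congrArg (fun t => t ≫ _) h1).trans ?_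
      refine (Category.assoc _ _ _).trans ?_
      refine (congrArg (fun t => _ ≫ t) h5).trans ?_
      exact Category.comp_id _

end Derived

end Groth.Agent.Lib.Helper5.StupidSO
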