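import Groth.Agent.Lib.Helper15.GammaSupp
import Groth.Agent.S0671

/-!
# Helper5: sections of `Γ_Z F = ker (F ⟶ j_* j^* F)` over arbitrary étale `W`
-/

set_option autoImplicit false
universe u

namespace Groth.Agent.Lib.Helper5.SuppSections

open CategoryTheory Limits AlgebraicGeometry Opposite Groth.Agent.Lib.Helper13
open Groth.Agent.Lib.Helper15.GammaSupp

set_option backward.isDefEq.respectTransparency.types false

variable {X U : Scheme.{u}} (j : U ⟶ X) [IsOpenImmersion j]

/-- the projection `W ×_X U → W` in the small étale site of `X`. -/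
noncomputable def ρ (W : X.Etale) : (EtShriek.compEtale j).obj ((EtCoh.bc j).obj W) ⟶ W :=
  (EtaleRestr.adjSites j).counit.app W

lemma ρ_left (W : X.Etale) : (ρ j W).left = pullback.fst W.hom j := rfl

lemma range_ρ (W : X.Etale) :
    Set.range (ρ j W).left.base = W.hom.base ⁻¹' Set.range j.base := by
  rw [ρ_left]
  exact Scheme.Pullback.range_fst W.hom j

/-- The unit of `j^{-1} ⊣ j_*` vanishes on a section over `W` iff the section restricts to zero on
`W ×_X U`. -/
lemma unit_app_eq_zero_iff (F : EtCoh.Ab X) (W : X.Etale) (s : F.obj.obj (op W)) :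
    ((EtCoh.pullPushAdj j).unit.app F).hom.app (op W) s = 0 ↔
      F.obj.map (ρ j W).op s = 0 := by
  have h1 := Adjunction.unit_leftAdjointUniq_hom_app (EtCoh.pullPushAdj j)
    (EtaleRestr.restrPushAdj j) F
  have h2 : ((EtaleRestr.restrPushAdj j).unit.app F).hom.app (op W) =
      F.obj.map ((EtaleRestr.adjSites j).counit.app W).op := by
    simp [EtaleRestr.restrPushAdj]
  have h3 := congrArg (fun m => m.hom.app (op W) s) h1
  have hbij := bijective_app_of_isIso ((EtCoh.push j).map
    (((EtCoh.pullPushAdj j).leftAdjointUniq (EtaleRestr.restrPushAdj j)).hom.app F)) W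
  have h4 : ((EtCoh.push j).map
      (((EtCoh.pullPushAdj j).leftAdjointUniq (EtaleRestr.restrPushAdj j)).hom.app F)).hom.app
        (op W) (((EtCoh.pullPushAdj j).unit.app F).hom.app (op W) s) =
      F.obj.map ((EtaleRestr.adjSites j).counit.app W).op s := by
    rw [← h2]
    exact h3
  constructor
  · intro h0
    show F.obj.map ((EtaleRestr.adjSites j).counit.app W).op s = 0
    rw [← h4, h0]
    exact map_zero _
  · intro h0
    apply hbij.1
    rw [h4]
    exact h0.trans (map_zero _).symm

/-- the subsheaf of sections supported off `U`. -/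
noncomputable abbrev Γs (F : EtCoh.Ab X) : EtCoh.Ab X := (EtDual.secSupp j).obj F

/-- the inclusion `Γ_Z F ⟶ F`. -/
noncomputable abbrev ιs (F : EtCoh.Ab X) : Γs j F ⟶ F := kernel.ι (EtDual.unitApp j F)

/-- The inclusion of the sections with support into the sections, over `W`. -/
noncomputable def incl (F : EtCoh.Ab X) (W : X.Etale) :
    (Γs j F).obj.obj (op W) ⟶ F.obj.obj (op W) :=
  (ιs j F).hom.app (op W)

lemma incl_injective (F : EtCoh.Ab X) (W : X.Etale) : Function.Injective (incl j F W) := by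
  haveI : Mono ((sheafToPresheaf X.smallEtaleTopology AddCommGrpCat.{u + 1} ⋙
      (evaluation _ _).obj (op W)).map (kernel.ι (EtDual.unitApp j F))) :=
    inferInstance
  exact (AddCommGrpCat.mono_iff_injective _).1 this

lemma incl_unit (F : EtCoh.Ab X) (W : X.Etale) (x : (Γs j F).obj.obj (op W)) :
    (EtDual.unitApp j F).hom.app (op W) (incl j F W x) = 0 := by
  have h := congrArg (fun m => m.hom.app (op W) x)
    (kernel.condition (EtDual.unitApp j F))
  exact h

lemma exists_incl_eq' (F : EtCoh.Ab X) (W : X.Etale) (t : F.obj.obj (op W))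
    (ht : (EtDual.unitApp j F).hom.app (op W) t = 0) :
    ∃ x : (Γs j F).obj.obj (op W), incl j F W x = t := by
  have hS : (ShortComplex.mk (kernel.ι (EtDual.unitApp j F)) (EtDual.unitApp j F)
      (kernel.condition _)).Exact :=
    ShortComplex.exact_of_f_is_kernel _ (kernelIsKernel (EtDual.unitApp j F))
  have hS' := hS.map_of_mono_of_preservesKernel
    (sheafToPresheaf X.smallEtaleTopology AddCommGrpCat.{u + 1} ⋙
      (evaluation _ _).obj (op W)) inferInstance inferInstance
  rw [ShortComplex.ab_exact_iff] at hS'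
  exact hS' t ht

lemma incl_map (F : EtCoh.Ab X) {W W' : X.Etale} (g : W' ⟶ W) (x : (Γs j F).obj.obj (op W)) :
    incl j F W' ((Γs j F).obj.map g.op x) = F.obj.map g.op (incl j F W x) := by
  have h := congrArg (fun ψ => ψ.hom x) ((ιs j F).hom.naturality g.op)
  exact h

/-- restriction to `W ×_X U` kills the sections with support. -/
lemma map_ρ_incl (F : EtCoh.Ab X) (W : X.Etale) (x : (Γs j F).obj.obj (op W)) :
    F.obj.map (ρ j W).op (incl j F W x) = 0 :=
  (unit_app_eq_zero_iff j F W _).1 (incl_unit j F W x)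

lemma exists_incl_eq (F : EtCoh.Ab X) (W : X.Etale) (t : F.obj.obj (op W))
    (ht : F.obj.map (ρ j W).op t = 0) :
    ∃ x : (Γs j F).obj.obj (op W), incl j F W x = t :=
  exists_incl_eq' j F W t ((unit_app_eq_zero_iff j F W t).2 ht)

/-- restriction to `W ×_X U` vanishes iff the support lies over the complement of `U`. -/
lemma map_ρ_eq_zero_iff (F : EtCoh.Ab X) (W : X.Etale) (t : F.obj.obj (op W)) :
    F.obj.map (ρ j W).op t = 0 ↔
      EtShriek.sectSupp F W t ⊆ W.hom.base ⁻¹' (Set.range j.base)ᶜ := by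
  rw [map_eq_zero_iff_sectSupp, range_ρ]
  rfl

lemma sectSupp_incl (F : EtCoh.Ab X) (W : X.Etale) (x : (Γs j F).obj.obj (op W)) :
    EtShriek.sectSupp F W (incl j F W x) ⊆ W.hom.base ⁻¹' (Set.range j.base)ᶜ :=
  (map_ρ_eq_zero_iff j F W _).1 (map_ρ_incl j F W x)

lemma exists_incl_eq_of_sectSupp (F : EtCoh.Ab X) (W : X.Etale) (t : F.obj.obj (op W))
    (ht : EtShriek.sectSupp F W t ⊆ W.hom.base ⁻¹' (Set.range j.base)ᶜ) :
    ∃ x : (Γs j F).obj.obj (op W), incl j F W x = t :=
  exists_incl_eq j F W t ((map_ρ_eq_zero_iff j F W t).2 ht)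

/-- a section with empty support vanishes. -/
lemma eq_zero_of_sectSupp_subset_empty (F : EtCoh.Ab X) (W : X.Etale) (t : F.obj.obj (op W))
    (ht : EtShriek.sectSupp F W t ⊆ ∅) : t = 0 := by
  have h := Groth.Agent.S0728.map_eq_zero_of_forall_not_mem F t ∅ ht (𝟙 W) (fun _ h => h)
  have h2 : F.obj.map (𝟙 W).op t = t := by
    rw [op_id, F.obj.map_id]
    rfl
  exact h2.symm.trans h

section compare

variable {U' : Scheme.{u}} (j' : U' ⟶ X) [IsOpenImmersion j']

/-- if `U' ⊆ U` then sections supported off `U` are supported off `U'`. -/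
lemma ιs_comp_unit (F : EtCoh.Ab X) (h : Set.range j'.base ⊆ Set.range j.base) :
    ιs j F ≫ EtDual.unitApp j' F = 0 := by
  apply ObjectProperty.hom_ext
  ext W : 2
  induction W using Opposite.rec with
  | _ W =>
    ext x
    change (EtDual.unitApp j' F).hom.app (op W) (incl j F W x) = 0
    rw [unit_app_eq_zero_iff, map_ρ_eq_zero_iff]
    refine (sectSupp_incl j F W x).trans ?_
    intro w hw hw'
    exact hw (h hw')

/-- the inclusion `Γ_Z F ⟶ Γ_{Z'} F` for `Z ⊆ Z'`. -/
noncomputable def ΓsMap (F : EtCoh.Ab X) (h : Set.range j'.base ⊆ Set.range j.base) :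
    Γs j F ⟶ Γs j' F :=
  kernel.lift _ (ιs j F) (ιs_comp_unit j j' F h)

@[reassoc (attr := simp)]
lemma ΓsMap_ι (F : EtCoh.Ab X) (h : Set.range j'.base ⊆ Set.range j.base) :
    ΓsMap j j' F h ≫ ιs j' F = ιs j F :=
  kernel.lift_ι _ _ _

end compare

end Groth.Agent.Lib.Helper5.SuppSections
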