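import Groth.Agent.Lib.Helper5.ToposCohColim
import Groth.Agent.Lib.Helper5.ExtColimFirst

/-!
# Cohomology with supports in the complement of a coherent open commutes with filtered colimits
(helper5)
-/

set_option autoImplicit false
universe u

open CategoryTheory CategoryTheory.Limits Opposite

noncomputable section

namespace Groth.Agent.Lib.Helper5.SupportColim

open Groth.Agent.Lib.Helper5.CechFlasque

variable {C : Type u} [SmallCategory C] {J : GrothendieckTopology C}

/-- the free abelian sheaf functor preserves monomorphisms -/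
lemma mono_Φ_map {U V : ToposFin.Sh J} (m : U ⟶ V) [Mono m] : Mono ((Φ J).map m) := by
  haveI : Mono m.hom := (sheafToPresheaf J (Type u)).map_mono m
  haveI : ∀ W, Mono (m.hom.app W) := fun W => inferInstance
  haveI : ∀ W, Mono ((Functor.whiskerRight m.hom AddCommGrpCat.free.{u}).app W) := fun W => by
    rw [Functor.whiskerRight_app]
    infer_instance
  haveI : Mono (Functor.whiskerRight m.hom AddCommGrpCat.free.{u}) := NatTrans.mono_of_mono_app _
  exact (presheafToSheaf J AddCommGrpCat.{u}).map_mono
    (Functor.whiskerRight m.hom AddCommGrpCat.free.{u})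

/-- the defining short complex of `ℤ/ℤ_U` -/
abbrev SC (U : ToposFin.Sh J) : ShortComplex (Sheaf J AddCommGrpCat.{u}) :=
  ShortComplex.mk ((ToposFin.freeAb J).map (terminal.from U)) (cokernel.π _) (cokernel.condition _)

lemma shortExact_SC (U : ToposFin.Sh J) [Mono (terminal.from U)] : (SC U).ShortExact := by
  haveI : Mono (SC U).f := mono_Φ_map (terminal.from U)
  haveI : Epi (SC U).g := by dsimp [SC]; infer_instance
  exact ShortComplex.ShortExact.mk (ShortComplex.exact_cokernel _)

theorem preservesColimit_HZ (hE : ToposFin.IsAlgebraic J)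
    (hT : ToposFin.IsCoherent (⊤_ (ToposFin.Sh J)))
    (U : ToposFin.Sh J) [Mono (terminal.from U)] (hU : ToposFin.IsCoherent U)
    {I : Type u} [SmallCategory I] [IsFiltered I] (F : I ⥤ Sheaf J AddCommGrpCat.{u}) (q : ℕ) :
    PreservesColimit F (Abelian.extFunctorObj.{u} (ToposFin.quotZ U) q) := by
  have h := ExtColimFirst.surj_inj3 (shortExact_SC U) F
    (fun n => ToposCohColim.surj_inj_of_coherent hE hU F n)
    (fun n => ToposCohColim.surj_inj_of_coherent hE hT F n) q
  exact ExtColim.preservesColimit_extFunctorObj _ q F h.1 h.2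

end Groth.Agent.Lib.Helper5.SupportColim
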