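import Groth.Agent.Lib.Helper15.LcStruct
import Groth.Prelude.Def_EtDual

/-!
# Helper5: `ℤ/n ⊗ ℤ/n ≅ ℤ/n` for constant étale sheaves
-/

set_option autoImplicit false
universe u

namespace Groth.Agent.Lib.Helper5.TensorConst

open CategoryTheory Limits AlgebraicGeometry Opposite TensorProduct
open Groth.Agent.Lib.Helper15 Helper15.LcStruct

set_option backward.isDefEq.respectTransparency.types false

variable {Y : Scheme.{u}} (n : ℕ)

/-- the value group. -/
abbrev M : AddCommGrpCat.{u + 1} := AddCommGrpCat.of (ULift.{u + 1} (ZMod n))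

/-- the constant sheaf `ℤ/n`. -/
noncomputable abbrev C (Y : Scheme.{u}) : EtCoh.Ab Y := EtCoh.const Y (ZMod n)

/-- the constant presheaf. -/
abbrev cpre (Y : Scheme.{u}) : Y.Etaleᵒᵖ ⥤ AddCommGrpCat.{u + 1} := (Functor.const Y.Etaleᵒᵖ).obj (M n)

/-- the unit section. -/
def one : M.{u} n := ULift.up 1

lemma retraction_aux (Φ : GrothendieckTopology.Point.{u} Y.smallEtaleTopology) (V : Y.Etale) (t : Φ.fiber.obj V) :
    ∃ r : (C n Y).obj.obj (op V) →+ M.{u} n, ∀ k : M.{u} n, r (eta (M n) V k) = k := by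
  obtain ⟨ts, hts⟩ : ∃ ts : cpre n Y ⟶ (C n Y).obj,
      ts = toSheafify Y.smallEtaleTopology (cpre n Y) := ⟨_, rfl⟩
  have hφ : ∀ ⦃X Z : Y.Etale⦄ (f : X ⟶ Z) (x : Φ.fiber.obj X),
      (cpre n Y).map f.op ≫ (fun (_ : Y.Etale) (_ : Φ.fiber.obj _) => 𝟙 (M n)) X x =
        (fun (_ : Y.Etale) (_ : Φ.fiber.obj _) => 𝟙 (M n)) Z (Φ.fiber.map f x) := by
    intros; rfl
  let d : Φ.presheafFiber.obj (cpre n Y) ⟶ M n :=
    Φ.presheafFiberDesc (fun _ _ => 𝟙 (M n)) hφ
  haveI : IsIso (Φ.presheafFiber.map ts) := by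
    rw [hts]
    exact Φ.W_isInvertedBy_presheafFiber (A := AddCommGrpCat.{u+1}) _
      (Y.smallEtaleTopology.W_toSheafify (cpre n Y))
  let r : (C n Y).obj.obj (op V) ⟶ M n :=
    Φ.toPresheafFiber V t (C n Y).obj ≫ inv (Φ.presheafFiber.map ts) ≫ d
  refine ⟨r.hom, fun k => ?_⟩
  have h0 : eta (M n) V = ts.app (op V) := by rw [hts]; rfl
  have h1 : eta (M n) V ≫ r = 𝟙 (M n) := by
    rw [h0]
    change ts.app (op V) ≫ Φ.toPresheafFiber V t (C n Y).obj ≫ inv (Φ.presheafFiber.map ts) ≫ d = _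
    rw [← Φ.toPresheafFiber_naturality_assoc, IsIso.hom_inv_id_assoc]
    exact Φ.toPresheafFiber_presheafFiberDesc (P := cpre n Y) (T := M n)
      (fun (_ : Y.Etale) (_ : Φ.fiber.obj _) => 𝟙 (M n)) hφ V t
  exact ConcreteCategory.congr_hom h1 k

/-- a geometric point retraction of `eta` over a nonempty `V`. -/
lemma exists_retraction (V : Y.Etale) (hV : (⊥ : Sieve V) ∉ Y.smallEtaleTopology V) :
    ∃ r : (C n Y).obj.obj (op V) →+ M.{u} n, ∀ k : M.{u} n, r (eta (M n) V k) = k := by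
  have hne : Nonempty V.left := by
    by_contra hcon
    exact hV (EtGlue.bot_mem_of_isEmpty V (not_nonempty_iff.1 hcon))
  obtain ⟨v⟩ := hne
  let s₀ : Y := V.hom.base v
  let Ω := SeparableClosure (Y.residueField s₀)
  let s : Spec (.of Ω) ⟶ Y := (Scheme.SpecToEquivOfField Ω Y).symm
    ⟨s₀, CommRingCat.ofHom (algebraMap (Y.residueField s₀) Ω)⟩
  have hs₀ : s default = s₀ := by simp [s, Scheme.SpecToEquivOfField]
  obtain ⟨t, -⟩ := Scheme.pointSmallEtaleFiberObjToPreimage_surjective s hs₀ V ⟨v, rfl⟩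
  exact retraction_aux n (Scheme.pointSmallEtale s) V t

/-- `k ↦ η(k) ⊗ η(1)`. -/
noncomputable def ιHom (V : Y.Etale) :
    M.{u} n →+ ((C n Y).obj.obj (op V) ⊗[ℤ] (C n Y).obj.obj (op V)) :=
  ((TensorProduct.mk ℤ ((C n Y).obj.obj (op V)) ((C n Y).obj.obj (op V))).flip
    (eta (M n) V (one n))).toAddMonoidHom.comp (eta (M n) V).hom

lemma ιHom_apply (V : Y.Etale) (k : M.{u} n) :
    ιHom n V k = eta (M n) V k ⊗ₜ[ℤ] eta (M n) V (one n) := rfl

/-- the comparison map from the constant presheaf to the presheaf tensor square. -/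
noncomputable def ι : cpre n Y ⟶ EtDual.tensorPre (C n Y) (C n Y) where
  app V := AddCommGrpCat.ofHom (ιHom n V.unop)
  naturality V W f := by
    ext k
    change ιHom n W.unop k = (EtDual.tensorPre (C n Y) (C n Y)).map f (ιHom n V.unop k)
    rw [ιHom_apply, ιHom_apply]
    change _ = ((C n Y).obj.map f (eta (M n) V.unop k)) ⊗ₜ[ℤ] ((C n Y).obj.map f (eta (M n) V.unop (one n)))
    have h1 := eta_map_apply (X := Y) (M n) f.unop k
    have h2 := eta_map_apply (X := Y) (M n) f.unop (one n)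
    rw [← h1, ← h2]
    rfl

lemma ι_app_apply (V : Y.Etale) (k : M.{u} n) :
    (ι n (Y := Y)).app (op V) k = eta (M n) V k ⊗ₜ[ℤ] eta (M n) V (one n) := rfl

lemma exists_zsmul_one (l : M.{u} n) : ∃ z : ℤ, z • one n = l := by
  obtain ⟨z, hz⟩ := ZMod.intCast_surjective l.down
  refine ⟨z, ?_⟩
  apply ULift.ext
  change (z • (1 : ZMod n)) = l.down
  rw [← hz, zsmul_one]

lemma eta_tmul_eta (V : Y.Etale) (k l : M.{u} n) :
    ∃ m : M.{u} n, (ι n (Y := Y)).app (op V) m = eta (M n) V k ⊗ₜ[ℤ] eta (M n) V l := by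
  obtain ⟨z, rfl⟩ := exists_zsmul_one n l
  refine ⟨z • k, ?_⟩
  rw [ι_app_apply, map_zsmul, map_zsmul, TensorProduct.smul_tmul]

lemma imageSieve_mem_aux (V : Y.Etale)
    (t : (C n Y).obj.obj (op V) ⊗[ℤ] (C n Y).obj.obj (op V)) :
    Presheaf.imageSieve (ι n (Y := Y)) (U := V) t ∈ Y.smallEtaleTopology V := by
  induction t using TensorProduct.induction_on with
  | zero =>
    refine Y.smallEtaleTopology.superset_covering ?_ (Y.smallEtaleTopology.top_mem V)
    intro W f _
    exact ⟨0, by rw [map_zero]; exact (map_zero _).symm⟩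
  | tmul a b =>
    have ha := Presheaf.imageSieve_mem Y.smallEtaleTopology
      (toSheafify Y.smallEtaleTopology (cpre n Y)) (U := op V) a
    have hb := Presheaf.imageSieve_mem Y.smallEtaleTopology
      (toSheafify Y.smallEtaleTopology (cpre n Y)) (U := op V) b
    refine Y.smallEtaleTopology.superset_covering ?_
      (Y.smallEtaleTopology.intersection_covering ha hb)
    rintro W f ⟨⟨k, hk⟩, ⟨l, hl⟩⟩
    obtain ⟨m, hm⟩ := eta_tmul_eta n W k l
    refine ⟨m, hm.trans ?_⟩
    change _ = ((C n Y).obj.map f.op a) ⊗ₜ[ℤ] ((C n Y).obj.map f.op b)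
    have hk' : eta (M n) W k = (C n Y).obj.map f.op a := hk
    have hl' : eta (M n) W l = (C n Y).obj.map f.op b := hl
    rw [hk', hl']
  | add x y hx hy =>
    refine Y.smallEtaleTopology.superset_covering ?_
      (Y.smallEtaleTopology.intersection_covering hx hy)
    rintro W f ⟨⟨k, hk⟩, ⟨l, hl⟩⟩
    refine ⟨k + l, ?_⟩
    rw [map_add, hk, hl]
    exact (map_add _ _ _).symm

instance : Presheaf.IsLocallySurjective Y.smallEtaleTopology (ι n (Y := Y)) where
  imageSieve_mem {V} t := imageSieve_mem_aux n V t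

instance : Presheaf.IsLocallyInjective Y.smallEtaleTopology (ι n (Y := Y)) where
  equalizerSieve_mem {V} k k' h := by
    induction V using Opposite.rec with
    | _ V =>
    by_cases hV : (⊥ : Sieve V) ∈ Y.smallEtaleTopology V
    · exact Y.smallEtaleTopology.superset_covering bot_le hV
    · obtain ⟨r, hr⟩ := exists_retraction n V hV
      have hkk : k = k' := by
        let rl : (C n Y).obj.obj (op V) →ₗ[ℤ] ZMod n :=
          (AddEquiv.ulift.toAddMonoidHom.comp r).toIntLinearMap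
        let β : ((C n Y).obj.obj (op V) ⊗[ℤ] (C n Y).obj.obj (op V)) →ₗ[ℤ] ZMod n :=
          TensorProduct.lift ((LinearMap.mul ℤ (ZMod n)).compl₁₂ rl rl)
        have h1 : ∀ m : M.{u} n, β ((ι n (Y := Y)).app (op V) m) = m.down := by
          intro m
          rw [ι_app_apply]
          change (r (eta (M n) V m)).down * (r (eta (M n) V (one n))).down = m.down
          rw [hr, hr]
          exact mul_one _
        apply ULift.ext
        rw [← h1 k, ← h1 k', h]
      subst hkk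
      refine Y.smallEtaleTopology.superset_covering ?_ (Y.smallEtaleTopology.top_mem V)
      intro W f _
      rfl

/-- `ℤ/n ≅ ℤ/n ⊗ ℤ/n`. -/
lemma isIso_map_ι :
    IsIso ((presheafToSheaf Y.smallEtaleTopology AddCommGrpCat.{u + 1}).map (ι n (Y := Y))) :=
  (Y.smallEtaleTopology.W_iff (ι n (Y := Y))).1 (Y.smallEtaleTopology.W_of_isLocallyBijective _)

noncomputable def constTensorIso : C n Y ≅ EtDual.tensorAb (C n Y) (C n Y) :=
  @asIso _ _ _ _ ((presheafToSheaf Y.smallEtaleTopology AddCommGrpCat.{u + 1}).map (ι n (Y := Y)))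
    (isIso_map_ι n)

end Groth.Agent.Lib.Helper5.TensorConst
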