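import Groth.Agent.Lib.Helper5.TensorRestr
import Groth.Agent.Lib.Helper5.MuRestr
import Groth.Agent.Lib.Helper5.LocZero
import Groth.Agent.Lib.Helper5.CycloCover
import Groth.Agent.Lib.Helper5.TensorConst
import Groth.Agent.S13507
import Groth.Prelude.Def_EtDepth

/-!
# Helper5: Tate twists are étale-locally constant; depth of Tate twists
-/

set_option autoImplicit false
universe u

namespace Groth.Agent.Lib.Helper5.TateLocal

open CategoryTheory Limits AlgebraicGeometry Opposite Groth.Agent.Lib.Helper13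
open Groth.Agent.Lib.Helper13.ExtZeroExact Groth.Agent.Lib.Helper5.EtaleLocSupp
open Groth.Agent.Lib.Helper5.TensorRestr Groth.Agent.Lib.Helper5.MuRestr
open Groth.Agent.Lib.Helper5.TensorConst

set_option backward.isDefEq.respectTransparency.types false

section Restr

variable {X X' : Scheme.{u}} (g : X' ⟶ X) [Etale g]

/-- restriction of a constant sheaf. -/
noncomputable def constRestrIso (M : Type) [AddCommGroup M] :
    (EtShriek.restrAlong g).obj (EtCoh.const X M) ≅ EtCoh.const X' M :=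
  ((EtaleRestr.pullIsoRestr g).app _).symm ≪≫ EtCore.pullConst g M

/-- restriction of a Tate twist. -/
noncomputable def tateRestrIso (n : ℕ) :
    ∀ c : ℕ, (EtShriek.restrAlong g).obj (EtDual.tate X n c) ≅ EtDual.tate X' n c
  | 0 => constRestrIso g (ZMod n)
  | c + 1 => tensorAbRestrIso g _ _ ≪≫ tensorAbIso (tateRestrIso n c) (muRestrIso g n)

end Restr

/-- in the presence of a primitive root of unity, Tate twists are constant. -/
lemma tate_iso_const (Y : Scheme.{u}) (n : ℕ) (hn1 : 1 ≤ n) (hunit : IsUnit (n : Γ(Y, ⊤)))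
    (ζ : Γ(Y, ⊤)) (hζ : Polynomial.aeval ζ (Polynomial.cyclotomic n ℤ) = 0) :
    ∀ c : ℕ, Nonempty (EtDual.tate Y n c ≅ EtCoh.const Y (ZMod n))
  | 0 => ⟨Iso.refl _⟩
  | c + 1 => by
    obtain ⟨e⟩ := tate_iso_const Y n hn1 hunit ζ hζ c
    obtain ⟨m⟩ := Groth.Agent.S13507.result Y n hn1 hunit ζ hζ
    exact ⟨tensorAbIso e m ≪≫ (constTensorIso n).symm⟩

/-- Tate twists are étale-locally constant. -/
lemma tate_locally_const (X : Scheme.{u}) (n : ℕ) (hn : IsUnit (n : Γ(X, ⊤))) (c : ℕ) (x : X) :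
    ∃ (Y : Scheme.{u}) (g : Y ⟶ X) (_ : Etale g), x ∈ Set.range g.base ∧
      Nonempty ((EtShriek.restrAlong g).obj (EtDual.tate X n c) ≅
        (EtShriek.restrAlong g).obj (EtCoh.const X (ZMod n))) := by
  obtain ⟨Y, g, hg, ζ, hx, hn1, hζ⟩ := CycloCover.exists_cover X n hn x
  refine ⟨Y, g, hg, hx, ?_⟩
  have hunit : IsUnit (n : Γ(Y, ⊤)) := by
    have := hn.map g.appTop.hom
    rwa [map_natCast] at this
  obtain ⟨e⟩ := tate_iso_const Y n hn1 hunit ζ hζ c
  exact ⟨tateRestrIso g n c ≪≫ e ≪≫ (constRestrIso g (ZMod n)).symm⟩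

/-- the depth of a Tate twist is at least that of the constant sheaf. -/
theorem depthGE_tate {X U : Scheme.{u}} (j : U ⟶ X) [IsOpenImmersion j] [EtCoh.BCCont j]
    (n : ℕ) (hn : IsUnit (n : Γ(X, ⊤))) (c m : ℕ)
    (h : EtDepth.DepthGE j (EtCoh.const X (ZMod n)) m) :
    EtDepth.DepthGE j (EtDual.tate X n c) m := by
  intro p hp
  apply LocZero.isZero_of_locally
  intro x
  obtain ⟨Y, g, hg, hx, ⟨e⟩⟩ := tate_locally_const X n hn c x
  refine ⟨Y, g, hg, hx, ?_⟩
  have hr : Set.range (pullback.snd j g).base = g.base ⁻¹' Set.range j.base :=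
    Scheme.Pullback.range_snd j g
  refine IsZero.of_iso ((EtShriek.restrAlong g).map_isZero (h p hp))
    (locCohRestrIso j g (pullback.snd j g) hr p _ ≪≫
      (EtDual.locCoh (pullback.snd j g) p).mapIso e ≪≫
      (locCohRestrIso j g (pullback.snd j g) hr p _).symm)

end Groth.Agent.Lib.Helper5.TateLocal
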