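import Groth.Agent.Lib.Helper5.EtaleLocSupp
import Groth.Prelude.Def_EtDual

/-!
# Helper5: restriction along étale morphisms commutes with sheafification and with `tensorAb`
-/

set_option autoImplicit false
universe u

namespace Groth.Agent.Lib.Helper5.TensorRestr

open CategoryTheory Limits AlgebraicGeometry Opposite Groth.Agent.Lib.Helper13
open Groth.Agent.Lib.Helper13.ExtZeroExact TensorProduct

set_option backward.isDefEq.respectTransparency.types false

variable {X X' : Scheme.{u}} (g : X' ⟶ X) [Etale g]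

/-- presheaf restriction along `g`. -/
noncomputable abbrev Rp : (X.Etaleᵒᵖ ⥤ AddCommGrpCat.{u + 1}) ⥤ (X'.Etaleᵒᵖ ⥤ AddCommGrpCat.{u + 1}) :=
  (Functor.whiskeringLeft _ _ AddCommGrpCat.{u + 1}).obj (EtShriek.compEtale g).op

/-- presheaf pushforward along `g`. -/
noncomputable abbrev Pp : (X'.Etaleᵒᵖ ⥤ AddCommGrpCat.{u + 1}) ⥤ (X.Etaleᵒᵖ ⥤ AddCommGrpCat.{u + 1}) :=
  (Functor.whiskeringLeft _ _ AddCommGrpCat.{u + 1}).obj (EtCoh.bc g).op

/-- presheaf restriction is left adjoint to presheaf pushforward. -/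
noncomputable def preAdj : Rp g ⊣ Pp g :=
  Adjunction.whiskerLeft AddCommGrpCat.{u + 1} (EtaleRestr.adjSites g).op

/-- restriction commutes with sheafification. -/
noncomputable def restrSheafifyIso :
    Rp g ⋙ presheafToSheaf X'.smallEtaleTopology AddCommGrpCat.{u + 1} ≅
      presheafToSheaf X.smallEtaleTopology AddCommGrpCat.{u + 1} ⋙ EtShriek.restrAlong g :=
  ((preAdj g).comp (sheafificationAdjunction X'.smallEtaleTopology AddCommGrpCat.{u + 1})).leftAdjointUniq
    (((sheafificationAdjunction X.smallEtaleTopology AddCommGrpCat.{u + 1}).comp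
      (EtaleRestr.restrPushAdj g)).ofNatIsoRight
        (NatIso.ofComponents (fun F => Iso.refl _) (by intros; rfl)))

/-- restriction of the presheaf tensor product. -/
noncomputable def tensorPreRestrIso (A B : EtCoh.Ab X) :
    (Rp g).obj (EtDual.tensorPre A B) ≅
      EtDual.tensorPre ((EtShriek.restrAlong g).obj A) ((EtShriek.restrAlong g).obj B) :=
  NatIso.ofComponents (fun V => Iso.refl _) (by intros; rfl)

/-- restriction commutes with `tensorAb`. -/
noncomputable def tensorAbRestrIso (A B : EtCoh.Ab X) :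
    (EtShriek.restrAlong g).obj (EtDual.tensorAb A B) ≅
      EtDual.tensorAb ((EtShriek.restrAlong g).obj A) ((EtShriek.restrAlong g).obj B) :=
  ((restrSheafifyIso g).app (EtDual.tensorPre A B)).symm ≪≫
    (presheafToSheaf X'.smallEtaleTopology AddCommGrpCat.{u + 1}).mapIso (tensorPreRestrIso g A B)

section Functoriality

variable {Y : Scheme.{u}}

/-- the linear map `a(V) ⊗ b(V)`. -/
noncomputable abbrev tmap {A A' B B' : EtCoh.Ab Y} (a : A ⟶ A') (b : B ⟶ B') (V : Y.Etaleᵒᵖ) :
    (A.obj.obj V ⊗[ℤ] B.obj.obj V) →ₗ[ℤ] (A'.obj.obj V ⊗[ℤ] B'.obj.obj V) :=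
  TensorProduct.map (a.hom.app V).hom.toIntLinearMap (b.hom.app V).hom.toIntLinearMap

lemma tmap_natural {A A' B B' : EtCoh.Ab Y} (a : A ⟶ A') (b : B ⟶ B') {V W : Y.Etaleᵒᵖ} (f : V ⟶ W) :
    (tmap a b W) ∘ₗ (TensorProduct.map (EtDual.resLin A f) (EtDual.resLin B f)) =
      (TensorProduct.map (EtDual.resLin A' f) (EtDual.resLin B' f)) ∘ₗ (tmap a b V) := by
  apply TensorProduct.ext'
  intro x y
  have h1 := ConcreteCategory.congr_hom (a.hom.naturality f) x
  have h2 := ConcreteCategory.congr_hom (b.hom.naturality f) y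
  simp only [ConcreteCategory.comp_apply] at h1 h2
  change (a.hom.app W) (A.obj.map f x) ⊗ₜ[ℤ] (b.hom.app W) (B.obj.map f y) =
    (A'.obj.map f) (a.hom.app V x) ⊗ₜ[ℤ] (B'.obj.map f) (b.hom.app V y)
  rw [h1, h2]

/-- functoriality of `tensorPre`. -/
noncomputable def tensorPreMap {A A' B B' : EtCoh.Ab Y} (a : A ⟶ A') (b : B ⟶ B') :
    EtDual.tensorPre A B ⟶ EtDual.tensorPre A' B' where
  app V := AddCommGrpCat.ofHom (tmap a b V).toAddMonoidHom
  naturality V W f := by
    ext t
    exact LinearMap.congr_fun (tmap_natural a b f) t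

lemma tensorPreMap_id (A B : EtCoh.Ab Y) : tensorPreMap (𝟙 A) (𝟙 B) = 𝟙 _ := by
  ext V t
  have h : tmap (𝟙 A) (𝟙 B) V = LinearMap.id := by
    apply TensorProduct.ext'
    intro x y
    rfl
  exact LinearMap.congr_fun h t

lemma tensorPreMap_comp {A A' A'' B B' B'' : EtCoh.Ab Y} (a : A ⟶ A') (a' : A' ⟶ A'')
    (b : B ⟶ B') (b' : B' ⟶ B'') :
    tensorPreMap (a ≫ a') (b ≫ b') = tensorPreMap a b ≫ tensorPreMap a' b' := by
  ext V t
  have h : tmap (a ≫ a') (b ≫ b') V = (tmap a' b' V) ∘ₗ (tmap a b V) := by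
    apply TensorProduct.ext'
    intro x y
    rfl
  exact LinearMap.congr_fun h t

/-- `tensorPre` of isomorphisms. -/
noncomputable def tensorPreIso {A A' B B' : EtCoh.Ab Y} (a : A ≅ A') (b : B ≅ B') :
    EtDual.tensorPre A B ≅ EtDual.tensorPre A' B' where
  hom := tensorPreMap a.hom b.hom
  inv := tensorPreMap a.inv b.inv
  hom_inv_id := by rw [← tensorPreMap_comp, Iso.hom_inv_id, Iso.hom_inv_id, tensorPreMap_id]
  inv_hom_id := by rw [← tensorPreMap_comp, Iso.inv_hom_id, Iso.inv_hom_id, tensorPreMap_id]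

/-- `tensorAb` of isomorphisms. -/
noncomputable def tensorAbIso {A A' B B' : EtCoh.Ab Y} (a : A ≅ A') (b : B ≅ B') :
    EtDual.tensorAb A B ≅ EtDual.tensorAb A' B' :=
  (presheafToSheaf Y.smallEtaleTopology AddCommGrpCat.{u + 1}).mapIso (tensorPreIso a b)

end Functoriality

end Groth.Agent.Lib.Helper5.TensorRestr
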