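import Mathlib
import Groth.Prelude.Def_CohTop
import Groth.Agent.Lib.Helper5.OverPsi
import Groth.Agent.Lib.Helper13.ClosedEmbPush

set_option autoImplicit false

namespace Groth.Agent.Lib.Helper5.TopPsi

open CategoryTheory CategoryTheory.Limits CategoryTheory.Abelian Opposite TopologicalSpace
open Groth.Agent.Lib.Helper5 Groth.Agent.Lib.Helper13.ClosedEmbPush

universe u

/-- Pushforwards compose strictly. -/
noncomputable def ρ ⦃X Y Z : TopCat.{u}⦄ (f : X ⟶ Y) (g : Y ⟶ Z) (fg : X ⟶ Z) (h : f ≫ g = fg) :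
    CohTop.push f ⋙ CohTop.push g ≅ CohTop.push fg :=
  eqToIso (by subst h; rfl)

/-- Pushforward along the identity. -/
noncomputable def ρ₀ (X : TopCat.{u}) : CohTop.push (𝟙 X) ≅ 𝟭 (CohTop.Ab X) :=
  eqToIso rfl

lemma hρ ⦃X Y Z W : TopCat.{u}⦄ (f : X ⟶ Y) (g : Y ⟶ Z) (l : Z ⟶ W) (fg : X ⟶ Z) (gl : Y ⟶ W)
    (fgl : X ⟶ W) (h1 : f ≫ g = fg) (h2 : g ≫ l = gl) (h3 : fg ≫ l = fgl) (h4 : f ≫ gl = fgl)
    (N : CohTop.Ab X) :
    (CohTop.push l).map ((ρ f g fg h1).hom.app N) ≫ (ρ fg l fgl h3).hom.app N =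
      (ρ g l gl h2).hom.app ((CohTop.push f).obj N) ≫ (ρ f gl fgl h4).hom.app N := by
  subst h1 h2
  subst h3
  simp [ρ, eqToHom_map]


instance (X Y : TopCat.{u}) (f : X ⟶ Y) : (CohTop.pull f).Additive :=
  (adj f).left_adjoint_additive

instance (X Y : TopCat.{u}) (f : X ⟶ Y) : PreservesFiniteColimits (CohTop.pull f) := by
  have : PreservesColimitsOfSize.{0, 0} (CohTop.pull f) := (adj f).leftAdjoint_preservesColimits
  exact PreservesColimitsOfSize.preservesFiniteColimits.{0, 0} _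

open Groth.Agent.Lib.Helper13.SiteCohLocal in
/-- The functor `T ↦ H^n(T, g_T^* F)` on spaces over `S`. -/
noncomputable def Ψ (S : TopCat.{u}) (F : CohTop.Ab S) (n : ℕ) :
    (Over S)ᵒᵖ ⥤ AddCommGrpCat.{u} :=
  OverPsi.overPsi (𝒮 := TopCat.{u}) (fun X => CohTop.Ab X) (fun _ _ f => CohTop.pull f)
    (fun _ _ f => CohTop.push f) (fun _ _ f => adj f) ρ hρ ρ₀ S
    (constZ (Opens.grothendieckTopology S)) F n

open Groth.Agent.Lib.Helper13.SiteCohLocal Groth.Agent.Lib.Helper13.ExtAdj in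
/-- The values of `Ψ`. -/
noncomputable def ΨObjIso (S : TopCat.{u}) (F : CohTop.Ab S) (n : ℕ) (T : Over S) :
    (Ψ S F n).obj (op T) ≅ AddCommGrpCat.of (CohTop.H ((CohTop.pull T.hom).obj F) n) :=
  AddEquiv.toAddCommGrpIso
    (show Ext.{u} ((CohTop.pull T.hom).obj (constZ (Opens.grothendieckTopology S)))
        ((CohTop.pull T.hom).obj F) n ≃+ CohTop.H ((CohTop.pull T.hom).obj F) n from
      (extIsoLeft (pullConstIso T.hom) ((CohTop.pull T.hom).obj F) n).symm)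

end Groth.Agent.Lib.Helper5.TopPsi
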