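import Groth.Agent.Lib.Helper5.ToposFunctor

/-!
# Helper library (helper5): quasi-separated morphisms in locally coherent / algebraic topoi
-/

set_option autoImplicit false

universe w u

open CategoryTheory CategoryTheory.Limits Opposite

namespace Groth.Agent.Lib.Helper5.ToposAlg

open Groth.Agent.Lib.Helper9 Groth.Agent.Lib.Helper5.ToposEpi Groth.Agent.Lib.Helper5.ToposQC
  Groth.Agent.Lib.Helper5.ToposFunctor

variable {C : Type u} [SmallCategory C] {J : GrothendieckTopology C}

/-- In a topos with a generating set `S` of quasi-compact objects stable under fibre products,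
every morphism from a quasi-separated object to a member of `S` is quasi-separated. -/
theorem isQSHom_to_mem (S : Set (ToposFin.Sh J)) (hqc : ∀ K ∈ S, ToposFin.IsQC K)
    (hgen : ToposFin.IsGenerating S) (hpb : ToposFin.ClosedUnderPullbacks S)
    {P G : ToposFin.Sh J} (hG : G ∈ S) (h : P ⟶ G) (hP : ToposFin.IsQS P) :
    ToposFin.IsQSHom h := by
  have hE := hasQCGenerators_of_isGenerating S hqc hgen
  obtain ⟨ι, H, ρ, hH, hρ⟩ := hgen P
  refine isQSHom_of_cover_with_qs_products hE h ρ hρ (fun i => hqc _ (hH i)) ?_ hP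
  intro i j
  obtain ⟨Q, p, q, hQ, hpq⟩ := hpb (ρ i ≫ h) (ρ j ≫ h) (hH i) (hH j) hG
  exact isQS_of_iso hpq.isoPullback (isQS_of_mem_closedUnderPullbacks S hqc hgen hpb hQ)

/-- Locally coherent case: `f` is quasi-separated iff it pulls quasi-separated objects back to
quasi-separated objects. -/
theorem isQSHom_iff_pullback_qs (S : Set (ToposFin.Sh J)) (hqc : ∀ K ∈ S, ToposFin.IsQC K)
    (hgen : ToposFin.IsGenerating S) (hpb : ToposFin.ClosedUnderPullbacks S)
    {X Y : ToposFin.Sh J} (f : X ⟶ Y) :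
    ToposFin.IsQSHom f ↔
      ∀ (Y' : ToposFin.Sh J) (g : Y' ⟶ Y), ToposFin.IsQS Y' → ToposFin.IsQS (pullback f g) := by
  have hE := hasQCGenerators_of_isGenerating S hqc hgen
  constructor
  · intro hf Y' g hY'
    exact isQS_of_isQSHom _ (isQSHom_pullback_snd f g hf) hY'
  · intro h
    obtain ⟨ι, G, π, hG, hπ⟩ := hgen Y
    apply isQSHom_of_jepi_target_snd hE f π hπ
    intro i
    exact isQSHom_to_mem S hqc hgen hpb (hG i) _
      (h _ (π i) (isQS_of_mem_closedUnderPullbacks S hqc hgen hpb (hG i)))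

/-- In an algebraic topos, the equalizer of two maps from a quasi-compact object to a member of the
generating set is quasi-compact. -/
theorem isQC_equalizer (S : Set (ToposFin.Sh J)) (hqc : ∀ K ∈ S, ToposFin.IsQC K)
    (hgen : ToposFin.IsGenerating S) (heq : ToposFin.ClosedUnderEqualizers S)
    {Q G : ToposFin.Sh J} (hG : G ∈ S) (hQ : ToposFin.IsQC Q) (u v : Q ⟶ G) :
    ToposFin.IsQC (equalizer u v) := by
  obtain ⟨ι, H, ρ, hH, hρ⟩ := hgen Q
  apply isQC_of_jepi_cover (equalizer.ι u v) hQ ρ hρ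
  intro l
  obtain ⟨P, e, w, hP, ⟨hlim⟩⟩ := heq (ρ l ≫ u) (ρ l ≫ v) (hH l) hG
  obtain ⟨s, hs1, hs2⟩ : ∃ s : P ⟶ pullback (ρ l) (equalizer.ι u v),
      s ≫ pullback.fst _ _ = e ∧ s ≫ pullback.snd _ _ ≫ equalizer.ι u v = e ≫ ρ l := by
    refine ⟨pullback.lift e (equalizer.lift (e ≫ ρ l) (by simpa using w))
      (by rw [equalizer.lift_ι]), ?_, ?_⟩
    · exact pullback.lift_fst _ _ _
    · rw [pullback.lift_snd_assoc, equalizer.lift_ι]
  have hcond : pullback.fst (ρ l) (equalizer.ι u v) ≫ (ρ l ≫ u) =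
      pullback.fst _ _ ≫ (ρ l ≫ v) := by
    rw [← Category.assoc, ← Category.assoc, pullback.condition, Category.assoc, Category.assoc,
      equalizer.condition]
  obtain ⟨r, hr⟩ := Fork.IsLimit.lift' hlim (pullback.fst (ρ l) (equalizer.ι u v)) hcond
  have hr' : r ≫ e = pullback.fst _ _ := hr
  have hrs : r ≫ s = 𝟙 _ := by
    apply pullback.hom_ext
    · rw [Category.assoc, hs1, hr', Category.id_comp]
    · apply equalizer.hom_ext
      rw [Category.assoc, Category.assoc, hs2, ← Category.assoc, hr', Category.id_comp,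
        pullback.condition]
  exact isQC_of_retract r s hrs (hqc P hP)

/-- In an algebraic topos, `X ×_Y G` is quasi-separated when `X` is quasi-separated and `G` is a
member of the generating set. -/
theorem isQS_pullback_of_mem (S : Set (ToposFin.Sh J)) (hqc : ∀ K ∈ S, ToposFin.IsQC K)
    (hgen : ToposFin.IsGenerating S) (heq : ToposFin.ClosedUnderEqualizers S)
    {X Y G : ToposFin.Sh J} (hG : G ∈ S) (x : X ⟶ Y) (γ : G ⟶ Y) (hX : ToposFin.IsQS X) :
    ToposFin.IsQS (pullback x γ) := by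
  intro A B a b hA hB
  have hQ : ToposFin.IsQC (pullback (a ≫ pullback.fst x γ) (b ≫ pullback.fst x γ)) :=
    hX _ _ _ _ hA hB
  obtain ⟨u, hu⟩ : ∃ u : pullback (a ≫ pullback.fst x γ) (b ≫ pullback.fst x γ) ⟶ G,
      u = pullback.fst _ _ ≫ a ≫ pullback.snd x γ := ⟨_, rfl⟩
  obtain ⟨v, hv⟩ : ∃ v : pullback (a ≫ pullback.fst x γ) (b ≫ pullback.fst x γ) ⟶ G,
      v = pullback.snd _ _ ≫ b ≫ pullback.snd x γ := ⟨_, rfl⟩
  have hE := isQC_equalizer S hqc hgen heq hG hQ u v
  have hc1 : (equalizer.ι u v ≫ pullback.fst _ _) ≫ a = (equalizer.ι u v ≫ pullback.snd _ _) ≫ b := by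
    apply pullback.hom_ext
    · simp only [Category.assoc]
      rw [pullback.condition]
    · simp only [Category.assoc]
      rw [← hu, ← hv]
      exact equalizer.condition u v
  obtain ⟨s, hs1, hs2⟩ : ∃ s : equalizer u v ⟶ pullback a b,
      s ≫ pullback.fst _ _ = equalizer.ι u v ≫ pullback.fst _ _ ∧
      s ≫ pullback.snd _ _ = equalizer.ι u v ≫ pullback.snd _ _ :=
    ⟨pullback.lift _ _ hc1, pullback.lift_fst _ _ _, pullback.lift_snd _ _ _⟩
  have hc2 : pullback.fst a b ≫ (a ≫ pullback.fst x γ) = pullback.snd a b ≫ (b ≫ pullback.fst x γ) := by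
    rw [← Category.assoc, pullback.condition, Category.assoc]
  obtain ⟨t, ht1, ht2⟩ : ∃ t : pullback a b ⟶
      pullback (a ≫ pullback.fst x γ) (b ≫ pullback.fst x γ),
      t ≫ pullback.fst _ _ = pullback.fst a b ∧ t ≫ pullback.snd _ _ = pullback.snd a b :=
    ⟨pullback.lift _ _ hc2, pullback.lift_fst _ _ _, pullback.lift_snd _ _ _⟩
  have hc3 : t ≫ u = t ≫ v := by
    rw [hu, hv, ← Category.assoc, ht1, ← Category.assoc t, ht2, ← Category.assoc,
      pullback.condition, Category.assoc]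
  obtain ⟨r, hr⟩ : ∃ r : pullback a b ⟶ equalizer u v, r ≫ equalizer.ι u v = t :=
    ⟨equalizer.lift t hc3, equalizer.lift_ι _ _⟩
  have hrs : r ≫ s = 𝟙 _ := by
    apply pullback.hom_ext
    · rw [Category.assoc, hs1, ← Category.assoc, hr, ht1, Category.id_comp]
    · rw [Category.assoc, hs2, ← Category.assoc, hr, ht2, Category.id_comp]
  exact isQC_of_retract r s hrs hE

/-- In an algebraic topos every morphism with quasi-separated source is quasi-separated. -/
theorem isQSHom_of_isQS_algebraic (S : Set (ToposFin.Sh J)) (hqc : ∀ K ∈ S, ToposFin.IsQC K)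
    (hgen : ToposFin.IsGenerating S) (hpb : ToposFin.ClosedUnderPullbacks S)
    (heq : ToposFin.ClosedUnderEqualizers S) {X Y : ToposFin.Sh J} (f : X ⟶ Y)
    (hX : ToposFin.IsQS X) : ToposFin.IsQSHom f := by
  have hE := hasQCGenerators_of_isGenerating S hqc hgen
  obtain ⟨ι, G, π, hG, hπ⟩ := hgen Y
  apply isQSHom_of_jepi_target_snd hE f π hπ
  intro i
  exact isQSHom_to_mem S hqc hgen hpb (hG i) _
    (isQS_pullback_of_mem S hqc hgen heq (hG i) f (π i) hX)

end Groth.Agent.Lib.Helper5.ToposAlg
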