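import Groth.Agent.Lib.Helper5.ToposColimHom
import Groth.Agent.Lib.Helper5.SiteColimLocal
import Groth.Agent.Lib.Helper5.CechFlasque
import Groth.Agent.Lib.Helper5.ExtColim

/-!
# `Hom(ℤ[K], -)` commutes with filtered colimits of abelian sheaves for coherent `K` (helper5)
-/

set_option autoImplicit false
universe u

open CategoryTheory CategoryTheory.Limits Opposite

noncomputable section

namespace Groth.Agent.Lib.Helper5.ToposColimAb

open Groth.Agent.Lib.Helper5.ToposColimHom Groth.Agent.Lib.Helper5.CechFlasque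
  Groth.Agent.Lib.Helper5.ExtColim

variable {C : Type u} [SmallCategory C] (J : GrothendieckTopology C)
  {I : Type u} [SmallCategory I] [IsFiltered I] (F : I ⥤ Sheaf J AddCommGrpCat.{u})

/-- the underlying diagram of sheaves of sets -/
abbrev DU : I ⥤ ToposFin.Sh J := F ⋙ Uf J

/-- the underlying cocone legs -/
abbrev τU (i : I) : (DU J F).obj i ⟶ (Uf J).obj (colimit F) := (Uf J).map (colimit.ι F i)

lemma τU_w {i j : I} (f : i ⟶ j) : (DU J F).map f ≫ τU J F j = τU J F i := by
  change (Uf J).map (F.map f) ≫ (Uf J).map (colimit.ι F j) = (Uf J).map (colimit.ι F i)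
  rw [← Functor.map_comp, colimit.w]

lemma e1 : E1 (DU J F) (τU J F) := by
  intro U s
  obtain ⟨T, hT, h⟩ := SiteColimLocal.local_surj F (colimit.cocone F) (colimit.isColimit F) U s
  exact ⟨T, hT, fun V v hv => h v hv⟩

lemma e2 : E2 (DU J F) (τU J F) := by
  intro U i t t' h
  let a : (F.obj i).obj.obj (op U) := t
  let a' : (F.obj i).obj.obj (op U) := t'
  have h0 : ((colimit.ι F i).hom.app (op U)).hom (a - a') = 0 := by
    rw [map_sub, sub_eq_zero]; exact h
  obtain ⟨T, hT, hl⟩ := SiteColimLocal.local_inj F (colimit.cocone F) (colimit.isColimit F) U i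
    (a - a') h0
  refine ⟨T, hT, fun V v hv => ?_⟩
  obtain ⟨j, f, hf⟩ := hl v hv
  refine ⟨j, f, ?_⟩
  rw [map_sub, map_sub, sub_eq_zero] at hf
  exact hf

variable {J}

/-- **Hom out of the free abelian sheaf on a coherent object commutes with filtered colimits.** -/
theorem surj_inj_zero (hE : ToposFin.HasQCGenerators J) {K : ToposFin.Sh J}
    (hK : ToposFin.IsCoherent K) :
    Surj ((Φ J).obj K) F 0 ∧ Inj ((Φ J).obj K) F 0 := by
  constructor
  · apply surj_zero_of_hom
    intro x
    obtain ⟨i, a, ha⟩ := hom_surj (DU J F) (τU J F) (fun f => τU_w J F f) (e1 J F) (e2 J F) hE hK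
      ((adjΦ J).homEquiv K _ x)
    refine ⟨i, ((adjΦ J).homEquiv K _).symm a, ?_⟩
    apply ((adjΦ J).homEquiv K _).injective
    rw [Adjunction.homEquiv_naturality_right, Equiv.apply_symm_apply]
    exact ha
  · apply inj_zero_of_hom
    intro i y hy
    obtain ⟨j, f, hf⟩ := hom_inj (DU J F) (τU J F) (e2 J F) hK.1 i
      ((adjΦ J).homEquiv K _ y) ((adjΦ J).homEquiv K _ 0) (by
        change (adjΦ J).homEquiv K _ y ≫ (Uf J).map (colimit.ι F i) =
          (adjΦ J).homEquiv K _ 0 ≫ (Uf J).map (colimit.ι F i)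
        rw [← Adjunction.homEquiv_naturality_right, ← Adjunction.homEquiv_naturality_right, hy,
          zero_comp])
    refine ⟨j, f, ?_⟩
    apply ((adjΦ J).homEquiv K _).injective
    change (adjΦ J).homEquiv K _ y ≫ (Uf J).map (F.map f) =
      (adjΦ J).homEquiv K _ 0 ≫ (Uf J).map (F.map f) at hf
    rw [← Adjunction.homEquiv_naturality_right, ← Adjunction.homEquiv_naturality_right,
      zero_comp] at hf
    exact hf

end Groth.Agent.Lib.Helper5.ToposColimAb
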