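import Groth.Agent.Lib.Helper5.ToposDec
import Groth.Agent.Lib.Helper5.ToposColimAb
import Groth.Agent.Lib.Helper5.RelCartan

/-!
# Cartan's criterion and filtered colimits for a generating class of quasi-compact objects of a
topos, stable under fibre products (helper5)
-/

set_option autoImplicit false
universe u

open CategoryTheory CategoryTheory.Limits Opposite

noncomputable section

namespace Groth.Agent.Lib.Helper5.ToposCartan

open Groth.Agent.Lib.Helper9 Groth.Agent.Lib.Helper5.ToposEpi Groth.Agent.Lib.Helper5.ToposQC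
  Groth.Agent.Lib.Helper5.ToposColimHom Groth.Agent.Lib.Helper5.ToposDec
  Groth.Agent.Lib.Helper5.CechFlasque Groth.Agent.Lib.Helper5.RelCartan

variable {C : Type u} [SmallCategory C] {J : GrothendieckTopology C} {S : Set (ToposFin.Sh J)}

section Basics

variable (hqc : ∀ K ∈ S, ToposFin.IsQC K) (hgen : ToposFin.IsGenerating S)
  (hpb : ToposFin.ClosedUnderPullbacks S)

include hqc hgen in
lemma hasQCGenerators : ToposFin.HasQCGenerators J := by
  intro X
  obtain ⟨ι, F, π, hF, hπ⟩ := hgen X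
  exact ⟨ι, F, π, fun i => hqc _ (hF i), (epi_desc_iff π).2 hπ⟩

include hgen in
lemma exists_finite_cover (X : ToposFin.Sh J) (hX : ToposFin.IsQC X) :
    ∃ (β : Type u) (_ : Finite β) (L : β → ToposFin.Sh J) (z : ∀ b, L b ⟶ X),
      (∀ b, L b ∈ S) ∧ JEpi z := by
  obtain ⟨ι, F, π, hF, hπ⟩ := hgen X
  obtain ⟨s, hs⟩ := (isQC_iff X).1 hX ι F π hπ
  exact ⟨s, inferInstance, fun k => F k.1, fun k => π k.1, fun k => hF k.1, hs⟩

include hqc hgen hpb in
lemma isQS_of_mem {K : ToposFin.Sh J} (hK : K ∈ S) : ToposFin.IsQS K := by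
  intro Y Z a b hY hZ
  obtain ⟨β, _, L, y, hL, hy⟩ := exists_finite_cover hgen Y hY
  obtain ⟨β', _, L', z, hL', hz⟩ := exists_finite_cover hgen Z hZ
  refine isQC_of_finite_jepi _ (JEpi.pullback_map a b y hy z hz) (fun p => ?_)
  obtain ⟨P, p₁, p₂, hP, hPB⟩ := hpb (y p.1 ≫ a) (z p.2 ≫ b) (hL p.1) (hL' p.2) hK
  exact isQC_of_iso hPB.isoPullback (hqc P hP)

include hqc hgen hpb in
lemma isCoherent_of_mem {K : ToposFin.Sh J} (hK : K ∈ S) : ToposFin.IsCoherent K :=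
  ⟨hqc K hK, isQS_of_mem hqc hgen hpb hK⟩

end Basics

section PhiCofan

/-- the free abelian sheaf functor preserves coproduct cofans -/
def isColimitΦCofan {γ : Type u} {M : γ → ToposFin.Sh J} {N : ToposFin.Sh J} (j : ∀ c, M c ⟶ N)
    (hc : IsColimit (Cofan.mk N j)) :
    IsColimit (Cofan.mk ((Φ J).obj N) (fun c => (Φ J).map (j c))) := by
  haveI : PreservesColimitsOfSize.{u, u} (Φ J) := (adjΦ J).leftAdjoint_preservesColimits
  exact (isColimitMapCoconeCofanMkEquiv (Φ J) M j) (isColimitOfPreserves (Φ J) hc)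

lemma lift_of_dec {N : ToposFin.Sh J} (hN : Dec S N) {X Y : Sheaf J AddCommGrpCat.{u}} (g : X ⟶ Y)
    (hg : ∀ L, L ∈ S → ∀ s : (Φ J).obj L ⟶ Y, ∃ t : (Φ J).obj L ⟶ X, t ≫ g = s)
    (s : (Φ J).obj N ⟶ Y) : ∃ t : (Φ J).obj N ⟶ X, t ≫ g = s := by
  obtain ⟨γ, hγ, M, j, hM, ⟨hc⟩⟩ := hN
  have hΦ := isColimitΦCofan j hc
  choose t ht using fun c => hg (M c) (hM c) ((Φ J).map (j c) ≫ s)
  refine ⟨Cofan.IsColimit.desc hΦ t, ?_⟩
  refine Cofan.IsColimit.hom_ext hΦ _ _ (fun c => ?_)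
  rw [Cofan.IsColimit.fac_assoc]
  exact ht c

end PhiCofan

section HomColim

variable {I : Type u} [SmallCategory I] [IsFiltered I] (F : I ⥤ Sheaf J AddCommGrpCat.{u})

lemma hsurj_of_dec {N : ToposFin.Sh J} (hN : Dec S N)
    (h : ∀ L, L ∈ S → ∀ x : (Φ J).obj L ⟶ colimit F,
      ∃ (i : I) (y : (Φ J).obj L ⟶ F.obj i), y ≫ colimit.ι F i = x)
    (x : (Φ J).obj N ⟶ colimit F) :
    ∃ (i : I) (y : (Φ J).obj N ⟶ F.obj i), y ≫ colimit.ι F i = x := by
  obtain ⟨γ, hγ, M, j, hM, ⟨hc⟩⟩ := hN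
  have hΦ := isColimitΦCofan j hc
  choose i y hy using fun c => h (M c) (hM c) ((Φ J).map (j c) ≫ x)
  obtain ⟨l, hl⟩ := FiltFin.exists_bound i
  have f : ∀ c, i c ⟶ l := fun c => (hl c).some
  refine ⟨l, Cofan.IsColimit.desc hΦ (fun c => y c ≫ F.map (f c)), ?_⟩
  refine Cofan.IsColimit.hom_ext hΦ _ _ (fun c => ?_)
  rw [Cofan.IsColimit.fac_assoc, Category.assoc, colimit.w]
  exact hy c

lemma hinj_of_dec {N : ToposFin.Sh J} (hN : Dec S N)
    (h : ∀ L, L ∈ S → ∀ (i : I) (y : (Φ J).obj L ⟶ F.obj i), y ≫ colimit.ι F i = 0 →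
      ∃ (j : I) (f : i ⟶ j), y ≫ F.map f = 0)
    (i : I) (y : (Φ J).obj N ⟶ F.obj i) (hy : y ≫ colimit.ι F i = 0) :
    ∃ (j : I) (f : i ⟶ j), y ≫ F.map f = 0 := by
  obtain ⟨γ, hγ, M, j, hM, ⟨hc⟩⟩ := hN
  have hΦ := isColimitΦCofan j hc
  obtain ⟨k, f, hf⟩ := FiltFin.exists_common i
    (fun (c : γ) (k : I) (f : i ⟶ k) => (Φ J).map (j c) ≫ y ≫ F.map f = 0)
    (fun c k f l g hp => by
      rw [F.map_comp, ← Category.assoc y, ← Category.assoc, hp, zero_comp])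
    (fun c => by
      obtain ⟨k, f, hf⟩ := h (M c) (hM c) i ((Φ J).map (j c) ≫ y) (by
        rw [Category.assoc, hy, comp_zero])
      exact ⟨k, f, by rw [← Category.assoc]; exact hf⟩)
  refine ⟨k, f, Cofan.IsColimit.hom_ext hΦ _ _ (fun c => ?_)⟩
  rw [comp_zero]
  exact hf c

end HomColim

section HypSec

variable (S)

/-- test objects: free abelian sheaves on members of `S` -/
def T (X : Sheaf J AddCommGrpCat.{u}) : Prop := ∃ L, L ∈ S ∧ X = (Φ J).obj L

/-- Čech resolutions of members of `S` by finite coproducts of members of `S` -/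
inductive R : ∀ (P : ChainComplex (Sheaf J AddCommGrpCat.{u}) ℕ) (M : Sheaf J AddCommGrpCat.{u}),
    (P.X 0 ⟶ M) → Prop
  | mk {K' K : ToposFin.Sh J} (f : K' ⟶ K) [Epi f] (hK : K ∈ S) (hK' : Dec S K') :
      R (cechP J f) ((Φ J).obj K) (cechAug J f)

variable {S}

lemma exists_cech_lift (hqc : ∀ K ∈ S, ToposFin.IsQC K) (hgen : ToposFin.IsGenerating S)
    {K : ToposFin.Sh J} (hK : K ∈ S) {X Y : Sheaf J AddCommGrpCat.{u}} (g : X ⟶ Y) [Epi g]
    (s : (Φ J).obj K ⟶ Y) :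
    ∃ (K' : ToposFin.Sh J) (f : K' ⟶ K) (_ : Epi f) (_ : Dec S K') (y : (cechP J f).X 0 ⟶ X),
      y ≫ g = cechAug J f ≫ s := by
  obtain ⟨K'', f'', hf'', y'', hy''⟩ := exists_epi_lift J g s
  obtain ⟨ι, G, π, hG, hπ⟩ := hgen K''
  have h1 : JEpi (fun i => π i ≫ f'') := by
    intro Z a b hab
    rw [← cancel_epi f'']
    apply hπ
    intro i
    simpa using hab i
  obtain ⟨t, ht⟩ := (isQC_iff K).1 (hqc K hK) ι G _ h1
  let f : ∐ (fun k : t => G k) ⟶ K := Sigma.desc (fun k : t => π k ≫ f'')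
  have hf : Epi f := (epi_desc_iff _).2 ht
  refine ⟨_, f, hf, dec_sigma _ (fun k => hG k), ?_⟩
  refine ⟨(Φ J).map (WidePullback.π (fun _ : Fin (0 + 1) => f) 0 ≫
    Sigma.desc (fun k : t => π k)) ≫ y'', ?_⟩
  rw [Category.assoc, hy'', ← Category.assoc, ← Functor.map_comp]
  congr 1
  change _ = (Φ J).map (WidePullback.base _)
  congr 1
  rw [← WidePullback.π_arrow _ 0, Category.assoc]
  congr 1
  apply Sigma.hom_ext
  intro k
  simp [f]

theorem hyp (hqc : ∀ K ∈ S, ToposFin.IsQC K) (hgen : ToposFin.IsGenerating S)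
    (hpb : ToposFin.ClosedUnderPullbacks S) : Hyp (T S) (R S) where
  isRes := by
    rintro _ _ _ ⟨f, hK, hK'⟩
    exact cech_isRes J f
  base := by
    rintro _ _ _ ⟨f, hK, hK'⟩
    exact ⟨_, hK, rfl⟩
  terms := by
    rintro _ _ _ ⟨f, hK, hK'⟩ n X Y g hg s
    exact lift_of_dec (dec_nerve hpb hK f hK' n) g (fun L hL s => hg _ ⟨L, hL, rfl⟩ s) s
  lift := by
    rintro M ⟨K, hK, rfl⟩ X Y g _ s
    obtain ⟨K', f, hf, hK', y, hy⟩ := exists_cech_lift hqc hgen hK g s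
    exact ⟨cechP J f, cechAug J f, R.mk f hK hK', y, hy⟩

end HypSec

section Main

variable (hqc : ∀ K ∈ S, ToposFin.IsQC K) (hgen : ToposFin.IsGenerating S)
  (hpb : ToposFin.ClosedUnderPullbacks S)
  {I : Type u} [SmallCategory I] [IsFiltered I] (F : I ⥤ Sheaf J AddCommGrpCat.{u})

include hqc hgen hpb in
/-- a filtered colimit of `S`-Čech-acyclic sheaves is `S`-Čech-acyclic -/
theorem rAcyclic_colimit (hF : ∀ i, RAcyclic (R S) (F.obj i)) : RAcyclic (R S) (colimit F) := by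
  rintro _ _ _ ⟨f, hK, hK'⟩ q
  have hE := hasQCGenerators hqc hgen
  refine acyclicAt_colimit (cechP J f) F q ?_ ?_ (fun i => hF i _ _ _ (R.mk f hK hK') q)
  · exact hsurj_of_dec F (dec_nerve hpb hK f hK' (q + 1)) (fun L hL x =>
      ExtColim.hom_of_surj_zero _ F
        (ToposColimAb.surj_inj_zero F hE (isCoherent_of_mem hqc hgen hpb hL)).1 x)
  · exact hinj_of_dec F (dec_nerve hpb hK f hK' (q + 2)) (fun L hL i y hy =>
      ExtColim.hom_of_inj_zero _ F
        (ToposColimAb.surj_inj_zero F hE (isCoherent_of_mem hqc hgen hpb hL)).2 i y hy)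

include hqc hgen hpb in
/-- a filtered colimit of `S`-acyclic sheaves is `S`-acyclic -/
theorem tAcyclic_colimit (hF : ∀ i, TAcyclic.{u} (T S) (F.obj i)) :
    TAcyclic.{u} (T S) (colimit F) :=
  tAcyclic_of_rAcyclic (hyp hqc hgen hpb)
    (rAcyclic_colimit hqc hgen hpb F (fun i => rAcyclic_of_tAcyclic (hyp hqc hgen hpb) (hF i)))

include hqc hgen hpb in
/-- `Ext^q(ℤ[K], -)` commutes with filtered colimits for `K ∈ S`, elementwise form -/
theorem surj_inj_of_mem {K : ToposFin.Sh J} (hK : K ∈ S) (q : ℕ) :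
    ExtColim.Surj ((Φ J).obj K) F q ∧ ExtColim.Inj ((Φ J).obj K) F q := by
  have hE := hasQCGenerators hqc hgen
  refine ExtColim.surj_inj ((Φ J).obj K)
    (fun F' => ToposColimAb.surj_inj_zero F' hE (isCoherent_of_mem hqc hgen hpb hK))
    ExtColim.exists_res ?_ q F
  intro E hEinj n x
  exact tAcyclic_colimit hqc hgen hpb E
    (fun i T _ q x => Abelian.Ext.eq_zero_of_injective x) _ ⟨K, hK, rfl⟩ n x

include hqc hgen hpb in
/-- `Ext^q(ℤ[K], -)` commutes with filtered colimits for `K ∈ S` -/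
theorem preservesColimit_of_mem {K : ToposFin.Sh J} (hK : K ∈ S) (q : ℕ) :
    PreservesColimit F (Abelian.extFunctorObj.{u} ((Φ J).obj K) q) := by
  have hE := hasQCGenerators hqc hgen
  refine ExtColim.main ((Φ J).obj K)
    (fun F' => ToposColimAb.surj_inj_zero F' hE (isCoherent_of_mem hqc hgen hpb hK)) ?_ q F
  intro E hEinj n x
  exact tAcyclic_colimit hqc hgen hpb E
    (fun i T _ q x => Abelian.Ext.eq_zero_of_injective x) _ ⟨K, hK, rfl⟩ n x

end Main

end Groth.Agent.Lib.Helper5.ToposCartan
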