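import Groth.Agent.Lib.Helper5.ToposCartan
import Groth.Agent.Lib.Helper5.ToposAlg

/-!
# `H^q(K, -)` commutes with filtered colimits for coherent `K` in an algebraic topos (helper5)
-/

set_option autoImplicit false
universe u

open CategoryTheory CategoryTheory.Limits Opposite

noncomputable section

namespace Groth.Agent.Lib.Helper5.ToposCohColim

open Groth.Agent.Lib.Helper9 Groth.Agent.Lib.Helper5.ToposEpi Groth.Agent.Lib.Helper5.ToposQC
  Groth.Agent.Lib.Helper5.ToposAlg Groth.Agent.Lib.Helper5.CechFlasque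
  Groth.Agent.Lib.Helper5.ToposCartan

variable {C : Type u} [SmallCategory C] {J : GrothendieckTopology C}

variable (J) in
/-- the set of all coherent objects -/
def Scoh : Set (ToposFin.Sh J) := {K | ToposFin.IsCoherent K}

variable (S : Set (ToposFin.Sh J)) (hqc : ∀ K ∈ S, ToposFin.IsQC K)
  (hgen : ToposFin.IsGenerating S) (hpb : ToposFin.ClosedUnderPullbacks S)
  (heq : ToposFin.ClosedUnderEqualizers S)

include hqc hgen hpb in
lemma isGenerating_coh : ToposFin.IsGenerating (Scoh J) := by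
  intro X
  obtain ⟨ι, F, π, hF, hπ⟩ := hgen X
  exact ⟨ι, F, π, fun i => isCoherent_of_mem hqc hgen hpb (hF i), hπ⟩

include hqc hgen hpb heq in
lemma closedUnderPullbacks_coh : ToposFin.ClosedUnderPullbacks (Scoh J) := by
  intro K L M f g hK hL hM
  refine ⟨pullback f g, pullback.fst f g, pullback.snd f g, ⟨?_, ?_⟩,
    IsPullback.of_hasPullback f g⟩
  · exact hM.2 K L f g hK.1 hL.1
  · exact isQS_of_isQSHom (pullback.fst f g)
      (isQSHom_pullback_fst g f (isQSHom_of_isQS_algebraic S hqc hgen hpb heq g hL.2)) hK.2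

theorem surj_inj_of_coherent (hE : ToposFin.IsAlgebraic J) {K : ToposFin.Sh J}
    (hK : ToposFin.IsCoherent K) {I : Type u} [SmallCategory I] [IsFiltered I]
    (F : I ⥤ Sheaf J AddCommGrpCat.{u}) (q : ℕ) :
    ExtColim.Surj ((Φ J).obj K) F q ∧ ExtColim.Inj ((Φ J).obj K) F q := by
  obtain ⟨S, hqc, hgen, hpb, heq⟩ := hE
  exact surj_inj_of_mem (S := Scoh J) (fun K hK => hK.1)
    (isGenerating_coh S hqc hgen hpb) (closedUnderPullbacks_coh S hqc hgen hpb heq) F hK q

theorem preservesColimit_of_coherent (hE : ToposFin.IsAlgebraic J) {K : ToposFin.Sh J}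
    (hK : ToposFin.IsCoherent K) {I : Type u} [SmallCategory I] [IsFiltered I]
    (F : I ⥤ Sheaf J AddCommGrpCat.{u}) (q : ℕ) :
    PreservesColimit F (Abelian.extFunctorObj.{u} ((Φ J).obj K) q) := by
  obtain ⟨S, hqc, hgen, hpb, heq⟩ := hE
  exact preservesColimit_of_mem (S := Scoh J) (fun K hK => hK.1)
    (isGenerating_coh S hqc hgen hpb) (closedUnderPullbacks_coh S hqc hgen hpb heq) F hK q

end Groth.Agent.Lib.Helper5.ToposCohColim
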