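import Groth.Agent.Lib.Helper5.ToposSite
import Groth.Agent.Lib.Helper5.FiltFin

/-!
# `Hom(X, -)` and filtered colimits in a topos of sheaves, for quasi-compact / coherent `X` (helper5)

We work with a filtered diagram `D` of sheaves of sets and a "cocone" `τ i : D i ⟶ Y` which is
locally surjective (`E1`) and locally injective up to passing to a later stage (`E2`); colimit
cocones have these properties, and so do the images of colimit cocones of abelian sheaves.
-/

set_option autoImplicit false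

universe u

open CategoryTheory CategoryTheory.Limits Opposite

namespace Groth.Agent.Lib.Helper5.ToposColimHom

open Groth.Agent.Lib.Helper5.ToposEpi Groth.Agent.Lib.Helper5.ToposQC
  Groth.Agent.Lib.Helper5.ToposSite

variable {C : Type u} [SmallCategory C] {J : GrothendieckTopology C}

theorem hasColimitsOfShape_discrete_sh (κ : Type u) :
    HasColimitsOfShape (Discrete κ) (Sheaf J (Type u)) := by
  have : HasWeakSheafify J (Type u) := inferInstance
  have : HasColimitsOfShape (Discrete κ) (Type u) := inferInstance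
  exact Sheaf.instHasColimitsOfShape

instance hasCoproductSh {κ : Type u} (G : κ → ToposFin.Sh J) : HasCoproduct G :=
  haveI := hasColimitsOfShape_discrete_sh (J := J) κ
  inferInstance

variable {I : Type u} [SmallCategory I] [IsFiltered I] (D : I ⥤ ToposFin.Sh J) {Y : ToposFin.Sh J}
  (τ : ∀ i, D.obj i ⟶ Y)

/-- every section of `Y` comes locally from some stage -/
def E1 : Prop :=
  ∀ (U : C) (s : Y.obj.obj (op U)), ∃ T ∈ J U, ∀ ⦃V : C⦄ (v : V ⟶ U), T v →
    ∃ (i : I) (t : (D.obj i).obj.obj (op V)), (τ i).hom.app (op V) t = Y.obj.map v.op s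

/-- two sections at a stage with the same image in `Y` become equal locally at later stages -/
def E2 : Prop :=
  ∀ (U : C) (i : I) (t t' : (D.obj i).obj.obj (op U)),
    (τ i).hom.app (op U) t = (τ i).hom.app (op U) t' → ∃ T ∈ J U, ∀ ⦃V : C⦄ (v : V ⟶ U), T v →
      ∃ (j : I) (f : i ⟶ j), (D.map f).hom.app (op V) ((D.obj i).obj.map v.op t) =
        (D.map f).hom.app (op V) ((D.obj i).obj.map v.op t')

omit [IsFiltered I] in
lemma map_comp_apply {i j k : I} (f : i ⟶ j) (g : j ⟶ k) (V : Cᵒᵖ) (t : (D.obj i).obj.obj V) :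
    (D.map (f ≫ g)).hom.app V t = (D.map g).hom.app V ((D.map f).hom.app V t) := by
  rw [D.map_comp]; rfl

/-- **Injectivity** for quasi-compact `X`. -/
theorem hom_inj (h2 : E2 D τ) {X : ToposFin.Sh J} (hX : ToposFin.IsQC X) (i : I)
    (a b : X ⟶ D.obj i) (hab : a ≫ τ i = b ≫ τ i) :
    ∃ (j : I) (f : i ⟶ j), a ≫ D.map f = b ≫ D.map f := by
  classical
  let Idx := Σ (V : C) (x : X.obj.obj (op V)) (j : I), {f : i ⟶ j //
    (D.map f).hom.app (op V) (a.hom.app (op V) x) = (D.map f).hom.app (op V) (b.hom.app (op V) x)}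
  let π : ∀ p : Idx, ToposFin.eps J p.1 ⟶ X := fun p => ofSec J p.2.1
  have hπ : JEpi π := by
    apply JEpi.of_locSurj
    intro U x
    have e : (τ i).hom.app (op U) (a.hom.app (op U) x) = (τ i).hom.app (op U) (b.hom.app (op U) x) :=
      congrArg (fun φ : X ⟶ Y => φ.hom.app (op U) x) hab
    obtain ⟨T, hT, hl⟩ := h2 U i _ _ e
    refine ⟨T, hT, fun V v hv => ?_⟩
    obtain ⟨j, f, hf⟩ := hl v hv
    rw [← hom_naturality_apply, ← hom_naturality_apply] at hf
    exact ⟨⟨V, X.obj.map v.op x, j, f, hf⟩, sec J (𝟙 V), ofSec_sec_id J _⟩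
  obtain ⟨s, hs⟩ := (isQC_iff X).1 hX Idx _ π hπ
  obtain ⟨k, h, hk⟩ := FiltFin.exists_common (ι := s) i
    (fun p k h => (D.map h).hom.app (op p.1.1) (a.hom.app (op p.1.1) p.1.2.1) =
      (D.map h).hom.app (op p.1.1) (b.hom.app (op p.1.1) p.1.2.1))
    (fun p k h l g hp => by rw [map_comp_apply, map_comp_apply, hp])
    (fun p => ⟨p.1.2.2.1, p.1.2.2.2.1, p.1.2.2.2.2⟩)
  refine ⟨k, h, hs _ _ _ fun p => ?_⟩
  apply eps_hom_ext
  change (D.map h).hom.app _ (a.hom.app _ ((ofSec J p.1.2.1).hom.app _ (sec J (𝟙 _)))) =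
    (D.map h).hom.app _ (b.hom.app _ ((ofSec J p.1.2.1).hom.app _ (sec J (𝟙 _))))
  rw [ofSec_sec_id]
  exact hk p


omit [IsFiltered I] in
/-- descent of morphisms along an epimorphism of sheaves of sets -/
lemma exists_desc_of_epi {Z X W : ToposFin.Sh J} (p : Z ⟶ X) [Epi p] (g : Z ⟶ W)
    (h : pullback.fst p p ≫ g = pullback.snd p p ≫ g) : ∃ a : X ⟶ W, p ≫ a = g := by
  have r : RegularEpi p := regularEpiOfEpi p
  have k : IsKernelPair p (pullback.fst p p) (pullback.snd p p) := IsPullback.of_hasPullback p p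
  let hc := k.toCoequalizer r
  exact ⟨hc.desc (Cofork.ofπ g h), hc.fac _ WalkingParallelPair.one⟩

omit [IsFiltered I] in
lemma jepi_sigma_ι {κ : Type u} (G : κ → ToposFin.Sh J) : JEpi (fun k => Sigma.ι G k) := by
  intro Z a b hab
  exact Sigma.hom_ext _ _ hab

/-- **Surjectivity** for coherent `X`, when the topos has quasi-compact generators. -/
theorem hom_surj (hτ : ∀ {i j : I} (f : i ⟶ j), D.map f ≫ τ j = τ i) (h1 : E1 D τ) (h2 : E2 D τ)
    (hE : ToposFin.HasQCGenerators J) {X : ToposFin.Sh J} (hX : ToposFin.IsCoherent X)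
    (σ : X ⟶ Y) : ∃ (i : I) (a : X ⟶ D.obj i), a ≫ τ i = σ := by
  classical
  let Idx := Σ (V : C) (x : X.obj.obj (op V)) (i : I), {t : (D.obj i).obj.obj (op V) //
    (τ i).hom.app (op V) t = σ.hom.app (op V) x}
  let π : ∀ p : Idx, ToposFin.eps J p.1 ⟶ X := fun p => ofSec J p.2.1
  have hπ : JEpi π := by
    apply JEpi.of_locSurj
    intro U x
    obtain ⟨T, hT, hl⟩ := h1 U (σ.hom.app (op U) x)
    refine ⟨T, hT, fun V v hv => ?_⟩
    obtain ⟨i, t, ht⟩ := hl v hv
    rw [← hom_naturality_apply] at ht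
    exact ⟨⟨V, X.obj.map v.op x, i, t, ht⟩, sec J (𝟙 V), ofSec_sec_id J _⟩
  obtain ⟨κ, G, idx, ρ, hG, hρ⟩ := exists_qc_refinement hE π hπ
  obtain ⟨s, hs⟩ := (isQC_iff X).1 hX.1 κ _ _ hρ
  obtain ⟨i, hi⟩ := FiltFin.exists_bound (ι := s) (fun k => (idx k.1).2.2.1)
  let Z : ToposFin.Sh J := ∐ (fun k : s => G k.1)
  let p : Z ⟶ X := Sigma.desc (fun k : s => ρ k.1 ≫ π (idx k.1))
  have : Epi p := (epi_desc_iff _).2 hs
  let g : Z ⟶ D.obj i := Sigma.desc
    (fun k : s => ρ k.1 ≫ ofSec J (idx k.1).2.2.2.1 ≫ D.map (hi k).some)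
  have hg : g ≫ τ i = p ≫ σ := by
    apply Sigma.hom_ext
    intro k
    have e : ofSec J (idx k.1).2.2.2.1 ≫ τ (idx k.1).2.2.1 = π (idx k.1) ≫ σ := by
      apply eps_hom_ext
      change (τ _).hom.app _ ((ofSec J (idx k.1).2.2.2.1).hom.app _ (sec J (𝟙 _))) =
        σ.hom.app _ ((ofSec J (idx k.1).2.1).hom.app _ (sec J (𝟙 _)))
      rw [ofSec_sec_id, ofSec_sec_id]
      exact (idx k.1).2.2.2.2
    rw [Sigma.ι_desc_assoc, Sigma.ι_desc_assoc, Category.assoc, Category.assoc, Category.assoc,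
      hτ, e]
  have hZ : ToposFin.IsQC Z :=
    isQC_of_finite_jepi (fun k : s => Sigma.ι (fun k : s => G k.1) k) (jepi_sigma_ι _)
      (fun k => hG k.1)
  have hW : ToposFin.IsQC (pullback p p) := hX.2 Z Z p p hZ hZ
  have e : (pullback.fst p p ≫ g) ≫ τ i = (pullback.snd p p ≫ g) ≫ τ i := by
    rw [Category.assoc, Category.assoc, hg, ← Category.assoc, pullback.condition, Category.assoc]
  obtain ⟨j, f, hf⟩ := hom_inj D τ h2 hW i _ _ e
  obtain ⟨a, ha⟩ := exists_desc_of_epi p (g ≫ D.map f)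
    (by rw [← Category.assoc, hf, Category.assoc])
  refine ⟨j, a, ?_⟩
  rw [← cancel_epi p, ← Category.assoc, ha, Category.assoc, hτ, hg]

end Groth.Agent.Lib.Helper5.ToposColimHom
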