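import Groth.Agent.Lib.Helper5.ToposColimHom

/-!
# `Hom(X, -)` and filtered colimits of sheaves of sets (helper5)
-/

set_option autoImplicit false
universe u

open CategoryTheory CategoryTheory.Limits Opposite

noncomputable section

namespace Groth.Agent.Lib.Helper5.ToposColimSet

open Groth.Agent.Lib.Helper5.ToposColimHom Groth.Agent.Lib.Helper5.ToposEpi

variable {C : Type u} [SmallCategory C] {J : GrothendieckTopology C}
  {I : Type u} [SmallCategory I] [IsFiltered I] (D : I ⥤ ToposFin.Sh J)

/-- the underlying diagram of presheaves -/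
abbrev Dp : I ⥤ (Cᵒᵖ ⥤ Type u) := D ⋙ sheafToPresheaf J (Type u)

/-- the presheaf colimit -/
abbrev P : Cᵒᵖ ⥤ Type u := colimit (Dp D)

/-- the canonical map `D_i(V) → P(V)` -/
def inP (i : I) (V : C) : (D.obj i).obj.obj (op V) → (P D).obj (op V) :=
  (colimit.ι (Dp D) i).app (op V)

omit [IsFiltered I] in
lemma inP_res (i : I) {V W : C} (g : W ⟶ V) (t : (D.obj i).obj.obj (op V)) :
    (P D).map g.op (inP D i V t) = inP D i W ((D.obj i).obj.map g.op t) :=
  (ConcreteCategory.congr_hom ((colimit.ι (Dp D) i).naturality g.op) t).symm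

omit [IsFiltered I] in
lemma inP_surj (V : C) (s : (P D).obj (op V)) :
    ∃ (i : I) (t : (D.obj i).obj.obj (op V)), inP D i V t = s := by
  have hc := isColimitOfPreserves ((evaluation Cᵒᵖ (Type u)).obj (op V))
    (colimit.isColimit (Dp D))
  obtain ⟨i, t, ht⟩ := Types.jointly_surjective_of_isColimit hc s
  exact ⟨i, t, ht⟩

lemma inP_eq (i : I) (V : C) (t t' : (D.obj i).obj.obj (op V)) (h : inP D i V t = inP D i V t') :
    ∃ (j : I) (f : i ⟶ j), (D.map f).hom.app (op V) t = (D.map f).hom.app (op V) t' := by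
  have hc := isColimitOfPreserves ((evaluation Cᵒᵖ (Type u)).obj (op V))
    (colimit.isColimit (Dp D))
  exact (Types.FilteredColimit.isColimit_eq_iff' hc t t').1 h

/-- the standard colimit cocone (sheafification of the presheaf colimit) -/
abbrev stdCocone : Cocone D := Sheaf.sheafifyCocone (colimit.cocone (Dp D))

/-- the standard cocone is a colimit -/
def stdIsColimit : IsColimit (stdCocone D) :=
  Sheaf.isColimitSheafifyCocone _ (colimit.isColimit _)

omit [IsFiltered I] in
lemma std_ι_apply (i : I) (V : C) (t : (D.obj i).obj.obj (op V)) :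
    ((stdCocone D).ι.app i).hom.app (op V) t =
      (toSheafify J (P D)).app (op V) (inP D i V t) := by
  have := Sheaf.sheafifyCocone_ι_app_val (colimit.cocone (Dp D)) i
  exact ConcreteCategory.congr_hom (NatTrans.congr_app this (op V)) t

omit [IsFiltered I] in
/-- every section of the colimit comes locally from some stage -/
theorem e1 (d : Cocone D) (hd : IsColimit d) : E1 D (fun i => d.ι.app i) := by
  intro U s
  let e := (stdIsColimit D).coconePointUniqueUpToIso hd
  have he : ∀ i, (stdCocone D).ι.app i ≫ e.hom = d.ι.app i :=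
    fun i => IsColimit.comp_coconePointUniqueUpToIso_hom _ _ _
  let s' : (sheafify J (P D)).obj (op U) := e.inv.hom.app (op U) s
  refine ⟨_, Presheaf.imageSieve_mem J (toSheafify J (P D)) (U := op U) s', ?_⟩
  rintro V v ⟨x, hx⟩
  have hx' : (toSheafify J (P D)).app (op V) x = (sheafify J (P D)).map v.op s' := hx
  obtain ⟨i, t, rfl⟩ := inP_surj D V x
  refine ⟨i, t, ?_⟩
  change (d.ι.app i).hom.app (op V) t = d.pt.obj.map v.op s
  rw [← he i]
  change e.hom.hom.app (op V) (((stdCocone D).ι.app i).hom.app (op V) t) = _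
  rw [std_ι_apply, hx']
  have h1 : e.hom.hom.app (op V) ((sheafify J (P D)).map v.op s') =
      d.pt.obj.map v.op (e.hom.hom.app (op U) s') :=
    ConcreteCategory.congr_hom (e.hom.hom.naturality v.op) s'
  rw [h1]
  congr 1
  exact congrArg (fun φ : d.pt ⟶ d.pt => φ.hom.app (op U) s) e.inv_hom_id

/-- two sections at a stage with the same image in the colimit become equal locally at later
stages -/
theorem e2 (d : Cocone D) (hd : IsColimit d) : E2 D (fun i => d.ι.app i) := by
  intro U i t t' h
  let e := (stdIsColimit D).coconePointUniqueUpToIso hd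
  have he : (stdCocone D).ι.app i ≫ e.hom = d.ι.app i :=
    IsColimit.comp_coconePointUniqueUpToIso_hom _ _ _
  have h' : e.hom.hom.app (op U) (((stdCocone D).ι.app i).hom.app (op U) t) =
      e.hom.hom.app (op U) (((stdCocone D).ι.app i).hom.app (op U) t') := by
    change (d.ι.app i).hom.app (op U) t = (d.ι.app i).hom.app (op U) t' at h
    rw [← he] at h; exact h
  have h'' := congrArg (e.inv.hom.app (op U)) h'
  have h3 : ∀ z : (stdCocone D).pt.obj.obj (op U),
      e.inv.hom.app (op U) (e.hom.hom.app (op U) z) = z := fun z =>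
    congrArg (fun φ : (stdCocone D).pt ⟶ (stdCocone D).pt => φ.hom.app (op U) z) e.hom_inv_id
  rw [h3, h3, std_ι_apply, std_ι_apply] at h''
  have hmem := Presheaf.equalizerSieve_mem J (toSheafify J (P D)) (X := op U)
    (inP D i U t) (inP D i U t') h''
  refine ⟨_, hmem, ?_⟩
  intro V v hv
  have hv' : (P D).map v.op (inP D i U t) = (P D).map v.op (inP D i U t') := hv
  rw [inP_res, inP_res] at hv'
  exact inP_eq D i V _ _ hv'

omit [IsFiltered I] in
lemma post_ι_apply (X : ToposFin.Sh J) (i : I) (a : X ⟶ D.obj i) :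
    colimit.post D (coyoneda.obj (op X)) (colimit.ι (D ⋙ coyoneda.obj (op X)) i a) =
      a ≫ colimit.ι D i :=
  ConcreteCategory.congr_hom (colimit.ι_post D (coyoneda.obj (op X)) i) a

/-- injectivity of `colim Hom(X, D_i) → Hom(X, colim D_i)` for quasi-compact `X` -/
theorem post_injective {X : ToposFin.Sh J} (hX : ToposFin.IsQC X) :
    Function.Injective (colimit.post D (coyoneda.obj (op X))) := by
  intro x y hxy
  obtain ⟨i, a, rfl⟩ := Types.jointly_surjective' x
  obtain ⟨j, b, rfl⟩ := Types.jointly_surjective' y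
  rw [post_ι_apply, post_ι_apply] at hxy
  let k := IsFiltered.max i j
  have h : (a ≫ D.map (IsFiltered.leftToMax i j)) ≫ (colimit.cocone D).ι.app k =
      (b ≫ D.map (IsFiltered.rightToMax i j)) ≫ (colimit.cocone D).ι.app k := by
    change (a ≫ D.map (IsFiltered.leftToMax i j)) ≫ colimit.ι D k =
      (b ≫ D.map (IsFiltered.rightToMax i j)) ≫ colimit.ι D k
    rw [Category.assoc, colimit.w, Category.assoc, colimit.w]
    exact hxy
  obtain ⟨l, f, hf⟩ := hom_inj D (fun i => (colimit.cocone D).ι.app i)
    (e2 D (colimit.cocone D) (colimit.isColimit D)) hX k _ _ h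
  rw [Types.FilteredColimit.colimit_eq_iff]
  refine ⟨l, IsFiltered.leftToMax i j ≫ f, IsFiltered.rightToMax i j ≫ f, ?_⟩
  change a ≫ D.map (IsFiltered.leftToMax i j ≫ f) = b ≫ D.map (IsFiltered.rightToMax i j ≫ f)
  rw [D.map_comp, D.map_comp, ← Category.assoc, ← Category.assoc]
  exact hf

/-- surjectivity of `colim Hom(X, D_i) → Hom(X, colim D_i)` for coherent `X` -/
theorem post_surjective (hE : ToposFin.HasQCGenerators J) {X : ToposFin.Sh J}
    (hX : ToposFin.IsCoherent X) :
    Function.Surjective (colimit.post D (coyoneda.obj (op X))) := by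
  intro σ
  obtain ⟨i, a, ha⟩ := hom_surj D (fun i => (colimit.cocone D).ι.app i)
    (fun f => colimit.w D f) (e1 D (colimit.cocone D) (colimit.isColimit D))
    (e2 D (colimit.cocone D) (colimit.isColimit D)) hE hX σ
  exact ⟨colimit.ι (D ⋙ coyoneda.obj (op X)) i a, (post_ι_apply D X i a).trans ha⟩

/-- injectivity of the comparison map from the hom-form statement -/
theorem post_injective_of_hom (X : ToposFin.Sh J)
    (h : ∀ (j : I) (u v : X ⟶ D.obj j), u ≫ colimit.ι D j = v ≫ colimit.ι D j →
      ∃ (k : I) (f : j ⟶ k), u ≫ D.map f = v ≫ D.map f) :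
    Function.Injective (colimit.post D (coyoneda.obj (op X))) := by
  intro x y hxy
  obtain ⟨i, a, rfl⟩ := Types.jointly_surjective' x
  obtain ⟨j, b, rfl⟩ := Types.jointly_surjective' y
  rw [post_ι_apply, post_ι_apply] at hxy
  let k := IsFiltered.max i j
  have h' : (a ≫ D.map (IsFiltered.leftToMax i j)) ≫ colimit.ι D k =
      (b ≫ D.map (IsFiltered.rightToMax i j)) ≫ colimit.ι D k := by
    rw [Category.assoc, colimit.w, Category.assoc, colimit.w]
    exact hxy
  obtain ⟨l, f, hf⟩ := h k _ _ h'
  rw [Types.FilteredColimit.colimit_eq_iff]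
  refine ⟨l, IsFiltered.leftToMax i j ≫ f, IsFiltered.rightToMax i j ≫ f, ?_⟩
  change a ≫ D.map (IsFiltered.leftToMax i j ≫ f) = b ≫ D.map (IsFiltered.rightToMax i j ≫ f)
  rw [D.map_comp, D.map_comp, ← Category.assoc, ← Category.assoc]
  exact hf

omit [IsFiltered I] in
/-- surjectivity of the comparison map from the hom-form statement -/
theorem post_surjective_of_hom (X : ToposFin.Sh J)
    (h : ∀ σ : X ⟶ colimit D, ∃ (j : I) (u : X ⟶ D.obj j), u ≫ colimit.ι D j = σ) :
    Function.Surjective (colimit.post D (coyoneda.obj (op X))) := by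
  intro σ
  obtain ⟨i, a, ha⟩ := h σ
  exact ⟨colimit.ι (D ⋙ coyoneda.obj (op X)) i a, (post_ι_apply D X i a).trans ha⟩

/-- hom-form injectivity for quasi-compact `X` -/
theorem hom_inj_colimit {X : ToposFin.Sh J} (hX : ToposFin.IsQC X) (j : I)
    (u v : X ⟶ D.obj j) (huv : u ≫ colimit.ι D j = v ≫ colimit.ι D j) :
    ∃ (k : I) (f : j ⟶ k), u ≫ D.map f = v ≫ D.map f :=
  hom_inj D (fun i => (colimit.cocone D).ι.app i)
    (e2 D (colimit.cocone D) (colimit.isColimit D)) hX j u v huv

/-- hom-form surjectivity for coherent `X` -/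
theorem hom_surj_colimit (hE : ToposFin.HasQCGenerators J) {X : ToposFin.Sh J}
    (hX : ToposFin.IsCoherent X) (σ : X ⟶ colimit D) :
    ∃ (j : I) (u : X ⟶ D.obj j), u ≫ colimit.ι D j = σ :=
  hom_surj D (fun i => (colimit.cocone D).ι.app i)
    (fun f => colimit.w D f) (e1 D (colimit.cocone D) (colimit.isColimit D))
    (e2 D (colimit.cocone D) (colimit.isColimit D)) hE hX σ

end Groth.Agent.Lib.Helper5.ToposColimSet
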