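import Groth.Agent.Lib.Helper5.ToposEpi
import Groth.Agent.Lib.Helper9.ToposFin

/-!
# Helper library (helper5): quasi-compact / quasi-separated morphisms and objects in a sheaf topos
-/

set_option autoImplicit false

universe w u

open CategoryTheory CategoryTheory.Limits Opposite

namespace Groth.Agent.Lib.Helper5.ToposQC

open Groth.Agent.Lib.Helper9 Groth.Agent.Lib.Helper5.ToposEpi

variable {C : Type u} [SmallCategory C] {J : GrothendieckTopology C}

instance qcHom_respectsIso : (qcHom (J := J)).RespectsIso := inferInstance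

/-- If `g` is quasi-separated and `f ≫ g` is quasi-compact then `f` is quasi-compact. -/
theorem isQCHom_of_comp {X Y Z : ToposFin.Sh J} (f : X ⟶ Y) (g : Y ⟶ Z)
    (hg : ToposFin.IsQSHom g) (h : ToposFin.IsQCHom (f ≫ g)) : ToposFin.IsQCHom f := by
  have key : (qcHom (J := J)).HasOfPostcompProperty (qcHom (J := J)).diagonal :=
    (MorphismProperty.hasOfPostcompProperty_iff_le_diagonal).2 le_rfl
  exact key.of_postcomp f g hg h

/-- If `f ≫ g` is quasi-separated then `f` is quasi-separated. -/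
theorem isQSHom_of_comp {X Y Z : ToposFin.Sh J} (f : X ⟶ Y) (g : Y ⟶ Z)
    (h : ToposFin.IsQSHom (f ≫ g)) : ToposFin.IsQSHom f := by
  have key : (qcHom (J := J)).diagonal.HasOfPostcompProperty ⊤ := by
    rw [MorphismProperty.hasOfPostcompProperty_iff_le_diagonal]
    intro A B k _
    show ToposFin.IsQCHom (pullback.diagonal (pullback.diagonal k))
    exact isQCHom_of_isIso _
  exact key.of_postcomp f g trivial h

theorem hasQCGenerators_iff :
    ToposFin.HasQCGenerators J ↔ ∀ X : ToposFin.Sh J, ∃ (ι : Type u) (F : ι → ToposFin.Sh J)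
      (π : ∀ i, F i ⟶ X), (∀ i, ToposFin.IsQC (F i)) ∧ JEpi π := by
  constructor
  · intro h X
    obtain ⟨ι, F, π, hF, hπ⟩ := h X
    exact ⟨ι, F, π, hF, (epi_desc_iff π).1 hπ⟩
  · intro h X
    obtain ⟨ι, F, π, hF, hπ⟩ := h X
    exact ⟨ι, F, π, hF, (epi_desc_iff π).2 hπ⟩

/-- Basic cover lemma: if `A` is quasi-compact, `ρ` is a jointly epimorphic family on `A` and the
base changes of the members of `ρ` to `P` are quasi-compact, then `P` is quasi-compact. -/
theorem isQC_of_jepi_cover {A P : ToposFin.Sh J} (h : P ⟶ A) (hA : ToposFin.IsQC A) {ι : Type u}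
    {G : ι → ToposFin.Sh J} (ρ : ∀ i, G i ⟶ A) (hρ : JEpi ρ)
    (hP : ∀ i, ToposFin.IsQC (pullback (ρ i) h)) : ToposFin.IsQC P := by
  obtain ⟨s, hs⟩ := (isQC_iff A).1 hA ι G ρ hρ
  exact isQC_of_finite_jepi (fun i : s => pullback.snd (ρ i) h) (hs.pullback_snd h)
    (fun i => hP i)

/-- Cover lemma for `pullback f t`, covering `T`. -/
theorem isQC_pullback_of_cover {X Y T : ToposFin.Sh J} (f : X ⟶ Y) (t : T ⟶ Y)
    (hT : ToposFin.IsQC T) {ι : Type u} {G : ι → ToposFin.Sh J} (ρ : ∀ i, G i ⟶ T) (hρ : JEpi ρ)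
    (h : ∀ i, ToposFin.IsQC (pullback f (ρ i ≫ t))) : ToposFin.IsQC (pullback f t) := by
  apply isQC_of_jepi_cover (pullback.snd f t) hT ρ hρ
  intro i
  exact isQC_of_iso ((pullbackLeftPullbackSndIso f t (ρ i)).symm ≪≫ pullbackSymmetry _ _) (h i)

/-- Cover lemma for `pullback a b`, covering `A`. -/
theorem isQC_pullback_of_cover_left {A B Y : ToposFin.Sh J} (a : A ⟶ Y) (b : B ⟶ Y)
    (hA : ToposFin.IsQC A) {ι : Type u} {G : ι → ToposFin.Sh J} (ρ : ∀ i, G i ⟶ A) (hρ : JEpi ρ)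
    (h : ∀ i, ToposFin.IsQC (pullback (ρ i ≫ a) b)) : ToposFin.IsQC (pullback a b) := by
  apply isQC_of_jepi_cover (pullback.fst a b) hA ρ hρ
  intro i
  exact isQC_of_iso (pullbackRightPullbackFstIso a b (ρ i)).symm (h i)

theorem isQC_congr {A B Y : ToposFin.Sh J} {a a' : A ⟶ Y} {b b' : B ⟶ Y} (ha : a = a')
    (hb : b = b') (h : ToposFin.IsQC (pullback a b)) : ToposFin.IsQC (pullback a' b') :=
  isQC_of_iso (pullback.congrHom ha hb) h

theorem isQC_pullback_symm {A B Y : ToposFin.Sh J} {a : A ⟶ Y} {b : B ⟶ Y}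
    (h : ToposFin.IsQC (pullback a b)) : ToposFin.IsQC (pullback b a) :=
  isQC_of_iso (pullbackSymmetry a b) h

/-- The source of a quasi-compact morphism with quasi-compact target is quasi-compact. -/
theorem isQC_of_isQCHom {P Q : ToposFin.Sh J} (k : P ⟶ Q) (hk : ToposFin.IsQCHom k)
    (hQ : ToposFin.IsQC Q) : ToposFin.IsQC P := by
  have := hk Q (𝟙 Q) hQ
  exact isQC_of_iso (asIso (pullback.fst k (𝟙 Q))) this

/-- A morphism from a quasi-compact object to a quasi-separated object is quasi-compact. -/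
theorem isQCHom_of_isQC_of_isQS {P Q : ToposFin.Sh J} (k : P ⟶ Q) (hP : ToposFin.IsQC P)
    (hQ : ToposFin.IsQS Q) : ToposFin.IsQCHom k :=
  fun Y' g hY' => hQ P Y' k g hP hY'

theorem isQC_of_isPullback {P X Y Y' : ToposFin.Sh J} {p : P ⟶ X} {q : P ⟶ Y'} {f : X ⟶ Y}
    {g : Y' ⟶ Y} (h : IsPullback p q f g) (hf : ToposFin.IsQCHom f) (hY' : ToposFin.IsQC Y') :
    ToposFin.IsQC P :=
  isQC_of_iso h.isoPullback.symm (hf Y' g hY')

theorem isQCHom_of_isPullback {P X Y Y' : ToposFin.Sh J} {p : P ⟶ X} {q : P ⟶ Y'} {f : X ⟶ Y}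
    {g : Y' ⟶ Y} (h : IsPullback p q f g) (hf : ToposFin.IsQCHom f) : ToposFin.IsQCHom q :=
  (qcHom (J := J)).of_isPullback h hf

theorem isQCHom_comp {X Y Z : ToposFin.Sh J} (f : X ⟶ Y) (g : Y ⟶ Z) (hf : ToposFin.IsQCHom f)
    (hg : ToposFin.IsQCHom g) : ToposFin.IsQCHom (f ≫ g) :=
  (qcHom (J := J)).comp_mem f g hf hg

/-- If `f : X ⟶ Y` is quasi-separated and `Y` is quasi-separated then so is `X`. -/
theorem isQS_of_isQSHom {X Y : ToposFin.Sh J} (f : X ⟶ Y) (hf : ToposFin.IsQSHom f)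
    (hY : ToposFin.IsQS Y) : ToposFin.IsQS X := by
  intro A B a b hA hB
  have hpb := pullback_map_diagonal_isPullback a b f
  have hq := isQCHom_of_isPullback hpb hf
  exact isQC_of_isQCHom _ hq (hY A B (a ≫ f) (b ≫ f) hA hB)

theorem isQSHom_of_mono {X Y : ToposFin.Sh J} (i : X ⟶ Y) [Mono i] : ToposFin.IsQSHom i := by
  show ToposFin.IsQCHom (pullback.diagonal i)
  exact isQCHom_of_isIso _

theorem isQS_of_mono {X Y : ToposFin.Sh J} (i : X ⟶ Y) [Mono i] (hY : ToposFin.IsQS Y) :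
    ToposFin.IsQS X :=
  isQS_of_isQSHom i (isQSHom_of_mono i) hY

/-- If `(g i)` is a jointly epimorphic family of quasi-compact morphisms with quasi-separated
sources, then the target is quasi-separated. -/
theorem isQS_of_qs_cover_qc_maps {Y : ToposFin.Sh J} {ι : Type u} {Yi : ι → ToposFin.Sh J}
    (g : ∀ i, Yi i ⟶ Y) (hg : JEpi g) (hqs : ∀ i, ToposFin.IsQS (Yi i))
    (hqc : ∀ i, ToposFin.IsQCHom (g i)) : ToposFin.IsQS Y := by
  intro A B a b hA hB
  apply isQC_pullback_of_cover_left a b hA (fun i => pullback.snd (g i) a) (hg.pullback_snd a)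
  intro i
  have hAi : ToposFin.IsQC (pullback (g i) a) := hqc i A a hA
  have hBi : ToposFin.IsQC (pullback (g i) b) := hqc i B b hB
  have h1 : ToposFin.IsQC (pullback (pullback.fst (g i) a) (pullback.fst (g i) b)) :=
    hqs i _ _ _ _ hAi hBi
  have h2 : ToposFin.IsQC (pullback (pullback.fst (g i) a ≫ g i) b) :=
    isQC_of_iso (pullbackRightPullbackFstIso (g i) b (pullback.fst (g i) a)) h1
  exact isQC_congr pullback.condition rfl h2

/-- Refinement of a jointly epimorphic family by quasi-compact objects. -/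
theorem exists_qc_refinement (hE : ToposFin.HasQCGenerators J) {T : ToposFin.Sh J} {ι : Type u}
    {Yi : ι → ToposFin.Sh J} (ρ : ∀ i, Yi i ⟶ T) (hρ : JEpi ρ) :
    ∃ (κ : Type u) (G : κ → ToposFin.Sh J) (idx : κ → ι) (σ : ∀ k, G k ⟶ Yi (idx k)),
      (∀ k, ToposFin.IsQC (G k)) ∧ JEpi (fun k => σ k ≫ ρ (idx k)) := by
  have h := fun i => (hasQCGenerators_iff.1 hE) (Yi i)
  choose κ G σ hG hσ using h
  exact ⟨Σ i, κ i, fun x => G x.1 x.2, fun x => x.1, fun x => σ x.1 x.2, fun x => hG x.1 x.2,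
    hρ.comp σ hσ⟩

/-- Quasi-compactness of a morphism is local on the target. -/
theorem isQCHom_of_jepi_target (hE : ToposFin.HasQCGenerators J) {X Y : ToposFin.Sh J} (f : X ⟶ Y)
    {ι : Type u} {Yi : ι → ToposFin.Sh J} (g : ∀ i, Yi i ⟶ Y) (hg : JEpi g)
    (h : ∀ i, ToposFin.IsQCHom (pullback.snd f (g i))) : ToposFin.IsQCHom f := by
  intro Y' t hY'
  obtain ⟨κ, G, idx, σ, hG, hσ⟩ := exists_qc_refinement hE _ (hg.pullback_snd t)
  apply isQC_pullback_of_cover f t hY' _ hσ
  intro k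
  have h1 : ToposFin.IsQC (pullback (pullback.snd f (g (idx k))) (σ k ≫ pullback.fst _ _)) :=
    h (idx k) _ _ (hG k)
  have h2 := isQC_of_iso (pullbackLeftPullbackSndIso f (g (idx k)) (σ k ≫ pullback.fst _ _)) h1
  refine isQC_congr rfl ?_ h2
  simp only [Category.assoc, pullback.condition]

/-- Quasi-compactness of a morphism is local on the target, `IsPullback` form. -/
theorem isQCHom_of_jepi_target' (hE : ToposFin.HasQCGenerators J) {X Y : ToposFin.Sh J}
    (f : X ⟶ Y) {ι : Type u} {Yi X' : ι → ToposFin.Sh J} (g : ∀ i, Yi i ⟶ Y) (hg : JEpi g)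
    (p : ∀ i, X' i ⟶ X) (f' : ∀ i, X' i ⟶ Yi i) (hpb : ∀ i, IsPullback (p i) (f' i) f (g i))
    (h : ∀ i, ToposFin.IsQCHom (f' i)) : ToposFin.IsQCHom f := by
  apply isQCHom_of_jepi_target hE f g hg
  intro i
  have : pullback.snd f (g i) = (hpb i).isoPullback.inv ≫ f' i := by simp
  rw [this]
  exact ((qcHom (J := J)).cancel_left_of_respectsIso _ _).2 (h i)

theorem isQSHom_iff_of_iso_left {X X' Y : ToposFin.Sh J} (e : X' ≅ X) (f : X ⟶ Y) :
    ToposFin.IsQSHom (e.hom ≫ f) ↔ ToposFin.IsQSHom f :=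
  (qcHom (J := J)).diagonal.cancel_left_of_respectsIso e.hom f

set_option backward.isDefEq.respectTransparency false in
/-- Quasi-separatedness of a morphism is local on the target. -/
theorem isQSHom_of_jepi_target (hE : ToposFin.HasQCGenerators J) {X Y : ToposFin.Sh J} (f : X ⟶ Y)
    {ι : Type u} {Yi : ι → ToposFin.Sh J} (g : ∀ i, Yi i ⟶ Y) (hg : JEpi g)
    (h : ∀ i, ToposFin.IsQSHom (pullback.fst (g i) f)) : ToposFin.IsQSHom f := by
  show ToposFin.IsQCHom (pullback.diagonal f)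
  apply isQCHom_of_jepi_target hE (pullback.diagonal f)
    (fun i => pullback.fst (pullback.snd f f ≫ f) (g i)) (hg.pullback_fst _)
  intro i
  have heq : pullback.fst (pullback.fst (pullback.snd f f ≫ f) (g i)) (pullback.diagonal f) =
      (pullbackSymmetry _ _).hom ≫
      (pullbackRightPullbackFstIso _ _ _).hom ≫
      (pullback.congrHom (by simp) rfl).hom ≫
      (pullbackSymmetry _ _).hom ≫
      pullback.diagonal (pullback.fst (g i) f) ≫
      (diagonalObjPullbackFstIso (g i) f).hom := by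
    apply pullback.hom_ext
    apply pullback.hom_ext <;> simp [pullback.condition]
    simp [pullback.condition]
  have hsym : pullback.snd (pullback.diagonal f) (pullback.fst (pullback.snd f f ≫ f) (g i)) =
      (pullbackSymmetry _ _).hom ≫ pullback.fst _ _ := by simp
  rw [hsym, heq]
  show qcHom _
  iterate 5 rw [(qcHom (J := J)).cancel_left_of_respectsIso]
  rw [(qcHom (J := J)).cancel_right_of_respectsIso]
  exact h i

theorem isQSHom_pullback_snd {X Y Y' : ToposFin.Sh J} (f : X ⟶ Y) (g : Y' ⟶ Y)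
    (hf : ToposFin.IsQSHom f) : ToposFin.IsQSHom (pullback.snd f g) :=
  (qcHom (J := J)).diagonal.pullback_snd f g hf

theorem isQSHom_pullback_fst {X Y Y' : ToposFin.Sh J} (f : X ⟶ Y) (g : Y' ⟶ Y)
    (hf : ToposFin.IsQSHom f) : ToposFin.IsQSHom (pullback.fst g f) :=
  (qcHom (J := J)).diagonal.pullback_fst g f hf

theorem isQSHom_of_jepi_target_snd (hE : ToposFin.HasQCGenerators J) {X Y : ToposFin.Sh J}
    (f : X ⟶ Y) {ι : Type u} {Yi : ι → ToposFin.Sh J} (g : ∀ i, Yi i ⟶ Y) (hg : JEpi g)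
    (h : ∀ i, ToposFin.IsQSHom (pullback.snd f (g i))) : ToposFin.IsQSHom f := by
  apply isQSHom_of_jepi_target hE f g hg
  intro i
  have : pullback.fst (g i) f = (pullbackSymmetry (g i) f).hom ≫ pullback.snd f (g i) := by simp
  rw [this, isQSHom_iff_of_iso_left]
  exact h i

/-- SGA4 VI 1.17-like: if `X` is quasi-separated and covered by quasi-compact objects `X_i` such
that the `X_i ×_Y X_j` are quasi-separated, then `f : X ⟶ Y` is quasi-separated. -/
theorem isQSHom_of_cover_with_qs_products (hE : ToposFin.HasQCGenerators J) {X Y : ToposFin.Sh J}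
    (f : X ⟶ Y) {ι : Type u} {Xi : ι → ToposFin.Sh J} (g : ∀ i, Xi i ⟶ X) (hg : JEpi g)
    (hqc : ∀ i, ToposFin.IsQC (Xi i))
    (hqs : ∀ i j, ToposFin.IsQS (pullback (g i ≫ f) (g j ≫ f))) (hX : ToposFin.IsQS X) :
    ToposFin.IsQSHom f := by
  show ToposFin.IsQCHom (pullback.diagonal f)
  refine isQCHom_of_jepi_target' hE (pullback.diagonal f)
    (Yi := fun p : ι × ι => pullback (g p.1 ≫ f) (g p.2 ≫ f))
    (X' := fun p : ι × ι => pullback (g p.1) (g p.2))
    (fun p => pullback.map (g p.1 ≫ f) (g p.2 ≫ f) f f (g p.1) (g p.2) (𝟙 Y) (by simp) (by simp))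
    (JEpi.pullback_map f f g hg g hg)
    (fun p => pullback.fst _ _ ≫ g p.1)
    (fun p => pullback.map (g p.1) (g p.2) (g p.1 ≫ f) (g p.2 ≫ f) (𝟙 _) (𝟙 _) f
      (Category.id_comp _).symm (Category.id_comp _).symm)
    (fun p => pullback_map_diagonal_isPullback (g p.1) (g p.2) f) ?_
  intro p
  exact isQCHom_of_isQC_of_isQS _ (hX _ _ _ _ (hqc p.1) (hqc p.2)) (hqs p.1 p.2)

/-- If `Y` is covered by coherent objects whose pairwise fibre products over `Y` are
quasi-compact, then `Y` is quasi-separated. -/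
theorem isQS_of_coherent_cover_pullbacks (hE : ToposFin.HasQCGenerators J) {Y : ToposFin.Sh J}
    {ι : Type u} {Yi : ι → ToposFin.Sh J} (g : ∀ i, Yi i ⟶ Y) (hg : JEpi g)
    (hY : ∀ i, ToposFin.IsCoherent (Yi i))
    (h : ∀ i j, ToposFin.IsQC (pullback (g i) (g j))) : ToposFin.IsQS Y := by
  refine isQS_of_qs_cover_qc_maps g hg (fun i => (hY i).2) ?_
  intro i B b hB
  obtain ⟨κ, G, idx, σ, hG, hσ⟩ := exists_qc_refinement hE _ (hg.pullback_snd b)
  apply isQC_pullback_of_cover (g i) b hB _ hσ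
  intro k
  have h1 : ToposFin.IsQC (pullback (pullback.snd (g i) (g (idx k)))
      (σ k ≫ pullback.fst (g (idx k)) b)) :=
    (hY (idx k)).2 _ _ _ _ (h i (idx k)) (hG k)
  have h2 := isQC_of_iso
    (pullbackLeftPullbackSndIso (g i) (g (idx k)) (σ k ≫ pullback.fst _ _)) h1
  refine isQC_congr rfl ?_ h2
  simp only [Category.assoc, pullback.condition]

/-- The target of an epimorphism with quasi-compact source is quasi-compact. -/
theorem isQC_of_epi {X Y : ToposFin.Sh J} (f : X ⟶ Y) [Epi f] (hX : ToposFin.IsQC X) :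
    ToposFin.IsQC Y :=
  isQC_of_finite_jepi (κ := PUnit.{1}) (fun _ => f) (JEpi.of_epi f) (fun _ => hX)

/-- A retract of a quasi-compact object is quasi-compact. -/
theorem isQC_of_retract {X Y : ToposFin.Sh J} (r : Y ⟶ X) (s : X ⟶ Y) (h : r ≫ s = 𝟙 Y)
    (hX : ToposFin.IsQC X) : ToposFin.IsQC Y := by
  haveI : IsSplitEpi s := IsSplitEpi.mk' { section_ := r, id := h }
  exact isQC_of_epi s hX

theorem isQS_of_iso {X X' : ToposFin.Sh J} (e : X ≅ X') (h : ToposFin.IsQS X) :
    ToposFin.IsQS X' := by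
  intro A B a b hA hB
  have h1 : ToposFin.IsQC (pullback (a ≫ e.inv) (b ≫ e.inv)) := h A B _ _ hA hB
  have : Mono e.inv := inferInstance
  exact isQC_of_iso (IsLimit.conePointUniqueUpToIso (pullbackIsPullbackOfCompMono a b e.inv)
    (limit.isLimit _)).symm h1

end Groth.Agent.Lib.Helper5.ToposQC
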