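import Groth.Agent.Lib.Helper5.ToposColimSet
import Groth.Agent.Lib.Helper5.ToposQC

/-!
# Coproducts in a topos of sheaves: disjointness, empty objects, partitions (helper5)
-/

set_option autoImplicit false
universe u

open CategoryTheory CategoryTheory.Limits Opposite

noncomputable section

namespace Groth.Agent.Lib.Helper5.ToposCoprod

open Groth.Agent.Lib.Helper9 Groth.Agent.Lib.Helper5.ToposEpi Groth.Agent.Lib.Helper5.ToposQC
  Groth.Agent.Lib.Helper5.ToposColimHom Groth.Agent.Lib.Helper5.ToposColimSet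

variable {C : Type u} [SmallCategory C] {J : GrothendieckTopology C}

instance hasInitialSh : HasInitial (ToposFin.Sh J) := by
  have : HasWeakSheafify J (Type u) := inferInstance
  have : HasColimitsOfShape (Discrete PEmpty.{1}) (Type u) := inferInstance
  exact (Sheaf.instHasColimitsOfShape :
    HasColimitsOfShape (Discrete PEmpty.{1}) (Sheaf J (Type u)))

/-! ### Empty objects -/

/-- a sheaf of sets all of whose sections live over objects covered by the empty sieve -/
def IsEmptySh (G : ToposFin.Sh J) : Prop := ∀ (U : C) (_ : G.obj.obj (op U)), ⊥ ∈ J U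

lemma section_ext_of_bot_mem (Z : ToposFin.Sh J) {U : C} (hU : ⊥ ∈ J U) (a b : Z.obj.obj (op U)) :
    a = b := by
  apply (((isSheaf_iff_isSheaf_of_type _ _).1 Z.2).isSeparated _ hU).ext
  intro V f hf
  exact hf.elim

lemma IsEmptySh.hom_ext {G : ToposFin.Sh J} (hG : IsEmptySh G) {Z : ToposFin.Sh J}
    (a b : G ⟶ Z) : a = b := by
  apply Sheaf.hom_ext
  ext U x
  induction U using Opposite.rec with
  | op U => exact section_ext_of_bot_mem Z (hG U x) _ _

lemma IsEmptySh.of_hom {G G' : ToposFin.Sh J} (hG : IsEmptySh G) (f : G' ⟶ G) : IsEmptySh G' :=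
  fun U x => hG U (f.hom.app (op U) x)

lemma bot_mem_of_forall {U : C} (T : Sieve U) (hT : T ∈ J U)
    (h : ∀ ⦃V : C⦄ (v : V ⟶ U), T v → ⊥ ∈ J V) : ⊥ ∈ J U := by
  apply J.transitive hT
  intro V v hv
  have : (⊥ : Sieve U).pullback v = ⊥ := by
    ext W w
    simp
  rw [this]
  exact h v hv

/-- an object covered by empty objects is empty -/
lemma isEmptySh_of_jepi {ι : Type*} {X : ToposFin.Sh J} {F : ι → ToposFin.Sh J}
    (π : ∀ i, F i ⟶ X) (hπ : JEpi π) (hF : ∀ i, IsEmptySh (F i)) : IsEmptySh X := by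
  intro U x
  obtain ⟨T, hT, hl⟩ := hπ.locSurj U x
  refine bot_mem_of_forall T hT (fun V v hv => ?_)
  obtain ⟨i, y, -⟩ := hl v hv
  exact hF i V y

/-- an empty object is initial -/
lemma IsEmptySh.nonempty_iso_initial {G : ToposFin.Sh J} (hG : IsEmptySh G) :
    Nonempty (G ≅ ⊥_ (ToposFin.Sh J)) := by
  let f : ⊥_ (ToposFin.Sh J) ⟶ G := initial.to G
  have h1 : Sheaf.IsLocallyInjective f := by
    refine ⟨fun {U} x y _ => ?_⟩
    induction U using Opposite.rec with
    | op U =>
    have hU : ⊥ ∈ J U := hG U (f.hom.app (op U) x)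
    exact J.superset_covering bot_le hU
  have h2 : Sheaf.IsLocallySurjective f := by
    refine ⟨fun {U} x => ?_⟩
    have hU : ⊥ ∈ J U := hG U x
    exact J.superset_covering bot_le hU
  have : IsIso f := (Sheaf.isLocallyBijective_iff_isIso f).1 ⟨h1, h2⟩
  exact ⟨(asIso f).symm⟩

lemma hom_ext_of_iso_initial {G : ToposFin.Sh J} (h : Nonempty (G ≅ ⊥_ (ToposFin.Sh J)))
    {Z : ToposFin.Sh J} (a b : G ⟶ Z) : a = b := by
  obtain ⟨e⟩ := h
  exact (initialIsInitial.ofIso e.symm).hom_ext a b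

/-! ### Colimit cofans -/

section CofanSec

variable {ι : Type u} (X : ι → ToposFin.Sh J)

/-- the discrete diagram -/
abbrev DX : Discrete ι ⥤ ToposFin.Sh J := Discrete.functor X

lemma inP_sigma_inj (i j : ι) (V : C) (t : (X i).obj.obj (op V)) (t' : (X j).obj.obj (op V))
    (h : inP (DX X) ⟨i⟩ V t = inP (DX X) ⟨j⟩ V t') :
    (⟨i, t⟩ : Σ i, (X i).obj.obj (op V)) = ⟨j, t'⟩ := by
  have hc := isColimitOfPreserves ((evaluation Cᵒᵖ (Type u)).obj (op V))
    (colimit.isColimit (Dp (DX X)))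
  let T : Cocone (Dp (DX X) ⋙ (evaluation Cᵒᵖ (Type u)).obj (op V)) :=
    { pt := Σ i, (X i).obj.obj (op V)
      ι := Discrete.natTrans (fun ⟨i⟩ => ↾(fun x => (⟨i, x⟩ : Σ i, (X i).obj.obj (op V)))) }
  have h1 := congrArg (hc.desc T) h
  have f1 := ConcreteCategory.congr_hom (hc.fac T ⟨i⟩) t
  have f2 := ConcreteCategory.congr_hom (hc.fac T ⟨j⟩) t'
  exact f1.symm.trans (h1.trans f2)

variable {X} (c : Cofan X) (hc : IsColimit c)

include hc in
lemma inj_app_eq_imp {i j : ι} {U : C} (x : (X i).obj.obj (op U)) (y : (X j).obj.obj (op U))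
    (h : (c.inj i).hom.app (op U) x = (c.inj j).hom.app (op U) y) :
    ∃ T ∈ J U, ∀ ⦃V : C⦄ (v : V ⟶ U), T v →
      (⟨i, (X i).obj.map v.op x⟩ : Σ i, (X i).obj.obj (op V)) = ⟨j, (X j).obj.map v.op y⟩ := by
  let e := (stdIsColimit (DX X)).coconePointUniqueUpToIso hc
  have he : ∀ i, (stdCocone (DX X)).ι.app ⟨i⟩ ≫ e.hom = c.inj i :=
    fun i => IsColimit.comp_coconePointUniqueUpToIso_hom _ _ _
  have h' : e.hom.hom.app (op U) (((stdCocone (DX X)).ι.app ⟨i⟩).hom.app (op U) x) =
      e.hom.hom.app (op U) (((stdCocone (DX X)).ι.app ⟨j⟩).hom.app (op U) y) := by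
    rw [← he i, ← he j] at h; exact h
  have h'' := congrArg (e.inv.hom.app (op U)) h'
  have h3 : ∀ z : (stdCocone (DX X)).pt.obj.obj (op U),
      e.inv.hom.app (op U) (e.hom.hom.app (op U) z) = z := fun z =>
    congrArg (fun φ : (stdCocone (DX X)).pt ⟶ (stdCocone (DX X)).pt => φ.hom.app (op U) z)
      e.hom_inv_id
  rw [h3, h3, std_ι_apply, std_ι_apply] at h''
  have hmem := Presheaf.equalizerSieve_mem J (toSheafify J (P (DX X))) (X := op U)
    (inP (DX X) ⟨i⟩ U x) (inP (DX X) ⟨j⟩ U y) h''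
  refine ⟨_, hmem, ?_⟩
  intro V v hv
  have hv' : (P (DX X)).map v.op (inP (DX X) ⟨i⟩ U x) =
      (P (DX X)).map v.op (inP (DX X) ⟨j⟩ U y) := hv
  rw [inP_res, inP_res] at hv'
  exact inP_sigma_inj X i j V _ _ hv'

include hc in
/-- distinct summands are disjoint -/
lemma bot_mem_of_inj_eq {i j : ι} (hij : i ≠ j) {U : C} (x : (X i).obj.obj (op U))
    (y : (X j).obj.obj (op U))
    (h : (c.inj i).hom.app (op U) x = (c.inj j).hom.app (op U) y) : ⊥ ∈ J U := by
  obtain ⟨T, hT, hl⟩ := inj_app_eq_imp c hc x y h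
  refine J.superset_covering ?_ hT
  intro V v hv
  exact (hij (congrArg Sigma.fst (hl v hv))).elim

include hc in
lemma inj_app_injective (i : ι) (U : C) :
    Function.Injective ((c.inj i).hom.app (op U)) := by
  intro x y h
  obtain ⟨T, hT, hl⟩ := inj_app_eq_imp c hc x y h
  apply (((isSheaf_iff_isSheaf_of_type _ _).1 (X i).2).isSeparated _ hT).ext
  intro V v hv
  exact eq_of_heq (Sigma.mk.inj (hl v hv)).2

include hc in
lemma mono_inj (i : ι) : Mono (c.inj i) := by
  haveI : ∀ U : Cᵒᵖ, Mono ((c.inj i).hom.app U) := fun U => by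
    induction U using Opposite.rec with
    | op U => exact (mono_iff_injective _).2 (inj_app_injective c hc i U)
  haveI : Mono (c.inj i).hom := NatTrans.mono_of_mono_app _
  exact Sheaf.Hom.mono_of_presheaf_mono J _ _

include hc in
lemma jepi_inj : JEpi (fun i => c.inj i) := by
  intro Z a b hab
  exact Cofan.IsColimit.hom_ext hc _ _ hab

include hc in
lemma isEmptySh_pullback_inj {i j : ι} (hij : i ≠ j) {A B : ToposFin.Sh J} (a : A ⟶ X i)
    (b : B ⟶ X j) : IsEmptySh (pullback (a ≫ c.inj i) (b ≫ c.inj j)) := by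
  intro U z
  refine bot_mem_of_inj_eq c hc hij
    (a.hom.app (op U) ((pullback.fst (a ≫ c.inj i) (b ≫ c.inj j)).hom.app (op U) z))
    (b.hom.app (op U) ((pullback.snd (a ≫ c.inj i) (b ≫ c.inj j)).hom.app (op U) z)) ?_
  have := congrArg (fun φ : pullback (a ≫ c.inj i) (b ≫ c.inj j) ⟶ c.pt => φ.hom.app (op U) z)
    (pullback.condition (f := a ≫ c.inj i) (g := b ≫ c.inj j))
  exact this

include hc in
lemma isEmptySh_of_inj_eq {i j : ι} (hij : i ≠ j) {G : ToposFin.Sh J} (p : G ⟶ X i)
    (q : G ⟶ X j) (h : p ≫ c.inj i = q ≫ c.inj j) : IsEmptySh G := by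
  intro U z
  refine bot_mem_of_inj_eq c hc hij (p.hom.app (op U) z) (q.hom.app (op U) z) ?_
  exact congrArg (fun φ : G ⟶ c.pt => φ.hom.app (op U) z) h

end CofanSec

/-! ### Partitions -/

section Partition

/-- a partition of `Y`: a jointly epimorphic family of monomorphisms with pairwise empty
intersections -/
structure IsPartition {ι : Type u} {Y : ToposFin.Sh J} {P : ι → ToposFin.Sh J}
    (m : ∀ i, P i ⟶ Y) : Prop where
  jepi : JEpi m
  mono : ∀ i, Mono (m i)
  disj : ∀ i j, i ≠ j → IsEmptySh (pullback (m i) (m j))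

lemma isPartition_inj {ι : Type u} {X : ι → ToposFin.Sh J} (c : Cofan X) (hc : IsColimit c) :
    IsPartition (fun i => c.inj i) where
  jepi := jepi_inj c hc
  mono := mono_inj c hc
  disj i j hij := isEmptySh_of_inj_eq c hc hij _ _ pullback.condition

variable {ι : Type u} {Y : ToposFin.Sh J} {P : ι → ToposFin.Sh J} {m : ∀ i, P i ⟶ Y}

lemma IsPartition.pullback (hm : IsPartition m) {Y' : ToposFin.Sh J} (g : Y' ⟶ Y) :
    IsPartition (fun i => pullback.fst g (m i)) where
  jepi := hm.jepi.pullback_fst g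
  mono i := by
    haveI := hm.mono i
    infer_instance
  disj i j hij := by
    refine (hm.disj i j hij).of_hom
      (pullback.lift (pullback.fst _ _ ≫ pullback.snd g (m i))
        (pullback.snd _ _ ≫ pullback.snd g (m j)) ?_)
    rw [Category.assoc, Category.assoc, ← pullback.condition, ← pullback.condition,
      ← Category.assoc, ← Category.assoc, pullback.condition]

/-- the pieces of a partition of a quasi-compact object are quasi-compact -/
theorem IsPartition.isQC (hm : IsPartition m) (hY : ToposFin.IsQC Y) (i : ι) :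
    ToposFin.IsQC (P i) := by
  classical
  rw [isQC_iff]
  intro κ G ρ hρ
  let Idx := κ ⊕ {j : ι // j ≠ i}
  let F' : Idx → ToposFin.Sh J := Sum.elim G (fun j => P j.1)
  let π' : ∀ x : Idx, F' x ⟶ Y := fun x =>
    Sum.rec (motive := fun x => F' x ⟶ Y) (fun k => ρ k ≫ m i) (fun j => m j.1) x
  have hπ' : JEpi π' := by
    intro Z a b hab
    apply hm.jepi
    intro j
    by_cases hj : j = i
    · subst hj
      apply hρ
      intro k
      have := hab (Sum.inl k)
      change (ρ k ≫ m j) ≫ a = (ρ k ≫ m j) ≫ b at this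
      rw [Category.assoc, Category.assoc] at this
      exact this
    · exact hab (Sum.inr ⟨j, hj⟩)
  obtain ⟨s, hs⟩ := (isQC_iff Y).1 hY Idx F' π' hπ'
  refine ⟨s.toLeft, ?_⟩
  intro Z a b hab
  have hpb := hs.pullback_fst (m i)
  apply hpb
  rintro ⟨x, hx⟩
  cases x with
  | inl k =>
    haveI := hm.mono i
    have e : pullback.fst (m i) (ρ k ≫ m i) = pullback.snd (m i) (ρ k ≫ m i) ≫ ρ k := by
      rw [← cancel_mono (m i), Category.assoc, pullback.condition]
    change pullback.fst (m i) (ρ k ≫ m i) ≫ a = pullback.fst (m i) (ρ k ≫ m i) ≫ b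
    rw [e, Category.assoc, Category.assoc]
    congr 1
    exact hab ⟨k, Finset.mem_toLeft.2 hx⟩
  | inr j =>
    exact (hm.disj i j.1 (Ne.symm j.2)).hom_ext _ _

/-- all but finitely many pieces of a partition of a quasi-compact object are empty -/
theorem IsPartition.exists_finset (hm : IsPartition m) (hY : ToposFin.IsQC Y) :
    ∃ s : Finset ι, JEpi (fun i : s => m i) ∧ ∀ i, i ∉ s → IsEmptySh (P i) := by
  obtain ⟨s, hs⟩ := (isQC_iff Y).1 hY ι P m hm.jepi
  refine ⟨s, hs, fun i hi => ?_⟩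
  refine isEmptySh_of_jepi _ (hs.pullback_fst (m i)) (fun j => ?_)
  exact hm.disj i j.1 (fun h => hi (h ▸ j.2))

end Partition

end Groth.Agent.Lib.Helper5.ToposCoprod
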