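import Groth.Agent.Lib.Helper5.ToposCoprod

/-!
# Quasi-separatedness of coproducts in a topos of sheaves (helper5)
-/

set_option autoImplicit false
universe u

open CategoryTheory CategoryTheory.Limits Opposite

noncomputable section

namespace Groth.Agent.Lib.Helper5.ToposCoprod

open Groth.Agent.Lib.Helper9 Groth.Agent.Lib.Helper5.ToposEpi Groth.Agent.Lib.Helper5.ToposQC

variable {C : Type u} [SmallCategory C] {J : GrothendieckTopology C}
  {ι : Type u} {X : ι → ToposFin.Sh J} (c : Cofan X) (hc : IsColimit c)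

omit [SmallCategory C] in
lemma factor_aux {𝒞 : Type*} [Category 𝒞] [HasPullbacks 𝒞] {Y Z W S Xi : 𝒞} (a : Y ⟶ S)
    (b : Z ⟶ S) (m : Xi ⟶ S) (g : W ⟶ S) (p₁ : W ⟶ Y) (p₂ : W ⟶ Z) (h₁ : p₁ ≫ a = g)
    (h₂ : p₂ ≫ b = g) :
    ∃ τ : pullback g m ⟶ pullback (pullback.snd a m) (pullback.snd b m),
      τ ≫ pullback.fst _ _ ≫ pullback.fst a m = pullback.fst g m ≫ p₁ ∧
      τ ≫ pullback.snd _ _ ≫ pullback.fst b m = pullback.fst g m ≫ p₂ := by
  have c1 : (pullback.fst g m ≫ p₁) ≫ a = pullback.snd g m ≫ m := by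
    rw [Category.assoc, h₁, pullback.condition]
  have c2 : (pullback.fst g m ≫ p₂) ≫ b = pullback.snd g m ≫ m := by
    rw [Category.assoc, h₂, pullback.condition]
  have c3 : pullback.lift _ _ c1 ≫ pullback.snd a m = pullback.lift _ _ c2 ≫ pullback.snd b m := by
    rw [pullback.lift_snd, pullback.lift_snd]
  refine ⟨pullback.lift _ _ c3, ?_, ?_⟩
  · rw [pullback.lift_fst_assoc, pullback.lift_fst]
  · rw [pullback.lift_snd_assoc, pullback.lift_fst]

include hc in
/-- a coproduct of quasi-separated objects is quasi-separated -/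
theorem isQS_pt_of_forall (h : ∀ i, ToposFin.IsQS (X i)) : ToposFin.IsQS c.pt := by
  intro Y Z a b hY hZ
  have hPY := (isPartition_inj c hc).pullback a
  have hPZ := (isPartition_inj c hc).pullback b
  have hYi : ∀ i, ToposFin.IsQC (pullback a (c.inj i)) := fun i => hPY.isQC hY i
  have hZi : ∀ i, ToposFin.IsQC (pullback b (c.inj i)) := fun i => hPZ.isQC hZ i
  obtain ⟨s, -, hs⟩ := hPY.exists_finset hY
  -- the pieces of the fibre product
  let E : ι → ToposFin.Sh J := fun i =>
    pullback (pullback.snd a (c.inj i)) (pullback.snd b (c.inj i))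
  have hE : ∀ i, ToposFin.IsQC (E i) := fun i => h i _ _ _ _ (hYi i) (hZi i)
  have hρc : ∀ i, (pullback.fst (pullback.snd a (c.inj i)) (pullback.snd b (c.inj i)) ≫
      pullback.fst a (c.inj i)) ≫ a =
      (pullback.snd (pullback.snd a (c.inj i)) (pullback.snd b (c.inj i)) ≫
        pullback.fst b (c.inj i)) ≫ b := by
    intro i
    rw [Category.assoc, Category.assoc, pullback.condition, pullback.condition,
      ← Category.assoc, ← Category.assoc, pullback.condition]
  let ρ : ∀ i, E i ⟶ pullback a b := fun i => pullback.lift _ _ (hρc i)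
  refine isQC_of_finite_jepi (fun i : s => ρ i) ?_ (fun i => hE i)
  intro T u v huv
  -- the covering of the fibre product induced by the summands
  obtain ⟨g, hg⟩ : ∃ g : pullback a b ⟶ c.pt, pullback.fst a b ≫ a = g := ⟨_, rfl⟩
  have hg' : pullback.snd a b ≫ b = g := by rw [← hg, pullback.condition]
  have hQ := (jepi_inj c hc).pullback_fst g
  apply hQ
  intro i
  change pullback.fst g (c.inj i) ≫ u = pullback.fst g (c.inj i) ≫ v
  by_cases hi : i ∈ s
  · obtain ⟨τ, hτ1, hτ2⟩ := factor_aux a b (c.inj i) g (pullback.fst a b) (pullback.snd a b) hg hg'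
    have hτ : τ ≫ ρ i = pullback.fst g (c.inj i) := by
      apply pullback.hom_ext
      · rw [Category.assoc, pullback.lift_fst, hτ1]
      · rw [Category.assoc, pullback.lift_snd, hτ2]
    rw [← hτ, Category.assoc, Category.assoc]
    congr 1
    exact huv ⟨i, hi⟩
  · have c1 : (pullback.fst g (c.inj i) ≫ pullback.fst a b) ≫ a =
        pullback.snd g (c.inj i) ≫ c.inj i := by
      rw [Category.assoc, hg, pullback.condition]
    exact ((hs i hi).of_hom (pullback.lift _ _ c1)).hom_ext _ _

include hc in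
/-- the summands of a quasi-separated coproduct are quasi-separated -/
theorem isQS_of_isQS_pt (h : ToposFin.IsQS c.pt) (i : ι) : ToposFin.IsQS (X i) := by
  haveI := mono_inj c hc i
  exact isQS_of_mono (c.inj i) h

end Groth.Agent.Lib.Helper5.ToposCoprod
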