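import Mathlib

/-!
# Recursion for the terms of a Čech nerve (helper5)

`W (n+1) = W n ×_K K'` where `W n` is the `(n+1)`-fold fibre power of `f : K' ⟶ K`.
-/

set_option autoImplicit false
universe v u

open CategoryTheory CategoryTheory.Limits

namespace Groth.Agent.Lib.Helper5.WPRec

variable {E : Type u} [Category.{v} E] {K' K : E} (f : K' ⟶ K)
  [∀ n : ℕ, HasWidePullback K (fun _ : Fin (n + 1) => K') (fun _ => f)]

/-- the `(n+1)`-fold fibre power -/
noncomputable abbrev W (n : ℕ) : E := widePullback.{0} K (fun _ : Fin (n + 1) => K') (fun _ => f)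

/-- forget the last factor -/
noncomputable def fst (n : ℕ) : W f (n + 1) ⟶ W f n :=
  WidePullback.lift (WidePullback.base _)
    (fun k : Fin (n + 1) => WidePullback.π (fun _ : Fin (n + 1 + 1) => f) k.castSucc) (by simp)

@[reassoc (attr := simp)]
lemma fst_π (n : ℕ) (k : Fin (n + 1)) :
    fst f n ≫ WidePullback.π (fun _ : Fin (n + 1) => f) k =
      WidePullback.π (fun _ : Fin (n + 1 + 1) => f) k.castSucc :=
  WidePullback.lift_π _ _ _ _ _

@[reassoc (attr := simp)]
lemma fst_base (n : ℕ) :
    fst f n ≫ WidePullback.base (fun _ : Fin (n + 1) => f) =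
      WidePullback.base (fun _ : Fin (n + 1 + 1) => f) :=
  WidePullback.lift_base _ _ _ _

/-- `W (n+1) = W n ×_K K'` -/
theorem isPullback (n : ℕ) :
    IsPullback (fst f n) (WidePullback.π (fun _ : Fin (n + 1 + 1) => f) (Fin.last (n + 1)))
      (WidePullback.base (fun _ : Fin (n + 1) => f)) f := by
  refine ⟨⟨by simp⟩, ⟨PullbackCone.IsLimit.mk _
    (fun s => WidePullback.lift (s.fst ≫ WidePullback.base _)
      (Fin.lastCases s.snd (fun k => s.fst ≫ WidePullback.π _ k)) ?_) ?_ ?_ ?_⟩⟩
  · intro k
    refine Fin.lastCases ?_ (fun k => ?_) k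
    · rw [Fin.lastCases_last]; exact s.condition.symm
    · rw [Fin.lastCases_castSucc, Category.assoc, WidePullback.π_arrow]
  · intro s
    apply WidePullback.hom_ext
    · intro k
      rw [Category.assoc, fst_π, WidePullback.lift_π, Fin.lastCases_castSucc]
    · rw [Category.assoc, fst_base, WidePullback.lift_base]
  · intro s
    rw [WidePullback.lift_π, Fin.lastCases_last]
  · intro s m h₁ h₂
    apply WidePullback.hom_ext
    · intro k
      refine Fin.lastCases ?_ (fun k => ?_) k
      · rw [WidePullback.lift_π, Fin.lastCases_last]; exact h₂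
      · rw [WidePullback.lift_π, Fin.lastCases_castSucc, ← h₁, Category.assoc, fst_π]
    · rw [WidePullback.lift_base, ← h₁, Category.assoc, fst_base]

/-- `W 0 = K'` -/
instance isIso_π_zero : IsIso (WidePullback.π (fun _ : Fin (0 + 1) => f) 0) := by
  refine ⟨WidePullback.lift f (fun _ => 𝟙 K') (by simp), ?_, ?_⟩
  · apply WidePullback.hom_ext
    · intro k
      have : k = 0 := Fin.fin_one_eq_zero k
      subst this
      rw [Category.assoc, WidePullback.lift_π, Category.comp_id, Category.id_comp]
    · rw [Category.assoc, WidePullback.lift_base, WidePullback.π_arrow, Category.id_comp]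
  · rw [WidePullback.lift_π]

end Groth.Agent.Lib.Helper5.WPRec
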