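import Groth.Agent.Lib.Helper5.ToposColimHom
import Groth.Agent.Lib.Helper5.WPRec
import Groth.Prelude.Def_ToposFin2

/-!
# Finite coproduct decompositions of the terms of a Čech nerve in a topos (helper5)
-/

set_option autoImplicit false
universe u

open CategoryTheory CategoryTheory.Limits Opposite

namespace Groth.Agent.Lib.Helper5.ToposDec

open Groth.Agent.Lib.Helper5.ToposColimHom

variable {C : Type u} [SmallCategory C] {J : GrothendieckTopology C} (S : Set (ToposFin.Sh J))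

/-- `N` is a finite coproduct of members of `S` -/
def Dec (N : ToposFin.Sh J) : Prop :=
  ∃ (γ : Type u) (_ : Finite γ) (M : γ → ToposFin.Sh J) (j : ∀ c, M c ⟶ N),
    (∀ c, M c ∈ S) ∧ Nonempty (IsColimit (Cofan.mk N j))

variable {S}

lemma dec_of_iso {N N' : ToposFin.Sh J} (e : N ≅ N') (h : Dec S N) : Dec S N' := by
  obtain ⟨γ, hγ, M, j, hM, ⟨hc⟩⟩ := h
  refine ⟨γ, hγ, M, fun c => j c ≫ e.hom, hM, ⟨?_⟩⟩
  exact IsColimit.ofIsoColimit hc (Cofan.ext e (fun c => rfl))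

lemma dec_sigma {β : Type u} [Finite β] (L : β → ToposFin.Sh J) (hL : ∀ b, L b ∈ S) :
    Dec S (∐ L) :=
  ⟨β, inferInstance, L, fun b => Sigma.ι L b, hL, ⟨coproductIsCoproduct L⟩⟩

lemma dec_step (hpb : ToposFin.ClosedUnderPullbacks S) {K : ToposFin.Sh J} (hK : K ∈ S)
    {N K' Z : ToposFin.Sh J} (ν : N ⟶ K) (f : K' ⟶ K) (p₁ : Z ⟶ N) (p₂ : Z ⟶ K')
    (h : IsPullback p₁ p₂ ν f) (hN : Dec S N) (hK' : Dec S K') : Dec S Z := by
  obtain ⟨γ, hγ, M, j, hM, ⟨ha⟩⟩ := hN
  obtain ⟨γ', hγ', M', j', hM', ⟨hb⟩⟩ := hK'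
  have hsq : ∀ x : γ × γ', ∃ (P : ToposFin.Sh J) (p : P ⟶ M x.1) (q : P ⟶ M' x.2),
      P ∈ S ∧ IsPullback p q (j x.1 ≫ ν) (j' x.2 ≫ f) :=
    fun x => hpb (j x.1 ≫ ν) (j' x.2 ≫ f) (hM x.1) (hM' x.2) hK
  choose P p q hP hPB using hsq
  let d : Cofan P := Cofan.mk Z (fun x => h.lift (p x ≫ j x.1) (q x ≫ j' x.2)
    (by rw [Category.assoc, Category.assoc, (hPB x).w]))
  refine ⟨γ × γ', inferInstance, P, fun x => d.inj x, hP, ?_⟩
  have hau : IsUniversalColimit (Cofan.mk N j) :=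
    FinitaryPreExtensive.isUniversal_finiteCoproducts ha
  have hbu : IsUniversalColimit (Cofan.mk K' j') :=
    FinitaryPreExtensive.isUniversal_finiteCoproducts hb
  exact IsUniversalColimit.nonempty_isColimit_prod_of_isPullback hau hbu
    (fun c => j c ≫ ν) (fun c' => j' c' ≫ f) ν f
    (P := P) (q₁ := fun c c' => p (c, c')) (q₂ := fun c c' => q (c, c'))
    (fun c c' => hPB (c, c')) h (d := d) (Iso.refl _)
    (fun _ => rfl) (fun _ => rfl)
    (fun c c' => by simp [d, Cofan.inj]) (fun c c' => by simp [d, Cofan.inj])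


instance hasWidePullbackSh {K' K : ToposFin.Sh J} (f : K' ⟶ K) (n : ℕ) :
    HasWidePullback K (fun _ : Fin (n + 1) => K') (fun _ => f) := inferInstance

/-- all terms of the Čech nerve of `f : K' ⟶ K` are finite coproducts of members of `S`, if
`K ∈ S` and `K'` is such a coproduct. -/
theorem dec_nerve (hpb : ToposFin.ClosedUnderPullbacks S) {K : ToposFin.Sh J} (hK : K ∈ S)
    {K' : ToposFin.Sh J} (f : K' ⟶ K) (hK' : Dec S K') (n : ℕ) : Dec S (WPRec.W f n) := by
  induction n with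
  | zero => exact dec_of_iso (asIso (WidePullback.π (fun _ : Fin (0 + 1) => f) 0)).symm hK'
  | succ n ih =>
    exact dec_step hpb hK (WidePullback.base _) f (WPRec.fst f n)
      (WidePullback.π _ (Fin.last (n + 1))) (WPRec.isPullback f n) ih hK'

end Groth.Agent.Lib.Helper5.ToposDec
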