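import Groth.Prelude.Def_SGA4c
import Mathlib.CategoryTheory.Sites.Subsheaf
import Mathlib.CategoryTheory.Sites.LocallySurjective
import Mathlib.CategoryTheory.Limits.Types.Pullbacks
import Mathlib.CategoryTheory.MorphismProperty.Limits
import Mathlib.CategoryTheory.Limits.MonoCoprod
import Mathlib.CategoryTheory.Extensive

/-!
# Helper library (helper5): jointly epimorphic families in a sheaf topos

* `JEpi π`: the family `π i : F i ⟶ X` is jointly epimorphic.
* `epi_desc_iff`: `Epi (Sigma.desc π) ↔ JEpi π`.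
* `jepi_iff_locSurj`: local criterion (every section of `X` lifts locally to some `F i`).
* `JEpi.pullback`: jointly epimorphic families are stable under base change.
-/

set_option autoImplicit false

universe w u

open CategoryTheory CategoryTheory.Limits Opposite

namespace Groth.Agent.Lib.Helper5.ToposEpi

variable {C : Type u} [SmallCategory C] {J : GrothendieckTopology C}

/-- The family `π` is jointly epimorphic. -/
def JEpi {ι : Type w} {X : ToposFin.Sh J} {F : ι → ToposFin.Sh J} (π : ∀ i, F i ⟶ X) : Prop :=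
  ∀ (Z : ToposFin.Sh J) (a b : X ⟶ Z), (∀ i, π i ≫ a = π i ≫ b) → a = b

theorem epi_desc_iff {ι : Type w} {X : ToposFin.Sh J} {F : ι → ToposFin.Sh J} [HasCoproduct F]
    (π : ∀ i, F i ⟶ X) : Epi (Sigma.desc π) ↔ JEpi π := by
  constructor
  · intro h Z a b hab
    rw [← cancel_epi (Sigma.desc π)]
    apply Sigma.hom_ext
    intro i
    simpa using hab i
  · intro h
    refine ⟨fun {Z} a b hab => h Z a b fun i => ?_⟩
    have := congrArg (fun t => Sigma.ι F i ≫ t) hab
    simpa using this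

/-- Every section of `X` lifts locally to some member of the family. -/
def LocSurj {ι : Type w} {X : ToposFin.Sh J} {F : ι → ToposFin.Sh J} (π : ∀ i, F i ⟶ X) : Prop :=
  ∀ (U : C) (x : X.obj.obj (op U)), ∃ S ∈ J U, ∀ ⦃V : C⦄ (f : V ⟶ U), S f →
    ∃ (i : ι) (y : (F i).obj.obj (op V)), (π i).hom.app (op V) y = X.obj.map f.op x

theorem JEpi.of_locSurj {ι : Type w} {X : ToposFin.Sh J} {F : ι → ToposFin.Sh J}
    {π : ∀ i, F i ⟶ X} (h : LocSurj π) : JEpi π := by
  intro Z a b hab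
  apply Sheaf.hom_ext
  ext U x
  induction U using Opposite.rec with
  | op U =>
  obtain ⟨S, hS, hlift⟩ := h U x
  apply (((isSheaf_iff_isSheaf_of_type _ _).1 Z.2).isSeparated _ hS).ext
  intro V f hf
  obtain ⟨i, y, hy⟩ := hlift f hf
  have h₁ := ConcreteCategory.congr_hom (a.hom.naturality f.op) x
  have h₂ := ConcreteCategory.congr_hom (b.hom.naturality f.op) x
  dsimp at h₁ h₂ ⊢
  rw [← h₁, ← h₂, ← hy]
  exact ConcreteCategory.congr_hom (congr_app ((sheafToPresheaf J _).congr_map (hab i)) (op V)) y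

/-- The union of the presheaf images of the family, as a subfunctor of `X`. -/
def imageUnion {ι : Type w} {X : ToposFin.Sh J} {F : ι → ToposFin.Sh J} (π : ∀ i, F i ⟶ X) :
    Subfunctor X.obj where
  obj U := {x | ∃ (i : ι) (y : (F i).obj.obj U), (π i).hom.app U y = x}
  map := by
    rintro U V f x ⟨i, y, rfl⟩
    exact ⟨i, (F i).obj.map f y, (ConcreteCategory.congr_hom ((π i).hom.naturality f) y)⟩

theorem JEpi.locSurj {ι : Type w} {X : ToposFin.Sh J} {F : ι → ToposFin.Sh J}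
    {π : ∀ i, F i ⟶ X} (h : JEpi π) : LocSurj π := by
  have hX : Presieve.IsSheaf J X.obj := (isSheaf_iff_isSheaf_of_type _ _).1 X.2
  obtain ⟨G, hG⟩ : ∃ G : Subfunctor X.obj, G = imageUnion π := ⟨_, rfl⟩
  let X' : ToposFin.Sh J :=
    ⟨(G.sheafify J).toFunctor, (isSheaf_iff_isSheaf_of_type _ _).2 (G.sheafify_isSheaf hX)⟩
  let ι' : X' ⟶ X := ObjectProperty.homMk (G.sheafify J).ι
  have hmono : Mono ι' := by
    have : Mono ((sheafToPresheaf J _).map ι') := by
      show Mono (G.sheafify J).ι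
      infer_instance
    exact (sheafToPresheaf J _).mono_of_mono_map this
  -- the lifts of the `π i`
  have hle : ∀ i, Subfunctor.range (π i).hom ≤ G.sheafify J := by
    intro i
    refine le_trans ?_ (G.le_sheafify J)
    rintro U x ⟨y, rfl⟩
    rw [hG]
    exact ⟨i, y, rfl⟩
  let π' : ∀ i, F i ⟶ X' := fun i =>
    ObjectProperty.homMk (Subfunctor.lift (π i).hom (by
      rintro U x ⟨y, rfl⟩
      exact hle i U ⟨y, rfl⟩))
  have hfac : ∀ i, π' i ≫ ι' = π i := by
    intro i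
    apply Sheaf.hom_ext
    rfl
  have hepi : Epi ι' := by
    refine ⟨fun {Z} a b hab => h Z a b fun i => ?_⟩
    rw [← hfac i, Category.assoc, Category.assoc, hab]
  have hiso : IsIso ι' := isIso_of_mono_of_epi ι'
  have hiso' : IsIso (G.sheafify J).ι := by
    have : IsIso ((sheafToPresheaf J _).map ι') := inferInstance
    exact this
  have htop : G.sheafify J = ⊤ := (Subfunctor.eq_top_iff_isIso _).2 hiso'
  intro U x
  have hx : x ∈ (G.sheafify J).obj (op U) := by
    rw [htop]; trivial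
  refine ⟨G.sieveOfSection x, hx, ?_⟩
  intro V f hf
  have : X.obj.map f.op x ∈ G.obj (op V) := hf
  rw [hG] at this
  exact this

theorem jepi_iff_locSurj {ι : Type w} {X : ToposFin.Sh J} {F : ι → ToposFin.Sh J}
    (π : ∀ i, F i ⟶ X) : JEpi π ↔ LocSurj π :=
  ⟨JEpi.locSurj, JEpi.of_locSurj⟩

/-- Sections of a fibre product of sheaves: a compatible pair of sections lifts. -/
theorem exists_of_isPullback {P A B X : ToposFin.Sh J} {p : P ⟶ A} {q : P ⟶ B} {f : A ⟶ X}
    {g : B ⟶ X} (h : IsPullback p q f g) (U : Cᵒᵖ) (a : A.obj.obj U) (b : B.obj.obj U)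
    (hab : f.hom.app U a = g.hom.app U b) :
    ∃ z : P.obj.obj U, p.hom.app U z = a ∧ q.hom.app U z = b := by
  have := h.map (sheafToPresheaf J (Type u) ⋙ (evaluation _ _).obj U)
  exact Types.exists_of_isPullback this a b hab

/-- Sections of a fibre product of sheaves are determined by their projections. -/
theorem ext_of_isPullback {P A B X : ToposFin.Sh J} {p : P ⟶ A} {q : P ⟶ B} {f : A ⟶ X}
    {g : B ⟶ X} (h : IsPullback p q f g) (U : Cᵒᵖ) {z z' : P.obj.obj U}
    (h₁ : p.hom.app U z = p.hom.app U z') (h₂ : q.hom.app U z = q.hom.app U z') : z = z' := by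
  have := h.map (sheafToPresheaf J (Type u) ⋙ (evaluation _ _).obj U)
  exact Types.ext_of_isPullback this h₁ h₂

/-- Jointly epimorphic families are stable under base change. -/
theorem JEpi.of_isPullback {ι : Type w} {X Y : ToposFin.Sh J} {F P : ι → ToposFin.Sh J}
    {π : ∀ i, F i ⟶ X} (h : JEpi π) (g : Y ⟶ X) (p : ∀ i, P i ⟶ F i) (q : ∀ i, P i ⟶ Y)
    (hpb : ∀ i, IsPullback (p i) (q i) (π i) g) : JEpi q := by
  apply JEpi.of_locSurj
  intro U y
  obtain ⟨S, hS, hlift⟩ := h.locSurj U (g.hom.app (op U) y)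
  refine ⟨S, hS, ?_⟩
  intro V f hf
  obtain ⟨i, z, hz⟩ := hlift f hf
  have hnat := ConcreteCategory.congr_hom (g.hom.naturality f.op) y
  dsimp at hnat
  obtain ⟨w, -, hw⟩ := exists_of_isPullback (hpb i) (op V) z (Y.obj.map f.op y) (by
    rw [hz]; exact hnat.symm)
  exact ⟨i, w, hw⟩

theorem JEpi.pullback_snd {ι : Type w} {X Y : ToposFin.Sh J} {F : ι → ToposFin.Sh J}
    {π : ∀ i, F i ⟶ X} (h : JEpi π) (g : Y ⟶ X) :
    JEpi (fun i => pullback.snd (π i) g) :=
  h.of_isPullback g (fun i => pullback.fst (π i) g) _ fun i => IsPullback.of_hasPullback (π i) g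

theorem JEpi.pullback_fst {ι : Type w} {X Y : ToposFin.Sh J} {F : ι → ToposFin.Sh J}
    {π : ∀ i, F i ⟶ X} (h : JEpi π) (g : Y ⟶ X) :
    JEpi (fun i => pullback.fst g (π i)) :=
  h.of_isPullback g (fun i => pullback.snd g (π i)) _
    fun i => (IsPullback.of_hasPullback g (π i)).flip

/-- Composition of jointly epimorphic families. -/
theorem JEpi.comp {ι : Type w} {κ : ι → Type w} {X : ToposFin.Sh J} {F : ι → ToposFin.Sh J}
    {π : ∀ i, F i ⟶ X} (h : JEpi π) {G : ∀ i, κ i → ToposFin.Sh J} (ρ : ∀ i k, G i k ⟶ F i)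
    (hρ : ∀ i, JEpi (ρ i)) :
    JEpi (F := fun x : Σ i, κ i => G x.1 x.2) (fun x => ρ x.1 x.2 ≫ π x.1) := by
  intro Z a b hab
  apply h
  intro i
  apply hρ i
  intro k
  simpa using hab ⟨i, k⟩

/-- A family through which a jointly epimorphic family factors is jointly epimorphic. -/
theorem JEpi.of_factor {ι : Type w} {κ : Type*} {X : ToposFin.Sh J} {F : ι → ToposFin.Sh J}
    {π : ∀ i, F i ⟶ X} (h : JEpi π) {G : κ → ToposFin.Sh J} (ρ : ∀ k, G k ⟶ X)
    (hfac : ∀ i, ∃ (k : κ) (t : F i ⟶ G k), t ≫ ρ k = π i) : JEpi ρ := by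
  intro Z a b hab
  apply h
  intro i
  obtain ⟨k, t, ht⟩ := hfac i
  rw [← ht, Category.assoc, Category.assoc, hab k]

theorem JEpi.of_epi {X Y : ToposFin.Sh J} (f : X ⟶ Y) [Epi f] :
    JEpi (F := fun _ : PUnit.{w+1} => X) (fun _ => f) := by
  intro Z a b hab
  rw [← cancel_epi f]
  exact hab ⟨⟩

theorem JEpi.epi {X Y : ToposFin.Sh J} {f : X ⟶ Y}
    (h : JEpi (F := fun _ : PUnit.{w+1} => X) (fun _ => f)) : Epi f :=
  ⟨fun {Z} a b hab => h Z a b fun _ => hab⟩

theorem isQC_iff (X : ToposFin.Sh J) :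
    ToposFin.IsQC X ↔ ∀ (ι : Type u) (F : ι → ToposFin.Sh J) (π : ∀ i, F i ⟶ X), JEpi π →
      ∃ s : Finset ι, JEpi (fun i : s => π i) := by
  constructor
  · intro h ι F π hπ
    obtain ⟨s, hs⟩ := h ι F π ((epi_desc_iff π).2 hπ)
    exact ⟨s, (epi_desc_iff _).1 hs⟩
  · intro h ι F π hπ
    obtain ⟨s, hs⟩ := h ι F π ((epi_desc_iff π).1 hπ)
    exact ⟨s, (epi_desc_iff _).2 hs⟩

/-- A finite jointly epimorphic family with quasi-compact sources has quasi-compact target. -/
theorem isQC_of_finite_jepi {κ : Type w} [Finite κ] {X : ToposFin.Sh J} {F : κ → ToposFin.Sh J}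
    (π : ∀ k, F k ⟶ X) (hπ : JEpi π) (hF : ∀ k, ToposFin.IsQC (F k)) : ToposFin.IsQC X := by
  classical
  haveI := Fintype.ofFinite κ
  rw [isQC_iff]
  intro ι G ρ hρ
  have h1 : ∀ k, ∃ s : Finset ι, JEpi (fun i : s => pullback.snd (ρ i) (π k)) := fun k =>
    (isQC_iff _).1 (hF k) ι _ _ (hρ.pullback_snd (π k))
  choose s hs using h1
  refine ⟨Finset.univ.biUnion s, ?_⟩
  intro Z a b hab
  apply hπ
  intro k
  apply hs k
  rintro ⟨i, hi⟩
  have hi' : i ∈ Finset.univ.biUnion s := Finset.mem_biUnion.2 ⟨k, Finset.mem_univ k, hi⟩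
  have := hab ⟨i, hi'⟩
  dsimp only at this ⊢
  rw [← Category.assoc, ← Category.assoc, ← pullback.condition, Category.assoc, Category.assoc,
    this]

theorem hom_comp_apply {A B D : ToposFin.Sh J} (a : A ⟶ B) (b : B ⟶ D) (U : Cᵒᵖ)
    (x : A.obj.obj U) : (a ≫ b).hom.app U x = b.hom.app U (a.hom.app U x) := rfl

theorem hom_naturality_apply {A B : ToposFin.Sh J} (a : A ⟶ B) {U V : Cᵒᵖ} (φ : U ⟶ V)
    (x : A.obj.obj U) : a.hom.app V (A.obj.map φ x) = B.obj.map φ (a.hom.app U x) :=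
  ConcreteCategory.congr_hom (a.hom.naturality φ) x

/-- Fibre products of jointly epimorphic families are jointly epimorphic. -/
theorem JEpi.pullback_map {X Z Y : ToposFin.Sh J} (f : X ⟶ Y) (h : Z ⟶ Y) {ι κ : Type w}
    {Xi : ι → ToposFin.Sh J} {Zj : κ → ToposFin.Sh J} (g : ∀ i, Xi i ⟶ X) (hg : JEpi g)
    (k : ∀ j, Zj j ⟶ Z) (hk : JEpi k) :
    JEpi (F := fun p : ι × κ => pullback (g p.1 ≫ f) (k p.2 ≫ h))
      (fun p => pullback.map (g p.1 ≫ f) (k p.2 ≫ h) f h (g p.1) (k p.2) (𝟙 Y)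
        (by simp) (by simp)) := by
  apply JEpi.of_locSurj
  intro U w
  obtain ⟨S₁, hS₁, l₁⟩ := hg.locSurj U ((pullback.fst f h).hom.app (op U) w)
  obtain ⟨S₂, hS₂, l₂⟩ := hk.locSurj U ((pullback.snd f h).hom.app (op U) w)
  refine ⟨S₁ ⊓ S₂, J.intersection_covering hS₁ hS₂, ?_⟩
  rintro V φ ⟨h1, h2⟩
  obtain ⟨i, x', hx'⟩ := l₁ φ h1
  obtain ⟨j, z', hz'⟩ := l₂ φ h2
  have hcond : (pullback.fst f h ≫ f).hom.app (op U) w = (pullback.snd f h ≫ h).hom.app (op U) w := by
    rw [pullback.condition]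
  rw [hom_comp_apply, hom_comp_apply] at hcond
  have hcomp : (g i ≫ f).hom.app (op V) x' = (k j ≫ h).hom.app (op V) z' := by
    rw [hom_comp_apply, hom_comp_apply, hx', hz', hom_naturality_apply, hom_naturality_apply,
      hcond]
  obtain ⟨w', hw1, hw2⟩ := exists_of_isPullback
    (IsPullback.of_hasPullback (g i ≫ f) (k j ≫ h)) (op V) x' z' hcomp
  refine ⟨(i, j), w', ?_⟩
  apply ext_of_isPullback (IsPullback.of_hasPullback f h) (op V)
  · rw [← hom_comp_apply, pullback.lift_fst, hom_comp_apply, hw1, hx', hom_naturality_apply]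
  · rw [← hom_comp_apply, pullback.lift_snd, hom_comp_apply, hw2, hz', hom_naturality_apply]

end Groth.Agent.Lib.Helper5.ToposEpi
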