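import Groth.Agent.Lib.Helper5.ToposPresent
import Groth.Agent.Lib.Helper5.ToposCoprodQS

/-!
# Finitely presentable objects of a locally coherent topos (helper5)
-/

set_option autoImplicit false
universe u

open CategoryTheory CategoryTheory.Limits Opposite

noncomputable section

namespace Groth.Agent.Lib.Helper5.ToposFP

open Groth.Agent.Lib.Helper9 Groth.Agent.Lib.Helper5.ToposEpi Groth.Agent.Lib.Helper5.ToposQC
  Groth.Agent.Lib.Helper5.ToposColimHom Groth.Agent.Lib.Helper5.ToposColimSet
  Groth.Agent.Lib.Helper5.ToposPresent Groth.Agent.Lib.Helper5.ToposCoprod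

variable {C : Type u} [SmallCategory C] {J : GrothendieckTopology C}

/-- a finite coproduct of coherent objects is coherent -/
lemma isCoherent_sigma_finite {β : Type u} [Finite β] (L : β → ToposFin.Sh J)
    (h : ∀ b, ToposFin.IsCoherent (L b)) : ToposFin.IsCoherent (∐ L) :=
  ⟨isQC_of_finite_jepi (fun b => Sigma.ι L b) (jepi_sigma_ι L) (fun b => (h b).1),
    isQS_pt_of_forall (Cofan.mk (∐ L) (Sigma.ι L)) (coproductIsCoproduct L) (fun b => (h b).2)⟩

lemma hasQCGenerators_of_coherent (hE : ToposFin.HasCoherentGenerators J) :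
    ToposFin.HasQCGenerators J := by
  intro X
  obtain ⟨ι, F, π, hF, hπ⟩ := hE X
  exact ⟨ι, F, π, fun i => (hF i).1, hπ⟩

/-- a retract of a coequalizer of a pair `X₁ ⇉ X₀` with `X₀` coherent and `X₁` quasi-compact is
finitely presentable -/
theorem isFP_of_retract_coequalizer (hE : ToposFin.HasQCGenerators J)
    {X X₀ X₁ : ToposFin.Sh J} (a b : X₁ ⟶ X₀) (i : X ⟶ coequalizer a b)
    (p : coequalizer a b ⟶ X) (h₀ : ToposFin.IsCoherent X₀) (h₁ : ToposFin.IsQC X₁)
    (hip : i ≫ p = 𝟙 X) : ToposFin.IsFP X := by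
  intro I _ _ D
  constructor
  · apply post_injective_of_hom
    intro j u v huv
    have h1 : (coequalizer.π a b ≫ p ≫ u) ≫ colimit.ι D j =
        (coequalizer.π a b ≫ p ≫ v) ≫ colimit.ι D j := by
      rw [Category.assoc, Category.assoc, Category.assoc, Category.assoc, huv]
    obtain ⟨k, f, hf⟩ := hom_inj_colimit D h₀.1 j _ _ h1
    refine ⟨k, f, ?_⟩
    rw [Category.assoc, Category.assoc, Category.assoc, Category.assoc, cancel_epi] at hf
    have := congrArg (fun z => i ≫ z) hf
    simpa [← Category.assoc, hip] using this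
  · apply post_surjective_of_hom
    intro σ
    obtain ⟨j, α, hα⟩ := hom_surj_colimit D hE h₀ (coequalizer.π a b ≫ p ≫ σ)
    have h2 : (a ≫ α) ≫ colimit.ι D j = (b ≫ α) ≫ colimit.ι D j := by
      rw [Category.assoc, Category.assoc, hα, coequalizer.condition_assoc]
    obtain ⟨k, f, hf⟩ := hom_inj_colimit D h₁ j _ _ h2
    have hf' : a ≫ α ≫ D.map f = b ≫ α ≫ D.map f := by
      rw [← Category.assoc, ← Category.assoc]; exact hf
    refine ⟨k, i ≫ coequalizer.desc (α ≫ D.map f) hf', ?_⟩
    have h3 : coequalizer.desc (α ≫ D.map f) hf' ≫ colimit.ι D k = p ≫ σ := by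
      apply coequalizer.hom_ext
      rw [coequalizer.π_desc_assoc, Category.assoc, colimit.w, hα]
    rw [Category.assoc, h3, ← Category.assoc, hip, Category.id_comp]

end Groth.Agent.Lib.Helper5.ToposFP
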