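import Groth.Agent.Lib.Helper5.ToposQC
import Groth.Prelude.Def_ToposFin2

/-!
# Helper library (helper5): inverse image functors between sheaf topoi and finiteness conditions
-/

set_option autoImplicit false

universe w u

open CategoryTheory CategoryTheory.Limits Opposite

namespace Groth.Agent.Lib.Helper5.ToposFunctor

open Groth.Agent.Lib.Helper9 Groth.Agent.Lib.Helper5.ToposEpi Groth.Agent.Lib.Helper5.ToposQC

variable {C D : Type u} [SmallCategory C] [SmallCategory D]
  {J : GrothendieckTopology C} {K : GrothendieckTopology D}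

/-- A generating set of quasi-compact objects gives a generating family of quasi-compact objects. -/
theorem hasQCGenerators_of_isGenerating (S : Set (ToposFin.Sh J))
    (hqc : ∀ K ∈ S, ToposFin.IsQC K) (hgen : ToposFin.IsGenerating S) :
    ToposFin.HasQCGenerators J := by
  rw [hasQCGenerators_iff]
  intro X
  obtain ⟨ι, F, π, hF, hπ⟩ := hgen X
  exact ⟨ι, F, π, fun i => hqc _ (hF i), hπ⟩

/-- Members of a generating set of quasi-compact objects stable under fibre products are
quasi-separated (hence coherent). -/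
theorem isQS_of_mem_closedUnderPullbacks (S : Set (ToposFin.Sh J))
    (hqc : ∀ K ∈ S, ToposFin.IsQC K) (hgen : ToposFin.IsGenerating S)
    (hpb : ToposFin.ClosedUnderPullbacks S) {K : ToposFin.Sh J} (hK : K ∈ S) :
    ToposFin.IsQS K := by
  intro A B a b hA hB
  obtain ⟨ι, G, ρ, hG, hρ⟩ := hgen A
  apply isQC_pullback_of_cover_left a b hA ρ hρ
  intro i
  obtain ⟨κ, H, σ, hH, hσ⟩ := hgen B
  apply isQC_pullback_of_cover (ρ i ≫ a) b hB σ hσ
  intro j
  obtain ⟨P, p, q, hP, hpq⟩ := hpb (ρ i ≫ a) (σ j ≫ b) (hG i) (hH j) hK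
  exact isQC_of_iso hpq.isoPullback (hqc P hP)

/-- A left adjoint preserves jointly epimorphic families. -/
theorem JEpi.map_of_adj (F : ToposFin.Sh K ⥤ ToposFin.Sh J) (R : ToposFin.Sh J ⥤ ToposFin.Sh K)
    (adj : F ⊣ R) {ι : Type w} {X : ToposFin.Sh K} {G : ι → ToposFin.Sh K} {π : ∀ i, G i ⟶ X}
    (h : JEpi π) : JEpi (fun i => F.map (π i)) := by
  intro Z a b hab
  apply (adj.homEquiv X Z).injective
  apply h
  intro i
  have := congrArg (adj.homEquiv _ _) (hab i)
  simpa [Adjunction.homEquiv_naturality_left] using this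

/-- If a left adjoint sends the members of a generating set to quasi-compact objects, it preserves
quasi-compact objects. -/
theorem isQC_map_of_generating (F : ToposFin.Sh K ⥤ ToposFin.Sh J)
    (R : ToposFin.Sh J ⥤ ToposFin.Sh K) (adj : F ⊣ R) (S : Set (ToposFin.Sh K))
    (hgen : ToposFin.IsGenerating S) (hFS : ∀ X ∈ S, ToposFin.IsQC (F.obj X))
    {X : ToposFin.Sh K} (hX : ToposFin.IsQC X) : ToposFin.IsQC (F.obj X) := by
  obtain ⟨ι, G, π, hGS, hπ⟩ := hgen X
  obtain ⟨s, hs⟩ := (isQC_iff X).1 hX ι G π hπ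
  exact isQC_of_finite_jepi (fun i : s => F.map (π i)) (JEpi.map_of_adj F R adj hs)
    (fun i => hFS _ (hGS i))

/-- The image of a fibre product under a functor preserving finite limits. -/
theorem isQC_pullback_map_iff (F : ToposFin.Sh K ⥤ ToposFin.Sh J) [PreservesFiniteLimits F]
    {A B Y : ToposFin.Sh K} (a : A ⟶ Y) (b : B ⟶ Y) :
    ToposFin.IsQC (pullback (F.map a) (F.map b)) ↔ ToposFin.IsQC (F.obj (pullback a b)) :=
  ⟨fun h => isQC_of_iso (PreservesPullback.iso F a b).symm h,
    fun h => isQC_of_iso (PreservesPullback.iso F a b) h⟩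

/-- A left adjoint preserving finite limits which sends the members of a generating set of coherent
objects to coherent objects preserves quasi-compact objects and quasi-separated objects. -/
theorem preserves_qc_qs_of_generating (F : ToposFin.Sh K ⥤ ToposFin.Sh J)
    (R : ToposFin.Sh J ⥤ ToposFin.Sh K) (adj : F ⊣ R) [PreservesFiniteLimits F]
    (hE' : ToposFin.HasQCGenerators J) (S : Set (ToposFin.Sh K))
    (hS : ∀ X ∈ S, ToposFin.IsCoherent X) (hgen : ToposFin.IsGenerating S)
    (h : ∀ X ∈ S, ToposFin.IsCoherent (F.obj X)) :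
    (∀ X : ToposFin.Sh K, ToposFin.IsQC X → ToposFin.IsQC (F.obj X)) ∧
      (∀ X : ToposFin.Sh K, ToposFin.IsQS X → ToposFin.IsQS (F.obj X)) := by
  have hqc : ∀ X : ToposFin.Sh K, ToposFin.IsQC X → ToposFin.IsQC (F.obj X) := fun X hX =>
    isQC_map_of_generating F R adj S hgen (fun X hX => (h X hX).1) hX
  refine ⟨hqc, ?_⟩
  intro X hX
  obtain ⟨ι, G, π, hGS, hπ⟩ := hgen X
  refine isQS_of_coherent_cover_pullbacks hE' (fun i => F.map (π i))
    (JEpi.map_of_adj F R adj hπ) (fun i => h _ (hGS i)) ?_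
  intro i j
  rw [isQC_pullback_map_iff]
  exact hqc _ (hX _ _ (π i) (π j) (hS _ (hGS i)).1 (hS _ (hGS j)).1)

end Groth.Agent.Lib.Helper5.ToposFunctor
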