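import Groth.Agent.Lib.Helper5.ToposFP

/-!
# Every object of a topos with a generating class closed under finite colimits is a small filtered
colimit of members of the class (helper5)
-/

set_option autoImplicit false
universe u

open CategoryTheory CategoryTheory.Limits Opposite

noncomputable section

namespace Groth.Agent.Lib.Helper5.ToposIndCoh

open Groth.Agent.Lib.Helper9 Groth.Agent.Lib.Helper5.ToposEpi Groth.Agent.Lib.Helper5.ToposQC
  Groth.Agent.Lib.Helper5.ToposColimHom Groth.Agent.Lib.Helper5.ToposPresent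

variable {C : Type u} [SmallCategory C] {J : GrothendieckTopology C}

section Descent

/-- descent of morphisms along a jointly epimorphic family -/
lemma exists_desc_of_jepi {ι : Type u} {F : ι → ToposFin.Sh J} {X Y : ToposFin.Sh J}
    (π : ∀ i, F i ⟶ X) (hπ : JEpi π) (t : ∀ i, F i ⟶ Y)
    (h : ∀ i j, pullback.fst (π i) (π j) ≫ t i = pullback.snd (π i) (π j) ≫ t j) :
    ∃ d : X ⟶ Y, ∀ i, π i ≫ d = t i := by
  obtain ⟨p, hp⟩ : ∃ p : (∐ F) ⟶ X, p = Sigma.desc π := ⟨_, rfl⟩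
  have hpι : ∀ i, Sigma.ι F i ≫ p = π i := fun i => by rw [hp, Sigma.ι_desc]
  haveI : Epi p := by rw [hp]; exact (epi_desc_iff π).2 hπ
  obtain ⟨g, hg⟩ : ∃ g : (∐ F) ⟶ Y, g = Sigma.desc t := ⟨_, rfl⟩
  have hgι : ∀ i, Sigma.ι F i ≫ g = t i := fun i => by rw [hg, Sigma.ι_desc]
  have key : pullback.fst p p ≫ g = pullback.snd p p ≫ g := by
    apply JEpi.pullback_map p p (fun i => Sigma.ι F i) (jepi_sigma_ι F) (fun i => Sigma.ι F i)
      (jepi_sigma_ι F)
    rintro ⟨i, j⟩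
    dsimp only
    rw [pullback.lift_fst_assoc, pullback.lift_snd_assoc, Category.assoc, Category.assoc, hgι, hgι]
    have hc : pullback.fst (Sigma.ι F i ≫ p) (Sigma.ι F j ≫ p) ≫ π i =
        pullback.snd (Sigma.ι F i ≫ p) (Sigma.ι F j ≫ p) ≫ π j := by
      rw [← hpι i, ← hpι j]
      exact pullback.condition
    obtain ⟨l, e1, e2⟩ : ∃ l : pullback (Sigma.ι F i ≫ p) (Sigma.ι F j ≫ p) ⟶ pullback (π i) (π j),
        pullback.fst (Sigma.ι F i ≫ p) (Sigma.ι F j ≫ p) = l ≫ pullback.fst (π i) (π j) ∧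
        pullback.snd (Sigma.ι F i ≫ p) (Sigma.ι F j ≫ p) = l ≫ pullback.snd (π i) (π j) :=
      ⟨pullback.lift _ _ hc, (pullback.lift_fst _ _ hc).symm, (pullback.lift_snd _ _ hc).symm⟩
    rw [e1, e2, Category.assoc, Category.assoc, h]
  obtain ⟨d, hd⟩ := exists_desc_of_epi p g key
  refine ⟨d, fun i => ?_⟩
  rw [← hpι i, Category.assoc, hd, hgι]

end Descent

section Incl

variable {ι : Type u} (F : ι → ToposFin.Sh J)

/-- partial coproducts -/
abbrev Z (s : Finset ι) : ToposFin.Sh J := ∐ (fun i : s => F i)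

/-- inclusion of partial coproducts -/
def incl {s s' : Finset ι} (h : s ≤ s') : Z F s ⟶ Z F s' :=
  Sigma.desc (fun i : s => Sigma.ι (fun i : s' => F i) ⟨i.1, h i.2⟩)

@[reassoc (attr := simp)]
lemma ι_incl {s s' : Finset ι} (h : s ≤ s') (i : s) :
    Sigma.ι (fun i : s => F i) i ≫ incl F h = Sigma.ι (fun i : s' => F i) ⟨i.1, h i.2⟩ :=
  Sigma.ι_desc _ _

@[reassoc (attr := simp)]
lemma incl_incl {s s' s'' : Finset ι} (h : s ≤ s') (h' : s' ≤ s'') :
    incl F h ≫ incl F h' = incl F (h.trans h') := by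
  apply Sigma.hom_ext
  intro i
  rw [ι_incl_assoc, ι_incl, ι_incl]

@[simp]
lemma incl_refl (s : Finset ι) : incl F (le_refl s) = 𝟙 _ := by
  apply Sigma.hom_ext
  intro i
  rw [ι_incl, Category.comp_id]

variable {F} {X : ToposFin.Sh J} (π : ∀ i, F i ⟶ X)

/-- the map from a partial coproduct -/
abbrev pS (s : Finset ι) : Z F s ⟶ X := Sigma.desc (fun i : s => π i)

@[reassoc (attr := simp)]
lemma incl_pS {s s' : Finset ι} (h : s ≤ s') : incl F h ≫ pS π s' = pS π s := by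
  apply Sigma.hom_ext
  intro i
  rw [ι_incl_assoc, Sigma.ι_desc, Sigma.ι_desc]

end Incl

section Diagram

open Classical in
attribute [local instance] Classical.propDecidable

variable {ι : Type u} {F : ι → ToposFin.Sh J} {X : ToposFin.Sh J} (π : ∀ i, F i ⟶ X)
  (κ : Finset ι → Type u) (G : ∀ s, κ s → ToposFin.Sh J)
  (ρ : ∀ s k, G s k ⟶ pullback (pS π s) (pS π s))

/-- relations -/
abbrev Rel := Σ s : Finset ι, κ s

/-- source of a relation -/
abbrev Gx (x : Rel κ) : ToposFin.Sh J := G x.1 x.2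

def ax (x : Rel κ) : Gx κ G x ⟶ Z F x.1 := ρ x.1 x.2 ≫ pullback.fst _ _

def bx (x : Rel κ) : Gx κ G x ⟶ Z F x.1 := ρ x.1 x.2 ≫ pullback.snd _ _

lemma ax_p (x : Rel κ) : ax π κ G ρ x ≫ pS π x.1 = bx π κ G ρ x ≫ pS π x.1 := by
  unfold ax bx
  rw [Category.assoc, Category.assoc, pullback.condition]

/-- the index set -/
def Idx := Finset ι × Finset (Rel κ)

instance : SemilatticeSup (Idx κ) := inferInstanceAs (SemilatticeSup (Finset ι × Finset (Rel κ)))

instance : Nonempty (Idx κ) := ⟨((∅ : Finset ι), (∅ : Finset (Rel κ)))⟩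

instance : IsFiltered (Idx κ) := inferInstance

/-- the generators used at an index -/
def S (i : Idx κ) : Finset ι := i.1 ∪ i.2.biUnion (fun x => x.1)

lemma fst_le_S (i : Idx κ) : i.1 ≤ S κ i := Finset.subset_union_left

lemma le_S (i : Idx κ) (x : Rel κ) (hx : x ∈ i.2) : x.1 ≤ S κ i :=
  (Finset.subset_biUnion_of_mem (fun x : Rel κ => x.1) hx).trans Finset.subset_union_right

lemma S_mono {i i' : Idx κ} (h : i ≤ i') : S κ i ≤ S κ i' :=
  Finset.union_subset_union h.1 (Finset.biUnion_subset_biUnion_of_subset_left _ h.2)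

def A (i : Idx κ) : (∐ fun x : i.2 => Gx κ G x.1) ⟶ Z F (S κ i) :=
  Sigma.desc (fun x => ax π κ G ρ x.1 ≫ incl F (le_S κ i x.1 x.2))

def B (i : Idx κ) : (∐ fun x : i.2 => Gx κ G x.1) ⟶ Z F (S κ i) :=
  Sigma.desc (fun x => bx π κ G ρ x.1 ≫ incl F (le_S κ i x.1 x.2))

/-- the objects of the diagram -/
abbrev Wobj (i : Idx κ) : ToposFin.Sh J := coequalizer (A π κ G ρ i) (B π κ G ρ i)

lemma ι_A_incl {i i' : Idx κ} (h : i ≤ i') (x : i.2) :
    Sigma.ι (fun x : i.2 => Gx κ G x.1) x ≫ A π κ G ρ i ≫ incl F (S_mono κ h) =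
      Sigma.ι (fun x : i'.2 => Gx κ G x.1) ⟨x.1, h.2 x.2⟩ ≫ A π κ G ρ i' := by
  unfold A
  rw [Sigma.ι_desc_assoc, Sigma.ι_desc, Category.assoc, incl_incl]

lemma ι_B_incl {i i' : Idx κ} (h : i ≤ i') (x : i.2) :
    Sigma.ι (fun x : i.2 => Gx κ G x.1) x ≫ B π κ G ρ i ≫ incl F (S_mono κ h) =
      Sigma.ι (fun x : i'.2 => Gx κ G x.1) ⟨x.1, h.2 x.2⟩ ≫ B π κ G ρ i' := by
  unfold B
  rw [Sigma.ι_desc_assoc, Sigma.ι_desc, Category.assoc, incl_incl]

lemma trans_cond {i i' : Idx κ} (h : i ≤ i') :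
    A π κ G ρ i ≫ incl F (S_mono κ h) ≫ coequalizer.π (A π κ G ρ i') (B π κ G ρ i') =
      B π κ G ρ i ≫ incl F (S_mono κ h) ≫ coequalizer.π (A π κ G ρ i') (B π κ G ρ i') := by
  apply Sigma.hom_ext
  intro x
  calc Sigma.ι (fun x : i.2 => Gx κ G x.1) x ≫ A π κ G ρ i ≫ incl F (S_mono κ h) ≫
        coequalizer.π (A π κ G ρ i') (B π κ G ρ i')
      = (Sigma.ι (fun x : i.2 => Gx κ G x.1) x ≫ A π κ G ρ i ≫ incl F (S_mono κ h)) ≫
        coequalizer.π (A π κ G ρ i') (B π κ G ρ i') := by simp only [Category.assoc]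
    _ = (Sigma.ι (fun x : i.2 => Gx κ G x.1) x ≫ B π κ G ρ i ≫ incl F (S_mono κ h)) ≫
        coequalizer.π (A π κ G ρ i') (B π κ G ρ i') := by
        rw [ι_A_incl π κ G ρ h x, ι_B_incl π κ G ρ h x, Category.assoc, Category.assoc,
          coequalizer.condition]
    _ = _ := by simp only [Category.assoc]

/-- transition maps -/
def trans {i i' : Idx κ} (h : i ≤ i') : Wobj π κ G ρ i ⟶ Wobj π κ G ρ i' :=
  coequalizer.desc _ (trans_cond π κ G ρ h)

@[reassoc (attr := simp)]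
lemma π_trans {i i' : Idx κ} (h : i ≤ i') :
    coequalizer.π (A π κ G ρ i) (B π κ G ρ i) ≫ trans π κ G ρ h =
      incl F (S_mono κ h) ≫ coequalizer.π (A π κ G ρ i') (B π κ G ρ i') :=
  coequalizer.π_desc _ _

/-- the diagram -/
def DW : Idx κ ⥤ ToposFin.Sh J where
  obj i := Wobj π κ G ρ i
  map f := trans π κ G ρ (leOfHom f)
  map_id i := by
    apply coequalizer.hom_ext
    rw [π_trans, incl_refl, Category.id_comp, Category.comp_id]
  map_comp f g := by
    apply coequalizer.hom_ext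
    rw [π_trans, π_trans_assoc, π_trans, incl_incl_assoc]

lemma q_cond (i : Idx κ) : A π κ G ρ i ≫ pS π (S κ i) = B π κ G ρ i ≫ pS π (S κ i) := by
  apply Sigma.hom_ext
  intro x
  unfold A B
  rw [Sigma.ι_desc_assoc, Sigma.ι_desc_assoc, Category.assoc, Category.assoc, incl_pS, ax_p]

/-- the cocone legs -/
def q (i : Idx κ) : Wobj π κ G ρ i ⟶ X := coequalizer.desc _ (q_cond π κ G ρ i)

@[reassoc (attr := simp)]
lemma π_q (i : Idx κ) :
    coequalizer.π (A π κ G ρ i) (B π κ G ρ i) ≫ q π κ G ρ i = pS π (S κ i) :=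
  coequalizer.π_desc _ _

lemma trans_q {i i' : Idx κ} (h : i ≤ i') : trans π κ G ρ h ≫ q π κ G ρ i' = q π κ G ρ i := by
  apply coequalizer.hom_ext
  rw [π_trans_assoc, π_q, π_q, incl_pS]

/-- the cocone over `X` -/
def coconeW : Cocone (DW π κ G ρ) where
  pt := X
  ι :=
    { app := fun i => q π κ G ρ i
      naturality := fun i i' f => by
        change trans π κ G ρ (leOfHom f) ≫ q π κ G ρ i' = q π κ G ρ i ≫ 𝟙 X
        rw [trans_q, Category.comp_id] }

section Colimit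

variable {Y : ToposFin.Sh J} (g : ∀ i, Wobj π κ G ρ i ⟶ Y)

/-- the composite `Z_{S i} ⟶ W_i ⟶ Y` -/
def phi (i : Idx κ) : Z F (S κ i) ⟶ Y := coequalizer.π (A π κ G ρ i) (B π κ G ρ i) ≫ g i

/-- the index of a single generator -/
def sing (j : ι) : Idx κ := (({j} : Finset ι), (∅ : Finset (Rel κ)))

lemma mem_S_sing (j : ι) : j ∈ S κ (sing κ j) :=
  fst_le_S κ (sing κ j) (Finset.mem_singleton_self j)

/-- the index of a single relation -/
def singR (x : Rel κ) : Idx κ := ((∅ : Finset ι), ({x} : Finset (Rel κ)))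

lemma mem_singR (x : Rel κ) : x ∈ (singR κ x).2 := Finset.mem_singleton_self x

/-- the induced map on a generator -/
def tt (j : ι) : F j ⟶ Y :=
  Sigma.ι (fun i : (S κ (sing κ j) : Finset ι) => F i) ⟨j, mem_S_sing κ j⟩ ≫ phi π κ G ρ g (sing κ j)

/-- the induced map on a partial coproduct -/
def Psi (s : Finset ι) : Z F s ⟶ Y := Sigma.desc (fun j : s => tt π κ G ρ g j.1)

variable (hg : ∀ {i i' : Idx κ} (h : i ≤ i'), trans π κ G ρ h ≫ g i' = g i)

include hg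

lemma incl_phi {i i' : Idx κ} (h : i ≤ i') :
    incl F (S_mono κ h) ≫ phi π κ G ρ g i' = phi π κ G ρ g i := by
  unfold phi
  rw [← π_trans_assoc π κ G ρ h, hg h]

lemma ι_phi (i : Idx κ) (j : ι) (hj : j ∈ S κ i) :
    Sigma.ι (fun i' : (S κ i : Finset ι) => F i') ⟨j, hj⟩ ≫ phi π κ G ρ g i = tt π κ G ρ g j := by
  have h1 : i ≤ i ⊔ sing κ j := le_sup_left
  have h2 : sing κ j ≤ i ⊔ sing κ j := le_sup_right
  rw [tt, ← incl_phi π κ G ρ g hg h1, ← incl_phi π κ G ρ g hg h2, ι_incl_assoc, ι_incl_assoc]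

lemma incl_phi_eq_Psi (i : Idx κ) (s : Finset ι) (h : s ≤ S κ i) :
    incl F h ≫ phi π κ G ρ g i = Psi π κ G ρ g s := by
  apply Sigma.hom_ext
  intro j
  rw [ι_incl_assoc, ι_phi π κ G ρ g hg, Psi, Sigma.ι_desc]

lemma ρ_fst_Psi (x : Rel κ) :
    ax π κ G ρ x ≫ Psi π κ G ρ g x.1 = bx π κ G ρ x ≫ Psi π κ G ρ g x.1 := by
  have hle : x.1 ≤ S κ (singR κ x) := le_S κ (singR κ x) x (mem_singR κ x)
  have eA : Sigma.ι (fun y : ((singR κ x).2 : Finset (Rel κ)) => Gx κ G y.1) ⟨x, mem_singR κ x⟩ ≫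
      A π κ G ρ (singR κ x) = ax π κ G ρ x ≫ incl F hle := by
    unfold A
    rw [Sigma.ι_desc]
  have eB : Sigma.ι (fun y : ((singR κ x).2 : Finset (Rel κ)) => Gx κ G y.1) ⟨x, mem_singR κ x⟩ ≫
      B π κ G ρ (singR κ x) = bx π κ G ρ x ≫ incl F hle := by
    unfold B
    rw [Sigma.ι_desc]
  rw [← incl_phi_eq_Psi π κ G ρ g hg (singR κ x) x.1 hle, ← Category.assoc, ← Category.assoc,
    ← eA, ← eB]
  unfold phi
  rw [Category.assoc, Category.assoc, coequalizer.condition_assoc]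

include hg in
lemma fst_Psi (hρ : ∀ s, JEpi (ρ s)) (s : Finset ι) :
    pullback.fst (pS π s) (pS π s) ≫ Psi π κ G ρ g s =
      pullback.snd (pS π s) (pS π s) ≫ Psi π κ G ρ g s := by
  apply hρ s
  intro k
  have := ρ_fst_Psi π κ G ρ g hg ⟨s, k⟩
  unfold ax bx at this
  rw [Category.assoc, Category.assoc] at this
  exact this

include hg in
lemma compat (hρ : ∀ s, JEpi (ρ s)) (j j' : ι) :
    pullback.fst (π j) (π j') ≫ tt π κ G ρ g j = pullback.snd (π j) (π j') ≫ tt π κ G ρ g j' := by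
  obtain ⟨s, hs⟩ : ∃ s : Finset ι, s = {j, j'} := ⟨_, rfl⟩
  have hj : j ∈ s := by rw [hs]; exact Finset.mem_insert_self j _
  have hj' : j' ∈ s := by
    rw [hs]; exact Finset.mem_insert_of_mem (Finset.mem_singleton_self j')
  have hc : (pullback.fst (π j) (π j') ≫ Sigma.ι (fun i : s => F i) ⟨j, hj⟩) ≫ pS π s =
      (pullback.snd (π j) (π j') ≫ Sigma.ι (fun i : s => F i) ⟨j', hj'⟩) ≫ pS π s := by
    rw [Category.assoc, Category.assoc, Sigma.ι_desc, Sigma.ι_desc]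
    exact pullback.condition
  obtain ⟨m, e1, e2⟩ : ∃ m : pullback (π j) (π j') ⟶ pullback (pS π s) (pS π s),
      m ≫ pullback.fst (pS π s) (pS π s) =
        pullback.fst (π j) (π j') ≫ Sigma.ι (fun i : s => F i) ⟨j, hj⟩ ∧
      m ≫ pullback.snd (pS π s) (pS π s) =
        pullback.snd (π j) (π j') ≫ Sigma.ι (fun i : s => F i) ⟨j', hj'⟩ :=
    ⟨pullback.lift _ _ hc, pullback.lift_fst _ _ hc, pullback.lift_snd _ _ hc⟩
  have t1 : tt π κ G ρ g j = Sigma.ι (fun i : s => F i) ⟨j, hj⟩ ≫ Psi π κ G ρ g s := by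
    rw [Psi, Sigma.ι_desc]
  have t2 : tt π κ G ρ g j' = Sigma.ι (fun i : s => F i) ⟨j', hj'⟩ ≫ Psi π κ G ρ g s := by
    rw [Psi, Sigma.ι_desc]
  rw [t1, t2, ← Category.assoc, ← Category.assoc, ← e1, ← e2, Category.assoc, Category.assoc,
    fst_Psi π κ G ρ g hg hρ s]

include hg in
lemma exists_desc (hπ : JEpi π) (hρ : ∀ s, JEpi (ρ s)) :
    ∃ d : X ⟶ Y, ∀ i, q π κ G ρ i ≫ d = g i := by
  obtain ⟨d, hd⟩ := exists_desc_of_jepi π hπ (tt π κ G ρ g) (compat π κ G ρ g hg hρ)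
  refine ⟨d, fun i => ?_⟩
  apply coequalizer.hom_ext
  rw [π_q_assoc]
  apply Sigma.hom_ext
  intro j
  rw [Sigma.ι_desc_assoc, hd]
  exact (ι_phi π κ G ρ g hg i j.1 j.2).symm

end Colimit

/-- `X` is the colimit of the diagram -/
lemma nonempty_isColimit (hπ : JEpi π) (hρ : ∀ s, JEpi (ρ s)) :
    Nonempty (IsColimit (coconeW π κ G ρ)) := by
  have key : ∀ c : Cocone (DW π κ G ρ), ∃ d : X ⟶ c.pt, ∀ i, q π κ G ρ i ≫ d = c.ι.app i := by
    intro c
    refine exists_desc π κ G ρ (fun i => c.ι.app i) (fun {i i'} h => ?_) hπ hρ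
    have := c.w (homOfLE h)
    exact this
  choose d hd using key
  refine ⟨{ desc := d, fac := fun c i => hd c i, uniq := fun c m hm => ?_ }⟩
  let m' : X ⟶ c.pt := m
  apply hπ
  intro j
  have h1 : q π κ G ρ (sing κ j) ≫ m' = c.ι.app (sing κ j) := hm (sing κ j)
  have h2 := hd c (sing κ j)
  have e0 : π j = Sigma.ι (fun i : (S κ (sing κ j) : Finset ι) => F i) ⟨j, mem_S_sing κ j⟩ ≫
      coequalizer.π (A π κ G ρ (sing κ j)) (B π κ G ρ (sing κ j)) ≫ q π κ G ρ (sing κ j) := by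
    rw [π_q, Sigma.ι_desc]
  calc π j ≫ m' = (Sigma.ι (fun i : (S κ (sing κ j) : Finset ι) => F i) ⟨j, mem_S_sing κ j⟩ ≫
      coequalizer.π (A π κ G ρ (sing κ j)) (B π κ G ρ (sing κ j)) ≫ q π κ G ρ (sing κ j)) ≫ m' :=
        congrArg (fun z => z ≫ m') e0
    _ = Sigma.ι (fun i : (S κ (sing κ j) : Finset ι) => F i) ⟨j, mem_S_sing κ j⟩ ≫
      coequalizer.π (A π κ G ρ (sing κ j)) (B π κ G ρ (sing κ j)) ≫ (q π κ G ρ (sing κ j) ≫ m') := by
        simp only [Category.assoc]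
    _ = Sigma.ι (fun i : (S κ (sing κ j) : Finset ι) => F i) ⟨j, mem_S_sing κ j⟩ ≫
      coequalizer.π (A π κ G ρ (sing κ j)) (B π κ G ρ (sing κ j)) ≫
        (q π κ G ρ (sing κ j) ≫ d c) := by rw [h1, h2]
    _ = (Sigma.ι (fun i : (S κ (sing κ j) : Finset ι) => F i) ⟨j, mem_S_sing κ j⟩ ≫
      coequalizer.π (A π κ G ρ (sing κ j)) (B π κ G ρ (sing κ j)) ≫ q π κ G ρ (sing κ j)) ≫ d c := by
        simp only [Category.assoc]
    _ = π j ≫ d c := congrArg (fun z => z ≫ d c) e0.symm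

end Diagram

/-- **Filtered presentation**: if every object is covered by members of a class `𝒢` closed under
finite coproducts and coequalizers, then every object is a small filtered colimit of members of
`𝒢`. -/
theorem exists_filtered_presentation (𝒢 : ToposFin.Sh J → Prop)
    (hgen : ∀ X : ToposFin.Sh J, ∃ (ι : Type u) (F : ι → ToposFin.Sh J) (π : ∀ i, F i ⟶ X),
      (∀ i, 𝒢 (F i)) ∧ JEpi π)
    (hsig : ∀ (β : Type u) [Finite β] (L : β → ToposFin.Sh J), (∀ b, 𝒢 (L b)) → 𝒢 (∐ L))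
    (hcoeq : ∀ (X₀ X₁ : ToposFin.Sh J) (a b : X₁ ⟶ X₀), 𝒢 X₀ → 𝒢 X₁ → 𝒢 (coequalizer a b))
    (X : ToposFin.Sh J) :
    ∃ (I : Type u) (_ : SmallCategory I) (_ : IsFiltered I) (D : I ⥤ ToposFin.Sh J),
      (∀ i, 𝒢 (D.obj i)) ∧ Nonempty (X ≅ colimit D) := by
  classical
  obtain ⟨ι, F, π, hF, hπ⟩ := hgen X
  choose κ G ρ hG hρ using fun s : Finset ι => hgen (pullback (pS π s) (pS π s))
  obtain ⟨hc⟩ := nonempty_isColimit π κ G ρ hπ hρ
  refine ⟨Idx κ, inferInstance, inferInstance, DW π κ G ρ, fun i => ?_,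
    ⟨hc.coconePointUniqueUpToIso (colimit.isColimit _)⟩⟩
  apply hcoeq
  · exact hsig _ _ (fun b => hF b.1)
  · exact hsig _ _ (fun b => hG _ _)

end Groth.Agent.Lib.Helper5.ToposIndCoh
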