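import Groth.Agent.Lib.Helper5.ToposQCConverse

/-!
# Finitely presentable objects of a topos are retracts of coequalizers of finite coproducts of
generators (helper5)
-/

set_option autoImplicit false
universe u

open CategoryTheory CategoryTheory.Limits Opposite

noncomputable section

namespace Groth.Agent.Lib.Helper5.ToposPresent

open Groth.Agent.Lib.Helper5.ToposColimHom Groth.Agent.Lib.Helper5.ToposEpi

variable {C : Type u} [SmallCategory C] {J : GrothendieckTopology C}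

instance hasCoequalizersSh : HasCoequalizers (ToposFin.Sh J) := by
  have : HasWeakSheafify J (Type u) := inferInstance
  have : HasColimitsOfShape WalkingParallelPair (Type u) := inferInstance
  exact (Sheaf.instHasColimitsOfShape :
    HasColimitsOfShape WalkingParallelPair (Sheaf J (Type u)))

section Diagram

variable {Z X : ToposFin.Sh J} (p : Z ⟶ X) {κ : Type u} (G : κ → ToposFin.Sh J)
  (ρ : ∀ k, G k ⟶ pullback p p)

/-- finitely many relations -/
abbrev R (t : Finset κ) : ToposFin.Sh J := ∐ (fun k : t => G k)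

abbrev a (t : Finset κ) : R G t ⟶ Z := Sigma.desc (fun k : t => ρ k ≫ pullback.fst p p)

abbrev b (t : Finset κ) : R G t ⟶ Z := Sigma.desc (fun k : t => ρ k ≫ pullback.snd p p)

/-- the quotient of `Z` by finitely many relations -/
abbrev W (t : Finset κ) : ToposFin.Sh J := coequalizer (a p G ρ t) (b p G ρ t)

lemma a_comp_p (t : Finset κ) : a p G ρ t ≫ p = b p G ρ t ≫ p := by
  apply Sigma.hom_ext
  intro k
  rw [Sigma.ι_desc_assoc, Sigma.ι_desc_assoc, Category.assoc, Category.assoc, pullback.condition]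

/-- the map to `X` -/
def q (t : Finset κ) : W p G ρ t ⟶ X := coequalizer.desc p (a_comp_p p G ρ t)

@[reassoc (attr := simp)]
lemma π_q (t : Finset κ) : coequalizer.π (a p G ρ t) (b p G ρ t) ≫ q p G ρ t = p :=
  coequalizer.π_desc _ _

lemma cond {t t' : Finset κ} (h : t ≤ t') :
    a p G ρ t ≫ coequalizer.π (a p G ρ t') (b p G ρ t') =
      b p G ρ t ≫ coequalizer.π (a p G ρ t') (b p G ρ t') := by
  apply Sigma.hom_ext
  intro k
  have e1 : ρ k ≫ pullback.fst p p =
      Sigma.ι (fun k : t' => G k) ⟨k.1, h k.2⟩ ≫ a p G ρ t' := by rw [Sigma.ι_desc]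
  have e2 : ρ k ≫ pullback.snd p p =
      Sigma.ι (fun k : t' => G k) ⟨k.1, h k.2⟩ ≫ b p G ρ t' := by rw [Sigma.ι_desc]
  rw [Sigma.ι_desc_assoc, Sigma.ι_desc_assoc, e1, e2, Category.assoc, Category.assoc,
    coequalizer.condition]

/-- transition maps -/
def Wmap {t t' : Finset κ} (h : t ≤ t') : W p G ρ t ⟶ W p G ρ t' :=
  coequalizer.desc (coequalizer.π _ _) (cond p G ρ h)

@[reassoc (attr := simp)]
lemma π_Wmap {t t' : Finset κ} (h : t ≤ t') :
    coequalizer.π (a p G ρ t) (b p G ρ t) ≫ Wmap p G ρ h = coequalizer.π _ _ :=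
  coequalizer.π_desc _ _

/-- the diagram of finite quotients -/
def DW : Finset κ ⥤ ToposFin.Sh J where
  obj t := W p G ρ t
  map f := Wmap p G ρ (leOfHom f)
  map_id t := by
    apply coequalizer.hom_ext
    rw [π_Wmap, Category.comp_id]
  map_comp f g := by
    apply coequalizer.hom_ext
    rw [π_Wmap, π_Wmap_assoc, π_Wmap]

/-- the cocone over `X` -/
def coconeW : Cocone (DW p G ρ) where
  pt := X
  ι :=
    { app := fun t => q p G ρ t
      naturality := fun t t' f => by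
        apply coequalizer.hom_ext
        change coequalizer.π _ _ ≫ Wmap p G ρ (leOfHom f) ≫ q p G ρ t' =
          coequalizer.π _ _ ≫ q p G ρ t ≫ 𝟙 X
        rw [π_Wmap_assoc, π_q, Category.comp_id, π_q] }

variable [Epi p] (hρ : JEpi ρ)

include hρ in
lemma exists_desc {Y : ToposFin.Sh J} (g : ∀ t, W p G ρ t ⟶ Y)
    (hg : ∀ {t t' : Finset κ} (h : t ≤ t'), Wmap p G ρ h ≫ g t' = g t) :
    ∃ d : X ⟶ Y, ∀ t, q p G ρ t ≫ d = g t := by
  obtain ⟨t₀, ht₀def⟩ : ∃ t₀ : Z ⟶ Y, t₀ = coequalizer.π (a p G ρ ∅) (b p G ρ ∅) ≫ g ∅ :=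
    ⟨_, rfl⟩
  have ht₀ : ∀ t, coequalizer.π (a p G ρ t) (b p G ρ t) ≫ g t = t₀ := by
    intro t
    have hle : (∅ : Finset κ) ≤ t := Finset.empty_subset t
    rw [ht₀def, ← hg hle, π_Wmap_assoc]
  have h1 : pullback.fst p p ≫ t₀ = pullback.snd p p ≫ t₀ := by
    apply hρ
    intro k
    have e1 : ρ k ≫ pullback.fst p p =
        Sigma.ι (fun k : ({k} : Finset κ) => G k) ⟨k, Finset.mem_singleton_self k⟩ ≫
          a p G ρ {k} := by rw [Sigma.ι_desc]
    have e2 : ρ k ≫ pullback.snd p p =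
        Sigma.ι (fun k : ({k} : Finset κ) => G k) ⟨k, Finset.mem_singleton_self k⟩ ≫
          b p G ρ {k} := by rw [Sigma.ι_desc]
    calc ρ k ≫ pullback.fst p p ≫ t₀ = (ρ k ≫ pullback.fst p p) ≫ t₀ :=
          (Category.assoc _ _ _).symm
      _ = (Sigma.ι (fun k : ({k} : Finset κ) => G k) ⟨k, Finset.mem_singleton_self k⟩ ≫
            a p G ρ {k}) ≫ coequalizer.π (a p G ρ {k}) (b p G ρ {k}) ≫ g {k} := by
          rw [e1, ht₀]
      _ = (Sigma.ι (fun k : ({k} : Finset κ) => G k) ⟨k, Finset.mem_singleton_self k⟩ ≫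
            b p G ρ {k}) ≫ coequalizer.π (a p G ρ {k}) (b p G ρ {k}) ≫ g {k} := by
          rw [Category.assoc, Category.assoc, coequalizer.condition_assoc]
      _ = (ρ k ≫ pullback.snd p p) ≫ t₀ := by rw [e2, ht₀]
      _ = ρ k ≫ pullback.snd p p ≫ t₀ := Category.assoc _ _ _
  obtain ⟨d, hd⟩ := exists_desc_of_epi p t₀ h1
  refine ⟨d, fun t => ?_⟩
  apply coequalizer.hom_ext
  rw [π_q_assoc, hd, ht₀]

include hρ in
/-- `X` is the colimit of the finite quotients -/
lemma nonempty_isColimit : Nonempty (IsColimit (coconeW p G ρ)) := by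
  have key : ∀ c : Cocone (DW p G ρ), ∃ d : X ⟶ c.pt, ∀ t, q p G ρ t ≫ d = c.ι.app t := by
    intro c
    refine exists_desc p G ρ hρ (fun t => c.ι.app t) (fun {t t'} h => ?_)
    have := c.w (homOfLE h)
    exact this
  choose d hd using key
  refine ⟨{ desc := d, fac := fun c t => hd c t, uniq := fun c m hm => ?_ }⟩
  let m' : X ⟶ c.pt := m
  have h1 : q p G ρ ∅ ≫ m' = c.ι.app ∅ := hm ∅
  have h2 := hd c ∅
  have h3 : p ≫ m' = p ≫ d c := by
    have e0 : p = coequalizer.π (a p G ρ ∅) (b p G ρ ∅) ≫ q p G ρ ∅ := (π_q p G ρ ∅).symm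
    calc p ≫ m' = (coequalizer.π (a p G ρ ∅) (b p G ρ ∅) ≫ q p G ρ ∅) ≫ m' :=
          congrArg (fun z => z ≫ m') e0
      _ = coequalizer.π (a p G ρ ∅) (b p G ρ ∅) ≫ (q p G ρ ∅ ≫ m') := Category.assoc _ _ _
      _ = coequalizer.π (a p G ρ ∅) (b p G ρ ∅) ≫ (q p G ρ ∅ ≫ d c) := by rw [h1, h2]
      _ = (coequalizer.π (a p G ρ ∅) (b p G ρ ∅) ≫ q p G ρ ∅) ≫ d c :=
          (Category.assoc _ _ _).symm
      _ = p ≫ d c := congrArg (fun z => z ≫ d c) e0.symm
  exact (cancel_epi p).1 h3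

end Diagram

/-- **Presentation of finitely presentable objects**: if every object is covered by objects of a
class `𝒢`, then every finitely presentable object is a retract of a coequalizer of a pair of maps
between finite coproducts of members of `𝒢`. -/
theorem exists_retract_of_isFP (𝒢 : ToposFin.Sh J → Prop)
    (hgen : ∀ X : ToposFin.Sh J, ∃ (ι : Type u) (F : ι → ToposFin.Sh J) (π : ∀ i, F i ⟶ X),
      (∀ i, 𝒢 (F i)) ∧ JEpi π)
    (X : ToposFin.Sh J) (hX : ToposFin.IsFP X) :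
    ∃ (ι κ : Type u) (F : ι → ToposFin.Sh J) (G : κ → ToposFin.Sh J) (s : Finset ι)
      (t : Finset κ) (a b : (∐ fun k : t => G k) ⟶ (∐ fun i : s => F i))
      (i : X ⟶ coequalizer a b) (p : coequalizer a b ⟶ X),
      (∀ i, 𝒢 (F i)) ∧ (∀ k, 𝒢 (G k)) ∧ i ≫ p = 𝟙 X := by
  have hqc : ToposFin.IsQC X :=
    ToposQCConverse.isQC_of_post_injective X (fun I _ _ D => (hX I D).1)
  obtain ⟨ι, F, π, hF, hπ⟩ := hgen X
  obtain ⟨s, hs⟩ := (isQC_iff X).1 hqc ι F π hπ
  let Z : ToposFin.Sh J := ∐ fun i : s => F i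
  let p : Z ⟶ X := Sigma.desc (fun i : s => π i)
  have : Epi p := (epi_desc_iff _).2 hs
  obtain ⟨κ, G, ρ, hG, hρ⟩ := hgen (pullback p p)
  obtain ⟨hc⟩ := nonempty_isColimit p G ρ hρ
  let e : X ≅ colimit (DW p G ρ) := hc.coconePointUniqueUpToIso (colimit.isColimit _)
  obtain ⟨x, hx⟩ := (hX (Finset κ) (DW p G ρ)).2 e.hom
  obtain ⟨t, σ, rfl⟩ := Types.jointly_surjective' x
  rw [ToposColimSet.post_ι_apply] at hx
  let σ' : X ⟶ W p G ρ t := σ
  have hx' : σ' ≫ colimit.ι (DW p G ρ) t = e.hom := hx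
  refine ⟨ι, κ, F, G, s, t, a p G ρ t, b p G ρ t, σ', q p G ρ t, hF, hG, ?_⟩
  have h1 : colimit.ι (DW p G ρ) t ≫ e.inv = q p G ρ t :=
    IsColimit.comp_coconePointUniqueUpToIso_inv hc (colimit.isColimit _) t
  calc σ' ≫ q p G ρ t = σ' ≫ (colimit.ι (DW p G ρ) t ≫ e.inv) :=
        congrArg (fun z => σ' ≫ z) h1.symm
    _ = (σ' ≫ colimit.ι (DW p G ρ) t) ≫ e.inv := (Category.assoc _ _ _).symm
    _ = e.hom ≫ e.inv := by rw [hx']
    _ = 𝟙 X := e.hom_inv_id

end Groth.Agent.Lib.Helper5.ToposPresent
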