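import Groth.Agent.Lib.Helper5.ToposColimSet

/-!
# Quasi-compactness from injectivity of `colim Hom(X, Y_i) → Hom(X, colim Y_i)` (helper5)
-/

set_option autoImplicit false
universe u

open CategoryTheory CategoryTheory.Limits Opposite

noncomputable section

namespace Groth.Agent.Lib.Helper5.ToposQCConverse

open Groth.Agent.Lib.Helper5.ToposColimHom Groth.Agent.Lib.Helper5.ToposEpi

variable {C : Type u} [SmallCategory C] {J : GrothendieckTopology C}

instance hasPushoutsSh : HasPushouts (ToposFin.Sh J) := by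
  have : HasWeakSheafify J (Type u) := inferInstance
  have : HasColimitsOfShape WalkingSpan (Type u) := inferInstance
  exact (Sheaf.instHasColimitsOfShape : HasColimitsOfShape WalkingSpan (Sheaf J (Type u)))

variable {X : ToposFin.Sh J} {ι : Type u} (F : ι → ToposFin.Sh J) (π : ∀ i, F i ⟶ X)

/-- the map from the partial coproduct -/
abbrev pS (s : Finset ι) : (∐ fun i : s => F i) ⟶ X := Sigma.desc (fun i : s => π i)

/-- the cokernel pair of `pS s` -/
abbrev Y (s : Finset ι) : ToposFin.Sh J := pushout (pS F π s) (pS F π s)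

lemma cond {s t : Finset ι} (h : s ≤ t) :
    pS F π s ≫ pushout.inl (pS F π t) (pS F π t) = pS F π s ≫ pushout.inr (pS F π t) (pS F π t) := by
  apply Sigma.hom_ext
  intro i
  have e : π i = Sigma.ι (fun i : t => F i) ⟨i.1, h i.2⟩ ≫ pS F π t := by
    rw [Sigma.ι_desc]
  rw [Sigma.ι_desc_assoc, Sigma.ι_desc_assoc, e, Category.assoc, Category.assoc, pushout.condition]

/-- transition maps -/
def Ymap {s t : Finset ι} (h : s ≤ t) : Y F π s ⟶ Y F π t :=
  pushout.desc (pushout.inl _ _) (pushout.inr _ _) (cond F π h)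

@[reassoc (attr := simp)]
lemma inl_Ymap {s t : Finset ι} (h : s ≤ t) :
    pushout.inl (pS F π s) (pS F π s) ≫ Ymap F π h = pushout.inl _ _ :=
  pushout.inl_desc _ _ _

@[reassoc (attr := simp)]
lemma inr_Ymap {s t : Finset ι} (h : s ≤ t) :
    pushout.inr (pS F π s) (pS F π s) ≫ Ymap F π h = pushout.inr _ _ :=
  pushout.inr_desc _ _ _

/-- the diagram of cokernel pairs -/
def DY : Finset ι ⥤ ToposFin.Sh J where
  obj s := Y F π s
  map f := Ymap F π (leOfHom f)
  map_id s := by
    apply pushout.hom_ext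
    · rw [inl_Ymap, Category.comp_id]
    · rw [inr_Ymap, Category.comp_id]
  map_comp f g := by
    apply pushout.hom_ext
    · rw [inl_Ymap, inl_Ymap_assoc, inl_Ymap]
    · rw [inr_Ymap, inr_Ymap_assoc, inr_Ymap]

lemma epi_of_inl_eq_inr (s : Finset ι)
    (h : pushout.inl (pS F π s) (pS F π s) = pushout.inr (pS F π s) (pS F π s)) :
    Epi (pS F π s) := by
  refine ⟨fun {Z} u v huv => ?_⟩
  have h1 : pushout.inl _ _ ≫ pushout.desc u v huv = u := pushout.inl_desc _ _ _
  have h2 : pushout.inr _ _ ≫ pushout.desc u v huv = v := pushout.inr_desc _ _ _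
  rw [h] at h1
  exact h1.symm.trans h2

theorem isQC_of_post_injective (X : ToposFin.Sh J)
    (hinj : ∀ (I : Type u) [SmallCategory I] [IsFiltered I] (D : I ⥤ ToposFin.Sh J),
      Function.Injective (colimit.post D (coyoneda.obj (op X)))) : ToposFin.IsQC X := by
  classical
  intro ι F π hπ
  have hJ : JEpi π := (epi_desc_iff π).1 hπ
  let D := DY F π
  let a : ∀ s, X ⟶ D.obj s := fun s => pushout.inl (pS F π s) (pS F π s)
  let b : ∀ s, X ⟶ D.obj s := fun s => pushout.inr (pS F π s) (pS F π s)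
  have hab : a ∅ ≫ colimit.ι D ∅ = b ∅ ≫ colimit.ι D ∅ := by
    apply hJ
    intro i
    have hle : (∅ : Finset ι) ≤ {i} := Finset.empty_subset _
    have e : π i = Sigma.ι (fun j : ({i} : Finset ι) => F j) ⟨i, Finset.mem_singleton_self i⟩ ≫
        pS F π {i} := by
      rw [Sigma.ι_desc]
    have ha : a ∅ ≫ colimit.ι D ∅ = a {i} ≫ colimit.ι D {i} := by
      rw [← colimit.w D (homOfLE hle), ← Category.assoc]
      congr 1
      exact inl_Ymap F π hle
    have hb : b ∅ ≫ colimit.ι D ∅ = b {i} ≫ colimit.ι D {i} := by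
      rw [← colimit.w D (homOfLE hle), ← Category.assoc]
      congr 1
      exact inr_Ymap F π hle
    rw [ha, hb, e, Category.assoc, Category.assoc, ← Category.assoc (pS F π {i}),
      ← Category.assoc (pS F π {i})]
    congr 2
    exact pushout.condition
  have h2 : colimit.ι (D ⋙ coyoneda.obj (op X)) ∅ (a ∅) =
      colimit.ι (D ⋙ coyoneda.obj (op X)) ∅ (b ∅) := by
    apply hinj (Finset ι) D
    rw [ToposColimSet.post_ι_apply, ToposColimSet.post_ι_apply]
    exact hab
  rw [Types.FilteredColimit.colimit_eq_iff] at h2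
  obtain ⟨t, f, g, hfg⟩ := h2
  have hfg' : a ∅ ≫ D.map f = b ∅ ≫ D.map g := hfg
  have hg : g = f := Subsingleton.elim _ _
  rw [hg] at hfg'
  refine ⟨t, epi_of_inl_eq_inr F π t ?_⟩
  have h3 : a ∅ ≫ D.map f = a t := inl_Ymap F π (leOfHom f)
  have h4 : b ∅ ≫ D.map f = b t := inr_Ymap F π (leOfHom f)
  rw [h3, h4] at hfg'
  exact hfg'

end Groth.Agent.Lib.Helper5.ToposQCConverse
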