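import Groth.Agent.Lib.Helper5.ToposQC
import Mathlib.CategoryTheory.Sites.LocallyBijective

/-!
# Helper library (helper5): sheaves associated to representable presheaves of a small site
-/

set_option autoImplicit false

universe w u

open CategoryTheory CategoryTheory.Limits Opposite

namespace Groth.Agent.Lib.Helper5.ToposSite

open Groth.Agent.Lib.Helper9 Groth.Agent.Lib.Helper5.ToposEpi Groth.Agent.Lib.Helper5.ToposQC

variable {C : Type u} [SmallCategory C] (J : GrothendieckTopology C)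

/-- The section of `eps X` over `V` attached to a morphism `v : V ⟶ X`. -/
noncomputable def sec {X V : C} (v : V ⟶ X) : (ToposFin.eps J X).obj.obj (op V) :=
  (toSheafify J (yoneda.obj X)).app (op V) v

theorem map_sec {X V W : C} (v : V ⟶ X) (w : W ⟶ V) :
    (ToposFin.eps J X).obj.map w.op (sec J v) = sec J (w ≫ v) := by
  have := ConcreteCategory.congr_hom ((toSheafify J (yoneda.obj X)).naturality w.op) v
  exact this.symm

/-- The morphism `eps X ⟶ eps Y` induced by `g : X ⟶ Y`. -/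
noncomputable def epsMap {X Y : C} (g : X ⟶ Y) : ToposFin.eps J X ⟶ ToposFin.eps J Y :=
  (presheafToSheaf J (Type u)).map (yoneda.map g)

theorem epsMap_sec {X Y V : C} (g : X ⟶ Y) (v : V ⟶ X) :
    (epsMap J g).hom.app (op V) (sec J v) = sec J (v ≫ g) := by
  have := congr_app (toSheafify_naturality J (yoneda.map g)) (op V)
  have := ConcreteCategory.congr_hom this v
  exact this.symm

theorem epsMap_comp {X Y Z : C} (g : X ⟶ Y) (h : Y ⟶ Z) :
    epsMap J (g ≫ h) = epsMap J g ≫ epsMap J h := by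
  simp [epsMap]

/-- Every section of `eps X` is locally of the form `sec v`. -/
theorem exists_sec_locally {X U : C} (t : (ToposFin.eps J X).obj.obj (op U)) :
    ∃ S ∈ J U, ∀ ⦃V : C⦄ (f : V ⟶ U), S f →
      ∃ v : V ⟶ X, (ToposFin.eps J X).obj.map f.op t = sec J v := by
  refine ⟨_, Presheaf.imageSieve_mem J (toSheafify J (yoneda.obj X)) t, ?_⟩
  rintro V f ⟨v, hv⟩
  exact ⟨v, hv.symm⟩

/-- Two morphisms with the same associated section agree locally. -/
theorem sec_eq_locally {X V : C} (v v' : V ⟶ X) (h : sec J v = sec J v') :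
    ∃ S ∈ J V, ∀ ⦃W : C⦄ (w : W ⟶ V), S w → w ≫ v = w ≫ v' := by
  refine ⟨_, Presheaf.equalizerSieve_mem J (toSheafify J (yoneda.obj X)) (X := op V) v v' h, ?_⟩
  intro W w hw
  exact hw

/-- The morphism `eps X ⟶ F` attached to a section of `F` over `X`. -/
noncomputable def ofSec {X : C} {F : ToposFin.Sh J} (s : F.obj.obj (op X)) :
    ToposFin.eps J X ⟶ F :=
  ObjectProperty.homMk (sheafifyLift J (yonedaEquiv.symm s) F.property)

theorem ofSec_sec {X V : C} {F : ToposFin.Sh J} (s : F.obj.obj (op X)) (v : V ⟶ X) :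
    (ofSec J s).hom.app (op V) (sec J v) = F.obj.map v.op s := by
  have := congr_app (toSheafify_sheafifyLift J (yonedaEquiv.symm s) F.property) (op V)
  have := ConcreteCategory.congr_hom this v
  refine this.trans ?_
  rfl

theorem ofSec_sec_id {X : C} {F : ToposFin.Sh J} (s : F.obj.obj (op X)) :
    (ofSec J s).hom.app (op X) (sec J (𝟙 X)) = s := by
  rw [ofSec_sec]
  simp

theorem eps_hom_ext {X : C} {F : ToposFin.Sh J} (a b : ToposFin.eps J X ⟶ F)
    (h : a.hom.app (op X) (sec J (𝟙 X)) = b.hom.app (op X) (sec J (𝟙 X))) : a = b := by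
  apply Sheaf.hom_ext
  apply sheafify_hom_ext J _ _ F.property
  apply yonedaEquiv.injective
  exact h

theorem epsMap_eq_ofSec {X Y : C} (g : X ⟶ Y) : epsMap J g = ofSec J (sec J g) := by
  apply eps_hom_ext
  rw [epsMap_sec, ofSec_sec_id, Category.id_comp]

theorem ofSec_app_sec_id {X : C} {F : ToposFin.Sh J} (a : ToposFin.eps J X ⟶ F) :
    ofSec J (a.hom.app (op X) (sec J (𝟙 X))) = a := by
  apply eps_hom_ext
  rw [ofSec_sec_id]

/-- The sheaves `eps U` form a generating family. -/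
theorem jepi_ofSec (F : ToposFin.Sh J) :
    JEpi (F := fun p : Σ U : C, F.obj.obj (op U) => ToposFin.eps J p.1) (fun p => ofSec J p.2) := by
  apply JEpi.of_locSurj
  intro U x
  refine ⟨⊤, J.top_mem U, ?_⟩
  intro V f _
  exact ⟨⟨V, F.obj.map f.op x⟩, sec J (𝟙 V), ofSec_sec_id J _⟩

/-- Morphisms `eps U ⟶ eps X` are locally induced by morphisms of the site. -/
theorem exists_locally_epsMap {U X : C} (α : ToposFin.eps J U ⟶ ToposFin.eps J X) :
    ∃ S ∈ J U, ∀ ⦃V : C⦄ (f : V ⟶ U), S f → ∃ v : V ⟶ X, epsMap J f ≫ α = epsMap J v := by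
  obtain ⟨S, hS, h⟩ := exists_sec_locally J (α.hom.app (op U) (sec J (𝟙 U)))
  refine ⟨S, hS, ?_⟩
  intro V f hf
  obtain ⟨v, hv⟩ := h f hf
  refine ⟨v, ?_⟩
  apply eps_hom_ext
  rw [hom_comp_apply, epsMap_sec, epsMap_sec, Category.id_comp, Category.id_comp, ← hv,
    ← hom_naturality_apply, map_sec, Category.comp_id]

/-- A family generating a covering sieve induces a jointly epimorphic family. -/
theorem jepi_epsMap_of_mem {U : C} {ι : Type w} {V : ι → C} (g : ∀ k, V k ⟶ U)
    (h : Sieve.ofArrows V g ∈ J U) : JEpi (fun k => epsMap J (g k)) := by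
  apply JEpi.of_locSurj
  intro W t
  obtain ⟨S, hS, hloc⟩ := exists_sec_locally J t
  choose v hv using hloc
  refine ⟨Sieve.bind S (fun W' f hf => Sieve.pullback (v f hf) (Sieve.ofArrows V g)),
    J.bind_covering hS (fun W' f hf => J.pullback_stable (v f hf) h), ?_⟩
  rintro W'' _ ⟨W', w, f, hf, hw, rfl⟩
  obtain ⟨_, c, _, ⟨k⟩, hc⟩ := hw
  refine ⟨k, sec J c, ?_⟩
  rw [epsMap_sec, hc, op_comp, Functor.map_comp]
  show _ = (ToposFin.eps J U).obj.map w.op ((ToposFin.eps J U).obj.map f.op t)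
  rw [hv f hf, map_sec]

/-- Converse: a family of morphisms of the site inducing a jointly epimorphic family generates a
covering sieve. -/
theorem mem_of_jepi_epsMap {U : C} {ι : Type w} {V : ι → C} (g : ∀ k, V k ⟶ U)
    (h : JEpi (fun k => epsMap J (g k))) : Sieve.ofArrows V g ∈ J U := by
  obtain ⟨T, hT, hlift⟩ := h.locSurj U (sec J (𝟙 U))
  apply J.transitive hT
  intro W f hf
  obtain ⟨k, y, hy⟩ := hlift f hf
  rw [map_sec, Category.comp_id] at hy
  obtain ⟨T', hT', hloc⟩ := exists_sec_locally J y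
  apply J.transitive hT'
  intro W' w hw
  obtain ⟨c, hc⟩ := hloc w hw
  have h1 : sec J (c ≫ g k) = sec J (w ≫ f) := by
    rw [← epsMap_sec, ← hc, hom_naturality_apply, hy, map_sec]
  obtain ⟨T'', hT'', heq⟩ := sec_eq_locally J _ _ h1
  refine J.superset_covering ?_ hT''
  intro W'' w' hw'
  show Sieve.ofArrows V g ((w' ≫ w) ≫ f)
  rw [Category.assoc, ← heq w' hw', ← Category.assoc]
  exact Sieve.downward_closed _ (Sieve.ofArrows_mk V g k) _

theorem isQC_eps_of_isQCSite {X : C} (hX : ToposFin.IsQCSite J X) :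
    ToposFin.IsQC (ToposFin.eps J X) := by
  classical
  rw [isQC_iff]
  intro ι F π hπ
  obtain ⟨S, hS, hlift⟩ := hπ.locSurj X (sec J (𝟙 X))
  obtain ⟨n, V, g, hgS, hcov⟩ := hX S hS
  have : ∀ k, ∃ (i : ι) (y : (F i).obj.obj (op (V k))),
      (π i).hom.app (op (V k)) y = sec J (g k) := by
    intro k
    obtain ⟨i, y, hy⟩ := hlift (g k) (hgS k)
    exact ⟨i, y, by rw [hy, map_sec, Category.comp_id]⟩
  choose i y hy using this
  refine ⟨Finset.univ.image i, ?_⟩
  have hJ : JEpi (fun k => epsMap J (g k)) := jepi_epsMap_of_mem J g hcov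
  apply hJ.of_factor
  intro k
  refine ⟨⟨i k, Finset.mem_image_of_mem i (Finset.mem_univ k)⟩, ofSec J (y k), ?_⟩
  apply eps_hom_ext
  rw [hom_comp_apply, ofSec_sec_id, epsMap_sec, Category.id_comp]
  exact hy k

theorem isQCSite_of_isQC_eps {X : C} (hX : ToposFin.IsQC (ToposFin.eps J X)) :
    ToposFin.IsQCSite J X := by
  intro S hS
  have hJ : JEpi (F := fun p : (Σ V : C, {f : V ⟶ X // S f}) => ToposFin.eps J p.1)
      (fun p => epsMap J p.2.1) := by
    apply jepi_epsMap_of_mem J (V := fun p : (Σ V : C, {f : V ⟶ X // S f}) => p.1)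
      (fun p => p.2.1)
    refine J.superset_covering ?_ hS
    intro V f hf
    exact Sieve.ofArrows_mk (fun p : (Σ V : C, {f : V ⟶ X // S f}) => p.1) (fun p => p.2.1)
      ⟨V, f, hf⟩
  obtain ⟨s, hs⟩ := (isQC_iff _).1 hX _ _ _ hJ
  have e := s.equivFin
  refine ⟨s.card, fun k => (e.symm k).1.1, fun k => (e.symm k).1.2.1,
    fun k => (e.symm k).1.2.2, ?_⟩
  apply mem_of_jepi_epsMap
  apply hs.of_factor
  intro p
  have key : ∀ q : ↥s, q = p → ∃ t : ToposFin.eps J p.1.1 ⟶ ToposFin.eps J q.1.1,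
      t ≫ epsMap J q.1.2.1 = epsMap J p.1.2.1 := by
    rintro q rfl
    exact ⟨𝟙 _, Category.id_comp _⟩
  obtain ⟨t, ht⟩ := key (e.symm (e p)) (e.symm_apply_apply p)
  exact ⟨e p, t, ht⟩

section Pullbacks

variable [HasPullbacks C]

/-- `eps` sends fibre products of the site to fibre products of sheaves. -/
theorem isPullback_epsMap {U V X : C} (u : U ⟶ X) (v : V ⟶ X) :
    IsPullback (epsMap J (pullback.fst u v)) (epsMap J (pullback.snd u v)) (epsMap J u)
      (epsMap J v) :=
  (IsPullback.of_hasPullback u v).map (yoneda ⋙ presheafToSheaf J (Type u))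

variable (hC : ∀ X : C, ToposFin.IsQCSite J X)
include hC

/-- Fibre products of sheaves associated to objects of the site over such a sheaf are
quasi-compact. -/
theorem isQC_pullback_eps {U V X : C} (α : ToposFin.eps J U ⟶ ToposFin.eps J X)
    (β : ToposFin.eps J V ⟶ ToposFin.eps J X) : ToposFin.IsQC (pullback α β) := by
  obtain ⟨S, hS, hα⟩ := exists_locally_epsMap J α
  obtain ⟨n, U', g, hgS, hg⟩ := hC U S hS
  obtain ⟨T, hT, hβ⟩ := exists_locally_epsMap J β
  obtain ⟨m, V', h, hhT, hh⟩ := hC V T hT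
  have hJ := JEpi.pullback_map α β (fun k => epsMap J (g k)) (jepi_epsMap_of_mem J g hg)
    (fun l => epsMap J (h l)) (jepi_epsMap_of_mem J h hh)
  refine isQC_of_finite_jepi _ hJ ?_
  rintro ⟨k, l⟩
  obtain ⟨u, hu⟩ := hα (g k) (hgS k)
  obtain ⟨v, hv⟩ := hβ (h l) (hhT l)
  refine isQC_congr hu.symm hv.symm ?_
  exact isQC_of_iso (isPullback_epsMap J u v).isoPullback (isQC_eps_of_isQCSite J (hC _))

theorem isQCHom_eps {U X : C} (α : ToposFin.eps J U ⟶ ToposFin.eps J X) :
    ToposFin.IsQCHom α := by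
  intro T t hT
  apply isQC_pullback_of_cover α t hT _ (jepi_ofSec J T)
  intro p
  exact isQC_pullback_eps J hC _ _

theorem isQS_eps (X : C) : ToposFin.IsQS (ToposFin.eps J X) := by
  intro A B a b hA hB
  apply isQC_pullback_of_cover_left a b hA _ (jepi_ofSec J A)
  intro p
  apply isQC_pullback_of_cover _ b hB _ (jepi_ofSec J B)
  intro q
  exact isQC_pullback_eps J hC _ _

theorem isCoherent_eps (X : C) : ToposFin.IsCoherent (ToposFin.eps J X) :=
  ⟨isQC_eps_of_isQCSite J (hC X), isQS_eps J hC X⟩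

theorem hasQCGenerators_of_isQCSite : ToposFin.HasQCGenerators J := by
  rw [hasQCGenerators_iff]
  intro F
  exact ⟨_, _, _, fun p : (Σ U : C, F.obj.obj (op U)) => isQC_eps_of_isQCSite J (hC p.1),
    jepi_ofSec J F⟩

/-- Fibre products of sheaves associated to objects of the site over such a sheaf are
quasi-separated. -/
theorem isQS_pullback_eps {U V X : C} (α : ToposFin.eps J U ⟶ ToposFin.eps J X)
    (β : ToposFin.eps J V ⟶ ToposFin.eps J X) : ToposFin.IsQS (pullback α β) := by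
  obtain ⟨S, hS, hα⟩ := exists_locally_epsMap J α
  obtain ⟨T, hT, hβ⟩ := exists_locally_epsMap J β
  have hJ1 : JEpi (F := fun p : (Σ W : C, {f : W ⟶ U // S f}) => ToposFin.eps J p.1)
      (fun p => epsMap J p.2.1) := by
    apply jepi_epsMap_of_mem J (V := fun p : (Σ W : C, {f : W ⟶ U // S f}) => p.1)
      (fun p => p.2.1)
    refine J.superset_covering ?_ hS
    intro W f hf
    exact Sieve.ofArrows_mk (fun p : (Σ W : C, {f : W ⟶ U // S f}) => p.1) (fun p => p.2.1)
      ⟨W, f, hf⟩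
  have hJ2 : JEpi (F := fun p : (Σ W : C, {f : W ⟶ V // T f}) => ToposFin.eps J p.1)
      (fun p => epsMap J p.2.1) := by
    apply jepi_epsMap_of_mem J (V := fun p : (Σ W : C, {f : W ⟶ V // T f}) => p.1)
      (fun p => p.2.1)
    refine J.superset_covering ?_ hT
    intro W f hf
    exact Sieve.ofArrows_mk (fun p : (Σ W : C, {f : W ⟶ V // T f}) => p.1) (fun p => p.2.1)
      ⟨W, f, hf⟩
  have hJ := JEpi.pullback_map α β _ hJ1 _ hJ2
  refine isQS_of_qs_cover_qc_maps _ hJ ?_ ?_
  · rintro ⟨p, q⟩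
    obtain ⟨u, hu⟩ := hα p.2.1 p.2.2
    obtain ⟨v, hv⟩ := hβ q.2.1 q.2.2
    exact isQS_of_iso ((isPullback_epsMap J u v).isoPullback ≪≫ pullback.congrHom hu.symm hv.symm)
      (isQS_eps J hC _)
  · rintro ⟨p, q⟩
    exact (qcHom (J := J)).pullbackMap (isQCHom_eps J hC _) (isQCHom_eps J hC _) rfl rfl

/-- Every morphism from a quasi-separated object to `eps X` is quasi-separated. -/
theorem isQSHom_to_eps {X : C} {G : ToposFin.Sh J} (g : G ⟶ ToposFin.eps J X)
    (hG : ToposFin.IsQS G) : ToposFin.IsQSHom g := by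
  refine isQSHom_of_cover_with_qs_products (hasQCGenerators_of_isQCSite J hC) g _
    (jepi_ofSec J G) (fun p : (Σ U : C, G.obj.obj (op U)) => isQC_eps_of_isQCSite J (hC p.1))
    ?_ hG
  intro p q
  exact isQS_pullback_eps J hC _ _

theorem isQS_pullback_over_eps {X : C} {G H : ToposFin.Sh J} (g : G ⟶ ToposFin.eps J X)
    (h : H ⟶ ToposFin.eps J X) (hG : ToposFin.IsQS G) (hH : ToposFin.IsQS H) :
    ToposFin.IsQS (pullback g h) :=
  isQS_of_isQSHom _ (isQSHom_pullback_snd g h (isQSHom_to_eps J hC g hG)) hH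

end Pullbacks

end Groth.Agent.Lib.Helper5.ToposSite
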