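import Groth.Agent.Lib.Helper5.ToposSite
import Groth.Agent.Lib.Helper5.ToposFunctor
import Mathlib.CategoryTheory.Sites.Pullback

/-!
# Helper library (helper5): inverse image along a continuous functor and representable sheaves
-/

set_option autoImplicit false

universe w u

open CategoryTheory CategoryTheory.Limits Opposite

namespace Groth.Agent.Lib.Helper5.ToposSiteFunctor

open Groth.Agent.Lib.Helper9 Groth.Agent.Lib.Helper5.ToposEpi Groth.Agent.Lib.Helper5.ToposQC
  Groth.Agent.Lib.Helper5.ToposSite Groth.Agent.Lib.Helper5.ToposFunctor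

variable {C D : Type u} [SmallCategory C] [SmallCategory D]
  (J : GrothendieckTopology C) (K : GrothendieckTopology D)
  (G : C ⥤ D) [Functor.IsContinuous G J K]

/-- The inverse image of the sheaf associated to `X` is the sheaf associated to `G X`. -/
noncomputable def sheafPullbackEpsIso (X : C) :
    (G.sheafPullback (Type u) J K).obj (ToposFin.eps J X) ≅ ToposFin.eps K (G.obj X) := by
  let adj := G.sheafAdjunctionContinuous (Type u) J K
  let g : ToposFin.eps J X ⟶
      (G.sheafPushforwardContinuous (Type u) J K).obj (ToposFin.eps K (G.obj X)) :=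
    ofSec J (F := (G.sheafPushforwardContinuous (Type u) J K).obj (ToposFin.eps K (G.obj X)))
      (sec K (𝟙 (G.obj X)))
  let ψ : (G.sheafPullback (Type u) J K).obj (ToposFin.eps J X) ⟶ ToposFin.eps K (G.obj X) :=
    (adj.homEquiv _ _).symm g
  let s : ((G.sheafPullback (Type u) J K).obj (ToposFin.eps J X)).obj.obj (op (G.obj X)) :=
    (adj.unit.app (ToposFin.eps J X)).hom.app (op X) (sec J (𝟙 X))
  let φ : ToposFin.eps K (G.obj X) ⟶ (G.sheafPullback (Type u) J K).obj (ToposFin.eps J X) :=
    ofSec K s
  have hg : g = adj.unit.app _ ≫ (G.sheafPushforwardContinuous (Type u) J K).map ψ := by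
    have := adj.homEquiv_unit (f := ψ)
    rw [← this]
    exact ((adj.homEquiv _ _).apply_symm_apply g).symm
  have h1 : ψ.hom.app (op (G.obj X)) s = sec K (𝟙 (G.obj X)) := by
    have := congrArg (fun t => t.hom.app (op X) (sec J (𝟙 X))) hg
    dsimp only at this
    rw [ofSec_sec_id] at this
    exact this.symm
  refine ⟨ψ, φ, ?_, ?_⟩
  · apply (adj.homEquiv _ _).injective
    rw [adj.homEquiv_naturality_right]
    have hψ : adj.homEquiv _ _ ψ = g := (adj.homEquiv _ _).apply_symm_apply g
    rw [hψ]
    have hid : adj.homEquiv _ _ (𝟙 ((G.sheafPullback (Type u) J K).obj (ToposFin.eps J X))) =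
        adj.unit.app _ := by
      rw [adj.homEquiv_unit, CategoryTheory.Functor.map_id]; exact Category.comp_id _
    rw [hid]
    apply eps_hom_ext
    rw [hom_comp_apply, ofSec_sec_id]
    exact ofSec_sec_id K s
  · apply eps_hom_ext
    rw [hom_comp_apply, ofSec_sec_id, h1]
    rfl

end Groth.Agent.Lib.Helper5.ToposSiteFunctor
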