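import Mathlib
import Groth.Prelude.Def_Tors
import Groth.Agent.Lib.Helper5.CechFlasque

set_option autoImplicit false
universe u
open CategoryTheory CategoryTheory.Limits Opposite Abelian Simplicial

namespace Groth.Agent.Lib.Helper5.TorsH1

open Groth.Agent.Lib.Helper5.CechFlasque

variable {C : Type u} [SmallCategory C] (J : GrothendieckTopology C)

/-- the terminal sheaf of sets -/
noncomputable abbrev Top : Sheaf J (Type u) := ⊤_ (Sheaf J (Type u))

/-- sections of the terminal sheaf are unique -/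
noncomputable instance uniqueTop (U : Cᵒᵖ) : Unique ((Top J).obj.obj U) := by
  let F : Sheaf J (Type u) ⥤ Type u := sheafToPresheaf J (Type u) ⋙ (evaluation Cᵒᵖ (Type u)).obj U
  have h : IsTerminal (F.obj (Top J)) := IsTerminal.isTerminalObj F _ terminalIsTerminal
  exact (Types.isTerminalEquivUnique _).1 h

/-- the constant sheaf `ℤ` -/
noncomputable abbrev constZ : Sheaf J AddCommGrpCat.{u} :=
  (constantSheaf J AddCommGrpCat.{u}).obj (AddCommGrpCat.of (ULift.{u} ℤ))

/-- free abelian group on a one-element type -/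
noncomputable def freeUniqueIso (X : Type u) [Unique X] :
    AddCommGrpCat.free.obj X ≅ AddCommGrpCat.of (ULift.{u} ℤ) :=
  AddEquiv.toAddCommGrpIso ((FreeAbelianGroup.uniqueEquiv X).trans AddEquiv.ulift.symm)

lemma freeUniqueIso_natural {X Y : Type u} [Unique X] [Unique Y] (g : X ⟶ Y) :
    AddCommGrpCat.free.map g ≫ (freeUniqueIso Y).hom = (freeUniqueIso X).hom := by
  apply AddCommGrpCat.hom_ext
  apply FreeAbelianGroup.lift_ext
  intro x
  change AddEquiv.ulift.symm ((FreeAbelianGroup.uniqueEquiv Y)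
      (FreeAbelianGroup.map g (FreeAbelianGroup.of x))) =
    AddEquiv.ulift.symm ((FreeAbelianGroup.uniqueEquiv X) (FreeAbelianGroup.of x))
  congr 1

/-- The free abelian sheaf on the terminal sheaf is the constant sheaf `ℤ`. -/
noncomputable def freeTopIso : (Φ J).obj (Top J) ≅ constZ J :=
  (presheafToSheaf J AddCommGrpCat.{u}).mapIso
    (NatIso.ofComponents (fun U => freeUniqueIso ((Top J).obj.obj U)) (by
      intro U V f
      refine (freeUniqueIso_natural ((Top J).obj.map f)).trans ?_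
      exact (Category.comp_id _).symm))

lemma ext_eq_zero_of_iso {A : Type*} [Category A] [Abelian A] [HasExt.{u} A] {M M' G : A}
    (e : M ≅ M') (n : ℕ) (h : ∀ x : Ext.{u} M G n, x = 0) (y : Ext.{u} M' G n) : y = 0 := by
  have h1 : y = (Ext.mk₀ e.inv).comp ((Ext.mk₀ e.hom).comp y (zero_add n)) (zero_add n) := by
    rw [Ext.mk₀_comp_mk₀_assoc, e.inv_hom_id, Ext.mk₀_id_comp]
  rw [h1, h ((Ext.mk₀ e.hom).comp y (zero_add n)), Ext.comp_zero]

lemma ext_one_eq_zero_iff (G : Sheaf J AddCommGrpCat.{u}) :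
    (∀ x : Ext.{u} ((Φ J).obj (Top J)) G 1, x = 0) ↔ Subsingleton (Sheaf.H.{u} G 1) := by
  constructor
  · intro h
    refine ⟨fun a b => ?_⟩
    rw [ext_eq_zero_of_iso (freeTopIso J) 1 h a, ext_eq_zero_of_iso (freeTopIso J) 1 h b]
  · intro h x
    refine ext_eq_zero_of_iso (freeTopIso J).symm 1 (fun y => ?_) x
    exact Subsingleton.elim _ _

section Lifts

variable {J}
variable (S : ShortComplex (Sheaf J AddCommGrpCat.{u})) (hS : S.ShortExact)
  (s' : Top J ⟶ (Uf J).obj S.X₃)

/-- the family of sections defined by a global section -/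
noncomputable def qsec (U : Cᵒᵖ) : ((Uf J).obj S.X₃).obj.obj U := s'.hom.app U default

lemma qsec_map {U V : Cᵒᵖ} (f : U ⟶ V) :
    ((Uf J).obj S.X₃).obj.map f (qsec S s' U) = qsec S s' V := by
  have h := congrArg (fun k => k default) (s'.hom.naturality f)
  simp only [ConcreteCategory.comp_apply] at h
  rw [show (ConcreteCategory.hom ((Top J).obj.map f)) default = default from Subsingleton.elim _ _] at h
  exact h.symm

/-- the subfunctor of lifts -/
noncomputable def liftSub : Subfunctor ((Uf J).obj S.X₂).obj where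
  obj U := {i | ((Uf J).map S.g).hom.app U i = qsec S s' U}
  map {U V} f i hi := by
    change ((Uf J).map S.g).hom.app V (((Uf J).obj S.X₂).obj.map f i) = qsec S s' V
    have h := congrArg (fun k => k i) (((Uf J).map S.g).hom.naturality f)
    simp only [ConcreteCategory.comp_apply] at h
    rw [h, show ((Uf J).map S.g).hom.app U i = qsec S s' U from hi, qsec_map]

lemma liftSub_isSheaf : Presieve.IsSheaf J (liftSub S s').toFunctor := by
  rw [Subfunctor.isSheaf_iff _ ((isSheaf_iff_isSheaf_of_type _ _).1 ((Uf J).obj S.X₂).property)]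
  intro U i hi
  change ((Uf J).map S.g).hom.app U i = qsec S s' U
  refine (((isSheaf_iff_isSheaf_of_type _ _).1 ((Uf J).obj S.X₃).property) _ hi).isSeparatedFor.ext
    fun V f hf => ?_
  have h := congrArg (fun k => k i) (((Uf J).map S.g).hom.naturality f.op)
  simp only [ConcreteCategory.comp_apply] at h
  rw [← h, qsec_map]
  exact hf

/-- the sheaf of lifts -/
noncomputable def liftSheaf : Sheaf J (Type u) :=
  ⟨(liftSub S s').toFunctor, (isSheaf_iff_isSheaf_of_type _ _).2 (liftSub_isSheaf S s')⟩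

end Lifts


variable {J}

section TorsorBasics

variable {G : Sheaf J AddCommGrpCat.{u}} (T : Tors.Torsor G)

/-- the difference `p - q` of two sections of a torsor -/
noncomputable def diff {U : Cᵒᵖ} (p q : T.P.obj.obj U) : G.obj.obj U :=
  (T.free_transitive q p).choose

lemma diff_vadd {U : Cᵒᵖ} (p q : T.P.obj.obj U) : T.vadd (diff T p q) q = p :=
  (T.free_transitive q p).choose_spec.1

lemma diff_unique {U : Cᵒᵖ} (p q : T.P.obj.obj U) (g : G.obj.obj U) (h : T.vadd g q = p) :
    g = diff T p q :=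
  (T.free_transitive q p).choose_spec.2 g h

lemma diff_map {U V : Cᵒᵖ} (f : U ⟶ V) (p q : T.P.obj.obj U) :
    G.obj.map f (diff T p q) = diff T (T.P.obj.map f p) (T.P.obj.map f q) :=
  diff_unique T _ _ _ (by rw [← T.map_vadd, diff_vadd])

lemma diff_add_diff {U : Cᵒᵖ} (p q r : T.P.obj.obj U) :
    diff T p q + diff T q r = diff T p r :=
  diff_unique T _ _ _ (by rw [T.add_vadd, diff_vadd, diff_vadd])

/-- the difference of two generalized elements -/
noncomputable def diffHom {Z : Sheaf J (Type u)} (a b : Z ⟶ T.P) : Z ⟶ (Uf J).obj G :=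
  ⟨{ app := fun U => ↾fun z => diff T (a.hom.app U z) (b.hom.app U z)
     naturality := by
      intro U V f
      ext z
      have ha := congrArg (fun k => k z) (a.hom.naturality f)
      have hb := congrArg (fun k => k z) (b.hom.naturality f)
      simp only [ConcreteCategory.comp_apply] at ha hb
      change diff T (a.hom.app V (Z.obj.map f z)) (b.hom.app V (Z.obj.map f z)) =
        G.obj.map f (diff T (a.hom.app U z) (b.hom.app U z))
      rw [diff_map, ha, hb] }⟩

lemma diffHom_app {Z : Sheaf J (Type u)} (a b : Z ⟶ T.P) (U : Cᵒᵖ) (z : Z.obj.obj U) :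
    (diffHom T a b).hom.app U z = diff T (a.hom.app U z) (b.hom.app U z) := rfl

end TorsorBasics

section Ev

variable (G : Sheaf J AddCommGrpCat.{u}) {Z : Sheaf J (Type u)}

/-- the unit section -/
noncomputable def unitSec (U : Cᵒᵖ) (z : Z.obj.obj U) : ((Φ J).obj Z).obj.obj U :=
  ((adjΦ J).unit.app Z).hom.app U z

lemma homEquiv_app (a : (Φ J).obj Z ⟶ G) (U : Cᵒᵖ) (z : Z.obj.obj U) :
    ((adjΦ J).homEquiv Z G a).hom.app U z = a.hom.app U (unitSec U z) := by
  rw [Adjunction.homEquiv_unit]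
  rfl

/-- evaluate a morphism from a free sheaf at a section -/
noncomputable def evHom (U : Cᵒᵖ) (z : Z.obj.obj U) :
    ((Φ J).obj Z ⟶ G) →+ G.obj.obj U where
  toFun a := ((adjΦ J).homEquiv Z G a).hom.app U z
  map_zero' := by
    rw [homEquiv_app]
    rfl
  map_add' a b := by
    rw [homEquiv_app, homEquiv_app, homEquiv_app]
    rfl

lemma evHom_apply (U : Cᵒᵖ) (z : Z.obj.obj U) (a : (Φ J).obj Z ⟶ G) :
    evHom G U z a = ((adjΦ J).homEquiv Z G a).hom.app U z := rfl

lemma evHom_symm (U : Cᵒᵖ) (z : Z.obj.obj U) (δ : Z ⟶ (Uf J).obj G) :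
    evHom G U z (((adjΦ J).homEquiv Z G).symm δ) = δ.hom.app U z := by
  rw [evHom_apply, Equiv.apply_symm_apply]

lemma evHom_map_comp {Z' : Sheaf J (Type u)} (m : Z' ⟶ Z) (U : Cᵒᵖ) (z : Z'.obj.obj U)
    (a : (Φ J).obj Z ⟶ G) :
    evHom G U z ((Φ J).map m ≫ a) = evHom G U (m.hom.app U z) a := by
  rw [evHom_apply, evHom_apply, Adjunction.homEquiv_naturality_left]
  rfl

lemma eq_zero_of_evHom (a : (Φ J).obj Z ⟶ G) (h : ∀ U z, evHom G U z a = 0) : a = 0 := by
  apply ((adjΦ J).homEquiv Z G).injective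
  ext U z
  refine (h U z).trans ?_
  exact ((evHom G U z).map_zero).symm

lemma eq_of_evHom (a b : (Φ J).obj Z ⟶ G) (h : ∀ U z, evHom G U z a = evHom G U z b) : a = b := by
  apply ((adjΦ J).homEquiv Z G).injective
  ext U z
  exact h U z

end Ev

section Main
variable {G : Sheaf J AddCommGrpCat.{u}} (T : Tors.Torsor G)

noncomputable abbrev tf : T.P ⟶ Top J := terminal.from T.P

noncomputable abbrev pr (n : ℕ) (i : Fin (n+1)) : (Arrow.mk (tf T)).cechNerve.obj (op ⦋n⦌) ⟶ T.P :=
  WidePullback.π (fun _ : Fin (n+1) => (Arrow.mk (tf T)).hom) i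

lemma δ_pr (n : ℕ) (i : Fin (n+2)) (j : Fin (n+1)) :
    (Arrow.mk (tf T)).cechNerve.δ i ≫ pr T n j = pr T (n+1) (i.succAbove j) := by
  dsimp only [SimplicialObject.δ, pr, Arrow.cechNerve]
  rw [WidePullback.lift_π]
  rfl


/-- the tautological 1-cocycle of a torsor -/
noncomputable def coc : (cechP J (tf T)).X 1 ⟶ G :=
  ((adjΦ J).homEquiv _ G).symm (diffHom T (pr T 1 0) (pr T 1 1))

lemma pr_δ_app (n : ℕ) (i : Fin (n+2)) (j : Fin (n+1)) (U : Cᵒᵖ)
    (z : ((Arrow.mk (tf T)).cechNerve.obj (op ⦋n+1⦌)).obj.obj U) :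
    (pr T n j).hom.app U (((Arrow.mk (tf T)).cechNerve.δ i).hom.app U z) =
      (pr T (n+1) (i.succAbove j)).hom.app U z := by
  rw [← δ_pr]
  rfl

lemma evHom_d_comp (n : ℕ) (a : (cechP J (tf T)).X n ⟶ G) (U : Cᵒᵖ)
    (z : ((Arrow.mk (tf T)).cechNerve.obj (op ⦋n+1⦌)).obj.obj U) :
    evHom G U z ((cechP J (tf T)).d (n+1) n ≫ a) =
      ∑ i : Fin (n+2), (-1 : ℤ) ^ (i : ℕ) •
        evHom G U (((Arrow.mk (tf T)).cechNerve.δ i).hom.app U z) a := by
  rw [AlgebraicTopology.alternatingFaceMapComplex_obj_d, AlgebraicTopology.AlternatingFaceMapComplex.objD,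
    Preadditive.sum_comp, map_sum]
  refine Finset.sum_congr rfl fun i _ => ?_
  rw [Preadditive.zsmul_comp, map_zsmul]
  congr 1
  exact evHom_map_comp G _ U z a

lemma d_comp_coc : (cechP J (tf T)).d 2 1 ≫ coc T = 0 := by
  apply eq_zero_of_evHom
  intro U z
  rw [evHom_d_comp, Fin.sum_univ_three]
  simp only [coc, evHom_symm, diffHom_app, pr_δ_app]
  have e1 : (Fin.succAbove (0 : Fin 3) (0 : Fin 2)) = 1 := rfl
  have e2 : (Fin.succAbove (0 : Fin 3) (1 : Fin 2)) = 2 := rfl
  have e3 : (Fin.succAbove (1 : Fin 3) (0 : Fin 2)) = 0 := rfl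
  have e4 : (Fin.succAbove (1 : Fin 3) (1 : Fin 2)) = 2 := rfl
  have e5 : (Fin.succAbove (2 : Fin 3) (0 : Fin 2)) = 0 := rfl
  have e6 : (Fin.succAbove (2 : Fin 3) (1 : Fin 2)) = 1 := rfl
  rw [e1, e2, e3, e4, e5, e6]
  have h := diff_add_diff T ((pr T (1 + 1) 0).hom.app U z) ((pr T (1 + 1) 1).hom.app U z)
    ((pr T (1 + 1) 2).hom.app U z)
  rw [← h]
  simp only [Fin.val_zero, Fin.val_one, Fin.val_two, pow_zero, pow_one, one_smul, neg_smul,
    even_two, Even.neg_pow, one_pow]
  abel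


lemma tf_epi : Epi (tf T) := by
  rw [← Sheaf.isLocallySurjective_iff_epi]
  refine ⟨fun {U} s => ?_⟩
  obtain ⟨S, hS, hne⟩ := T.locally_nonempty U
  refine J.superset_covering ?_ hS
  intro V g hg
  obtain ⟨t⟩ := hne g hg
  exact ⟨t, Subsingleton.elim _ _⟩

/-- the diagonal `T.P ⟶ Y₀` -/
noncomputable def dg : T.P ⟶ (Arrow.mk (tf T)).cechNerve.obj (op ⦋0⦌) :=
  WidePullback.lift (tf T) (fun _ => 𝟙 _) (fun _ => Category.id_comp _)

lemma pr_dg : pr T 0 0 ≫ dg T = 𝟙 _ := by
  apply WidePullback.hom_ext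
  · intro j
    rw [Category.assoc, Category.id_comp]
    dsimp only [dg]
    rw [WidePullback.lift_π, Category.comp_id]
    congr 1
    exact Subsingleton.elim (α := Fin 1) _ _
  · exact terminal.hom_ext (C := Sheaf J (Type u)) _ _


section Descent
variable (ψ : (cechP J (tf T)).X 0 ⟶ G)

/-- the 0-cochain as a map on the torsor -/
noncomputable def chi : T.P ⟶ (Uf J).obj G := dg T ≫ (adjΦ J).homEquiv _ G ψ

/-- the 0-cochain as a map on the torsor, sectionwise -/
noncomputable def chiA (U : Cᵒᵖ) (t : T.P.obj.obj U) : G.obj.obj U := (chi T ψ).hom.app U t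

lemma chiA_map {U V : Cᵒᵖ} (f : U ⟶ V) (t : T.P.obj.obj U) :
    chiA T ψ V (T.P.obj.map f t) = G.obj.map f (chiA T ψ U t) := by
  have hc := congrArg (fun k => k t) ((chi T ψ).hom.naturality f)
  simp only [ConcreteCategory.comp_apply] at hc
  exact hc

lemma evHom_eq_chi (U : Cᵒᵖ) (y : ((Arrow.mk (tf T)).cechNerve.obj (op ⦋0⦌)).obj.obj U) :
    evHom G U y ψ = chiA T ψ U ((pr T 0 0).hom.app U y) := by
  have h := congrArg (fun k => k.hom.app U y) (pr_dg T)
  change (dg T).hom.app U ((pr T 0 0).hom.app U y) = y at h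
  change _ = ((adjΦ J).homEquiv _ G ψ).hom.app U ((dg T).hom.app U ((pr T 0 0).hom.app U y))
  rw [h]
  rfl

variable (hψ : (cechP J (tf T)).d 1 0 ≫ ψ = coc T)

include hψ in
lemma chi_sub_chi (U : Cᵒᵖ) (z : ((Arrow.mk (tf T)).cechNerve.obj (op ⦋1⦌)).obj.obj U) :
    chiA T ψ U ((pr T 1 1).hom.app U z) - chiA T ψ U ((pr T 1 0).hom.app U z) =
      diff T ((pr T 1 0).hom.app U z) ((pr T 1 1).hom.app U z) := by
  have h := congrArg (evHom G U z) hψ
  rw [evHom_d_comp, Fin.sum_univ_two, coc, evHom_symm, diffHom_app, evHom_eq_chi, evHom_eq_chi,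
    pr_δ_app, pr_δ_app] at h
  have e1 : (Fin.succAbove (0 : Fin 2) (0 : Fin 1)) = 1 := rfl
  have e2 : (Fin.succAbove (1 : Fin 2) (0 : Fin 1)) = 0 := rfl
  rw [e1, e2] at h
  rw [← h]
  simp only [Fin.val_zero, Fin.val_one, pow_zero, pow_one, one_smul, neg_smul]
  abel

/-- the "constant" endomorphism of the torsor -/
noncomputable def sg : T.P ⟶ T.P :=
  ⟨{ app := fun U => ↾fun t => T.vadd (chiA T ψ U t) t
     naturality := by
      intro U V f
      ext t
      change T.vadd (chiA T ψ V (T.P.obj.map f t)) (T.P.obj.map f t) =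
        T.P.obj.map f (T.vadd (chiA T ψ U t) t)
      rw [T.map_vadd, chiA_map] }⟩

lemma sg_app (U : Cᵒᵖ) (t : T.P.obj.obj U) :
    (sg T ψ).hom.app U t = T.vadd (chiA T ψ U t) t := rfl

include hψ in
lemma sg_const {Z : Sheaf J (Type u)} (a b : Z ⟶ T.P) : a ≫ sg T ψ = b ≫ sg T ψ := by
  let w : Z ⟶ (Arrow.mk (tf T)).cechNerve.obj (op ⦋1⦌) :=
    WidePullback.lift (terminal.from Z) (fun i : Fin 2 => if i = 0 then a else b)
      (fun _ => terminal.hom_ext (C := Sheaf J (Type u)) _ _)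
  have hw0 : w ≫ pr T 1 0 = a := by
    dsimp only [w, pr]
    rw [WidePullback.lift_π]
    rfl
  have hw1 : w ≫ pr T 1 1 = b := by
    dsimp only [w, pr]
    rw [WidePullback.lift_π]
    rfl
  ext U z
  change (sg T ψ).hom.app U (a.hom.app U z) = (sg T ψ).hom.app U (b.hom.app U z)
  rw [sg_app, sg_app]
  have h := chi_sub_chi T ψ hψ U (w.hom.app U z)
  have h0 : (pr T 1 0).hom.app U (w.hom.app U z) = a.hom.app U z :=
    congrArg (fun k => k.hom.app U z) hw0
  have h1 : (pr T 1 1).hom.app U (w.hom.app U z) = b.hom.app U z :=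
    congrArg (fun k => k.hom.app U z) hw1
  rw [h0, h1] at h
  have h2 : chiA T ψ U (b.hom.app U z) =
      chiA T ψ U (a.hom.app U z) + diff T (a.hom.app U z) (b.hom.app U z) := by
    rw [← h]; abel
  rw [h2, T.add_vadd, diff_vadd]

include hψ in
lemma hasSection_of_cochain : T.HasSection := by
  have := tf_epi T
  have : EffectiveEpi (tf T) :=
    (isRegularEpi_iff_effectiveEpi _).1 (IsRegularEpiCategory.regularEpiOfEpi (tf T))
  exact ⟨EffectiveEpi.desc (tf T) (sg T ψ) (fun a b _ => sg_const T ψ hψ a b)⟩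

end Descent

theorem hasSection_of_ext_eq_zero (h : ∀ x : Ext.{u} ((Φ J).obj (Top J)) G 1, x = 0) :
    T.HasSection := by
  have := tf_epi T
  have hacyc : AcyclicAt (cechP J (tf T)) G 0 :=
    acyclicAt_zero_of_surj (cech_isRes J (tf T)) (injSC G) (injSC_shortExact G)
      (fun s => surj_of_ext_one_eq_zero _ (injSC_shortExact G) h s)
      (acyclicAt_of_injective (cech_isRes J (tf T)) _ 0)
  obtain ⟨ψ, hψ⟩ := hacyc (coc T) (d_comp_coc T)
  exact hasSection_of_cochain T ψ hψ

end Main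

section Sections

variable (S : ShortComplex (Sheaf J AddCommGrpCat.{u})) (hS : S.ShortExact) (U : Cᵒᵖ)

/-- sections over `U` -/
noncomputable abbrev secF : Sheaf J AddCommGrpCat.{u} ⥤ AddCommGrpCat.{u} :=
  sheafToPresheaf J AddCommGrpCat.{u} ⋙ (evaluation Cᵒᵖ AddCommGrpCat.{u}).obj U

include hS in
lemma sections_exact (x : S.X₂.obj.obj U) (hx : S.g.hom.app U x = 0) :
    ∃ y : S.X₁.obj.obj U, S.f.hom.app U y = x := by
  have := hS.mono_f
  have h : (S.map (secF (J := J) U)).Exact :=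
    hS.exact.map_of_mono_of_preservesKernel (secF U) hS.mono_f inferInstance
  exact (ShortComplex.ab_exact_iff _).1 h x hx

include hS in
lemma sections_injective : Function.Injective (S.f.hom.app U) := by
  have := hS.mono_f
  have h : Mono ((secF (J := J) U).map S.f) := inferInstance
  exact (AddCommGrpCat.mono_iff_injective _).1 h

lemma sections_zero (y : S.X₁.obj.obj U) : S.g.hom.app U (S.f.hom.app U y) = 0 := by
  have h := congrArg (fun k => k.hom.app U y) S.zero
  exact h

end Sections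


section LiftTorsor

variable (S : ShortComplex (Sheaf J AddCommGrpCat.{u})) (hS : S.ShortExact)
  (s' : Top J ⟶ (Uf J).obj S.X₃)

/-- typed version of `qsec` -/
noncomputable def qsecA (U : Cᵒᵖ) : S.X₃.obj.obj U := qsec S s' U

lemma qsecA_map {U V : Cᵒᵖ} (f : U ⟶ V) : S.X₃.obj.map f (qsecA S s' U) = qsecA S s' V :=
  qsec_map S s' f

/-- the underlying section of a lift -/
def liftVal {U : Cᵒᵖ} (p : (liftSheaf S s').obj.obj U) : S.X₂.obj.obj U := p.1

lemma liftVal_prop {U : Cᵒᵖ} (p : (liftSheaf S s').obj.obj U) :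
    S.g.hom.app U (liftVal S s' p) = qsecA S s' U := p.2

/-- constructor for lifts -/
def liftMk {U : Cᵒᵖ} (x : S.X₂.obj.obj U) (hx : S.g.hom.app U x = qsecA S s' U) :
    (liftSheaf S s').obj.obj U := ⟨x, hx⟩

lemma liftVal_mk {U : Cᵒᵖ} (x : S.X₂.obj.obj U) (hx : S.g.hom.app U x = qsecA S s' U) :
    liftVal S s' (liftMk S s' x hx) = x := rfl

lemma liftVal_map {U V : Cᵒᵖ} (f : U ⟶ V) (p : (liftSheaf S s').obj.obj U) :
    liftVal S s' ((liftSheaf S s').obj.map f p) = S.X₂.obj.map f (liftVal S s' p) := rfl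

lemma lift_ext {U : Cᵒᵖ} (p q : (liftSheaf S s').obj.obj U)
    (h : liftVal S s' p = liftVal S s' q) : p = q := Subtype.ext h

/-- the torsor of lifts of a global section of the quotient -/
noncomputable def liftTorsor : Tors.Torsor S.X₁ where
  P := liftSheaf S s'
  vadd {U} g p := liftMk S s' (S.f.hom.app U g + liftVal S s' p) (by
    rw [map_add, sections_zero, zero_add, liftVal_prop])
  zero_vadd {U} p := lift_ext S s' _ _ (by rw [liftVal_mk, map_zero, zero_add])
  add_vadd {U} g h p := lift_ext S s' _ _ (by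
    rw [liftVal_mk, liftVal_mk, liftVal_mk, map_add, add_assoc])
  map_vadd {U V} f g p := lift_ext S s' _ _ (by
    rw [liftVal_map, liftVal_mk, liftVal_mk, liftVal_map, map_add]
    congr 1
    exact (congrArg (fun k => k g) (S.f.hom.naturality f)).symm)
  free_transitive {U} p q := by
    obtain ⟨g, hg⟩ := sections_exact S hS U (liftVal S s' q - liftVal S s' p) (by
      rw [map_sub, liftVal_prop, liftVal_prop, sub_self])
    refine ⟨g, lift_ext S s' _ _ (by rw [liftVal_mk, hg]; abel), fun g' hg' => ?_⟩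
    apply sections_injective S hS U
    have h2 := congrArg (liftVal S s') hg'
    rw [liftVal_mk] at h2
    rw [hg, ← h2]
    abel
  locally_nonempty U := by
    have := hS.epi_g
    have h1 : Sheaf.IsLocallySurjective S.g :=
      (Sheaf.isLocallySurjective_iff_epi' _ S.g).2 inferInstance
    refine ⟨Presheaf.imageSieve S.g.hom (qsecA S s' (op U)), h1.imageSieve_mem _,
      fun V f hf => ?_⟩
    obtain ⟨t, ht⟩ := hf
    exact ⟨liftMk S s' t (ht.trans (qsecA_map S s' f.op))⟩

/-- the inclusion of the sheaf of lifts -/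
noncomputable def liftIncl : liftSheaf S s' ⟶ (Uf J).obj S.X₂ := ⟨(liftSub S s').ι⟩

lemma liftIncl_comp (σ : Top J ⟶ liftSheaf S s') :
    (σ ≫ liftIncl S s') ≫ (Uf J).map S.g = s' := by
  ext U x
  have hx : x = default := Subsingleton.elim _ _
  subst hx
  exact (σ.hom.app U default).2

end LiftTorsor

theorem ext_eq_zero_of_hasSection (G : Sheaf J AddCommGrpCat.{u})
    (h : ∀ T : Tors.Torsor G, T.HasSection) (x : Ext.{u} ((Φ J).obj (Top J)) G 1) : x = 0 := by
  refine ext_one_eq_zero_of_surj _ (injSC_shortExact G) (fun s => ?_) x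
  obtain ⟨σ⟩ := h (liftTorsor (injSC G) (injSC_shortExact G) ((adjΦ J).homEquiv _ _ s))
  refine ⟨((adjΦ J).homEquiv _ _).symm (σ ≫ liftIncl _ _), ?_⟩
  apply ((adjΦ J).homEquiv _ _).injective
  rw [Adjunction.homEquiv_naturality_right, Equiv.apply_symm_apply]
  exact liftIncl_comp _ _ σ

end Groth.Agent.Lib.Helper5.TorsH1
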