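import Mathlib
import Groth.Agent.Lib.Helper5.AcyclicClass
set_option autoImplicit false
universe u
open CategoryTheory CategoryTheory.Limits Opposite

namespace Groth.Agent.Lib.Helper5.TowerLim

noncomputable section

/-- towers of abelian groups. -/
abbrev Tower := ℕᵒᵖ ⥤ AddCommGrpCat.{u}

/-- the transition map `A_{n+1} ⟶ A_n`. -/
abbrev tr (A : Tower.{u}) (n : ℕ) : A.obj (op (n + 1)) ⟶ A.obj (op n) :=
  A.map (homOfLE (Nat.le_succ n)).op

/-- all transition maps are surjective. -/
def SurjT (A : Tower.{u}) : Prop := ∀ n, Function.Surjective (tr A n).hom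

lemma map_eq_of_step (A : Tower.{u}) (x : ∀ n, A.obj (op n))
    (hx : ∀ n, (tr A n).hom (x (n + 1)) = x n) {m n : ℕ} (h : m ≤ n) :
    (A.map (homOfLE h).op).hom (x n) = x m := by
  induction n, h using Nat.le_induction with
  | base =>
    have : (homOfLE (le_refl m)).op = 𝟙 (op m) := rfl
    rw [this, A.map_id]
    rfl
  | succ n h ih =>
    have : (homOfLE (h.trans (Nat.le_succ n))).op =
        (homOfLE (Nat.le_succ n)).op ≫ (homOfLE h).op := rfl
    rw [this, A.map_comp]
    change (A.map (homOfLE h).op).hom ((tr A n).hom (x (n + 1))) = x m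
    rw [hx, ih]

/-- the element of the limit with given components. -/
def mkLim (A : Tower.{u}) (x : ∀ n, A.obj (op n))
    (hx : ∀ n, (tr A n).hom (x (n + 1)) = x n) : (limit A : AddCommGrpCat.{u}) :=
  (Types.isLimitEquivSections (isLimitOfPreserves (forget AddCommGrpCat.{u}) (limit.isLimit A))).symm
    ⟨fun j => x j.unop, by
      intro j j' f
      induction j using Opposite.rec with | _ n => ?_
      induction j' using Opposite.rec with | _ m => ?_
      have h : m ≤ n := leOfHom f.unop
      have hf : f = (homOfLE h).op := rfl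
      rw [hf]
      exact map_eq_of_step A x hx h⟩

lemma π_mkLim (A : Tower.{u}) (x : ∀ n, A.obj (op n))
    (hx : ∀ n, (tr A n).hom (x (n + 1)) = x n) (n : ℕ) :
    (limit.π A (op n)).hom (mkLim A x hx) = x n :=
  Types.isLimitEquivSections_symm_apply
    (isLimitOfPreserves (forget AddCommGrpCat.{u}) (limit.isLimit A)) _ (op n)

section Lift

variable (S : ShortComplex Tower.{u}) (hS : S.ShortExact)

include hS in
lemma shortExact_eval (n : ℕ) :
    (S.map ((evaluation ℕᵒᵖ AddCommGrpCat.{u}).obj (op n))).ShortExact :=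
  hS.map_of_exact _

include hS in
lemma g_surjective (n : ℕ) : Function.Surjective (S.g.app (op n)).hom := by
  have h := (shortExact_eval S hS n).epi_g
  rw [AddCommGrpCat.epi_iff_surjective] at h
  exact h

include hS in
lemma exists_of_g_eq_zero (n : ℕ) (b : S.X₂.obj (op n)) (hb : (S.g.app (op n)).hom b = 0) :
    ∃ k : S.X₁.obj (op n), (S.f.app (op n)).hom k = b := by
  have h := (shortExact_eval S hS n).exact
  rw [ShortComplex.ab_exact_iff] at h
  exact h b hb

lemma g_f_apply (n : ℕ) (k : S.X₁.obj (op n)) : (S.g.app (op n)).hom ((S.f.app (op n)).hom k) = 0 := by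
  have := congrArg (fun φ => (φ.app (op n)).hom k) S.zero
  exact this

omit S in
lemma nat_tr {A B : Tower.{u}} (φ : A ⟶ B) (n : ℕ) (a : A.obj (op (n + 1))) :
    (φ.app (op n)).hom ((tr A n).hom a) = (tr B n).hom ((φ.app (op (n + 1))).hom a) :=
  ConcreteCategory.congr_hom (φ.naturality (homOfLE (Nat.le_succ n)).op) a

variable (hK : SurjT S.X₁) (c : ∀ n, S.X₃.obj (op n)) (hc : ∀ n, (tr S.X₃ n).hom (c (n + 1)) = c n)

include hS hK hc in
lemma exists_step (n : ℕ) (b : S.X₂.obj (op n)) (hb : (S.g.app (op n)).hom b = c n) :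
    ∃ b' : S.X₂.obj (op (n + 1)), (S.g.app (op (n + 1))).hom b' = c (n + 1) ∧
      (tr S.X₂ n).hom b' = b := by
  obtain ⟨y, hy⟩ := g_surjective S hS (n + 1) (c (n + 1))
  have h0 : (S.g.app (op n)).hom ((tr S.X₂ n).hom y - b) = 0 := by
    rw [map_sub, nat_tr, hy, hc, hb, sub_self]
  obtain ⟨k, hk⟩ := exists_of_g_eq_zero S hS n _ h0
  obtain ⟨k', rfl⟩ := hK n k
  refine ⟨y - (S.f.app (op (n + 1))).hom k', ?_, ?_⟩
  · rw [map_sub, g_f_apply, sub_zero, hy]
  · rw [map_sub, ← nat_tr, hk]
    abel

/-- the recursive lift. -/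
def liftSeq : ∀ n : ℕ, {b : S.X₂.obj (op n) // (S.g.app (op n)).hom b = c n}
  | 0 => ⟨(g_surjective S hS 0 (c 0)).choose, (g_surjective S hS 0 (c 0)).choose_spec⟩
  | n + 1 =>
    ⟨(exists_step S hS hK c hc n (liftSeq n).1 (liftSeq n).2).choose,
      (exists_step S hS hK c hc n (liftSeq n).1 (liftSeq n).2).choose_spec.1⟩

lemma liftSeq_tr (n : ℕ) :
    (tr S.X₂ n).hom (liftSeq S hS hK c hc (n + 1)).1 = (liftSeq S hS hK c hc n).1 :=
  (exists_step S hS hK c hc n (liftSeq S hS hK c hc n).1 (liftSeq S hS hK c hc n).2).choose_spec.2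

end Lift

/-- `lim` is exact on short exact sequences whose kernel has surjective transition maps. -/
theorem epi_lim_map_g (S : ShortComplex Tower.{u}) (hS : S.ShortExact) (hK : SurjT S.X₁) :
    Epi ((lim : Tower.{u} ⥤ AddCommGrpCat.{u}).map S.g) := by
  rw [AddCommGrpCat.epi_iff_surjective]
  intro z
  let c : ∀ n, S.X₃.obj (op n) := fun n => (limit.π S.X₃ (op n)).hom z
  have hc : ∀ n, (tr S.X₃ n).hom (c (n + 1)) = c n := fun n =>
    ConcreteCategory.congr_hom (limit.w S.X₃ (homOfLE (Nat.le_succ n)).op) z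
  refine ⟨mkLim S.X₂ (fun n => (liftSeq S hS hK c hc n).1) (liftSeq_tr S hS hK c hc), ?_⟩
  apply Concrete.limit_ext
  intro j
  induction j using Opposite.rec with | _ n => ?_
  have h1 : (limit.π S.X₃ (op n)).hom ((lim.map S.g).hom
      (mkLim S.X₂ (fun n => (liftSeq S hS hK c hc n).1) (liftSeq_tr S hS hK c hc))) =
      (S.g.app (op n)).hom ((limit.π S.X₂ (op n)).hom
        (mkLim S.X₂ (fun n => (liftSeq S hS hK c hc n).1) (liftSeq_tr S hS hK c hc))) :=
    ConcreteCategory.congr_hom (limMap_π S.g (op n)) _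
  refine h1.trans ?_
  rw [π_mkLim]
  exact (liftSeq S hS hK c hc n).2

section Free

lemma freeAbelianGroup_map_injective {X X' : Type*} (f : X → X') (hf : Function.Injective f) :
    Function.Injective (FreeAbelianGroup.map f) := by
  rcases isEmpty_or_nonempty X with h | h
  · intro a b _
    have : Subsingleton (FreeAbelianGroup X) := by
      refine ⟨fun a b => ?_⟩
      have h0 : ∀ z : FreeAbelianGroup X, z = 0 := by
        intro z
        induction z using FreeAbelianGroup.induction_on with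
        | zero => rfl
        | of x => exact h.elim x
        | neg x _ => exact h.elim x
        | add x y hx hy => rw [hx, hy, add_zero]
      rw [h0 a, h0 b]
    exact Subsingleton.elim _ _
  · obtain ⟨g, hg⟩ := hf.hasLeftInverse
    refine Function.LeftInverse.injective (g := FreeAbelianGroup.map g) ?_
    intro a
    rw [← AddMonoidHom.comp_apply, ← FreeAbelianGroup.map_comp]
    have : g ∘ f = id := funext hg
    rw [this, FreeAbelianGroup.map_id]
    rfl

/-- the free tower on a generator in degree `n`. -/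
def L (n : ℕ) : Tower.{u} :=
  coyoneda.obj (op (op n)) ⋙ uliftFunctor.{u} ⋙ AddCommGrpCat.free.{u}

/-- the generator. -/
def gen (n : ℕ) : (L.{u} n).obj (op n) := FreeAbelianGroup.of (ULift.up (𝟙 (op n)))

/-- the morphism out of the free tower attached to an element. -/
def desc (A : Tower.{u}) (n : ℕ) (x : A.obj (op n)) : L.{u} n ⟶ A where
  app m := AddCommGrpCat.ofHom (FreeAbelianGroup.lift
    (fun h : ULift.{u} (op n ⟶ m) => (A.map h.down).hom x))
  naturality m m' f := by
    apply AddCommGrpCat.hom_ext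
    apply FreeAbelianGroup.lift_ext
    intro h
    change FreeAbelianGroup.lift (fun h : ULift.{u} (op n ⟶ m') => (A.map h.down).hom x)
        (FreeAbelianGroup.map (ULift.map (fun g => g ≫ f)) (FreeAbelianGroup.of h)) =
      (A.map f).hom (FreeAbelianGroup.lift (fun h : ULift.{u} (op n ⟶ m) => (A.map h.down).hom x)
        (FreeAbelianGroup.of h))
    rw [FreeAbelianGroup.map_of_apply, FreeAbelianGroup.lift_apply_of, FreeAbelianGroup.lift_apply_of]
    change (A.map (h.down ≫ f)).hom x = _
    rw [A.map_comp]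
    rfl

lemma desc_gen (A : Tower.{u}) (n : ℕ) (x : A.obj (op n)) :
    ((desc A n x).app (op n)).hom (gen n) = x := by
  change FreeAbelianGroup.lift (fun h : ULift.{u} (op n ⟶ op n) => (A.map h.down).hom x)
    (FreeAbelianGroup.of _) = x
  rw [FreeAbelianGroup.lift_apply_of]
  change (A.map (𝟙 (op n))).hom x = x
  rw [A.map_id]
  rfl

/-- the inclusion of free towers. -/
def incl (n : ℕ) : L.{u} n ⟶ L.{u} (n + 1) :=
  Functor.whiskerRight (coyoneda.map (homOfLE (Nat.le_succ n)).op.op)
    (uliftFunctor.{u} ⋙ AddCommGrpCat.free.{u})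

instance (n : ℕ) : Mono (incl.{u} n) := by
  haveI : ∀ m, Mono ((incl.{u} n).app m) := by
    intro m
    rw [AddCommGrpCat.mono_iff_injective]
    apply freeAbelianGroup_map_injective
    intro a b _
    apply ULift.ext
    exact Subsingleton.elim (α := (op n ⟶ m)) _ _
  exact NatTrans.mono_of_mono_app _

lemma incl_gen (n : ℕ) : ((incl.{u} n).app (op n)).hom (gen n) =
    ((L.{u} (n + 1)).map (homOfLE (Nat.le_succ n)).op).hom (gen (n + 1)) := by
  change FreeAbelianGroup.map _ (FreeAbelianGroup.of _) = FreeAbelianGroup.map _ (FreeAbelianGroup.of _)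
  rw [FreeAbelianGroup.map_of_apply, FreeAbelianGroup.map_of_apply]
  congr 1

theorem surjT_of_injective (I : Tower.{u}) [Injective I] : SurjT I := by
  intro n x
  let ψ := Injective.factorThru (desc I n x) (incl.{u} n)
  have hψ : incl.{u} n ≫ ψ = desc I n x := Injective.comp_factorThru _ _
  refine ⟨(ψ.app (op (n + 1))).hom (gen (n + 1)), ?_⟩
  rw [← nat_tr]
  change (ψ.app (op n)).hom (((L.{u} (n + 1)).map (homOfLE (Nat.le_succ n)).op).hom (gen (n + 1))) = x
  rw [← incl_gen, ← desc_gen I n x, ← hψ]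
  rfl

end Free

open Groth.Agent.Lib.Helper2.GSS in
lemma surjT_quotient [EnoughInjectives Tower.{u}] (X : Tower.{u}) : SurjT (injSC X).X₃ := by
  have hS := injSC_shortExact X
  have hI : SurjT (injSC X).X₂ := surjT_of_injective _
  intro n q
  obtain ⟨b, rfl⟩ := g_surjective (injSC X) hS n q
  obtain ⟨b', rfl⟩ := hI n b
  exact ⟨((injSC X).g.app (op (n + 1))).hom b', (nat_tr _ n b').symm⟩

open Groth.Agent.Lib.Helper2.GSS in
/-- **`lim^i = 0` for `i ≥ 2` on towers of abelian groups.** -/
theorem isZero_rightDerived_lim [EnoughInjectives Tower.{u}]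
    [(lim : Tower.{u} ⥤ AddCommGrpCat.{u}).Additive] (A : Tower.{u}) (i : ℕ) (hi : 2 ≤ i) :
    IsZero (((lim : Tower.{u} ⥤ AddCommGrpCat.{u}).rightDerived i).obj A) := by
  obtain ⟨j, rfl⟩ : ∃ j, i = j + 2 := ⟨i - 2, by omega⟩
  exact AcyclicClass.isZero_rightDerived_succ_succ (lim : Tower.{u} ⥤ AddCommGrpCat.{u}) SurjT
    surjT_quotient (fun X hX => epi_lim_map_g (injSC X) (injSC_shortExact X) hX) j A

end
end Groth.Agent.Lib.Helper5.TowerLim
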