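import Groth.Agent.Lib.Helper5.TowerLimML

/-!
# Helper5: the limit of a basis-acyclic Mittag-Leffler tower of modules is basis-acyclic
-/
set_option autoImplicit false
universe u
open CategoryTheory CategoryTheory.Limits Opposite
open Groth.Agent.Lib.Helper2.RDBridge Groth.Agent.Lib.Helper2.GSS
open Groth.Agent.Lib.Helper5.TowerInj Groth.Agent.Lib.Helper5.MLLimOne
open Groth.Agent.Lib.Helper5.TowerLimML Groth.Agent.Lib.Helper5.AcyclicClass
noncomputable section
namespace Groth.Agent.Lib.Helper5.TowerLimML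
variable {C : Type u} [SmallCategory C] {J : GrothendieckTopology C} {R : Sheaf J RingCat.{u}}
variable (E : ℕᵒᵖ ⥤ SheafOfModules.{u} R)

instance injective_lim_TE : Injective (limit (TE E)) := by
  haveI : (Functor.const ℕᵒᵖ : SheafOfModules.{u} R ⥤ ℕᵒᵖ ⥤ SheafOfModules.{u} R).PreservesMonomorphisms := by
    constructor
    intro X Y f hf
    haveI : ∀ k : ℕᵒᵖ, Mono (((Functor.const ℕᵒᵖ).map f).app k) := fun k => hf
    exact NatTrans.mono_of_mono_app _
  exact Injective.injective_of_adjoint (constLimAdj (J := ℕᵒᵖ) (C := SheafOfModules.{u} R)) (TE E)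

lemma SClim_shortExact (h : Epi (lim.map (pE E))) :
    ((SC E).map (lim : (ℕᵒᵖ ⥤ SheafOfModules.{u} R) ⥤ SheafOfModules.{u} R)).ShortExact := by
  haveI : EnoughInjectives (ℕᵒᵖ ⥤ SheafOfModules.{u} R) := enoughInjectives_tower
  haveI : (lim : (ℕᵒᵖ ⥤ SheafOfModules.{u} R) ⥤ SheafOfModules.{u} R).Additive :=
    Functor.additive_of_preserves_binary_products _
  exact shortExact_map_of_epi lim (SC E) (SC_shortExact E) h

theorem acycOn_lim (B : Set C)
    (hB : ∀ U : C, ∃ (ι : Type u) (Y : ι → C) (g : ∀ i, Y i ⟶ U),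
      Sieve.ofArrows Y g ∈ J U ∧ ∀ i, Y i ∈ B) :
    ∀ (i : ℕ) (E : ℕᵒᵖ ⥤ SheafOfModules.{u} R), PB R B E → ∀ U ∈ B,
      IsZero (((secF J U).rightDerived (i + 1)).obj ((SheafOfModules.toSheaf R).obj (limit E))) := by
  intro i
  induction i with
  | zero =>
    intro E hE U hU
    have hepi := epi_lim_pE E B hB hE.1 hE.2
    have hS := shortExact_toSheaf _ (SClim_shortExact E hepi)
    obtain ⟨δ, z1, z2, z3, e1, e2, e3⟩ := rightDerived_les' (secF J U) _ hS 0
    have h2 : IsZero (((secF J U).rightDerived (0 + 1)).obj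
        ((SheafOfModules.toSheaf R).obj (limit (TE E)))) :=
      acycOn_of_injective U (limit (TE E)) 1 (by omega)
    haveI : Epi δ := e3.epi_f (h2.eq_of_tgt _ _)
    have hsurj := surjective_lim_pE E U (hE.1 U hU) (hE.2 U hU)
    have hepi2 : Epi ((secF J U).map
        (((SC E).map lim).map (SheafOfModules.toSheaf R)).g) :=
      (AddCommGrpCat.epi_iff_surjective _).2 hsurj
    haveI : Epi (((secF J U).rightDerived 0).map
        (((SC E).map lim).map (SheafOfModules.toSheaf R)).g) :=
      (epi_rightDerived_zero_map_iff (secF J U) _).2 hepi2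
    have hδ : δ = 0 :=
      (cancel_epi (((secF J U).rightDerived 0).map
        (((SC E).map lim).map (SheafOfModules.toSheaf R)).g)).1 (z2.trans comp_zero.symm)
    have hz := isZero_of_epi_eq_zero δ hδ
    exact hz
  | succ i ih =>
    intro E hE U hU
    have hepi := epi_lim_pE E B hB hE.1 hE.2
    have hS := shortExact_toSheaf _ (SClim_shortExact E hepi)
    obtain ⟨δ, z1, z2, z3, e1, e2, e3⟩ := rightDerived_les' (secF J U) _ hS (i + 1)
    have h2 : IsZero (((secF J U).rightDerived (i + 1 + 1)).obj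
        ((SheafOfModules.toSheaf R).obj (limit (TE E)))) :=
      acycOn_of_injective U (limit (TE E)) (i + 1 + 1) (by omega)
    haveI : Epi δ := e3.epi_f (h2.eq_of_tgt _ _)
    have hδ : δ = 0 := (ih (QE E) (PB_QE R B E hE.1) U hU).eq_of_src _ _
    have hz := isZero_of_epi_eq_zero δ hδ
    exact hz

/-- the limit of a tower which is acyclic and Mittag-Leffler on `B` is acyclic on `B`. -/
theorem subsingleton_HU_lim (B : Set C)
    (hB : ∀ U : C, ∃ (ι : Type u) (Y : ι → C) (g : ∀ i, Y i ⟶ U),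
      Sieve.ofArrows Y g ∈ J U ∧ ∀ i, Y i ∈ B)
    (E : ℕᵒᵖ ⥤ SheafOfModules.{u} R) (hE : PB R B E) (U : C) (hU : U ∈ B) (p : ℕ) :
    Subsingleton (CohSite.HU ((SheafOfModules.toSheaf R).obj (limit E)) (p + 1) U) := by
  have h := acycOn_lim B hB p E hE U hU
  have h2 : IsZero (Sheaf.H' ((SheafOfModules.toSheaf R).obj (limit E)) (p + 1) U) :=
    IsZero.of_iso h (rightDerivedSecIso J U _ (p + 1)).symm
  exact AddCommGrpCat.subsingleton_of_isZero h2

end Groth.Agent.Lib.Helper5.TowerLimML
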