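import Mathlib
import Groth.Agent.Lib.Helper5.TowerInj
import Groth.Agent.Lib.Helper5.MLLimOne
import Groth.Agent.Lib.Helper5.ExtUnitHRing
import Groth.Agent.Lib.Helper13.FlasqueBasic
import Groth.Agent.Lib.Helper2.GSS.LeraySite

/-!
# Helper5: `R^i lim` of a tower of modules on a site which is acyclic (and Mittag-Leffler) on a basis
-/

set_option autoImplicit false
universe u

namespace Groth.Agent.Lib.Helper5.TowerLimML

open CategoryTheory CategoryTheory.Limits Opposite
open Groth.Agent.Lib.Helper2.RDBridge Groth.Agent.Lib.Helper2.GSS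
open Groth.Agent.Lib.Helper5.TowerInj Groth.Agent.Lib.Helper5.MLLimOne

noncomputable section

section Groups

lemma r_nat {A B : ℕᵒᵖ ⥤ AddCommGrpCat.{u}} (φ : A ⟶ B) {n m : ℕ} (h : n ≤ m)
    (x : A.obj (op m)) :
    (φ.app (op n)).hom (r A h x) = r B h ((φ.app (op m)).hom x) := by
  have := congrArg (fun k => k.hom x) (φ.naturality (homOfLE h).op)
  exact this

theorem tower_lift_ML {A B C : ℕᵒᵖ ⥤ AddCommGrpCat.{u}} (f : A ⟶ B) (g : B ⟶ C)
    (hgf : ∀ n (a : A.obj (op n)), (g.app (op n)).hom ((f.app (op n)).hom a) = 0)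
    (hex : ∀ n (b : B.obj (op n)), (g.app (op n)).hom b = 0 → ∃ a, (f.app (op n)).hom a = b)
    (hgs : ∀ n, Function.Surjective (g.app (op n)).hom)
    (hA : (A ⋙ forget AddCommGrpCat).IsMittagLeffler)
    (t : ∀ n, C.obj (op n)) (ht : ∀ n, r C (Nat.le_succ n) (t (n + 1)) = t n) :
    ∃ s : ∀ n, B.obj (op n), (∀ n, r B (Nat.le_succ n) (s (n + 1)) = s n) ∧
      ∀ n, (g.app (op n)).hom (s n) = t n := by
  choose t' ht' using fun n => hgs n (t n)
  have hd : ∀ n, (g.app (op n)).hom (t' n - r B (Nat.le_succ n) (t' (n + 1))) = 0 := by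
    intro n
    rw [map_sub, r_nat g, ht', ht', ht, sub_self]
  choose e' he' using fun n => hex n _ (hd n)
  obtain ⟨e, he⟩ := towerDiff_surjective A hA e'
  have he2 : ∀ n, e n - r A (Nat.le_succ n) (e (n + 1)) = e' n := fun n => congrFun he n
  refine ⟨fun n => t' n - (f.app (op n)).hom (e n), fun n => ?_, fun n => ?_⟩
  · have h1 := he' n
    rw [← he2 n, map_sub, r_nat f] at h1
    change r B (Nat.le_succ n) (t' (n + 1) - (f.app (op (n + 1))).hom (e (n + 1))) = _
    rw [map_sub]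
    calc r B (Nat.le_succ n) (t' (n + 1)) -
          r B (Nat.le_succ n) ((f.app (op (n + 1))).hom (e (n + 1)))
        = (t' n - (f.app (op n)).hom (e n)) +
          (((f.app (op n)).hom (e n) -
            r B (Nat.le_succ n) ((f.app (op (n + 1))).hom (e (n + 1)))) -
            (t' n - r B (Nat.le_succ n) (t' (n + 1)))) := by abel
      _ = (t' n - (f.app (op n)).hom (e n)) + 0 := by rw [h1, sub_self]
      _ = _ := add_zero _
  · change (g.app (op n)).hom (t' n - (f.app (op n)).hom (e n)) = t n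
    rw [map_sub, hgf, sub_zero, ht']

lemma r_succ_iter (D : ℕᵒᵖ ⥤ AddCommGrpCat.{u}) (x : ∀ n, D.obj (op n))
    (hx : ∀ n, r D (Nat.le_succ n) (x (n + 1)) = x n) {n m : ℕ} (h : n ≤ m) :
    r D h (x m) = x n := by
  induction m, h using Nat.le_induction with
  | base => exact r_refl D n _
  | succ m hnm ih =>
    rw [← r_comp D hnm (Nat.le_succ m), hx, ih]

lemma exists_of_compatible (D : ℕᵒᵖ ⥤ AddCommGrpCat.{u}) (c : Cone D) (hc : IsLimit c)
    (x : ∀ n, D.obj (op n)) (hx : ∀ n, r D (Nat.le_succ n) (x (n + 1)) = x n) :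
    ∃ y : c.pt, ∀ n, (c.π.app (op n)).hom y = x n := by
  let hc' := isLimitOfPreserves (forget AddCommGrpCat.{u}) hc
  let sx : (D ⋙ forget AddCommGrpCat.{u}).sections :=
    ⟨fun j => x j.unop, by
      intro j j' φ
      obtain ⟨m⟩ := j
      obtain ⟨n⟩ := j'
      have h : n ≤ m := leOfHom φ.unop
      have e : φ = (homOfLE h).op := Subsingleton.elim _ _
      rw [e]
      exact r_succ_iter D x hx h⟩
  refine ⟨(Types.isLimitEquivSections hc').symm sx, fun n => ?_⟩
  exact Types.isLimitEquivSections_symm_apply hc' sx (op n)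

lemma ext_of_limit (D : ℕᵒᵖ ⥤ AddCommGrpCat.{u}) (c : Cone D) (hc : IsLimit c)
    (y y' : c.pt) (h : ∀ n, (c.π.app (op n)).hom y = (c.π.app (op n)).hom y') : y = y' := by
  refine Concrete.isLimit_ext D hc y y' ?_
  rintro ⟨n⟩
  exact h n

end Groups

section Sheaf

variable {C : Type u} [SmallCategory C] {J : GrothendieckTopology C} (R : Sheaf J RingCat.{u})

/-- sections over `U` of a module, as an abelian group. -/
abbrev Γ (U : C) : SheafOfModules.{u} R ⥤ AddCommGrpCat.{u} :=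
  SheafOfModules.toSheaf R ⋙ (sheafSections J AddCommGrpCat.{u}).obj (op U)

instance (U : C) : PreservesFiniteLimits ((sheafSections J AddCommGrpCat.{u}).obj (op U)) :=
  ⟨fun _ _ _ => preservesLimitsOfShape_of_natIso
    (sheafSectionsNatIsoEvaluation (J := J) (A := AddCommGrpCat.{u}) (X := U)).symm⟩

instance (U : C) : ((sheafSections J AddCommGrpCat.{u}).obj (op U)).Additive where

instance preservesTowerLimits_Γ (U : C) : PreservesLimitsOfShape ℕᵒᵖ (Γ R U) := by
  have : PreservesLimitsOfSize.{0, 0} (SheafOfModules.toSheaf.{u} R) :=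
    preservesSmallestLimits_of_preservesLimits _
  have : PreservesLimitsOfShape ℕᵒᵖ ((sheafSections J AddCommGrpCat.{u}).obj (op U)) :=
    preservesLimitsOfShape_of_natIso
      (sheafSectionsNatIsoEvaluation (J := J) (A := AddCommGrpCat.{u}) (X := U)).symm
  infer_instance

variable {R}

/-- acyclicity of an abelian sheaf on an object. -/
def AcycOn (U : C) (F : Sheaf J AddCommGrpCat.{u}) : Prop := RAcyc (secF J U) F

lemma acycOn_of_subsingleton (U : C) (F : Sheaf J AddCommGrpCat.{u})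
    (h : ∀ i : ℕ, 1 ≤ i → Subsingleton (CohSite.HU F i U)) : AcycOn U F := by
  intro i hi
  refine IsZero.of_iso ?_ (rightDerivedSecIso J U F i)
  haveI := h i hi
  exact AddCommGrpCat.isZero_of_subsingleton _

lemma acycOn_of_injective (U : C) (G : SheafOfModules.{u} R) [Injective G] :
    AcycOn U ((SheafOfModules.toSheaf R).obj G) := by
  apply acycOn_of_subsingleton
  intro i hi
  obtain ⟨p, rfl⟩ : ∃ p, i = p + 1 := ⟨i - 1, by omega⟩
  exact Groth.Agent.Lib.Helper13.FlasqueBasic.subsingleton_HU_of_totallyAcyclic _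
    (ModKFRing.isTotallyAcyclic_of_injective R G) U p

lemma shortExact_toSheaf (S : ShortComplex (SheafOfModules.{u} R)) (hS : S.ShortExact) :
    (S.map (SheafOfModules.toSheaf R)).ShortExact := hS.map_of_exact _

lemma acycOn_X₃ (U : C) (S : ShortComplex (SheafOfModules.{u} R)) (hS : S.ShortExact)
    (h₁ : AcycOn U ((SheafOfModules.toSheaf R).obj S.X₁))
    (h₂ : AcycOn U ((SheafOfModules.toSheaf R).obj S.X₂)) :
    AcycOn U ((SheafOfModules.toSheaf R).obj S.X₃) :=
  racyc_X₃ (secF J U) (S.map (SheafOfModules.toSheaf R)) (shortExact_toSheaf S hS) h₁ h₂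

lemma surjective_Γ_g (U : C) (S : ShortComplex (SheafOfModules.{u} R)) (hS : S.ShortExact)
    (h₁ : AcycOn U ((SheafOfModules.toSheaf R).obj S.X₁)) :
    Function.Surjective ((Γ R U).map S.g).hom := by
  have : Epi ((secF J U).map (S.map (SheafOfModules.toSheaf R)).g) :=
    epi_map_g_of_isZero (secF J U) _ (shortExact_toSheaf S hS) (h₁ 1 (by omega))
  exact (AddCommGrpCat.epi_iff_surjective _).1 this

lemma exact_Γ (U : C) (S : ShortComplex (SheafOfModules.{u} R)) (hS : S.ShortExact)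
    (x : (Γ R U).obj S.X₂) (hx : ((Γ R U).map S.g).hom x = 0) :
    ∃ y, ((Γ R U).map S.f).hom y = x := by
  haveI := hS.mono_f
  have h1 : (S.map (Γ R U)).Exact := hS.exact.map_of_mono_of_preservesKernel (Γ R U) hS.mono_f
    inferInstance
  exact (ShortComplex.ab_exact_iff _).1 h1 x hx

section Tower

variable (E : ℕᵒᵖ ⥤ SheafOfModules.{u} R)

/-- the injective hulls of the terms. -/
def Jn (n : ℕ) : SheafOfModules.{u} R := Injective.under (E.obj (op n))

instance (n : ℕ) : Injective (Jn E n) := inferInstanceAs (Injective (Injective.under _))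

def ιn (n : ℕ) : E.obj (op n) ⟶ Jn E n := Injective.ι _

instance (n : ℕ) : Mono (ιn E n) := Injective.ι_mono _

/-- the injective tower containing `E`. -/
abbrev TE : ℕᵒᵖ ⥤ SheafOfModules.{u} R := T (Jn E)

def iE : E ⟶ TE E := toT (Jn E) (ιn E)

instance : Mono (iE E) := mono_toT _ _

abbrev QE : ℕᵒᵖ ⥤ SheafOfModules.{u} R := cokernel (iE E)

abbrev pE : TE E ⟶ QE E := cokernel.π (iE E)

lemma iE_pE : iE E ≫ pE E = 0 := cokernel.condition _

abbrev SC : ShortComplex (ℕᵒᵖ ⥤ SheafOfModules.{u} R) := ShortComplex.mk (iE E) (pE E) (iE_pE E)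

lemma SC_shortExact : (SC E).ShortExact where
  exact := ShortComplex.exact_cokernel _
  mono_f := inferInstanceAs (Mono (iE E))
  epi_g := inferInstanceAs (Epi (cokernel.π (iE E)))

/-- the termwise short exact sequences. -/
abbrev SCn (n : ℕ) : ShortComplex (SheafOfModules.{u} R) :=
  (SC E).map ((evaluation ℕᵒᵖ (SheafOfModules.{u} R)).obj (op n))

lemma SCn_shortExact (n : ℕ) : (SCn E n).ShortExact :=
  (SC_shortExact E).map_of_exact _

lemma acyc_QE (U : C) (hE : ∀ n, AcycOn U ((SheafOfModules.toSheaf R).obj (E.obj (op n))))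
    (n : ℕ) : AcycOn U ((SheafOfModules.toSheaf R).obj ((QE E).obj (op n))) :=
  acycOn_X₃ U (SCn E n) (SCn_shortExact E n) (hE n)
    (acycOn_of_injective U ((TE E).obj (op n)))

lemma surjective_pE (U : C) (hE : ∀ n, AcycOn U ((SheafOfModules.toSheaf R).obj (E.obj (op n))))
    (n : ℕ) : Function.Surjective ((Γ R U).map ((pE E).app (op n))).hom :=
  surjective_Γ_g U (SCn E n) (SCn_shortExact E n) (hE n)

lemma surjective_QE_map (U : C)
    (hE : ∀ n, AcycOn U ((SheafOfModules.toSheaf R).obj (E.obj (op n))))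
    {a b : ℕᵒᵖ} (f : a ⟶ b) : Function.Surjective ((Γ R U).map ((QE E).map f)).hom := by
  obtain ⟨m⟩ := a
  obtain ⟨n⟩ := b
  have h : n ≤ m := leOfHom f.unop
  have e : f = (homOfLE h).op := Subsingleton.elim _ _
  intro y
  obtain ⟨x, hx⟩ := surjective_pE E U hE n y
  let x' := ((Γ R U).map (TSec' (Jn E) h)).hom x
  refine ⟨((Γ R U).map ((pE E).app (op m))).hom x', ?_⟩
  have h1 : (TE E).map f ≫ (pE E).app (op n) = (pE E).app (op m) ≫ (QE E).map f :=
    (pE E).naturality f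
  have h2 : TSec' (Jn E) h ≫ (TE E).map f = 𝟙 _ := by
    rw [e]
    exact TSec'_tr (Jn E) h
  have h3 : TSec' (Jn E) h ≫ (pE E).app (op m) ≫ (QE E).map f = (pE E).app (op n) := by
    rw [← h1, ← Category.assoc, h2, Category.id_comp]
  have h4 := congrArg (fun k => ((Γ R U).map k).hom x) h3
  simp only [Functor.map_comp] at h4
  exact h4.trans hx

lemma isMittagLeffler_QE (U : C)
    (hE : ∀ n, AcycOn U ((SheafOfModules.toSheaf R).obj (E.obj (op n)))) :
    ((QE E ⋙ Γ R U) ⋙ forget AddCommGrpCat.{u}).IsMittagLeffler :=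
  Functor.isMittagLeffler_of_surjective _ (fun _ _ f => surjective_QE_map E U hE f)

/-- the transition maps of a limit cone are compatible. -/
lemma cone_compat (D : ℕᵒᵖ ⥤ AddCommGrpCat.{u}) (c : Cone D) (y : c.pt) (n : ℕ) :
    r D (Nat.le_succ n) ((c.π.app (op (n + 1))).hom y) = (c.π.app (op n)).hom y := by
  have := congrArg (fun k => k.hom y) (c.w (homOfLE (Nat.le_succ n)).op)
  exact this

/-- sections of the limit over an acyclic Mittag-Leffler object lift. -/
lemma surjective_lim_pE (U : C)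
    (hE : ∀ n, AcycOn U ((SheafOfModules.toSheaf R).obj (E.obj (op n))))
    (hML : ((E ⋙ Γ R U) ⋙ forget AddCommGrpCat.{u}).IsMittagLeffler) :
    Function.Surjective ((Γ R U).map (lim.map (pE E))).hom := by
  intro s
  let cT := (Γ R U).mapCone (limit.cone (TE E))
  let cQ := (Γ R U).mapCone (limit.cone (QE E))
  have hcT : IsLimit cT := isLimitOfPreserves (Γ R U) (limit.isLimit (TE E))
  have hcQ : IsLimit cQ := isLimitOfPreserves (Γ R U) (limit.isLimit (QE E))
  obtain ⟨t, ht1, ht2⟩ := tower_lift_ML (A := E ⋙ Γ R U) (B := TE E ⋙ Γ R U)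
    (C := QE E ⋙ Γ R U) (Functor.whiskerRight (iE E) (Γ R U))
    (Functor.whiskerRight (pE E) (Γ R U))
    (fun n a => by
      have h0 : (iE E).app (op n) ≫ (pE E).app (op n) = 0 := by
        rw [← NatTrans.comp_app, iE_pE]
        rfl
      have h1 := congrArg (fun k => ((Γ R U).map k).hom a) h0
      simp only [Functor.map_comp, Functor.map_zero] at h1
      exact h1)
    (fun n b hb => exact_Γ U (SCn E n) (SCn_shortExact E n) b hb)
    (fun n => surjective_pE E U hE n) hML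
    (fun n => (cQ.π.app (op n)).hom s) (fun n => cone_compat _ cQ s n)
  obtain ⟨y, hy⟩ := exists_of_compatible (TE E ⋙ Γ R U) cT hcT t ht1
  refine ⟨y, ?_⟩
  refine ext_of_limit (QE E ⋙ Γ R U) cQ hcQ _ _ (fun n => ?_)
  rw [← ht2 n, ← hy n]
  have h0 : lim.map (pE E) ≫ limit.π (QE E) (op n) = limit.π (TE E) (op n) ≫ (pE E).app (op n) :=
    limMap_π _ _
  have h1 := congrArg (fun k => ((Γ R U).map k).hom y) h0
  simp only [Functor.map_comp] at h1
  exact h1

/-- `lim` of the quotient map is an epimorphism. -/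
lemma epi_lim_pE (B : Set C)
    (hB : ∀ U : C, ∃ (ι : Type u) (Y : ι → C) (g : ∀ i, Y i ⟶ U),
      Sieve.ofArrows Y g ∈ J U ∧ ∀ i, Y i ∈ B)
    (hE : ∀ U ∈ B, ∀ n, AcycOn U ((SheafOfModules.toSheaf R).obj (E.obj (op n))))
    (hML : ∀ U ∈ B, ((E ⋙ Γ R U) ⋙ forget AddCommGrpCat.{u}).IsMittagLeffler) :
    Epi (lim.map (pE E)) := by
  haveI : (SheafOfModules.toSheaf.{u} R).ReflectsEpimorphisms :=
    Functor.reflectsEpimorphisms_of_faithful _
  apply (SheafOfModules.toSheaf.{u} R).epi_of_epi_map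
  refine (Sheaf.isLocallySurjective_iff_epi' AddCommGrpCat.{u} _).1 ⟨fun {V} s => ?_⟩
  obtain ⟨ι, Yc, g, hcov, hYB⟩ := hB V
  refine J.superset_covering ?_ hcov
  intro W k hk
  obtain ⟨W', k', m, ⟨i⟩, rfl⟩ := hk
  apply Sieve.downward_closed
  obtain ⟨t, ht⟩ := surjective_lim_pE E (Yc i) (hE _ (hYB i)) (hML _ (hYB i))
    ((((SheafOfModules.toSheaf R).obj (limit (QE E))).obj.map (g i).op).hom s)
  exact ⟨t, ht⟩

end Tower

section Main

variable (R)

/-- the class of towers which are acyclic and Mittag-Leffler on `B`. -/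
def PB (B : Set C) (E : ℕᵒᵖ ⥤ SheafOfModules.{u} R) : Prop :=
  (∀ U ∈ B, ∀ n, AcycOn U ((SheafOfModules.toSheaf R).obj (E.obj (op n)))) ∧
    ∀ U ∈ B, ((E ⋙ Γ R U) ⋙ forget AddCommGrpCat.{u}).IsMittagLeffler

lemma PB_QE (B : Set C) (E : ℕᵒᵖ ⥤ SheafOfModules.{u} R)
    (hE : ∀ U ∈ B, ∀ n, AcycOn U ((SheafOfModules.toSheaf R).obj (E.obj (op n)))) :
    PB R B (QE E) :=
  ⟨fun U hU n => acyc_QE E U (hE U hU) n, fun U hU => isMittagLeffler_QE E U (hE U hU)⟩

theorem main (B : Set C)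
    (hB : ∀ U : C, ∃ (ι : Type u) (Y : ι → C) (g : ∀ i, Y i ⟶ U),
      Sieve.ofArrows Y g ∈ J U ∧ ∀ i, Y i ∈ B)
    [(lim : (ℕᵒᵖ ⥤ SheafOfModules.{u} R) ⥤ SheafOfModules.{u} R).Additive]
    [EnoughInjectives (ℕᵒᵖ ⥤ SheafOfModules.{u} R)]
    (E : ℕᵒᵖ ⥤ SheafOfModules.{u} R)
    (hE : ∀ U ∈ B, ∀ n, AcycOn U ((SheafOfModules.toSheaf R).obj (E.obj (op n)))) :
    (∀ i : ℕ, IsZero (((lim : (ℕᵒᵖ ⥤ SheafOfModules.{u} R) ⥤ SheafOfModules.{u} R).rightDerived
      (i + 2)).obj E)) ∧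
    ((∀ U ∈ B, ((E ⋙ Γ R U) ⋙ forget AddCommGrpCat.{u}).IsMittagLeffler) →
      ∀ i : ℕ, IsZero (((lim : (ℕᵒᵖ ⥤ SheafOfModules.{u} R) ⥤
        SheafOfModules.{u} R).rightDerived (i + 1)).obj E)) := by
  have key := isZero_rightDerived_succ'
    (lim : (ℕᵒᵖ ⥤ SheafOfModules.{u} R) ⥤ SheafOfModules.{u} R) (PB R B)
    (fun E' hE' => ⟨TE E', QE E', iE E', pE E', iE_pE E', SC_shortExact E', inferInstance,
      PB_QE R B E' hE'.1, epi_lim_pE E' B hB hE'.1 hE'.2⟩)
  refine ⟨fun i => ?_, fun hML i => key i E ⟨hE, hML⟩⟩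
  exact isZero_rightDerived_succ_succ' _ (iE E) (pE E) (iE_pE E) (SC_shortExact E)
    (fun i => key i (QE E) (PB_QE R B E hE)) i

end Main

end Sheaf

end

end Groth.Agent.Lib.Helper5.TowerLimML
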