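import Groth.Agent.Lib.Helper5.DHomCoprod
import Groth.Prelude.Def_DerLim
import Mathlib.Algebra.Homology.DerivedCategory.TStructure
import Mathlib.Algebra.Homology.DerivedCategory.SingleTriangle

/-!
# Vanishing of maps out of a sheaf via an infinite left resolution (helper5)

* `eq_zero_of_tower`: abstract tower lemma in a pretriangulated category.
* `isIso_one_sub_shiftMap`: in `D(A)`, `1 - shift` on `∐ y` is invertible when the transition maps
  vanish on homology.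
* `eq_zero_of_resolution`: if `0 → M (n+1) → P n → M n → 0` are short exact and
  `Hom(P n [0], K[i]) = 0` for all `i < 0`, then `Hom(M 0 [0], K[i]) = 0` for all `i < 0`.
-/

set_option autoImplicit false
universe w v u
open CategoryTheory CategoryTheory.Limits CategoryTheory.Pretriangulated

namespace Groth.Agent.Lib.Helper5.TowerVanish

section Abstract

variable {D : Type*} [Category D] [Preadditive D] [HasZeroObject D] [HasShift D ℤ]
  [∀ n : ℤ, (shiftFunctor D n).Additive] [Pretriangulated D]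

omit [HasZeroObject D] [HasShift D ℤ] [∀ n : ℤ, (shiftFunctor D n).Additive] [Pretriangulated D] in
lemma eq_zero_of_tower (y : ℕ → D) (φ : ∀ n, y n ⟶ y (n + 1)) [HasCoproduct y]
    (hiso : IsIso (𝟙 (∐ y) - DerLim.shiftMap y φ)) (K' : D)
    (hext : ∀ (n : ℕ) (x : y n ⟶ K'), ∃ x' : y (n + 1) ⟶ K', φ n ≫ x' = x)
    (x : y 0 ⟶ K') : x = 0 := by
  choose ext hext using hext
  let xs : ∀ n, y n ⟶ K' := fun n => Nat.rec x (fun n xn => ext n xn) n
  have hxs : ∀ n, φ n ≫ xs (n + 1) = xs n := fun n => hext n (xs n)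
  let X : ∐ y ⟶ K' := Sigma.desc xs
  have h1 : (𝟙 _ - DerLim.shiftMap y φ) ≫ X = 0 := by
    apply Sigma.hom_ext
    intro n
    rw [Preadditive.sub_comp, Preadditive.comp_sub, Category.id_comp, comp_zero]
    dsimp only [DerLim.shiftMap, X]
    rw [Sigma.ι_desc, ← Category.assoc, Sigma.ι_desc, Category.assoc, Sigma.ι_desc, hxs, sub_self]
  have hX : X = 0 := by
    rw [← cancel_epi (𝟙 (∐ y) - DerLim.shiftMap y φ), h1, comp_zero]
  have h2 : x = Sigma.ι y 0 ≫ X := by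
    dsimp only [X]
    rw [Sigma.ι_desc]
    rfl
  rw [h2, hX, comp_zero]

lemma exists_ext_of_triangle (T : Triangle D) (hT : T ∈ distTriang D) (K' : D)
    (h0 : ∀ a : T.obj₁ ⟶ K', a = 0) (x : T.obj₂ ⟶ K') :
    ∃ x' : T.obj₃ ⟶ K', T.mor₂ ≫ x' = x := by
  obtain ⟨g, hg⟩ := Triangle.yoneda_exact₂ T hT x (h0 _)
  exact ⟨g, hg.symm⟩

omit [HasZeroObject D] [Pretriangulated D] in
/-- vanishing of maps transported through shifts -/
lemma eq_zero_of_shift (b K : D) (i' n i : ℤ) (h : i' + n = i)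
    (h0 : ∀ t : b ⟶ K⟦i'⟧, t = 0) (t : b⟦n⟧ ⟶ K⟦i⟧) : t = 0 := by
  obtain ⟨s, hs⟩ := (shiftFunctor D n).map_surjective (t ≫ (shiftFunctorAdd' D i' n i h).hom.app K)
  rw [h0 s, Functor.map_zero] at hs
  have := congrArg (fun m => m ≫ (shiftFunctorAdd' D i' n i h).inv.app K) hs
  simpa using this.symm

/-- one step of the tower -/
lemma exists_step (T : Triangle D) (hT : T ∈ distTriang D) (n m : ℤ) (h : 1 + n = m) :
    ∃ φ : T.obj₃⟦n⟧ ⟶ T.obj₁⟦m⟧, ∀ (K' : D), (∀ t : T.obj₂⟦n⟧ ⟶ K', t = 0) →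
      ∀ x : T.obj₃⟦n⟧ ⟶ K', ∃ x' : T.obj₁⟦m⟧ ⟶ K', φ ≫ x' = x := by
  have hT' := Triangle.shift_distinguished _ (rot_of_distTriang _ hT) n
  let ψ : T.obj₃⟦n⟧ ⟶ (T.obj₁⟦(1 : ℤ)⟧)⟦n⟧ := ((Triangle.shiftFunctor D n).obj T.rotate).mor₂
  refine ⟨ψ ≫ (shiftFunctorAdd' D 1 n m h).inv.app T.obj₁, fun K' h0 x => ?_⟩
  obtain ⟨g, hg⟩ : ∃ g : (T.obj₁⟦(1 : ℤ)⟧)⟦n⟧ ⟶ K', ψ ≫ g = x :=
    exists_ext_of_triangle _ hT' K' h0 x
  refine ⟨(shiftFunctorAdd' D 1 n m h).hom.app T.obj₁ ≫ g, ?_⟩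
  rw [Category.assoc, Iso.inv_hom_id_app_assoc]
  exact hg

end Abstract

section Derived

variable {A : Type u} [Category.{v} A] [Abelian A] [HasDerivedCategory.{w} A]

open DerivedCategory

lemma isIso_one_sub_shiftMap (y : ℕ → DerivedCategory A) (φ : ∀ n, y n ⟶ y (n + 1))
    [HasCoproduct y]
    [∀ j : ℤ, PreservesColimitsOfShape (Discrete ℕ) (homologyFunctor A j)]
    (h : ∀ (j : ℤ) (n : ℕ), (homologyFunctor A j).map (φ n) = 0) :
    IsIso (𝟙 (∐ y) - DerLim.shiftMap y φ) := by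
  rw [DerivedCategory.isIso_iff]
  intro j
  have h0 : (homologyFunctor A j).map (DerLim.shiftMap y φ) = 0 := by
    have hc := isColimitOfPreserves (homologyFunctor A j) (coproductIsCoproduct y)
    apply hc.hom_ext
    rintro ⟨n⟩
    change (homologyFunctor A j).map (Sigma.ι y n) ≫ _ = _ ≫ 0
    rw [comp_zero, ← Functor.map_comp]
    dsimp only [DerLim.shiftMap]
    rw [Sigma.ι_desc, Functor.map_comp, h, zero_comp]
  rw [Functor.map_sub, h0, sub_zero, CategoryTheory.Functor.map_id]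
  infer_instance

/-- transition maps between objects concentrated in different degrees vanish on homology -/
lemma homology_map_eq_zero {X Y : DerivedCategory A} (f : X ⟶ Y) (a b : ℤ) (hab : a ≠ b)
    [X.IsGE a] [X.IsLE a] [Y.IsGE b] [Y.IsLE b] (j : ℤ) :
    (homologyFunctor A j).map f = 0 := by
  by_cases hj : j = a
  · have hjb : j ≠ b := by rw [hj]; exact hab
    have hz : IsZero ((homologyFunctor A j).obj Y) := by
      rcases lt_or_gt_of_ne hjb with h | h
      · exact isZero_of_isGE Y b j h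
      · exact isZero_of_isLE Y b j h
    exact hz.eq_of_tgt _ _
  · have hz : IsZero ((homologyFunctor A j).obj X) := by
      rcases lt_or_gt_of_ne hj with h | h
      · exact isZero_of_isGE X a j h
      · exact isZero_of_isLE X a j h
    exact hz.eq_of_src _ _

/-- If `0 → M (n+1) → P n → M n → 0` are short exact and `Hom(P n [0], K[i]) = 0` for all `i < 0`,
then `Hom(M 0 [0], K[i]) = 0` for all `i < 0`. -/
theorem eq_zero_of_resolution [HasColimitsOfShape (Discrete ℕ) (DerivedCategory A)]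
    [∀ j : ℤ, PreservesColimitsOfShape (Discrete ℕ) (homologyFunctor A j)]
    (M P : ℕ → A) (f : ∀ n, M (n + 1) ⟶ P n) (g : ∀ n, P n ⟶ M n) (w : ∀ n, f n ≫ g n = 0)
    (hS : ∀ n, (ShortComplex.mk (f n) (g n) (w n)).ShortExact)
    (K : DerivedCategory A)
    (hP : ∀ (n : ℕ) (i : ℤ), i < 0 → ∀ t : (singleFunctor A 0).obj (P n) ⟶ K⟦i⟧, t = 0)
    (i : ℤ) (hi : i < 0) (x : (singleFunctor A 0).obj (M 0) ⟶ K⟦i⟧) : x = 0 := by
  let y : ℕ → DerivedCategory A := fun n => ((singleFunctor A 0).obj (M n))⟦(n : ℤ)⟧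
  have step : ∀ n : ℕ, ∃ φ : y n ⟶ y (n + 1), ∀ (K' : DerivedCategory A),
      (∀ t : ((singleFunctor A 0).obj (P n))⟦(n : ℤ)⟧ ⟶ K', t = 0) →
        ∀ x : y n ⟶ K', ∃ x' : y (n + 1) ⟶ K', φ ≫ x' = x := fun n =>
    exists_step (hS n).singleTriangle (hS n).singleTriangle_distinguished (n : ℤ)
      ((n + 1 : ℕ) : ℤ) (by push_cast; omega)
  choose φ hφ using step
  have hle : ∀ n : ℕ, (y n).IsLE (-(n : ℤ)) := fun n =>
    TStructure.t.isLE_shift ((singleFunctor A 0).obj (M n)) 0 (n : ℤ) (-(n : ℤ)) (by omega)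
  have hge : ∀ n : ℕ, (y n).IsGE (-(n : ℤ)) := fun n =>
    TStructure.t.isGE_shift ((singleFunctor A 0).obj (M n)) 0 (n : ℤ) (-(n : ℤ)) (by omega)
  have h : ∀ (j : ℤ) (n : ℕ), (homologyFunctor A j).map (φ n) = 0 := fun j n => by
    haveI := hle n
    haveI := hge n
    haveI := hle (n + 1)
    haveI := hge (n + 1)
    exact homology_map_eq_zero (φ n) (-(n : ℤ)) (-((n + 1 : ℕ) : ℤ)) (by push_cast; omega) j
  have hiso := isIso_one_sub_shiftMap y φ h
  have hext : ∀ (n : ℕ) (x : y n ⟶ K⟦i⟧), ∃ x' : y (n + 1) ⟶ K⟦i⟧, φ n ≫ x' = x := fun n x =>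
    hφ n (K⟦i⟧) (eq_zero_of_shift _ K (i - n) n i (by omega) (hP n (i - n) (by omega))) x
  have h0 := eq_zero_of_tower y φ hiso (K⟦i⟧) hext
    ((shiftFunctorZero' (DerivedCategory A) ((0 : ℕ) : ℤ) (by simp)).hom.app _ ≫ x)
  have := congrArg (fun m => (shiftFunctorZero' (DerivedCategory A) ((0 : ℕ) : ℤ)
    (by simp)).inv.app _ ≫ m) h0
  simpa using this

end Derived

end Groth.Agent.Lib.Helper5.TowerVanish
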