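import Groth.Agent.Lib.Helper5.HomQGamma
import Groth.Agent.Lib.Helper5.DerivedLES2
import Groth.Agent.Lib.Helper5.EtaleLocSupp

/-!
# Helper5: the long exact sequence of a triple `Z ⊆ Y ⊆ X` for cohomology with supports
-/

set_option autoImplicit false
universe u
open CategoryTheory CategoryTheory.Limits AlgebraicGeometry Opposite EtCore

namespace Groth.Agent.Lib.Helper5.TripleLES

open Groth.Agent.Lib.Helper2.EtMV Groth.Agent.Lib.Helper5.DepthHpull
open Groth.Agent.Lib.Helper15.GammaSupp Groth.Agent.Lib.Helper2.GSS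
open Groth.Agent.Lib.Helper13.DerivedCommute Groth.Agent.Lib.Helper5.HomQGamma
open Groth.Agent.Lib.Helper13

set_option backward.isDefEq.respectTransparency.types false

section Surj

variable {U X : Scheme.{u}} (j : U ⟶ X) [IsOpenImmersion j]

/-- for an injective sheaf, the unit `I(X) → (j_* j^* I)(X)` is surjective. -/
lemma surjective_unit_of_injective (I : EtCoh.Ab X) [Injective I] :
    Function.Surjective ((EtDual.unitApp j I).hom.app (op (EtCoh.top X))) := by
  intro t
  obtain ⟨χ, hχ⟩ := (σ ((EtCoh.push j).obj ((EtCoh.pull j).obj I))).surjective t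
  obtain ⟨ψ', hψ'⟩ := ((EtCoh.pullPushAdj j).homEquiv (EtCoh.const X ℤ) ((EtCoh.pull j).obj I)).surjective χ
  obtain ⟨ψ, hψ⟩ := ((adjJ j).homEquiv (EtCoh.const U ℤ) I).surjective ((pullConst j ℤ).inv ≫ ψ')
  have hφ : aMap j ≫ Injective.factorThru ψ (aMap j) = ψ := Injective.comp_factorThru ψ (aMap j)
  generalize Injective.factorThru ψ (aMap j) = φ at hφ
  refine ⟨σ I φ, ?_⟩
  have h2 : (adjJ j).homEquiv _ _ (aMap j ≫ φ) = (pullConst j ℤ).inv ≫ (EtCoh.pull j).map φ := by
    rw [Adjunction.homEquiv_naturality_right, homEquiv_aMap]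
  rw [hφ, hψ] at h2
  have h3 : ψ' = (EtCoh.pull j).map φ := (cancel_epi (pullConst j ℤ).inv).1 h2
  have h5 : (EtCoh.pullPushAdj j).homEquiv _ _ ((EtCoh.pull j).map φ) =
      φ ≫ EtDual.unitApp j I := by
    rw [Adjunction.homEquiv_unit]
    exact ((EtCoh.pullPushAdj j).unit.naturality φ).symm
  rw [← hχ, ← hψ', h3, h5, σ_naturality]

/-- for an injective sheaf, restriction to an open subscheme is surjective on global sections. -/
lemma surjective_restr_of_injective (I : EtCoh.Ab X) [Injective I] :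
    Function.Surjective (I.obj.map (rho j).op) := by
  have h1 := Adjunction.unit_leftAdjointUniq_hom_app (EtCoh.pullPushAdj j)
    (EtaleRestr.restrPushAdj j) I
  have h2 : ((EtaleRestr.restrPushAdj j).unit.app I).hom.app (op (EtCoh.top X)) =
      I.obj.map ((EtaleRestr.adjSites j).counit.app (EtCoh.top X)).op := by
    simp [EtaleRestr.restrPushAdj]
  have hbij := bijective_app_of_isIso ((EtCoh.push j).map
    (((EtCoh.pullPushAdj j).leftAdjointUniq (EtaleRestr.restrPushAdj j)).hom.app I)) (EtCoh.top X)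
  obtain ⟨a, ha⟩ : ∃ a : (EtShriek.compEtale j).obj ((EtCoh.bc j).obj (EtCoh.top X)) ⟶
      Scheme.Etale.mk j, a.left = pullback.snd (EtCoh.top X).hom j :=
    ⟨MorphismProperty.Over.homMk (pullback.snd (EtCoh.top X).hom j) rfl trivial, rfl⟩
  obtain ⟨b, hb'⟩ : ∃ b : Scheme.Etale.mk j ⟶
      (EtShriek.compEtale j).obj ((EtCoh.bc j).obj (EtCoh.top X)),
      b.left = pullback.lift j (𝟙 U) ((Category.comp_id j).trans (Category.id_comp j).symm) :=
    ⟨MorphismProperty.Over.homMk
      (pullback.lift j (𝟙 U) ((Category.comp_id j).trans (Category.id_comp j).symm)) (by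
        show pullback.lift j (𝟙 U) _ ≫ pullback.snd (EtCoh.top X).hom j ≫ j = j
        exact (Category.assoc _ _ _).symm.trans
          ((congrArg (· ≫ j) (pullback.lift_snd _ _ _)).trans (Category.id_comp j))) trivial, rfl⟩
  have hb : b ≫ (EtaleRestr.adjSites j).counit.app (EtCoh.top X) = rho j :=
    (EtCore.topIsTerminal X).hom_ext _ _
  have hba : b ≫ a = 𝟙 _ := by
    apply MorphismProperty.Over.Hom.ext
    change b.left ≫ a.left = 𝟙 U
    rw [ha, hb']
    exact pullback.lift_snd _ _ _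
  intro t
  obtain ⟨t', ht'⟩ := hbij.2 (I.obj.map a.op t)
  obtain ⟨s, hs⟩ := surjective_unit_of_injective j I t'
  refine ⟨s, ?_⟩
  have h3 := congrArg (fun m => m.hom.app (op (EtCoh.top X)) s) h1
  have h4 : I.obj.map ((EtaleRestr.adjSites j).counit.app (EtCoh.top X)).op s = I.obj.map a.op t := by
    rw [← h2, ← ht', ← hs]
    exact h3.symm
  rw [← hb, Groth.Agent.S0728.map_comp_apply, h4, ← Groth.Agent.S0728.map_comp_apply, hba]
  simp

end Surj

section Functors

variable {X : Scheme.{u}}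

instance kerSec_additive {V W : X.Etale} (ρ : V ⟶ W) : (kerSec ρ).Additive where
  map_add {F G α β} := by
    ext ⟨s, hs⟩
    rfl

lemma kerSec_map_val {V W : X.Etale} (ρ : V ⟶ W) {F G : EtCoh.Ab X} (α : F ⟶ G)
    (s : (kerSec ρ).obj F) : ((kerSec ρ).map α s).1 = α.hom.app (op W) s.1 := rfl

/-- restriction of sections induces a map on kernels of restriction maps. -/
noncomputable def kerSecRes {V W V' W' : X.Etale} (ρ : V ⟶ W) (ρ' : V' ⟶ W') (φ : W' ⟶ W)
    (e : V' ⟶ V) (h : e ≫ ρ = ρ' ≫ φ) : kerSec ρ ⟶ kerSec ρ' where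
  app F := AddCommGrpCat.ofHom
    (((F.obj.map φ.op).hom.comp (F.obj.map ρ.op).hom.ker.subtype).codRestrict
      (F.obj.map ρ'.op).hom.ker (fun s => by
        rw [AddMonoidHom.mem_ker]
        change F.obj.map ρ'.op (F.obj.map φ.op s.1) = 0
        rw [← Groth.Agent.S0728.map_comp_apply, ← h, Groth.Agent.S0728.map_comp_apply]
        have := (AddMonoidHom.mem_ker).1 s.2
        change F.obj.map e.op ((F.obj.map ρ.op) s.1) = 0
        rw [show (F.obj.map ρ.op) s.1 = 0 from this]
        exact map_zero _))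
  naturality F G α := by
    ext ⟨s, hs⟩
    apply Subtype.ext
    change G.obj.map φ.op (α.hom.app (op W) s) = α.hom.app (op W') (F.obj.map φ.op s)
    exact (NatTrans.naturality_apply α.hom φ.op s).symm

lemma kerSecRes_val {V W V' W' : X.Etale} (ρ : V ⟶ W) (ρ' : V' ⟶ W') (φ : W' ⟶ W)
    (e : V' ⟶ V) (h : e ≫ ρ = ρ' ≫ φ) (F : EtCoh.Ab X) (s : (kerSec ρ).obj F) :
    (((kerSecRes ρ ρ' φ e h).app F) s).1 = F.obj.map φ.op s.1 := rfl

end Functors

section Triple

variable {X X' U : Scheme.{u}} (j : U ⟶ X) [IsOpenImmersion j] (k' : X' ⟶ X) [IsOpenImmersion k']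
  (j' : U ⟶ X') [IsOpenImmersion j'] (hfac : j' ≫ k' = j)

/-- `U → X'` over `X`. -/
noncomputable def τ : Scheme.Etale.mk j ⟶ Scheme.Etale.mk k' :=
  MorphismProperty.Over.homMk j' hfac trivial

/-- the restriction `(U → X' → X) ⟶ (X' → X)` in the small étale site of `X`. -/
noncomputable abbrev τ' : (EtShriek.compEtale k').obj (Scheme.Etale.mk j') ⟶
    (EtShriek.compEtale k').obj (EtCoh.top X') :=
  (EtShriek.compEtale k').map (rho j')

noncomputable def e₂ : (EtShriek.compEtale k').obj (Scheme.Etale.mk j') ⟶ Scheme.Etale.mk j :=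
  MorphismProperty.Over.homMk (𝟙 U) ((Category.id_comp j).trans hfac.symm) trivial

noncomputable def e₂' : Scheme.Etale.mk j ⟶ (EtShriek.compEtale k').obj (Scheme.Etale.mk j') :=
  MorphismProperty.Over.homMk (𝟙 U) ((Category.id_comp _).trans hfac) trivial

noncomputable def e₁ : (EtShriek.compEtale k').obj (EtCoh.top X') ⟶ Scheme.Etale.mk k' :=
  MorphismProperty.Over.homMk (𝟙 X') rfl trivial

noncomputable def e₁' : Scheme.Etale.mk k' ⟶ (EtShriek.compEtale k').obj (EtCoh.top X') :=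
  MorphismProperty.Over.homMk (𝟙 X') rfl trivial

lemma e₁_e₁' : e₁ k' ≫ e₁' k' = 𝟙 _ := by
  apply MorphismProperty.Over.Hom.ext
  change 𝟙 X' ≫ 𝟙 X' = 𝟙 X'
  exact Category.id_comp _

/-- `Γ_Z(X, -) ⟶ Γ_Y(X, -)`. -/
noncomputable def α : kerSec (rho k') ⟶ kerSec (rho j) :=
  kerSecRes (rho k') (rho j) (𝟙 _) (τ j k' j' hfac) ((EtCore.topIsTerminal X).hom_ext _ _)

/-- `Γ_Y(X, -) ⟶ Γ_{Y ∩ X'}(X', -|X')`. -/
noncomputable def β : kerSec (rho j) ⟶ kerSec (τ' k' j') :=
  kerSecRes (rho j) (τ' k' j') (phi k') (e₂ j k' j' hfac) ((EtCore.topIsTerminal X).hom_ext _ _)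

lemma α_val (F : EtCoh.Ab X) (s : (kerSec (rho k')).obj F) :
    (((α j k' j' hfac).app F) s).1 = s.1 := by
  change F.obj.map (𝟙 (EtCoh.top X)).op s.1 = s.1
  simp

lemma β_val (F : EtCoh.Ab X) (s : (kerSec (rho j)).obj F) :
    (((β j k' j' hfac).app F) s).1 = F.obj.map (phi k').op s.1 := rfl

lemma αβ (F : EtCoh.Ab X) : (α j k' j' hfac).app F ≫ (β j k' j' hfac).app F = 0 := by
  ext s
  apply Subtype.ext
  change (((β j k' j' hfac).app F) (((α j k' j' hfac).app F) s)).1 = 0
  rw [β_val, α_val]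
  have h1 : phi k' = e₁ k' ≫ rho k' := (EtCore.topIsTerminal X).hom_ext _ _
  rw [h1, Groth.Agent.S0728.map_comp_apply]
  have := (AddMonoidHom.mem_ker).1 s.2
  rw [show (F.obj.map (rho k').op) s.1 = 0 from this]
  exact map_zero _

lemma shortExact_of_surjective (F : EtCoh.Ab X)
    (hsurj : Function.Surjective (F.obj.map (rho k').op)) :
    (ShortComplex.mk ((α j k' j' hfac).app F) ((β j k' j' hfac).app F) (αβ j k' j' hfac F)).ShortExact := by
  have hex : (ShortComplex.mk ((α j k' j' hfac).app F) ((β j k' j' hfac).app F)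
      (αβ j k' j' hfac F)).Exact := by
    rw [ShortComplex.ab_exact_iff]
    intro s hs
    have hs' : F.obj.map (phi k').op s.1 = 0 := by
      have := congrArg Subtype.val hs
      exact this
    have h1 : rho k' = e₁' k' ≫ phi k' := (EtCore.topIsTerminal X).hom_ext _ _
    have h2 : F.obj.map (rho k').op s.1 = 0 := by
      rw [h1, Groth.Agent.S0728.map_comp_apply, hs']
      exact map_zero _
    refine ⟨⟨s.1, (AddMonoidHom.mem_ker).2 h2⟩, ?_⟩
    apply Subtype.ext
    exact α_val j k' j' hfac F _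
  haveI : Mono ((α j k' j' hfac).app F) := by
    rw [AddCommGrpCat.mono_iff_injective]
    intro s t hst
    apply Subtype.ext
    have := congrArg Subtype.val hst
    rwa [α_val, α_val] at this
  haveI : Epi ((β j k' j' hfac).app F) := by
    rw [AddCommGrpCat.epi_iff_surjective]
    intro t
    have h1 : phi k' = e₁ k' ≫ rho k' := (EtCore.topIsTerminal X).hom_ext _ _
    obtain ⟨s, hs⟩ := hsurj (F.obj.map (e₁' k').op t.1)
    have hs2 : F.obj.map (phi k').op s = t.1 := by
      rw [h1, Groth.Agent.S0728.map_comp_apply, hs, ← Groth.Agent.S0728.map_comp_apply, e₁_e₁']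
      simp
    have h3 : rho j = e₂' j k' j' hfac ≫ τ' k' j' ≫ phi k' := (EtCore.topIsTerminal X).hom_ext _ _
    have hs3 : F.obj.map (rho j).op s = 0 := by
      rw [h3, Groth.Agent.S0728.map_comp_apply, Groth.Agent.S0728.map_comp_apply, hs2]
      have := (AddMonoidHom.mem_ker).1 t.2
      rw [show (F.obj.map (τ' k' j').op) t.1 = 0 from this]
      exact map_zero _
    refine ⟨⟨s, (AddMonoidHom.mem_ker).2 hs3⟩, ?_⟩
    apply Subtype.ext
    exact hs2
  exact ShortComplex.ShortExact.mk hex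

include hfac in
open Groth.Agent.Lib.Helper5.EtaleLocSupp in
/-- If `H^p_Z(X, F) = 0 = H^{p+1}_Z(X, F)` then `H^p_Y(X, F) ≅ H^p_{Y ∖ Z}(X ∖ Z, F)`. -/
theorem nonempty_HY_iso (F : EtCoh.Ab X) (p : ℕ)
    (h1 : IsZero ((EtDual.HY k' p).obj F)) (h2 : IsZero ((EtDual.HY k' (p + 1)).obj F)) :
    Nonempty ((EtDual.HY j p).obj F ≅
      (EtDual.HY j' p).obj ((EtShriek.restrAlong k').obj F)) := by
  have z1 : IsZero (((kerSec (rho k')).rightDerived p).obj F) :=
    IsZero.of_iso h1 (rightDerivedObjIsoOfNatIso (gammaSuppIso k').symm p F)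
  have z2 : IsZero (((kerSec (rho k')).rightDerived (p + 1)).obj F) :=
    IsZero.of_iso h2 (rightDerivedObjIsoOfNatIso (gammaSuppIso k').symm (p + 1) F)
  obtain ⟨m⟩ := DerivedLES2.nonempty_midIso (α j k' j' hfac) (β j k' j' hfac)
    (αβ j k' j' hfac)
    (fun I hI => shortExact_of_surjective j k' j' hfac I
      (haveI := hI; surjective_restr_of_injective k' I)) p z1 z2
  exact ⟨(rightDerivedObjIsoOfNatIso (gammaSuppIso j) p F) ≪≫ m ≪≫
    rightDerivedObjIsoOfNatIso (restrKerSecIso k' j').symm p F ≪≫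
    rightDerivedExactCompObjIso (EtShriek.restrAlong k')
      (fun Y hY => (EtShriek.restrAlong k').injective_obj_of_injective hY) (kerSec (rho j')) p F ≪≫
    rightDerivedObjIsoOfNatIso (gammaSuppIso j').symm p ((EtShriek.restrAlong k').obj F)⟩

end Triple

end Groth.Agent.Lib.Helper5.TripleLES
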