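import Groth.Agent.Lib.Helper5.TruncRlim
import Groth.Agent.Lib.Helper5.RlimInjTop
import Groth.Prelude.Def_CohTop

/-!
# Topological version: `E` is the derived limit of its truncations (S0875) (helper5)
-/

set_option autoImplicit false
universe u
open CategoryTheory CategoryTheory.Limits CategoryTheory.Pretriangulated Opposite TopologicalSpace

noncomputable section
namespace Groth.Agent.Lib.Helper5.TruncRlim

open HDULocal DerivedCategory CohCx

variable {X : TopCat.{u}} [HasDerivedCategory.{u} (CohTop.Ab X)]
  (E : DerivedCategory (CohTop.Ab X))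

/-- S0875 in library form -/
theorem isRlimVia_top [HasProduct (truncTower E)]
    (h : ∀ x : X, ∃ p : ℤ → ℤ, ∀ V : Opens X, x ∈ V → ∃ U : Opens X, x ∈ U ∧ U ≤ V ∧
      ∀ (m : ℤ) (k : ℕ), p m < k → Subsingleton (CohTop.HU (CohCx.HD E (m - k)) k U)) :
    CohCx.IsRlimVia (truncTower E) (truncTowerMap E) E (toTruncTower E) := by
  apply isRlimVia_of_mono
  intro M a c hΔ m
  have ha := MilnorSeq.a_comp_t (truncTower E) (truncTowerMap E) M a c hΔ
  haveI : Mono ((homologyFunctor _ m).map (a (-m).toNat)).hom := by
    haveI : ∀ W, Mono (((homologyFunctor _ m).map (a (-m).toNat)).hom.app W) := by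
      intro W
      rw [AddCommGrpCat.mono_iff_injective]
      apply TopCat.Presheaf.app_injective_of_stalkFunctor_map_injective
        (F := (homologyFunctor (CohTop.Ab X) m).obj M)
        ((homologyFunctor _ m).map (a (-m).toNat)).hom W.unop
      intro x hx
      obtain ⟨p, hp⟩ := h x
      obtain ⟨k, hk⟩ : ∃ k, (max (max (p m - m) (-m)) 0).toNat = (-m).toNat + k :=
        Nat.exists_eq_add_of_le (by omega)
      have hk1 : p m - m ≤ (((-m).toNat + k : ℕ) : ℤ) := by rw [← hk]; omega
      have hk2 : -m ≤ (((-m).toNat + k : ℕ) : ℤ) := by rw [← hk]; omega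
      have hinj := RlimInjTop.stalk_injective_rlim (truncTower E) (truncTowerMap E) M a ⟨c, hΔ⟩ x m
        ((-m).toNat + k) (by
          intro V hxV
          obtain ⟨U, hxU, hUV, hvan⟩ := hp V hxV
          exact ⟨U, hxU, hUV,
            limOne_and_inj E U m (p m) (fun k' hk' => hvan m k' hk') _ hk1 hk2⟩)
      haveI := isIso_homology_map_trans E (-m).toNat k m (by omega)
      have hiso : IsIso ((TopCat.Presheaf.stalkFunctor AddCommGrpCat.{u} x).map
          ((homologyFunctor (CohTop.Ab X) m).map
            (MilnorSeq.trans (truncTower E) (truncTowerMap E) (-m).toNat k)).hom) :=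
        inferInstanceAs (IsIso ((sheafToPresheaf _ _ ⋙
          TopCat.Presheaf.stalkFunctor AddCommGrpCat.{u} x).map
            ((homologyFunctor (CohTop.Ab X) m).map
              (MilnorSeq.trans (truncTower E) (truncTowerMap E) (-m).toNat k))))
      have hmono := (ConcreteCategory.bijective_of_isIso
        ((TopCat.Presheaf.stalkFunctor AddCommGrpCat.{u} x).map
          ((homologyFunctor (CohTop.Ab X) m).map
            (MilnorSeq.trans (truncTower E) (truncTowerMap E) (-m).toNat k)).hom)).1
      have hfac : (homologyFunctor (CohTop.Ab X) m).map (a (-m).toNat) =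
          (homologyFunctor _ m).map (a ((-m).toNat + k)) ≫ (homologyFunctor _ m).map
            (MilnorSeq.trans (truncTower E) (truncTowerMap E) (-m).toNat k) := by
        rw [← Functor.map_comp, MilnorSeq.a_comp_trans (truncTower E) (truncTowerMap E) a ha]
      have hfac' : (TopCat.Presheaf.stalkFunctor AddCommGrpCat.{u} x).map
          ((homologyFunctor (CohTop.Ab X) m).map (a (-m).toNat)).hom =
          (TopCat.Presheaf.stalkFunctor AddCommGrpCat.{u} x).map
            ((homologyFunctor (CohTop.Ab X) m).map (a ((-m).toNat + k))).hom ≫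
          (TopCat.Presheaf.stalkFunctor AddCommGrpCat.{u} x).map
            ((homologyFunctor (CohTop.Ab X) m).map
              (MilnorSeq.trans (truncTower E) (truncTowerMap E) (-m).toNat k)).hom := by
        rw [hfac]
        exact (TopCat.Presheaf.stalkFunctor AddCommGrpCat.{u} x).map_comp
          ((homologyFunctor (CohTop.Ab X) m).map (a ((-m).toNat + k))).hom
          ((homologyFunctor (CohTop.Ab X) m).map
            (MilnorSeq.trans (truncTower E) (truncTowerMap E) (-m).toNat k)).hom
      rw [hfac']
      exact hmono.comp hinj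
    exact NatTrans.mono_of_mono_app _
  exact Sheaf.Hom.mono_of_presheaf_mono _ _ _

end Groth.Agent.Lib.Helper5.TruncRlim
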