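import Mathlib

/-!
# Abstract diagram lemmas in abelian categories used for modules of type A
-/

set_option autoImplicit false
open CategoryTheory CategoryTheory.Limits

namespace Groth.Agent.Lib.Helper5.TypeAAbs

variable {𝒜 : Type*} [Category 𝒜] [Abelian 𝒜]

/-- If `q` is a cokernel of `ψ` up to exactness, `ρ` is an epimorphism onto the middle term whose
kernel is generated by `l₀`, and `ψ` lifts through `ρ` after the epimorphism `ρ₁`, then the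
kernel of `ρ ≫ q` is generated by `l₀` and the lift. -/
theorem exact_refine {P₁ P₀ F P₀' L₀ P₁' : 𝒜} (ψ : P₁ ⟶ P₀) (q : P₀ ⟶ F) (w : ψ ≫ q = 0)
    (hex : (ShortComplex.mk ψ q w).Exact) (ρ : P₀' ⟶ P₀) (l₀ : L₀ ⟶ P₀') (w₀ : l₀ ≫ ρ = 0)
    (hex₀ : (ShortComplex.mk l₀ ρ w₀).Exact) (ρ₁ : P₁' ⟶ P₁) [Epi ρ₁] (β₁ : P₁' ⟶ P₀')
    (h : β₁ ≫ ρ = ρ₁ ≫ ψ) :
    ∃ w' : biprod.desc l₀ β₁ ≫ ρ ≫ q = 0,
      (ShortComplex.mk (biprod.desc l₀ β₁) (ρ ≫ q) w').Exact := by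
  have w' : biprod.desc l₀ β₁ ≫ ρ ≫ q = 0 := by
    apply biprod.hom_ext'
    · rw [biprod.inl_desc_assoc, reassoc_of% w₀, zero_comp, comp_zero]
    · rw [biprod.inr_desc_assoc, reassoc_of% h, w, comp_zero, comp_zero]
  refine ⟨w', ?_⟩
  rw [ShortComplex.exact_iff_exact_up_to_refinements]
  intro A (x : A ⟶ P₀') (hx : x ≫ ρ ≫ q = 0)
  obtain ⟨A₁, π₁, hπ₁, (y : A₁ ⟶ P₁), (hy : π₁ ≫ x ≫ ρ = y ≫ ψ)⟩ :=
    hex.exact_up_to_refinements (x ≫ ρ) (by simpa only [Category.assoc] using hx)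
  obtain ⟨A₂, π₂, hπ₂, y', hy'⟩ := surjective_up_to_refinements_of_epi ρ₁ y
  have h0 : (π₂ ≫ π₁ ≫ x - y' ≫ β₁) ≫ ρ = 0 := by
    rw [Preadditive.sub_comp, Category.assoc, Category.assoc, Category.assoc, h,
      ← Category.assoc y', ← hy', Category.assoc, ← hy, sub_self]
  obtain ⟨A₃, π₃, hπ₃, (z : A₃ ⟶ L₀), (hz : π₃ ≫ (π₂ ≫ π₁ ≫ x - y' ≫ β₁) = z ≫ l₀)⟩ :=
    hex₀.exact_up_to_refinements _ h0
  refine ⟨A₃, π₃ ≫ π₂ ≫ π₁, inferInstance, biprod.lift z (π₃ ≫ y'), ?_⟩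
  change (π₃ ≫ π₂ ≫ π₁) ≫ x = biprod.lift z (π₃ ≫ y') ≫ biprod.desc l₀ β₁
  rw [biprod.lift_desc, ← hz, Preadditive.comp_sub]
  simp only [Category.assoc, sub_add_cancel]

lemma lift_map' {A X Y X' Y' : 𝒜} (a : A ⟶ X) (b : A ⟶ Y) (f : X ⟶ X') (g : Y ⟶ Y') :
    biprod.lift a b ≫ biprod.map f g = biprod.lift (a ≫ f) (b ≫ g) := by
  apply biprod.hom_ext <;> simp

theorem kernel_pres_aux {F G P L Q₁ Q₀ : 𝒜} (α : F ⟶ G) (q' : P ⟶ F) [Epi q'] (l : L ⟶ P)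
    (wl : l ≫ q' = 0) (hl : (ShortComplex.mk l q' wl).Exact) (ψ : Q₁ ⟶ Q₀) (p : Q₀ ⟶ G)
    (wp : ψ ≫ p = 0) (hp : (ShortComplex.mk ψ p wp).Exact) (β₀ : P ⟶ Q₀)
    (h : q' ≫ α = β₀ ≫ p) (φ' : P ⊞ Q₁ ⟶ Q₀) (φ'' : L ⊞ Q₁ ⟶ Q₀)
    (hφ'eq : φ' = biprod.fst ≫ β₀ + biprod.snd ≫ ψ)
    (hφ : biprod.map l (𝟙 Q₁) ≫ φ' = φ'') :
    ∃ μ : kernel φ'' ⟶ kernel φ', Nonempty (kernel α ≅ cokernel μ) := by
  have key : ∀ {A : 𝒜} (t : A ⟶ P ⊞ Q₁),
      t ≫ φ' = (t ≫ biprod.fst) ≫ β₀ + (t ≫ biprod.snd) ≫ ψ := by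
    intro A t
    rw [hφ'eq, Preadditive.comp_add, Category.assoc, Category.assoc]
  let μ : kernel φ'' ⟶ kernel φ' :=
    kernel.lift φ' (kernel.ι φ'' ≫ biprod.map l (𝟙 _)) (by rw [Category.assoc, hφ, kernel.condition])
  have hν0 : (kernel.ι φ' ≫ biprod.fst ≫ q') ≫ α = 0 := by
    have h1 := key (kernel.ι φ')
    rw [kernel.condition] at h1
    have h2 : (kernel.ι φ' ≫ biprod.fst) ≫ β₀ = - ((kernel.ι φ' ≫ biprod.snd) ≫ ψ) :=
      eq_neg_of_add_eq_zero_left h1.symm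
    rw [Category.assoc, Category.assoc, h, ← Category.assoc biprod.fst,
      ← Category.assoc (kernel.ι φ'), ← Category.assoc (kernel.ι φ'), h2, Preadditive.neg_comp,
      Category.assoc, wp, comp_zero, neg_zero]
  let ν : kernel φ' ⟶ kernel α := kernel.lift α (kernel.ι φ' ≫ biprod.fst ≫ q') hν0
  have hν : ν ≫ kernel.ι α = kernel.ι φ' ≫ biprod.fst ≫ q' := kernel.lift_ι _ _ _
  have hμ : μ ≫ kernel.ι φ' = kernel.ι φ'' ≫ biprod.map l (𝟙 _) := kernel.lift_ι _ _ _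
  have hμν : μ ≫ ν = 0 := by
    rw [← cancel_mono (kernel.ι α), Category.assoc, hν, ← Category.assoc, hμ, zero_comp,
      Category.assoc, biprod.map_fst_assoc, wl, comp_zero, comp_zero]
  have hepi : Epi ν := by
    rw [epi_iff_surjective_up_to_refinements]
    intro A z
    obtain ⟨A₁, π₁, _, x, hx⟩ := surjective_up_to_refinements_of_epi q' (z ≫ kernel.ι α)
    have h2 : (x ≫ β₀) ≫ p = 0 := by
      rw [Category.assoc, ← h, ← Category.assoc, ← hx, Category.assoc, Category.assoc,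
        kernel.condition, comp_zero, comp_zero]
    obtain ⟨A₂, π₂, _, (y : A₂ ⟶ Q₁), (hy : π₂ ≫ x ≫ β₀ = y ≫ ψ)⟩ :=
      hp.exact_up_to_refinements (x ≫ β₀) h2
    have h3 : biprod.lift (π₂ ≫ x) (-y) ≫ φ' = 0 := by
      rw [key, biprod.lift_fst, biprod.lift_snd, Category.assoc, hy, Preadditive.neg_comp,
        add_neg_cancel]
    refine ⟨A₂, π₂ ≫ π₁, inferInstance, kernel.lift φ' _ h3, ?_⟩
    rw [← cancel_mono (kernel.ι α), Category.assoc, Category.assoc, Category.assoc, hν,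
      kernel.lift_ι_assoc, biprod.lift_fst_assoc, Category.assoc, hx]
  have hex : (ShortComplex.mk μ ν hμν).Exact := by
    rw [ShortComplex.exact_iff_exact_up_to_refinements]
    intro A (n : A ⟶ kernel φ') (hn : n ≫ ν = 0)
    have hx : (n ≫ kernel.ι φ' ≫ biprod.fst) ≫ q' = 0 := by
      have := congrArg (fun t => t ≫ kernel.ι α) hn
      simp only [Category.assoc, hν, zero_comp] at this
      simpa only [Category.assoc] using this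
    obtain ⟨A₁, π₁, _, (x' : A₁ ⟶ L), (hx' : π₁ ≫ n ≫ kernel.ι φ' ≫ biprod.fst = x' ≫ l)⟩ :=
      hl.exact_up_to_refinements _ hx
    have h4 : biprod.lift x' (π₁ ≫ n ≫ kernel.ι φ' ≫ biprod.snd) ≫ φ'' = 0 := by
      rw [← hφ, ← Category.assoc, lift_map', key, biprod.lift_fst, biprod.lift_snd,
        ← hx', Category.comp_id]
      have h5 := key (π₁ ≫ n ≫ kernel.ι φ')
      simp only [Category.assoc, kernel.condition, comp_zero] at h5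
      simpa only [Category.assoc] using h5.symm
    refine ⟨A₁, π₁, inferInstance, kernel.lift φ'' _ h4, ?_⟩
    change π₁ ≫ n = kernel.lift φ'' _ h4 ≫ μ
    rw [← cancel_mono (kernel.ι φ'), Category.assoc, Category.assoc, hμ, kernel.lift_ι_assoc]
    apply biprod.hom_ext
    · simp only [Category.assoc, biprod.map_fst, biprod.lift_fst_assoc, hx']
    · simp only [Category.assoc, biprod.map_snd, biprod.lift_snd, Category.comp_id]
  exact ⟨μ, ⟨IsColimit.coconePointUniqueUpToIso (hex.gIsCokernel) (colimit.isColimit _)⟩⟩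

/-- Presentation of the kernel of a morphism between cokernels, as a cokernel of a map between
kernels of maps of the generators. -/
theorem kernel_pres {F G P L Q₁ Q₀ : 𝒜} (α : F ⟶ G) (q' : P ⟶ F) [Epi q'] (l : L ⟶ P)
    (wl : l ≫ q' = 0) (hl : (ShortComplex.mk l q' wl).Exact) (ψ : Q₁ ⟶ Q₀) (p : Q₀ ⟶ G)
    (wp : ψ ≫ p = 0) (hp : (ShortComplex.mk ψ p wp).Exact) (β₀ : P ⟶ Q₀)
    (h : q' ≫ α = β₀ ≫ p) :
    ∃ μ : kernel (biprod.desc (l ≫ β₀) ψ) ⟶ kernel (biprod.desc β₀ ψ),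
      Nonempty (kernel α ≅ cokernel μ) :=
  kernel_pres_aux α q' l wl hl ψ p wp hp β₀ h _ _
    (by apply biprod.hom_ext' <;> simp) (by apply biprod.hom_ext' <;> simp)

theorem ext_pres_aux {F₁ F₂ F₃ P₁ P₀ R L M : 𝒜} (f : F₁ ⟶ F₂) (g : F₂ ⟶ F₃) [Mono f]
    (wfg : f ≫ g = 0) (hfg : (ShortComplex.mk f g wfg).Exact)
    (ψ₁ : P₁ ⟶ P₀) (q₁ : P₀ ⟶ F₁) [Epi q₁] (w₁ : ψ₁ ≫ q₁ = 0)
    (h₁ : (ShortComplex.mk ψ₁ q₁ w₁).Exact)
    (l : L ⟶ R) (β : R ⟶ F₂) (wl : l ≫ β ≫ g = 0) (hl : (ShortComplex.mk l (β ≫ g) wl).Exact)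
    [Epi (β ≫ g)] (ρ₂ : M ⟶ L) [Epi ρ₂] (β₂ : M ⟶ P₀) (h : ρ₂ ≫ l ≫ β = β₂ ≫ q₁ ≫ f)
    (e : P₀ ⊞ R ⟶ F₂) (κ : P₁ ⊞ M ⟶ P₀ ⊞ R)
    (heeq : e = biprod.fst ≫ q₁ ≫ f + biprod.snd ≫ β)
    (hκ : κ = biprod.desc (ψ₁ ≫ biprod.inl) (biprod.lift (-β₂) (ρ₂ ≫ l))) :
    Nonempty (F₂ ≅ cokernel κ) := by
  have key : ∀ {A : 𝒜} (t : A ⟶ P₀ ⊞ R),
      t ≫ e = (t ≫ biprod.fst) ≫ q₁ ≫ f + (t ≫ biprod.snd) ≫ β := by
    intro A t
    rw [heeq, Preadditive.comp_add, Category.assoc, Category.assoc]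
  have hκe : κ ≫ e = 0 := by
    rw [hκ]
    apply biprod.hom_ext'
    · rw [biprod.inl_desc_assoc, key]
      simp only [Category.assoc, biprod.inl_fst, biprod.inl_snd, Category.comp_id, comp_zero,
        zero_comp, add_zero, reassoc_of% w₁]
    · rw [biprod.inr_desc_assoc, key, biprod.lift_fst, biprod.lift_snd, Preadditive.neg_comp,
        Category.assoc, h, neg_add_cancel, comp_zero]
  have hepi : Epi e := by
    rw [epi_iff_surjective_up_to_refinements]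
    intro A y
    obtain ⟨A₁, π₁, _, x, hx⟩ := surjective_up_to_refinements_of_epi (β ≫ g) (y ≫ g)
    have h0 : (π₁ ≫ y - x ≫ β) ≫ g = 0 := by
      rw [Preadditive.sub_comp, Category.assoc, Category.assoc, hx, sub_self]
    obtain ⟨A₂, π₂, _, (z : A₂ ⟶ F₁), (hz : π₂ ≫ (π₁ ≫ y - x ≫ β) = z ≫ f)⟩ :=
      hfg.exact_up_to_refinements _ h0
    obtain ⟨A₃, π₃, _, z', hz'⟩ := surjective_up_to_refinements_of_epi q₁ z
    refine ⟨A₃, π₃ ≫ π₂ ≫ π₁, inferInstance, biprod.lift z' (π₃ ≫ π₂ ≫ x), ?_⟩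
    rw [key, biprod.lift_fst, biprod.lift_snd, ← Category.assoc z', ← hz', Category.assoc π₃ z,
      ← hz, Preadditive.comp_sub, Preadditive.comp_sub]
    simp only [Category.assoc, sub_add_cancel]
  have hex : (ShortComplex.mk κ e hκe).Exact := by
    rw [ShortComplex.exact_iff_exact_up_to_refinements]
    intro A (v : A ⟶ P₀ ⊞ R) (hv : v ≫ e = 0)
    have hv' : (v ≫ biprod.fst) ≫ q₁ ≫ f + (v ≫ biprod.snd) ≫ β = 0 := by
      rw [← key]; exact hv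
    have hy : (v ≫ biprod.snd) ≫ β ≫ g = 0 := by
      have := congrArg (fun t => t ≫ g) hv'
      simp only [Preadditive.add_comp, Category.assoc, wfg, comp_zero, zero_comp, zero_add] at this
      simpa only [Category.assoc] using this
    obtain ⟨A₁, π₁, _, (y' : A₁ ⟶ L), (hy' : π₁ ≫ v ≫ biprod.snd = y' ≫ l)⟩ :=
      hl.exact_up_to_refinements _ hy
    obtain ⟨A₂, π₂, _, y'', hy''⟩ := surjective_up_to_refinements_of_epi ρ₂ y'
    have hx₂ : (π₂ ≫ π₁ ≫ v ≫ biprod.fst + y'' ≫ β₂) ≫ q₁ = 0 := by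
      rw [← cancel_mono f, zero_comp, Category.assoc, Preadditive.add_comp, Category.assoc y'',
        ← h, ← Category.assoc y'', ← hy'', Category.assoc π₂ y', ← Category.assoc y',
        ← hy']
      have := congrArg (fun t => π₂ ≫ π₁ ≫ t) hv'
      simp only [comp_zero, Preadditive.comp_add] at this
      simpa only [Category.assoc] using this
    obtain ⟨A₃, π₃, _, (x' : A₃ ⟶ P₁),
      (hx' : π₃ ≫ (π₂ ≫ π₁ ≫ v ≫ biprod.fst + y'' ≫ β₂) = x' ≫ ψ₁)⟩ :=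
      h₁.exact_up_to_refinements _ hx₂
    refine ⟨A₃, π₃ ≫ π₂ ≫ π₁, inferInstance, biprod.lift x' (π₃ ≫ y''), ?_⟩
    change (π₃ ≫ π₂ ≫ π₁) ≫ v = biprod.lift x' (π₃ ≫ y'') ≫ κ
    rw [hκ, biprod.lift_desc]
    apply biprod.hom_ext
    · simp only [Category.assoc, Preadditive.add_comp, biprod.inl_fst, biprod.lift_fst,
        Category.comp_id, Preadditive.comp_neg]
      rw [← hx', Preadditive.comp_add]
      simp only [Category.assoc, add_neg_cancel_right]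
    · simp only [Category.assoc, Preadditive.add_comp, biprod.inl_snd, comp_zero, zero_add,
        biprod.lift_snd]
      rw [← Category.assoc y'', ← hy'', Category.assoc, ← hy']
  exact ⟨IsColimit.coconePointUniqueUpToIso (hex.gIsCokernel) (colimit.isColimit _)⟩

/-- Presentation of the middle term of a short exact sequence from presentations of the outer
terms. -/
theorem ext_pres {F₁ F₂ F₃ P₁ P₀ R L M : 𝒜} (f : F₁ ⟶ F₂) (g : F₂ ⟶ F₃) [Mono f]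
    (wfg : f ≫ g = 0) (hfg : (ShortComplex.mk f g wfg).Exact)
    (ψ₁ : P₁ ⟶ P₀) (q₁ : P₀ ⟶ F₁) [Epi q₁] (w₁ : ψ₁ ≫ q₁ = 0)
    (h₁ : (ShortComplex.mk ψ₁ q₁ w₁).Exact)
    (l : L ⟶ R) (β : R ⟶ F₂) (wl : l ≫ β ≫ g = 0) (hl : (ShortComplex.mk l (β ≫ g) wl).Exact)
    [Epi (β ≫ g)] (ρ₂ : M ⟶ L) [Epi ρ₂] (β₂ : M ⟶ P₀) (h : ρ₂ ≫ l ≫ β = β₂ ≫ q₁ ≫ f) :
    Nonempty (F₂ ≅ cokernel (biprod.desc (ψ₁ ≫ biprod.inl) (biprod.lift (-β₂) (ρ₂ ≫ l)) :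
      P₁ ⊞ M ⟶ P₀ ⊞ R)) :=
  ext_pres_aux f g wfg hfg ψ₁ q₁ w₁ h₁ l β wl hl ρ₂ β₂ h (biprod.desc (q₁ ≫ f) β) _
    (by apply biprod.hom_ext' <;> simp) rfl

end Groth.Agent.Lib.Helper5.TypeAAbs
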