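import Groth.Agent.Lib.Helper5.TypeAKer
import Groth.Agent.Lib.Helper21.CoprodSec.FreeOnCompact

/-!
# Every module is a filtered colimit of modules of type A
-/

set_option autoImplicit false
universe u
open CategoryTheory CategoryTheory.Limits Opposite
open Groth.Agent.Lib.Helper13.ModSiteFreeOn Groth.Agent.Lib.Helper21.CoprodSec
open Groth.Agent.Lib.Helper5.TypeAAbs Groth.Agent.Lib.Helper2.CompactEnv

namespace Groth.Agent.Lib.Helper5.TypeA

section Abstract

variable {𝒜 : Type*} [Category 𝒜] [Abelian 𝒜]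

/-- The cokernel of a direct sum of maps is the direct sum of the cokernels. -/
lemma nonempty_cokernel_biprodMap_iso {P₁ P₀ P₁' P₀' : 𝒜} (ψ : P₁ ⟶ P₀) (ψ' : P₁' ⟶ P₀') :
    Nonempty (cokernel ψ ⊞ cokernel ψ' ≅ cokernel (biprod.map ψ ψ')) := by
  have w : biprod.map ψ ψ' ≫ biprod.map (cokernel.π ψ) (cokernel.π ψ') = 0 := by
    apply biprod.hom_ext' <;> apply biprod.hom_ext <;> simp
  haveI : Epi (biprod.map (cokernel.π ψ) (cokernel.π ψ')) := by
    constructor
    intro Z f g h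
    apply biprod.hom_ext'
    · rw [← cancel_epi (cokernel.π ψ)]
      have := congrArg (fun t => biprod.inl ≫ t) h
      simpa using this
    · rw [← cancel_epi (cokernel.π ψ')]
      have := congrArg (fun t => biprod.inr ≫ t) h
      simpa using this
  have fact : ∀ {Z : 𝒜} (g : P₀ ⊞ P₀' ⟶ Z), biprod.map ψ ψ' ≫ g = 0 →
      ∃ d : cokernel ψ ⊞ cokernel ψ' ⟶ Z,
        biprod.map (cokernel.π ψ) (cokernel.π ψ') ≫ d = g := by
    intro Z g hg
    have h1 : ψ ≫ biprod.inl ≫ g = 0 := by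
      have := congrArg (fun t => biprod.inl ≫ t) hg
      simpa using this
    have h2 : ψ' ≫ biprod.inr ≫ g = 0 := by
      have := congrArg (fun t => biprod.inr ≫ t) hg
      simpa using this
    refine ⟨biprod.desc (cokernel.desc ψ _ h1) (cokernel.desc ψ' _ h2), ?_⟩
    apply biprod.hom_ext' <;> simp
  have hc : IsColimit (CokernelCofork.ofπ (biprod.map (cokernel.π ψ) (cokernel.π ψ')) w) :=
    CokernelCofork.IsColimit.ofπ _ w (fun g' h' => (fact g' h').choose)
      (fun g' h' => (fact g' h').choose_spec)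
      (fun g' h' m hm => by
        rw [← cancel_epi (biprod.map (cokernel.π ψ) (cokernel.π ψ')), hm,
          (fact g' h').choose_spec])
  exact ⟨IsColimit.coconePointUniqueUpToIso hc (colimit.isColimit _)⟩

/-- A morphism with finite support into a coproduct of the values of a filtered diagram factors,
after composing with the canonical map to a cocone, through one of the values. -/
lemma exists_factor_of_isFin {Λ : Type*} [Category Λ] [IsFiltered Λ] (D : Λ ⥤ 𝒜)
    [HasCoproduct D.obj] (c : Cocone D) {X : 𝒜} (φ : X ⟶ ∐ D.obj) (h : IsFin D.obj φ) :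
    ∃ (l : Λ) (g : X ⟶ D.obj l), φ ≫ Sigma.desc c.ι.app = g ≫ c.ι.app l := by
  unfold IsFin at h
  induction h using AddSubgroup.closure_induction with
  | mem ψ hψ =>
    obtain ⟨k, g, rfl⟩ := hψ
    exact ⟨k, g, by rw [Category.assoc, Sigma.ι_desc]⟩
  | zero =>
    exact ⟨IsFiltered.nonempty.some, 0, by rw [zero_comp, zero_comp]⟩
  | add a b _ _ ha hb =>
    obtain ⟨l₁, g₁, h₁⟩ := ha
    obtain ⟨l₂, g₂, h₂⟩ := hb
    refine ⟨IsFiltered.max l₁ l₂, g₁ ≫ D.map (IsFiltered.leftToMax l₁ l₂) +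
      g₂ ≫ D.map (IsFiltered.rightToMax l₁ l₂), ?_⟩
    rw [Preadditive.add_comp, Preadditive.add_comp, h₁, h₂, Category.assoc, Category.assoc,
      c.w, c.w]
  | neg a _ ha =>
    obtain ⟨l, g, h⟩ := ha
    exact ⟨l, -g, by rw [Preadditive.neg_comp, Preadditive.neg_comp, h]⟩

end Abstract

variable {C : Type u} [SmallCategory C] {J : GrothendieckTopology C} {O : Sheaf J CommRingCat.{u}}
  {B : Set C}

lemma FinFree.isTypeA {P : ModSite.Mod O} (h : FinFree B P) : IsTypeA B P :=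
  ⟨P, P, 0, h, h, ⟨(cokernelZeroIsoTarget).symm⟩⟩

lemma isTypeA_biprod {F G : ModSite.Mod O} (hF : IsTypeA B F) (hG : IsTypeA B G) :
    IsTypeA B (F ⊞ G) := by
  obtain ⟨P₁, P₀, ψ, h₁, h₀, ⟨e⟩⟩ := hF
  obtain ⟨Q₁, Q₀, ψ', h₁', h₀', ⟨e'⟩⟩ := hG
  obtain ⟨e''⟩ := nonempty_cokernel_biprodMap_iso ψ ψ'
  exact ⟨P₁ ⊞ Q₁, P₀ ⊞ Q₀, biprod.map ψ ψ', finFree_biprod h₁ h₁', finFree_biprod h₀ h₀',
    ⟨biprod.mapIso e e' ≪≫ e''⟩⟩

variable (B) in
/-- The index type of presentations of type A over `F`. -/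
structure Idx (F : ModSite.Mod O) where
  m : ℕ
  n : ℕ
  V : Fin m → C
  U : Fin n → C
  ψ : (∐ fun j => ModSite.freeOn O (V j)) ⟶ ∐ fun i => ModSite.freeOn O (U i)
  hV : ∀ j, V j ∈ B
  hU : ∀ i, U i ∈ B
  a : cokernel ψ ⟶ F

namespace Idx

variable {F : ModSite.Mod O}

/-- The underlying module of a presentation. -/
noncomputable abbrev obj (x : Idx B F) : ModSite.Mod O := cokernel x.ψ

lemma isTypeA_obj (x : Idx B F) : IsTypeA B x.obj :=
  isTypeA_iff.2 ⟨x.m, x.n, x.V, x.U, x.ψ, x.hV, x.hU, ⟨Iso.refl _⟩⟩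

noncomputable instance : Category (Idx B F) where
  Hom x y := {f : x.obj ⟶ y.obj // f ≫ y.a = x.a}
  id x := ⟨𝟙 _, Category.id_comp _⟩
  comp f g := ⟨f.1 ≫ g.1, by rw [Category.assoc, g.2, f.2]⟩
  id_comp f := Subtype.ext (Category.id_comp _)
  comp_id f := Subtype.ext (Category.comp_id _)
  assoc f g h := Subtype.ext (Category.assoc _ _ _)

lemma exists_idx {M : ModSite.Mod O} (hM : IsTypeA B M) (a : M ⟶ F) :
    ∃ (x : Idx B F) (e : x.obj ≅ M), e.hom ≫ a = x.a := by
  obtain ⟨m, n, V, U, ψ, hV, hU, ⟨e⟩⟩ := isTypeA_iff.1 hM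
  exact ⟨⟨m, n, V, U, ψ, hV, hU, e.inv ≫ a⟩, e.symm, rfl⟩

variable (B F) in
/-- The diagram of presentations. -/
noncomputable abbrev diag : Idx B F ⥤ ModSite.Mod O where
  obj x := x.obj
  map f := f.1

variable (B F) in
/-- The canonical cocone. -/
noncomputable def ι : diag B F ⟶ (Functor.const (Idx B F)).obj F where
  app x := x.a
  naturality x y f := by
    change f.1 ≫ y.a = x.a ≫ 𝟙 _
    rw [f.2, Category.comp_id]

variable
    (hB₁ : ∀ X : C, ∃ (κ : Type u) (Y : κ → C) (g : ∀ k, Y k ⟶ X),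
      Sieve.ofArrows Y g ∈ J X ∧ ∀ k, Y k ∈ B)
    (hB₂ : ∀ U ∈ B, FinCov J U)

include hB₁ hB₂ in
lemma isFiltered : IsFiltered (Idx B F) := by
  haveI : Nonempty (Idx B F) := ⟨⟨0, 0, Fin.elim0, Fin.elim0, 0, fun j => j.elim0,
    fun i => i.elim0, 0⟩⟩
  haveI : IsFilteredOrEmpty (Idx B F) := by
    refine ⟨fun x y => ?_, fun x y f g => ?_⟩
    · obtain ⟨z, e, he⟩ := exists_idx (isTypeA_biprod x.isTypeA_obj y.isTypeA_obj)
        (biprod.desc x.a y.a)
      refine ⟨z, ⟨biprod.inl ≫ e.inv, ?_⟩, ⟨biprod.inr ≫ e.inv, ?_⟩, trivial⟩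
      · rw [← he, Category.assoc, Iso.inv_hom_id_assoc, biprod.inl_desc]
      · rw [← he, Category.assoc, Iso.inv_hom_id_assoc, biprod.inr_desc]
    · have h0 : (f.1 - g.1) ≫ y.a = 0 := by
        rw [Preadditive.sub_comp, f.2, g.2, sub_self]
      obtain ⟨z, e, he⟩ := exists_idx
        (isTypeA_cokernel hB₁ hB₂ (f.1 - g.1) x.isTypeA_obj y.isTypeA_obj)
        (cokernel.desc (f.1 - g.1) y.a h0)
      refine ⟨z, ⟨cokernel.π (f.1 - g.1) ≫ e.inv, ?_⟩, ?_⟩
      · rw [← he, Category.assoc, Iso.inv_hom_id_assoc, cokernel.π_desc]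
      · apply Subtype.ext
        change f.1 ≫ cokernel.π (f.1 - g.1) ≫ e.inv = g.1 ≫ cokernel.π (f.1 - g.1) ≫ e.inv
        rw [← sub_eq_zero, ← Preadditive.sub_comp, cokernel.condition_assoc, zero_comp]
  exact {}

include hB₁ hB₂ in
theorem nonempty_isColimit : Nonempty (IsColimit (Cocone.mk F (ι B F))) := by
  haveI := isFiltered (F := F) hB₁ hB₂
  let φ : colimit (diag B F) ⟶ F := colimit.desc (diag B F) ⟨F, ι B F⟩
  have hφ : ∀ x : Idx B F, colimit.ι (diag B F) x ≫ φ = x.a := fun x => colimit.ι_desc _ _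
  have hsep := freeOn_isSeparating O B hB₁
  have hfree : ∀ U ∈ B, IsTypeA B (ModSite.freeOn O U) := fun U hU =>
    FinFree.isTypeA ⟨PUnit, inferInstance, fun _ => U, fun _ => hU,
      ⟨(coproductUniqueIso (fun _ : PUnit.{u+1} => ModSite.freeOn O U)).symm⟩⟩
  -- epi
  have hepi : Epi φ := by
    apply Abelian.epi_of_cokernel_π_eq_zero
    apply hsep
    rintro G ⟨⟨U, hU⟩⟩ h
    obtain ⟨x, e, he⟩ := exists_idx (hfree U hU) h
    have : h = e.inv ≫ colimit.ι (diag B F) x ≫ φ := by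
      rw [hφ, ← he, Iso.inv_hom_id_assoc]
    rw [this, comp_zero, Category.assoc, Category.assoc, cokernel.condition, comp_zero, comp_zero]
  -- mono
  have hmono : Mono φ := by
    apply Abelian.mono_of_kernel_ι_eq_zero
    apply hsep
    rintro G ⟨⟨U, hU⟩⟩ h
    rw [comp_zero]
    have hh : (h ≫ kernel.ι φ) ≫ φ = 0 := by
      rw [Category.assoc, kernel.condition, comp_zero]
    generalize h ≫ kernel.ι φ = h' at hh
    have hUfree : FinFree B (ModSite.freeOn O U) := ⟨PUnit, inferInstance, fun _ => U, fun _ => hU,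
      ⟨(coproductUniqueIso (fun _ : PUnit.{u+1} => ModSite.freeOn O U)).symm⟩⟩
    haveI : Epi (Sigma.desc (colimit.ι (diag B F))) := by
      constructor
      intro Z f g hfg
      apply colimit.hom_ext
      intro x
      have := congrArg (fun t => Sigma.ι (diag B F).obj x ≫ t) hfg
      simpa using this
    obtain ⟨r, β, hβ⟩ := exists_refine B hB₁ hB₂ hUfree (Sigma.desc (colimit.ι (diag B F))) h'
    -- each component has finite support
    have hcomp : ∀ p : (Σ i, r.T i), ∃ (l : Idx B F)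
        (g : ModSite.freeOn O (r.Y p.1 p.2) ⟶ (diag B F).obj l),
        (Sigma.ι (fun p : (Σ i, r.T i) => ModSite.freeOn O (r.Y p.1 p.2)) p ≫ β) ≫
          Sigma.desc (colimit.ι (diag B F)) = g ≫ colimit.ι (diag B F) l := by
      intro p
      exact exists_factor_of_isFin (diag B F) (colimit.cocone (diag B F)) _
        (isFin_freeOn O (r.Y p.1 p.2) (hB₂ _ (r.hY p.1 p.2)) (diag B F).obj _)
    choose lp gp hgp using hcomp
    classical
    haveI : Fintype (Σ i, r.T i) := Fintype.ofFinite _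
    obtain ⟨l₀, hl₀⟩ := IsFiltered.sup_objs_exists (Finset.univ.image lp)
    have tp : ∀ p, lp p ⟶ l₀ := fun p =>
      (hl₀ (Finset.mem_image_of_mem lp (Finset.mem_univ p))).some
    let β' : r.src ⟶ (diag B F).obj l₀ := Sigma.desc (fun p => gp p ≫ (diag B F).map (tp p))
    have hβ' : β ≫ Sigma.desc (colimit.ι (diag B F)) = β' ≫ colimit.ι (diag B F) l₀ := by
      apply Sigma.hom_ext
      intro p
      rw [← Category.assoc, hgp, ← Category.assoc, Sigma.ι_desc, Category.assoc, colimit.w]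
    have h0 : β' ≫ l₀.a = 0 := by
      rw [← hφ, ← Category.assoc, ← hβ', ← hβ, Category.assoc, hh, comp_zero]
    obtain ⟨l₁, e, he⟩ := exists_idx
      (isTypeA_cokernel hB₁ hB₂ β' r.finFree_src.isTypeA l₀.isTypeA_obj)
      (cokernel.desc β' l₀.a h0)
    let t : l₀ ⟶ l₁ := ⟨cokernel.π β' ≫ e.inv, by
      rw [← he, Category.assoc, Iso.inv_hom_id_assoc, cokernel.π_desc]⟩
    have h1 : β' ≫ (diag B F).map t = 0 := by
      change β' ≫ cokernel.π β' ≫ e.inv = 0
      rw [cokernel.condition_assoc, zero_comp]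
    have h2 : r.map ≫ h' = 0 := by
      rw [hβ, hβ', ← colimit.w (diag B F) t, ← Category.assoc, h1, zero_comp]
    rw [← cancel_epi r.map, h2, comp_zero]
  haveI : IsIso φ := isIso_of_mono_of_epi φ
  refine ⟨IsColimit.ofIsoColimit (colimit.isColimit (diag B F)) (Cocone.ext (asIso φ) ?_)⟩
  intro x
  exact hφ x

end Idx

end Groth.Agent.Lib.Helper5.TypeA
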