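import Groth.Agent.Lib.Helper5.TypeAKer

/-!
# Extensions of modules of type A
-/

set_option autoImplicit false
universe u
open CategoryTheory CategoryTheory.Limits Opposite
open Groth.Agent.Lib.Helper13.ModSiteFreeOn Groth.Agent.Lib.Helper21.CoprodSec
open Groth.Agent.Lib.Helper5.TypeAAbs

namespace Groth.Agent.Lib.Helper5.TypeA

variable {C : Type u} [SmallCategory C] {J : GrothendieckTopology C} {O : Sheaf J CommRingCat.{u}}
  {B : Set C}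

lemma exists_glue [HasPullbacks C] (M : ModSite.Mod O) {U : C} {T : Type u} (Y : T → C)
    (g : ∀ k, Y k ⟶ U) (hcov : Sieve.ofArrows Y g ∈ J U)
    (s : ∀ k, M.val.obj (op (Y k)))
    (hs : ∀ k l, res M (pullback.fst (g k) (g l)) (s k) = res M (pullback.snd (g k) (g l)) (s l)) :
    ∃ x : M.val.obj (op U), ∀ k, res M (g k) x = s k := by
  have h1 : Presieve.IsSheaf J (M.val.presheaf ⋙ forget AddCommGrpCat) :=
    (isSheaf_iff_isSheaf_of_type _ _).1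
      ((Presheaf.isSheaf_iff_isSheaf_forget J M.val.presheaf (forget _)).1 M.isSheaf)
  have h2 := h1 (Sieve.ofArrows Y g) hcov
  rw [Sieve.ofArrows, ← Presieve.isSheafFor_iff_generate,
    Presieve.isSheafFor_arrows_iff_pullbacks] at h2
  obtain ⟨t, ht, -⟩ := h2 s (fun k l => hs k l)
  exact ⟨t, ht⟩

variable (O) in
lemma freeOnMap_comp {Z Y U : C} (a : Z ⟶ Y) (b : Y ⟶ U) :
    freeOnMap O (a ≫ b) = freeOnMap O a ≫ freeOnMap O b := by
  apply (freeOnHomEquiv O Z _).injective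
  rw [freeOnHomEquiv_freeOnMap_comp]
  unfold freeOnMap
  rw [Equiv.apply_symm_apply, Equiv.apply_symm_apply, res_comp]

lemma ofSec_freeOnHomEquiv {U : C} {M : ModSite.Mod O} (f : ModSite.freeOn O U ⟶ M) :
    ofSec O (freeOnHomEquiv O U M f) = f := Equiv.symm_apply_apply _ _

lemma exists_finite_cover (O : Sheaf J CommRingCat.{u})
    (hB₁ : ∀ X : C, ∃ (κ : Type u) (Y : κ → C) (g : ∀ k, Y k ⟶ X),
      Sieve.ofArrows Y g ∈ J X ∧ ∀ k, Y k ∈ B)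
    {U : C} (hU : FinCov J U) :
    ∃ (T : Type u) (_ : Fintype T) (Y : T → C) (g : ∀ k, Y k ⟶ U),
      (∀ k, Y k ∈ B) ∧ Sieve.ofArrows Y g ∈ J U := by
  obtain ⟨T, hT, Y, g, -, hY, hcov, -⟩ :=
    exists_finite_cover_lift B hB₁ hU (𝟙 (ModSite.freeOn O U)) (univ O U)
  exact ⟨T, hT, Y, g, hY, hcov⟩

/-- The kernel of a refinement map is finitely generated when the fibre products of members of
`B` are quasi-compact. -/
theorem RefData.exists_exact_kernel [HasPullbacks C]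
    (hB₁ : ∀ X : C, ∃ (κ : Type u) (Y : κ → C) (g : ∀ k, Y k ⟶ X),
      Sieve.ofArrows Y g ∈ J X ∧ ∀ k, Y k ∈ B)
    (hB₃ : ∀ (U U₁ U₂ : C) (f₁ : U₁ ⟶ U) (f₂ : U₂ ⟶ U), U ∈ B → U₁ ∈ B → U₂ ∈ B →
      FinCov J (pullback f₁ f₂))
    {P : ModSite.Mod O} (r : RefData B P) :
    ∃ (L₀ : ModSite.Mod O) (l₀ : L₀ ⟶ r.src) (w : l₀ ≫ r.map = 0), FinFree B L₀ ∧
      (ShortComplex.mk l₀ r.map w).Exact := by
  have key := fun (q : Σ i, r.T i × r.T i) => exists_finite_cover O hB₁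
    (hB₃ (r.U q.1) (r.Y q.1 q.2.1) (r.Y q.1 q.2.2) (r.g q.1 q.2.1) (r.g q.1 q.2.2)
      (r.hU _) (r.hY _ _) (r.hY _ _))
  choose S hS Z z hZ hZcov using key
  haveI : ∀ q, Finite (S q) := fun q => Finite.of_fintype _
  let F : (Σ i, r.T i) → ModSite.Mod O := fun p => ModSite.freeOn O (r.Y p.1 p.2)
  let comp : ∀ x : (Σ q : (Σ i, r.T i × r.T i), S q), ModSite.freeOn O (Z x.1 x.2) ⟶ r.src :=
    fun x => freeOnMap O (z x.1 x.2 ≫ pullback.fst _ _) ≫ Sigma.ι F ⟨x.1.1, x.1.2.1⟩ -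
      freeOnMap O (z x.1 x.2 ≫ pullback.snd _ _) ≫ Sigma.ι F ⟨x.1.1, x.1.2.2⟩
  let l₀ : (∐ fun x : (Σ q : (Σ i, r.T i × r.T i), S q) => ModSite.freeOn O (Z x.1 x.2)) ⟶ r.src :=
    Sigma.desc comp
  have w : l₀ ≫ r.map = 0 := by
    apply Sigma.hom_ext
    intro x
    rw [← Category.assoc, Sigma.ι_desc, comp_zero]
    show (freeOnMap O (z x.1 x.2 ≫ pullback.fst _ _) ≫ Sigma.ι F ⟨x.1.1, x.1.2.1⟩ -
      freeOnMap O (z x.1 x.2 ≫ pullback.snd _ _) ≫ Sigma.ι F ⟨x.1.1, x.1.2.2⟩) ≫ r.map = 0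
    rw [Preadditive.sub_comp, Category.assoc, Category.assoc, r.ι_map, r.ι_map,
      ← Category.assoc, ← Category.assoc (freeOnMap O (z x.1 x.2 ≫ pullback.snd _ _)),
      ← freeOnMap_comp, ← freeOnMap_comp, Category.assoc, Category.assoc, pullback.condition,
      sub_self]
  have fact : ∀ {M : ModSite.Mod O} (f : r.src ⟶ M), l₀ ≫ f = 0 → ∃ d : P ⟶ M, r.map ≫ d = f := by
    intro M f hf
    have compat : ∀ i k l, res M (pullback.fst (r.g i k) (r.g i l))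
        (freeOnHomEquiv O _ M (Sigma.ι F ⟨i, k⟩ ≫ f)) =
        res M (pullback.snd (r.g i k) (r.g i l)) (freeOnHomEquiv O _ M (Sigma.ι F ⟨i, l⟩ ≫ f)) := by
      intro i k l
      apply eq_of_cover M _ (hZcov ⟨i, (k, l)⟩)
      intro V a ha
      obtain ⟨m, b, rfl⟩ := (Sieve.mem_ofArrows_iff _ _ a).1 ha
      have h1 : comp ⟨⟨i, (k, l)⟩, m⟩ ≫ f = 0 := by
        have := congrArg (fun t => Sigma.ι (fun x : (Σ q : (Σ i, r.T i × r.T i), S q) =>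
          ModSite.freeOn O (Z x.1 x.2)) ⟨⟨i, (k, l)⟩, m⟩ ≫ t) hf
        simp only [comp_zero] at this
        rw [← Category.assoc, Sigma.ι_desc] at this
        exact this
      have h2 : freeOnMap O (z ⟨i, (k, l)⟩ m ≫ pullback.fst _ _) ≫ Sigma.ι F ⟨i, k⟩ ≫ f =
          freeOnMap O (z ⟨i, (k, l)⟩ m ≫ pullback.snd _ _) ≫ Sigma.ι F ⟨i, l⟩ ≫ f := by
        have : (freeOnMap O (z ⟨i, (k, l)⟩ m ≫ pullback.fst _ _) ≫ Sigma.ι F ⟨i, k⟩ -
          freeOnMap O (z ⟨i, (k, l)⟩ m ≫ pullback.snd _ _) ≫ Sigma.ι F ⟨i, l⟩) ≫ f = 0 := h1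
        rw [Preadditive.sub_comp, sub_eq_zero, Category.assoc, Category.assoc] at this
        exact this
      have h3 := congrArg (freeOnHomEquiv O _ M) h2
      rw [freeOnHomEquiv_freeOnMap_comp, freeOnHomEquiv_freeOnMap_comp] at h3
      have h4 := congrArg (res M b) h3
      change res M (b ≫ z ⟨i, (k, l)⟩ m) (res M _ _) = res M (b ≫ z ⟨i, (k, l)⟩ m) (res M _ _)
      simp only [← res_comp] at h4 ⊢
      simpa only [Category.assoc] using h4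
    have glue := fun i => exists_glue M (r.Y i) (r.g i) (r.hcov i)
      (fun k => freeOnHomEquiv O _ M (Sigma.ι F ⟨i, k⟩ ≫ f)) (compat i)
    choose x hx using glue
    refine ⟨r.e.hom ≫ Sigma.desc (fun i => ofSec O (x i)), ?_⟩
    apply Sigma.hom_ext
    intro p
    rw [← Category.assoc, r.ι_map]
    simp only [Category.assoc, Iso.inv_hom_id_assoc]
    rw [Sigma.ι_desc, freeOnMap_comp_ofSec, hx, ofSec_freeOnHomEquiv]
  refine ⟨_, l₀, w, ?_, ?_⟩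
  · exact ⟨(Σ q : (Σ i, r.T i × r.T i), S q), inferInstance, fun x => Z x.1 x.2,
      fun x => hZ x.1 x.2, ⟨Iso.refl _⟩⟩
  · apply ShortComplex.exact_of_g_is_cokernel
    exact CokernelCofork.IsColimit.ofπ r.map w (fun g' h' => (fact g' h').choose)
      (fun g' h' => (fact g' h').choose_spec)
      (fun g' h' m hm => by rw [← cancel_epi r.map, hm, (fact g' h').choose_spec])

/-- Extensions of modules of type A are of type A. -/
theorem isTypeA_extension [HasPullbacks C]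
    (hB₁ : ∀ X : C, ∃ (κ : Type u) (Y : κ → C) (g : ∀ k, Y k ⟶ X),
      Sieve.ofArrows Y g ∈ J X ∧ ∀ k, Y k ∈ B)
    (hB₂ : ∀ U ∈ B, FinCov J U)
    (hB₃ : ∀ (U U₁ U₂ : C) (f₁ : U₁ ⟶ U) (f₂ : U₂ ⟶ U), U ∈ B → U₁ ∈ B → U₂ ∈ B →
      FinCov J (pullback f₁ f₂))
    (S : ShortComplex (ModSite.Mod O)) (hS : S.ShortExact)
    (h₁ : IsTypeA B S.X₁) (h₃ : IsTypeA B S.X₃) : IsTypeA B S.X₂ := by
  haveI := hS.mono_f
  haveI := hS.epi_g
  obtain ⟨P₁, P₀, ψ₁, q₁, w₁, hP₁, hP₀, ⟨hq₁⟩⟩ := h₁.exists_pres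
  obtain ⟨Q₁, Q₀, ψ₃, q₃, w₃, hQ₁, hQ₀, ⟨hq₃⟩⟩ := h₃.exists_pres
  haveI : Epi q₁ := epi_of_isColimit_cofork hq₁
  haveI : Epi q₃ := epi_of_isColimit_cofork hq₃
  obtain ⟨r, β, hβ⟩ := exists_refine B hB₁ hB₂ hQ₀ S.g q₃
  obtain ⟨L₀, l₀, w₀, hL₀, hex₀⟩ := r.exists_exact_kernel hB₁ hB₃
  obtain ⟨r₁, β₁, h1⟩ := exists_refine B hB₁ hB₂ hQ₁ r.map ψ₃
  obtain ⟨w', hex'⟩ := exact_refine ψ₃ q₃ w₃
    (ShortComplex.exact_of_g_is_cokernel (ShortComplex.mk ψ₃ q₃ w₃) hq₃)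
    r.map l₀ w₀ hex₀ r₁.map β₁ h1.symm
  have hl : ∀ (g' : r.src ⟶ S.X₃) (_ : r.map ≫ q₃ = g') (wl : biprod.desc l₀ β₁ ≫ g' = 0),
      (ShortComplex.mk (biprod.desc l₀ β₁) g' wl).Exact := by
    rintro _ rfl _
    exact hex'
  have wl : biprod.desc l₀ β₁ ≫ β ≫ S.g = 0 := by rw [← hβ]; exact w'
  haveI : Epi (β ≫ S.g) := by rw [← hβ]; infer_instance
  let lam : L₀ ⊞ r₁.src ⟶ S.X₁ := hS.exact.lift (biprod.desc l₀ β₁ ≫ β)
    (by rw [Category.assoc]; exact wl)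
  have hlam : lam ≫ S.f = biprod.desc l₀ β₁ ≫ β := hS.exact.lift_f _ _
  obtain ⟨r₂, β₂, h2⟩ := exists_refine B hB₁ hB₂ (finFree_biprod hL₀ r₁.finFree_src) q₁ lam
  obtain ⟨e⟩ := ext_pres S.f S.g S.zero hS.exact ψ₁ q₁ w₁
    (ShortComplex.exact_of_g_is_cokernel (ShortComplex.mk ψ₁ q₁ w₁) hq₁)
    (biprod.desc l₀ β₁) β wl (hl _ hβ wl) r₂.map β₂
    (by rw [← hlam, ← Category.assoc, h2, Category.assoc])
  exact ⟨P₁ ⊞ r₂.src, P₀ ⊞ r.src, _, finFree_biprod hP₁ r₂.finFree_src,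
    finFree_biprod hP₀ r.finFree_src, ⟨e⟩⟩

end Groth.Agent.Lib.Helper5.TypeA
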