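import Groth.Agent.Lib.Helper5.TypeA
import Groth.Agent.Lib.Helper5.TypeAAbs

/-!
# Kernels of maps between modules of type A
-/

set_option autoImplicit false
universe u
open CategoryTheory CategoryTheory.Limits Opposite
open Groth.Agent.Lib.Helper13.ModSiteFreeOn Groth.Agent.Lib.Helper21.CoprodSec
open Groth.Agent.Lib.Helper5.TypeAAbs

namespace Groth.Agent.Lib.Helper5.TypeA

variable {C : Type u} [SmallCategory C] {J : GrothendieckTopology C} {O : Sheaf J CommRingCat.{u}}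
  {B : Set C}

lemma finFree_biprod {P Q : ModSite.Mod O} (hP : FinFree B P) (hQ : FinFree B Q) :
    FinFree B (P ⊞ Q) :=
  (finFree_coprod hP hQ).of_iso (biprod.isoCoprod P Q).symm

/-- The kernel hypothesis in terms of `FinFree`. -/
lemma hker_of_fin
    (hker : ∀ (m n : ℕ) (V : Fin m → C) (U : Fin n → C)
      (φ : (∐ fun j => ModSite.freeOn O (V j)) ⟶ ∐ fun i => ModSite.freeOn O (U i)),
      (∀ j, V j ∈ B) → (∀ i, U i ∈ B) → IsTypeAFin B (kernel φ))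
    {P Q : ModSite.Mod O} (φ : P ⟶ Q) (hP : FinFree B P) (hQ : FinFree B Q) :
    IsTypeA B (kernel φ) := by
  obtain ⟨m, V, hV, ⟨e₁⟩⟩ := hP.exists_fin
  obtain ⟨n, U, hU, ⟨e₀⟩⟩ := hQ.exists_fin
  have h := isTypeA_iff.2 (hker m n V U (e₁.inv ≫ φ ≫ e₀.hom) hV hU)
  exact h.of_iso (kernel.mapIso φ (e₁.inv ≫ φ ≫ e₀.hom) e₁ e₀ (by simp)).symm

lemma exists_exact_of_isTypeA_kernel {P Q : ModSite.Mod O} (ρ : P ⟶ Q)
    (h : IsTypeA B (kernel ρ)) :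
    ∃ (L₀ : ModSite.Mod O) (l₀ : L₀ ⟶ P) (w : l₀ ≫ ρ = 0), FinFree B L₀ ∧
      (ShortComplex.mk l₀ ρ w).Exact := by
  obtain ⟨P₁, P₀, ψ, π, wπ, hP₁, hP₀, ⟨hπ⟩⟩ := h.exists_pres
  haveI : Epi π := epi_of_isColimit_cofork hπ
  refine ⟨P₀, π ≫ kernel.ι ρ, by rw [Category.assoc, kernel.condition, comp_zero], hP₀, ?_⟩
  rw [ShortComplex.exact_iff_epi_kernel_lift]
  have : kernel.lift ρ (π ≫ kernel.ι ρ)
      (by rw [Category.assoc, kernel.condition, comp_zero]) = π := by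
    rw [← cancel_mono (kernel.ι ρ), kernel.lift_ι]
  change Epi (kernel.lift ρ (π ≫ kernel.ι ρ) _)
  rw [this]
  infer_instance

/-- Kernels of maps between modules of type A are of type A, provided kernels of maps between
finite free modules are. -/
theorem isTypeA_kernel
    (hB₁ : ∀ X : C, ∃ (κ : Type u) (Y : κ → C) (g : ∀ k, Y k ⟶ X),
      Sieve.ofArrows Y g ∈ J X ∧ ∀ k, Y k ∈ B)
    (hB₂ : ∀ U ∈ B, FinCov J U)
    (hker' : ∀ {P Q : ModSite.Mod O} (φ : P ⟶ Q), FinFree B P → FinFree B Q →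
      IsTypeA B (kernel φ))
    {F G : ModSite.Mod O} (α : F ⟶ G)
    (hF : IsTypeA B F) (hG : IsTypeA B G) : IsTypeA B (kernel α) := by
  obtain ⟨P₁, P₀, ψF, q, wF, hP₁, hP₀, ⟨hq⟩⟩ := hF.exists_pres
  obtain ⟨Q₁, Q₀, ψG, p, wG, hQ₁, hQ₀, ⟨hp⟩⟩ := hG.exists_pres
  haveI : Epi q := epi_of_isColimit_cofork hq
  haveI : Epi p := epi_of_isColimit_cofork hp
  obtain ⟨r, β₀, h⟩ := exists_refine B hB₁ hB₂ hP₀ p (q ≫ α)
  obtain ⟨L₀, l₀, w₀, hL₀, hex₀⟩ :=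
    exists_exact_of_isTypeA_kernel r.map (hker' r.map r.finFree_src hP₀)
  obtain ⟨r₁, β₁, h1⟩ := exists_refine B hB₁ hB₂ hP₁ r.map ψF
  obtain ⟨w', hex'⟩ := exact_refine ψF q wF
    (ShortComplex.exact_of_g_is_cokernel (ShortComplex.mk ψF q wF) hq)
    r.map l₀ w₀ hex₀ r₁.map β₁ h1.symm
  obtain ⟨μ, ⟨e⟩⟩ := kernel_pres α (r.map ≫ q) (biprod.desc l₀ β₁) w' hex' ψG p wG
    (ShortComplex.exact_of_g_is_cokernel (ShortComplex.mk ψG p wG) hp) β₀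
    (by rw [Category.assoc]; exact h)
  have hN'' : IsTypeA B (kernel (biprod.desc (biprod.desc l₀ β₁ ≫ β₀) ψG)) :=
    hker' _ (finFree_biprod (finFree_biprod hL₀ r₁.finFree_src) hQ₁) hQ₀
  have hN' : IsTypeA B (kernel (biprod.desc β₀ ψG)) :=
    hker' _ (finFree_biprod r.finFree_src hQ₁) hQ₀
  exact (isTypeA_cokernel hB₁ hB₂ μ hN'' hN').of_iso e.symm

end Groth.Agent.Lib.Helper5.TypeA
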